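import Cfsg.Agent.OddLocal.Sigma.SigmaPrime

/-! Elements of `M` whose orders involve only primes of `τ₂(M)`. -/

set_option autoImplicit false
set_option linter.style.haveILetI false
set_option linter.unusedSectionVars false

namespace Cfsg.Agent.OddLocal.Sigma

open Cfsg
open scoped commutatorElement

variable {G : Type*} [Group G] [Finite G] (hG : IsMinSimpleOddOrder G)
include hG

/-- A `σ(M)'`-subgroup of `M` is conjugate in `M` into a complement of `M_σ`. -/
theorem exists_cj_le_compl {M E : Subgroup G} (hM : IsCoatom M) (hE : IsComplIn E (sigmaCore M) M)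
    {K : Subgroup G} (hKM : K ≤ M) (hK : ∀ q : ℕ, q.Prime → q ∣ Nat.card K → q ∉ sigma M) :
    ∃ m ∈ M, cj m K ≤ E := by
  haveI := Core.BG.isSolvable_proper hG hM.1
  have hH : IsPiHall (sigma M)ᶜ (E.subgroupOf M) := by
    refine ⟨fun q hq hd => ?_, fun q hq hqπ hd => hqπ ?_⟩
    · exact complIn_notMem_sigma hG hM hE hq (by rwa [Core.card_subgroupOf hE.1] at hd)
    · exact complIn_index_isPiNat hG hE q hq hd
  obtain ⟨g, hg⟩ := Core.exists_le_conj_smul_of_isPiHall Core.isPiSeparable_of_isSolvable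
    Core.hallSolvable_of_isSolvable hH (K := K.subgroupOf M) (fun q hq hd => hK q hq
      (by rwa [Core.card_subgroupOf hKM] at hd))
  refine ⟨((g⁻¹ : M) : G), (g⁻¹).2, ?_⟩
  rintro _ ⟨k, hk, rfl⟩
  have h1 := hg (Subgroup.mem_subgroupOf.mpr hk : (⟨k, hKM hk⟩ : M) ∈ K.subgroupOf M)
  rw [Core.conj_smul_eq_map] at h1
  obtain ⟨e, he, hek⟩ := h1
  simp only [MulEquiv.coe_toMonoidHom, MulAut.conj_apply] at hek ⊢
  have h2 : (g : G) * e * (g : G)⁻¹ = k := congrArg Subtype.val hek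
  rw [← h2]
  simpa [mul_assoc] using Subgroup.mem_subgroupOf.mp he

variable (hpl : ∀ (p : ℕ) [Fact p.Prime] (H : Subgroup G), H ≠ ⊤ → PLengthLE p 1 H)
include hpl

/-- A nilpotent subgroup of a complement whose primes are in `τ₂(M)` centralizes `A`. -/
theorem le_centralizer_of_tau2 {M E : Subgroup G} (hM : IsCoatom M) (hE : IsComplIn E (sigmaCore M) M) {p : ℕ}
    [hp : Fact p.Prime] (hpτ : p ∈ tau2 M) {A : Subgroup G}
    (hA : A ≤ E ∧ IsElementaryAbelian p A ∧ Nat.card A = p ^ 2) {K : Subgroup G} (hKE : K ≤ E)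
    (hK : ∀ q : ℕ, q.Prime → q ∣ Nat.card K → q ∈ tau2 M) : K ≤ Subgroup.centralizer (A : Set G) := by
  refine Core.le_of_forall_exists_sylow_le fun q hq => ?_
  haveI := Fact.mk hq
  obtain ⟨Q⟩ := (inferInstance : Nonempty (Sylow q K))
  refine ⟨Q, ?_⟩
  have hQK : (Q : Subgroup K).map K.subtype ≤ K := Subgroup.map_subtype_le _
  by_cases hd : q ∣ Nat.card K
  swap
  · rw [show (Q : Subgroup K) = ⊥ from Subgroup.card_eq_one.mp (by
      rw [Q.card_eq_multiplicity, Nat.factorization_eq_zero_of_not_dvd hd, pow_zero]), Subgroup.map_bot]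
    exact bot_le
  by_cases hqp : p = q
  · subst hqp
    obtain ⟨A0, h⟩ := exists_exc hG hpl hM hpτ.2.1 (hA.1.trans hE.1) hA.2.1 hA.2.2
    have hEA := h.le_normalizer_of_compl hG hpl hE hA.1
    have hsup := IsPGroup.to_sup_of_normal_left' h.maxEA.isPGroup (Q.isPGroup'.map K.subtype)
      ((hQK.trans hKE).trans hEA)
    obtain ⟨hc⟩ := h.isMulCommutative_of_pGroup hG hpl hsup (sup_le h.le ((hQK.trans hKE).trans hE.1))
    exact fun x hx => Subgroup.mem_centralizer_iff.mpr fun a ha =>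
      congrArg Subtype.val (hc.comm ⟨a, Subgroup.mem_sup_left ha⟩ ⟨x, Subgroup.mem_sup_right hx⟩)
  · exact zpowers_le_centralizer hG hpl hM hE hpτ (hK q hq hd) hqp hA (Q.isPGroup'.map _) (hQK.trans hKE)

theorem only_centralizer_of_tau2 {M E : Subgroup G} (hM : IsCoatom M) (hE : IsComplIn E (sigmaCore M) M)
    {x : G} (hxM : x ∈ M) (hx1 : x ≠ 1) (hx : ∀ p : ℕ, p.Prime → p ∣ orderOf x → p ∈ tau2 M)
    (hy : x ∈ sigmaHat M) :
    Subgroup.centralizer ({x} : Set G) ≤ M ∧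
      ∀ L : Subgroup G, IsCoatom L → Subgroup.centralizer ({x} : Set G) ≤ L → L = M := by
  have hall : ∀ L : Subgroup G, IsCoatom L → Subgroup.centralizer ({x} : Set G) ≤ L → L = M := by
    obtain ⟨-, y, hyσ, hy1, hxy⟩ := hy
    obtain ⟨m, hm, hmE⟩ := exists_cj_le_compl hG hM hE (Subgroup.zpowers_le.mpr hxM) (fun q hq hd =>
      (hx q hq (by rwa [Nat.card_zpowers] at hd)).2.1)
    intro L hL hle
    by_contra hLM
    obtain ⟨p, hp, hpd⟩ := Nat.exists_prime_and_dvd (fun e => hx1 (orderOf_eq_one_iff.mp e))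
    haveI := Fact.mk hp
    obtain ⟨A, hAE, hAe, hA2⟩ := exists_ea_le_compl hG hE (hx p hp hpd)
    obtain ⟨A0, h⟩ := exists_exc hG hpl hM (hx p hp hpd).2.1 (hAE.trans hE.1) hAe hA2
    have hc : cj m (Subgroup.zpowers x) ≤ Subgroup.centralizer (A : Set G) :=
      le_centralizer_of_tau2 hG hpl hM hE (hx p hp hpd) ⟨hAE, hAe, hA2⟩ hmE fun q hq hd => hx q hq (by
        rwa [card_cj, Nat.card_zpowers] at hd)
    have hL' : cj m L ≠ M := fun e => hLM (by
      rw [← cj_one L, ← inv_mul_cancel m, cj_mul, e]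
      exact cj_eq_iff.mpr (Subgroup.le_normalizer (inv_mem hm)))
    have hAL : A ≤ cj m L := fun a ha => mem_cj.mpr (hle (Subgroup.mem_centralizer_singleton_iff.mpr (by
      have h1 := Subgroup.mem_centralizer_iff.mp (hc ⟨x, Subgroup.mem_zpowers x, rfl⟩) a ha
      simp only [MulEquiv.coe_toMonoidHom, MulAut.conj_apply] at h1
      calc m⁻¹ * a * m * x = m⁻¹ * (a * (m * x * m⁻¹)) * m := by group
        _ = m⁻¹ * (m * x * m⁻¹ * a) * m := by rw [h1]
        _ = x * (m⁻¹ * a * m) := by group)))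
    have h2 : m * y * m⁻¹ ∈ sigmaCore M ⊓ cj m L :=
      ⟨(Subgroup.mem_normalizer_iff.mp (le_normalizer_sigmaCore M hm) y).mp hyσ,
        ⟨y, hle (Subgroup.mem_centralizer_singleton_iff.mpr hxy.symm), rfl⟩⟩
    rw [h.inf_other_eq_bot hG hpl (isCoatom_cj hL m) hL' hAL, Subgroup.mem_bot] at h2
    exact hy1 (conj_eq_one_iff.mp h2)
  exact ⟨Only.le hall (Core.BG.centralizer_singleton_ne_top hG hx1), hall⟩

/-- For `p ∈ σ(M)` the normalizer of a noncyclic `p`-subgroup of `M` is in `M`. -/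
theorem normalizer_le_of_noncyclic {M : Subgroup G} (hM : IsCoatom M) {p : ℕ} [hp : Fact p.Prime]
    (hσ : p ∈ sigma M) {P : Subgroup G} (hP : IsPGroup p P) (hPM : P ≤ M) (hnc : ¬ IsCyclic P) :
    Subgroup.normalizer (P : Set G) ≤ M := by
  have hp2 := ne_two_of_dvd hG (sigma_dvd hσ)
  have hP1 : P ≠ ⊥ := fun e => hnc (by subst e; infer_instance)
  obtain ⟨U, -, hU, hUc⟩ := Transfer.PNormal.exists_normal_ea_sq hp2 hP hnc
  have hCM : Subgroup.centralizer (P : Set G) ≤ M :=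
    (Subgroup.centralizer_le (Subgroup.map_subtype_le U)).trans (centralizer_ea_sq_le hG hpl hM
      ((Subgroup.map_subtype_le U).trans hPM) (PLocal.isEA_map hU P.subtype)
      (by rw [Core.card_map_subtype, hUc]))
  intro g hg
  have hPg : P ≤ cj g M := (cj_eq_iff.mpr hg).ge.trans (cj_mono hPM)
  obtain ⟨c, hc, e⟩ := transitive hG hM hσ _ P le_rfl hP hP1 1 g (by rwa [cj_one]) hPg
  rw [cj_one, cj_eq_iff.mpr (Subgroup.le_normalizer (hCM hc))] at e
  exact mem_of_cj_eq hG hM e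

end Cfsg.Agent.OddLocal.Sigma
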