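import Cfsg.Agent.OddLocal.Sigma.SigmaOrderP
import Cfsg.Agent.OddLocal.Sigma.TauTwoElements

/-! A complement of `M_σ` and the intersections `M_σ ∩ M^g` (BG 12.17). -/

set_option autoImplicit false
set_option linter.style.haveILetI false
set_option linter.unusedSectionVars false

namespace Cfsg.Agent.OddLocal.Sigma

open Cfsg
open scoped commutatorElement

/-- If `X = N E` with `N` normal solvable inside `X'` and `N ∩ E = 1`, then `[N, E] = N`. -/
theorem commutator_eq_of_le_derived {X : Type*} [Group X] {N E : Subgroup X} [hN : N.Normal]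
    [Group.IsSolvable N] (htop : N ⊔ E = ⊤) (hdisj : N ⊓ E = ⊥) (hle : N ≤ commutator X) : ⁅N, E⁆ = N := by
  have hRN : ⁅N, E⁆ ≤ N := Subgroup.commutator_le.mpr fun n hn e _ => by
    rw [show ⁅n, e⁆ = n * (e * n⁻¹ * e⁻¹) by rw [commutatorElement_def]; group]
    exact mul_mem hn (hN.conj_mem _ (inv_mem hn) e)
  have hEN : (N ⊔ E : Subgroup X) ≤ Subgroup.normalizer ((⁅N, E⁆ : Subgroup X) : Set X) := by
    refine sup_le (fun h hh => ?_) (fun h hh => ?_) <;>
    · refine Subgroup.mem_normalizer_iff.mpr fun w => ?_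
      suffices H : ∀ k ∈ (N ⊔ E : Subgroup X), (k ∈ N ∨ k ∈ E) →
          ∀ v ∈ ⁅N, E⁆, k * v * k⁻¹ ∈ ⁅N, E⁆ by
        refine ⟨fun hw => H h (by first | exact Subgroup.mem_sup_left hh | exact Subgroup.mem_sup_right hh)
          (by first | exact Or.inl hh | exact Or.inr hh) w hw, fun hw => ?_⟩
        have := H h⁻¹ (by first | exact Subgroup.mem_sup_left (inv_mem hh) | exact Subgroup.mem_sup_right (inv_mem hh))
          (by first | exact Or.inl (inv_mem hh) | exact Or.inr (inv_mem hh)) _ hw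
        simpa [mul_assoc] using this
      intro k _ hk v hv
      suffices hle' : ⁅N, E⁆ ≤ (⁅N, E⁆).comap (MulAut.conj k).toMonoidHom from hle' hv
      refine Subgroup.commutator_le.mpr fun n hn e he => ?_
      show k * ⁅n, e⁆ * k⁻¹ ∈ ⁅N, E⁆
      rcases hk with hk | hk
      · rw [show k * ⁅n, e⁆ * k⁻¹ = ⁅k * n, e⁆ * ⁅k, e⁆⁻¹ by simp only [commutatorElement_def]; group]
        exact mul_mem (Subgroup.commutator_mem_commutator (mul_mem hk hn) he)
          (inv_mem (Subgroup.commutator_mem_commutator hk he))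
      · rw [show k * ⁅n, e⁆ * k⁻¹ = ⁅k * n * k⁻¹, k * e * k⁻¹⁆ by simp only [commutatorElement_def]; group]
        exact Subgroup.commutator_mem_commutator (hN.conj_mem n hn k) (mul_mem (mul_mem hk he) (inv_mem hk))
  haveI hR : (⁅N, E⁆).Normal := Subgroup.normalizer_eq_top_iff.mp (top_le_iff.mp (htop ▸ hEN))
  set φ := QuotientGroup.mk' ⁅N, E⁆
  set a := N.map φ
  set b := E.map φ
  have hab : a ≤ Subgroup.centralizer (b : Set (X ⧸ ⁅N, E⁆)) := Subgroup.commutator_eq_bot_iff_le_centralizer.mp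
    (by rw [← Subgroup.map_commutator, QuotientGroup.map_mk'_self])
  have hinf : ∀ z ∈ a, z ∈ b → z = 1 := by
    rintro z ⟨n, hn, rfl⟩ ⟨e, he, hen⟩
    have h1 : e⁻¹ * n ∈ N := hRN (QuotientGroup.eq.mp hen)
    have heN : e ∈ N := by simpa using mul_mem hn (inv_mem h1)
    have : e ∈ N ⊓ E := ⟨heN, he⟩
    rw [hdisj, Subgroup.mem_bot] at this
    rw [← hen, this, map_one]
  have hsup : a ⊔ b = ⊤ := by
    rw [← Subgroup.map_sup, htop, Subgroup.map_top_of_surjective _ (QuotientGroup.mk'_surjective _)]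
  have hperf : a ≤ ⁅a, a⁆ := fun z hz => by
    have h1 : z ∈ ⁅a ⊔ b, a ⊔ b⁆ := by
      rw [hsup, ← Subgroup.map_top_of_surjective φ (QuotientGroup.mk'_surjective _), ← Subgroup.map_commutator]
      obtain ⟨n, hn, rfl⟩ := hz
      exact ⟨n, hle hn, rfl⟩
    have h2 : ⁅a ⊔ b, a ⊔ b⁆ ≤ ⁅a, a⁆ ⊔ ⁅b, b⁆ := Subgroup.commutator_le.mpr fun s hs t ht => by
      obtain ⟨x, hx, y, hy, rfl⟩ := Components.mem_sup_of_le_centralizer hab hs
      obtain ⟨x', hx', y', hy', rfl⟩ := Components.mem_sup_of_le_centralizer hab ht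
      have hc : ∀ u ∈ a, ∀ w ∈ b, u * w = w * u := fun u hu w hw =>
        (Subgroup.mem_centralizer_iff.mp (hab hu) w hw).symm
      have e : ⁅x * y, x' * y'⁆ = ⁅x, x'⁆ * ⁅y, y'⁆ := by
        simp only [commutatorElement_def, mul_inv_rev]
        calc x * y * (x' * y') * (y⁻¹ * x⁻¹) * (y'⁻¹ * x'⁻¹)
            = x * (y * x') * ((y' * y⁻¹) * x⁻¹) * (y'⁻¹ * x'⁻¹) := by group
          _ = x * (x' * y) * (x⁻¹ * (y' * y⁻¹)) * (y'⁻¹ * x'⁻¹) := by
              rw [← hc x' hx' y hy, ← hc x⁻¹ (inv_mem hx) (y' * y⁻¹) (mul_mem hy' (inv_mem hy))]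
          _ = x * x' * ((y * x⁻¹) * (y' * y⁻¹ * y'⁻¹ * x'⁻¹)) := by group
          _ = x * x' * ((x⁻¹ * y) * (x'⁻¹ * (y' * y⁻¹ * y'⁻¹))) := by
              rw [← hc x⁻¹ (inv_mem hx) y hy, hc x'⁻¹ (inv_mem hx') (y' * y⁻¹ * y'⁻¹)
                (mul_mem (mul_mem hy' (inv_mem hy)) (inv_mem hy'))]
          _ = x * x' * x⁻¹ * ((y * x'⁻¹) * (y' * y⁻¹ * y'⁻¹)) := by group
          _ = x * x' * x⁻¹ * ((x'⁻¹ * y) * (y' * y⁻¹ * y'⁻¹)) := by rw [← hc x'⁻¹ (inv_mem hx') y hy]
          _ = _ := by group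
      rw [e]
      exact mul_mem (Subgroup.mem_sup_left (Subgroup.commutator_mem_commutator hx hx'))
        (Subgroup.mem_sup_right (Subgroup.commutator_mem_commutator hy hy'))
    have haa : ⁅a, a⁆ ≤ a := Subgroup.commutator_le.mpr fun s hs t ht =>
      mul_mem (mul_mem (mul_mem hs ht) (inv_mem hs)) (inv_mem ht)
    have hbb : ⁅b, b⁆ ≤ b := Subgroup.commutator_le.mpr fun s hs t ht =>
      mul_mem (mul_mem (mul_mem hs ht) (inv_mem hs)) (inv_mem ht)
    obtain ⟨u, hu, w, hw, huw⟩ := Components.mem_sup_of_le_centralizer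
      (haa.trans (hab.trans (Subgroup.centralizer_le hbb))) (h2 h1)
    have hw1 : w = 1 := hinf w (by
      rw [show w = u⁻¹ * z by rw [← huw]; group]
      exact mul_mem (inv_mem (haa hu)) hz) (hbb hw)
    rwa [← huw, hw1, mul_one]
  refine le_antisymm hRN fun n hn => ?_
  have ha : a = ⊥ := by
    haveI : Group.IsSolvable a := Group.isSolvable_of_surjective (φ.subgroupMap_surjective N)
    by_contra hne
    haveI : Nontrivial a := (Subgroup.nontrivial_iff_ne_bot a).mpr hne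
    refine (Group.IsSolvable.commutator_lt_top_of_nontrivial a).ne ?_
    refine Subgroup.map_injective a.subtype_injective ?_
    rw [Subgroup.map_subtype_commutator, ← MonoidHom.range_eq_map, Subgroup.range_subtype]
    exact le_antisymm (Subgroup.commutator_le.mpr fun s hs t ht =>
      mul_mem (mul_mem (mul_mem hs ht) (inv_mem hs)) (inv_mem ht)) hperf
  have : φ n ∈ a := ⟨n, hn, rfl⟩
  rw [ha, Subgroup.mem_bot] at this
  exact (QuotientGroup.eq_one_iff n).mp this

/-- A coprime `E` with `[N, E] = N` has no fixed points on `N / N'`. -/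
theorem inf_centralizer_le_commutator {X : Type*} [Group X] [Finite X] {N E : Subgroup X} [hN : N.Normal]
    (hcop : (Nat.card E).Coprime (Nat.card N)) (heq : ⁅N, E⁆ = N) :
    N ⊓ Subgroup.centralizer (E : Set X) ≤ ⁅N, N⁆ := fun x hx => by
  haveI : (⁅N, N⁆).Normal := inferInstance
  set φ := QuotientGroup.mk' ⁅N, N⁆
  haveI : (N.map φ).Normal := hN.map φ (QuotientGroup.mk'_surjective _)
  have hV : IsMulCommutative (N.map φ) := Subgroup.le_centralizer_iff_isMulCommutative.mp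
    (Subgroup.commutator_eq_bot_iff_le_centralizer.mp (by rw [← Subgroup.map_commutator, QuotientGroup.map_mk'_self]))
  have h1 := Coprime.commutator_inf_centralizer_eq_bot (A := E.map φ) (fun a _ => by rw [Subgroup.normalizer_eq_top]; trivial)
    hV (((hcop.coprime_dvd_left (Subgroup.card_map_dvd E φ))).coprime_dvd_right (Subgroup.card_map_dvd N φ))
  rw [← Subgroup.map_commutator, heq] at h1
  have h2 : φ x ∈ (⊥ : Subgroup (X ⧸ ⁅N, N⁆)) := h1 ▸ ⟨⟨x, hx.1, rfl⟩, Subgroup.mem_centralizer_iff.mpr (by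
    rintro _ ⟨e, he, rfl⟩
    rw [← map_mul, ← map_mul, Subgroup.mem_centralizer_iff.mp hx.2 e he])⟩
  exact (QuotientGroup.eq_one_iff x).mp (Subgroup.mem_bot.mp h2)

variable {G : Type*} [Group G] [Finite G] (hG : IsMinSimpleOddOrder G)
  (hpl : ∀ (p : ℕ) [Fact p.Prime] (H : Subgroup G), H ≠ ⊤ → PLengthLE p 1 H)
include hG hpl

/-- `[M_σ, E] = M_σ` and `C_{M_σ}(E) ≤ M_σ'`. -/
theorem commutator_compl {M E : Subgroup G} (hM : IsCoatom M) (hE : IsComplIn E (sigmaCore M) M) :
    ⁅sigmaCore M, E⁆ = sigmaCore M ∧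
      sigmaCore M ⊓ Subgroup.centralizer (E : Set G) ≤ ⁅sigmaCore M, sigmaCore M⁆ := by
  haveI := Core.BG.isSolvable_proper hG hM.1
  set N := piCore (sigma M) M
  set E' := E.subgroupOf M
  have hmapN : N.map M.subtype = sigmaCore M := rfl
  have hmapE : E'.map M.subtype = E := by rw [Subgroup.subgroupOf_map_subtype, inf_eq_left.mpr hE.1]
  have hc := complIn_isComplement' hE
  have hle : N ≤ commutator M := by
    intro x hx
    have h1 : (x : G) ∈ ⁅M, M⁆ := sigmaCore_le_derived hG hM ⟨x, hx, rfl⟩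
    rw [← M.map_subtype_commutator] at h1
    obtain ⟨y, hy, e⟩ := h1
    rwa [← show y = x from Subtype.ext e]
  have hdisj : N ⊓ E' = ⊥ := by
    rw [eq_bot_iff]
    intro x hx
    have : (x : G) ∈ E ⊓ sigmaCore M := ⟨Subgroup.mem_subgroupOf.mp hx.2, x, hx.1, rfl⟩
    rw [hE.2.2.1, Subgroup.mem_bot] at this
    exact Subgroup.mem_bot.mpr (Subtype.ext this)
  have htop : N ⊔ E' = ⊤ := top_le_iff.mp fun x _ => by
    obtain ⟨a, ha, b, ⟨b', hb', rfl⟩, e⟩ := hE.2.2.2 x x.2
    have hax : (⟨a, hE.1 ha⟩ : M) * b' = x := Subtype.ext e.symm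
    exact hax ▸ mul_mem (Subgroup.mem_sup_right (Subgroup.mem_subgroupOf.mpr ha)) (Subgroup.mem_sup_left hb')
  have h := commutator_eq_of_le_derived htop hdisj hle
  have hcop : (Nat.card E').Coprime (Nat.card N) := Nat.coprime_of_dvd fun q hq h1 h2 =>
    complIn_notMem_sigma hG hM hE hq (by rwa [Core.card_subgroupOf hE.1] at h1)
      (Core.isPiNat_card_piCore _ M q hq h2)
  refine ⟨?_, ?_⟩
  · have := congrArg (Subgroup.map M.subtype) h
    rwa [Subgroup.map_commutator, hmapE] at this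
  · rintro x ⟨⟨y, hy, rfl⟩, hxC⟩
    have := inf_centralizer_le_commutator hcop h ⟨hy, Subgroup.mem_centralizer_iff.mpr fun e he =>
      Subtype.ext (Subgroup.mem_centralizer_iff.mp hxC e (Subgroup.mem_subgroupOf.mp he))⟩
    rw [← hmapN, ← Subgroup.map_commutator]
    exact ⟨y, this, rfl⟩

/-- An element of order `p` in `M_σ ∩ M^g`, `g ∉ M`, is not in `M_σ'`, and `p ∉ β(M)`. -/
theorem order_p_inf_conj {M : Subgroup G} (hM : IsCoatom M) {g : G} (hg : g ∉ M) {p : ℕ} [hp : Fact p.Prime]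
    {X : Subgroup G} (hX : Nat.card X = p) (hXle : X ≤ sigmaCore M ⊓ cj g M) :
    p ∉ beta M ∧ ¬ X ≤ ⁅sigmaCore M, sigmaCore M⁆ := by
  have hσ : p ∈ sigma M := mem_sigma_of_dvd hp.out (hX ▸ Subgroup.card_dvd_of_le (hXle.trans inf_le_left))
  have hXM : X ≤ M := hXle.trans (inf_le_left.trans (sigmaCore_le M))
  rw [← not_or]
  intro h
  obtain ⟨⟨hC, -⟩, -⟩ := sigma_order_p hG hpl hM hσ hXM hX h
  obtain ⟨c, hc, e⟩ := transitive hG hM hσ _ X le_rfl (IsPGroup.of_card (by rw [hX, pow_one]))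
    (ne_bot_of_card_prime hX) 1 g (by rwa [cj_one]) (hXle.trans inf_le_right)
  rw [cj_one] at e
  rw [cj_eq_iff.mpr (Subgroup.le_normalizer (hC hc))] at e
  exact hg (mem_of_cj_eq hG hM e)

/-- `M_σ ∩ M^g` is a cyclic `β(M)'`-group meeting `M_σ'` trivially, for `g ∉ M`. -/
theorem inf_conj_facts {M : Subgroup G} (hM : IsCoatom M) {g : G} (hg : g ∉ M) :
    IsCyclic ↥(sigmaCore M ⊓ cj g M) ∧
      (∀ p : ℕ, p.Prime → p ∣ Nat.card ↥(sigmaCore M ⊓ cj g M) → p ∉ beta M) ∧
      sigmaCore M ⊓ cj g M ⊓ ⁅sigmaCore M, sigmaCore M⁆ = ⊥ := by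
  set H := sigmaCore M ⊓ cj g M
  have hord : ∀ (K : Subgroup G) (p : ℕ), p.Prime → p ∣ Nat.card K → ∃ X : Subgroup G, X ≤ K ∧ Nat.card X = p := by
    intro K p hp hd
    haveI := Fact.mk hp
    obtain ⟨x, hx⟩ := exists_prime_orderOf_dvd_card' p hd
    exact ⟨Subgroup.zpowers (x : G), Subgroup.zpowers_le.mpr x.2, by rw [Nat.card_zpowers, Subgroup.orderOf_coe, hx]⟩
  have hbot : H ⊓ ⁅sigmaCore M, sigmaCore M⁆ = ⊥ := by
    by_contra hne
    obtain ⟨p, hp, hd⟩ := Nat.exists_prime_and_dvd (fun e => hne (Subgroup.eq_bot_of_card_eq _ e))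
    obtain ⟨X, hXK, hX⟩ := hord _ p hp hd
    haveI := Fact.mk hp
    exact (order_p_inf_conj hG hpl hM hg hX (hXK.trans inf_le_left)).2 (hXK.trans inf_le_right)
  refine ⟨?_, fun p hp hd => ?_, hbot⟩
  swap
  · obtain ⟨X, hXK, hX⟩ := hord H p hp hd
    haveI := Fact.mk hp
    exact (order_p_inf_conj hG hpl hM hg hX hXK).1
  have hab : IsMulCommutative H := Subgroup.le_centralizer_iff_isMulCommutative.mp
    (Subgroup.commutator_eq_bot_iff_le_centralizer.mp (le_bot_iff.mp (hbot ▸ le_inf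
      (Subgroup.commutator_le.mpr fun s hs t ht => mul_mem (mul_mem (mul_mem hs ht) (inv_mem hs)) (inv_mem ht))
      (Subgroup.commutator_mono inf_le_left inf_le_left))))
  haveI : Group.IsNilpotent H := by
    letI : CommGroup H := { (inferInstance : Group H) with mul_comm := hab.1.1 }
    exact CommGroup.isNilpotent
  haveI : IsZGroup H := ⟨fun q hq Q => by
    haveI := Fact.mk hq
    by_contra hnc
    have hnc' : ¬ IsCyclic ((Q : Subgroup H).map H.subtype) := fun hc => hnc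
      (isCyclic_of_surjective _ ((Q : Subgroup H).equivMapOfInjective H.subtype H.subtype_injective).symm.surjective)
    have hd : q ∣ Nat.card H := by
      by_contra hd
      haveI : Subsingleton Q := (Nat.card_eq_one_iff_unique.mp (by
        rw [Q.card_eq_multiplicity, Nat.factorization_eq_zero_of_not_dvd hd, pow_zero])).1
      exact hnc isCyclic_of_subsingleton
      -- [Q.card_eq_multiplicity, Nat.factorization_eq_zero_of_not_dvd hd, pow_zero]
    have hq2 := ne_two_of_dvd hG (hd.trans (Subgroup.card_subgroup_dvd_card H))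
    obtain ⟨A, hA, hAQ, hAc⟩ := Core.BG.exists_ea_sq hq2 (Q.isPGroup'.map H.subtype) hnc'
    have hAH : A ≤ H := hAQ.trans (Subgroup.map_subtype_le _)
    have hAM : A ≤ M := hAH.trans (inf_le_left.trans (sigmaCore_le M))
    have hσ : q ∈ sigma M := mem_sigma_of_dvd hq (hd.trans (Subgroup.card_dvd_of_le inf_le_left))
    have hAnc : ¬ IsCyclic A := fun hc => by
      haveI := hc
      have h1 : Nat.card A ∣ q := by
        rw [← IsCyclic.exponent_eq_card]
        exact Monoid.exponent_dvd_of_forall_pow_eq_one fun b => Subtype.ext (hA.2 b b.2)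
      rw [hAc] at h1
      have := Nat.le_of_dvd hq.pos h1
      nlinarith [hq.two_le]
    obtain ⟨c, hc, e⟩ := transitive hG hM hσ _ A le_rfl (Components.ea_isPGroup hA) (fun e => hAnc (by
      subst e; infer_instance)) 1 g (by rwa [cj_one]) (hAH.trans inf_le_right)
    rw [cj_one, cj_eq_iff.mpr (Subgroup.le_normalizer (normalizer_le_of_noncyclic hG hpl hM hσ
      (Components.ea_isPGroup hA) hAM hAnc (Subgroup.centralizer_le_normalizer _ hc)))] at e
    exact hg (mem_of_cj_eq hG hM e)⟩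
  exact inferInstance

end Cfsg.Agent.OddLocal.Sigma
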