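import Cfsg.Agent.OddLocal.Sigma.SharedSylow
import Cfsg.Agent.OddLocal.Sigma.ComplEmbedding
import Cfsg.Agent.Core.BG.PrimeAction
import Cfsg.Agent.OddLocal.RankTwo.Omega

/-! `C_{M_σ}(P) ≤ C_{M_σ}(R)` for `p ∈ τ₁(M)` (BG 13.4). -/

set_option autoImplicit false
set_option linter.style.haveILetI false
set_option linter.unusedSectionVars false

namespace Cfsg.Agent.OddLocal.Sigma

open Cfsg
open scoped commutatorElement

variable {G : Type*} [Group G] [Finite G]

/-- `X = [X, R]` centralizes an `R X`-invariant `p`-group once it fixes all elements of order `p`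
fixed by `R`. -/
theorem le_centralizer_of_fix {p q r : ℕ} [hp : Fact p.Prime] [hq : Fact q.Prime] (hr : r.Prime) (hp2 : p ≠ 2)
    (hq2 : q ≠ 2) (hpq : p ≠ q) (hpr : p ≠ r) (hqr : q ≠ r) {X R S : Subgroup G} (hX : IsPGroup q X)
    (hR : Nat.card R = r) (hS : IsPGroup p S) (hRX : R ≤ Subgroup.normalizer (X : Set G))
    (hRS : R ≤ Subgroup.normalizer (S : Set G)) (hXS : X ≤ Subgroup.normalizer (S : Set G)) (hXR : ⁅X, R⁆ = X)
    (hfix : ∀ x ∈ S, x ∈ Subgroup.centralizer (R : Set G) → x ^ p = 1 → x ∈ Subgroup.centralizer (X : Set G)) :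
    X ≤ Subgroup.centralizer (S : Set G) := by
  obtain ⟨Q₀, hQchar, hQexp, hQfaith⟩ := RankTwo.exists_faithful_exponent hp2 hS
  haveI := hQchar
  set Q := Q₀.map S.subtype with hQdef
  have hQS : Q ≤ S := Subgroup.map_subtype_le _
  have hNQ : Subgroup.normalizer (S : Set G) ≤ Subgroup.normalizer (Q : Set G) := fun n hn =>
    Coprime.mem_normalizer_of_conj_mem (by
      rintro _ ⟨y, hy, rfl⟩
      exact ⟨S.normalizerMonoidHom ⟨n, hn⟩ y, Subgroup.characteristic_iff_map_le.mp hQchar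
        (S.normalizerMonoidHom ⟨n, hn⟩) ⟨y, hy, rfl⟩, rfl⟩)
  have hXQ : X ≤ Subgroup.normalizer (Q : Set G) := hXS.trans hNQ
  haveI : Group.IsSolvable X := Coprime.isSolvable_of_isPGroup hX
  have hcX : (Nat.card X).Coprime (Nat.card Q) :=
    coprime_of_pGroups hpq.symm hX (hS.to_le hQS)
  set U := ⁅Q, X⁆ with hUdef
  have hUQ : U ≤ Q := Coprime.commutator_le_of_le_normalizer hXQ
  have hU : IsPGroup p U := hS.to_le (hUQ.trans hQS)
  have hUX : ⁅U, X⁆ = U := Coprime.commutator_commutator_eq hXQ hcX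
  have hXU : X ≤ Subgroup.normalizer (U : Set G) := Subgroup.normalizer_commutator_ge_right Q X
  have hRU : R ≤ Subgroup.normalizer (U : Set G) := fun ρ hρ => Coprime.mem_normalizer_of_conj_mem fun y hy => by
    have h1 : ρ * y * ρ⁻¹ ∈ U.map (MulAut.conj ρ).toMonoidHom := ⟨y, hy, rfl⟩
    rw [hUdef, Subgroup.map_commutator] at h1
    refine Subgroup.commutator_mono ?_ ?_ h1
    · exact (cj_eq_iff.mpr (hNQ (hRS hρ))).le
    · exact (cj_eq_iff.mpr (hRX hρ)).le
  have hfixU : U ⊓ Subgroup.centralizer (R : Set G) ≤ (frattini U).map U.subtype := by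
    rintro x ⟨hxU, hxR⟩
    obtain ⟨y, hy, hye⟩ := hUQ hxU
    have hxS : x ∈ S := hQS (hUQ hxU)
    have hxp : x ^ p = 1 := by
      rw [← hye]; exact congrArg Subtype.val (hQexp y hy)
    have hxX := hfix x hxS hxR hxp
    set W := U ⊔ X
    have hUW : U ≤ W := le_sup_left
    have hXW : X ≤ W := le_sup_right
    haveI : (U.subgroupOf W).Normal := Subgroup.normal_subgroupOf_of_le_normalizer
      (sup_le Subgroup.le_normalizer hXU)
    have hcomm : ⁅U.subgroupOf W, X.subgroupOf W⁆ = U.subgroupOf W := by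
      refine Subgroup.map_injective W.subtype_injective ?_
      rw [Subgroup.map_commutator, Subgroup.map_subgroupOf_eq_of_le hUW, Subgroup.map_subgroupOf_eq_of_le hXW, hUX]
    have h1 := inf_centralizer_le_commutator (N := U.subgroupOf W) (E := X.subgroupOf W) (by
      rw [Core.card_subgroupOf hXW, Core.card_subgroupOf hUW]
      exact coprime_of_pGroups hpq.symm hX hU) hcomm
      (x := ⟨x, hUW hxU⟩) ⟨Subgroup.mem_subgroupOf.mpr hxU, Subgroup.mem_centralizer_iff.mpr fun e he =>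
        Subtype.ext (Subgroup.mem_centralizer_iff.mp hxX e (Subgroup.mem_subgroupOf.mp he))⟩
    have h2 : x ∈ ⁅U, U⁆ := by
      rw [← Subgroup.map_subgroupOf_eq_of_le hUW, ← Subgroup.map_commutator]
      exact ⟨_, h1, rfl⟩
    rw [← U.map_subtype_commutator] at h2
    refine Subgroup.map_mono ?_ h2
    rw [← Subgroup.Normal.quotient_commutative_iff_commutator_le]
    exact ⟨⟨FGS3.quotient_frattini_comm hU⟩⟩
  have hXC : X ≤ Subgroup.centralizer (U : Set G) := by
    have := Core.BG.commutator_le_centralizer_of_fix_le_frattini (v := p) hq.out hr hpq hpr hqr hq2 hR hX hU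
      hRX hRU hXU hfixU
    rwa [hXR] at this
  have hU0 : U = ⊥ := by
    rw [← hUX]
    exact Subgroup.commutator_eq_bot_iff_le_centralizer.mpr (Subgroup.le_centralizer_iff.mp hXC)
  have hQX : X ≤ Subgroup.centralizer (Q : Set G) :=
    Subgroup.le_centralizer_iff.mp (Subgroup.commutator_eq_bot_iff_le_centralizer.mp hU0)
  intro x hx
  refine Subgroup.mem_centralizer_iff.mpr fun s hs => ?_
  have h := hQfaith (S.normalizerMonoidHom ⟨x, hXS hx⟩) ?_ ?_
  · have h' := congrArg (fun (e : MulAut S) => ((e ⟨s, hs⟩ : S) : G)) h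
    simp only [MulAut.one_apply] at h'
    exact (mul_inv_eq_iff_eq_mul.mp (h' : x * s * x⁻¹ = s)).symm
  · obtain ⟨j, hj⟩ := hX ⟨x, hx⟩
    refine Nat.Coprime.coprime_dvd_left ((orderOf_map_dvd _ _).trans
      (orderOf_dvd_of_pow_eq_one (n := q ^ j) (Subtype.ext ?_))) ?_
    · show x ^ q ^ j = 1
      exact congrArg Subtype.val hj
    · exact ((Nat.coprime_primes hq.out hp.out).mpr hpq.symm).pow_left j
  · intro y hy
    refine Subtype.ext ?_
    show x * (y : G) * x⁻¹ = y
    rw [← Subgroup.mem_centralizer_iff.mp (hQX hx) y ⟨y, hy, rfl⟩, mul_inv_cancel_right]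

variable (hG : IsMinSimpleOddOrder G)
  (hpl : ∀ (p : ℕ) [Fact p.Prime] (H : Subgroup G), H ≠ ⊤ → PLengthLE p 1 H)
include hG hpl

/-- An ideal prime of `σ(H)` has rank one in the non-conjugate maximal subgroups containing it. -/
theorem pRankLE_one_of_ideal {H K : Subgroup G} (hH : IsCoatom H) (hK : IsCoatom K) (hnc : ∀ g : G, K ≠ cj g H)
    {p : ℕ} [hp : Fact p.Prime] (hσ : p ∈ sigma H) (hI : IsIdealPrime p G) : PRankLE p 1 K := by
  by_contra hr1
  have hα : p ∉ alpha K := notMem_alpha_of_sigma hG hH hK hnc hσ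
  have hr2 : PRankLE p 2 K := by_contra fun h => hα ⟨hp.out, h⟩
  have hpσ : p ∉ sigma K := fun h => hα (mem_beta_of_ideal hG h hI).1
  exact not_ideal hG hK hpσ hr2 hr1 hI

/-- A `p`-subgroup is cyclic inside a subgroup of `p`-rank one. -/
theorem isCyclic_of_rank_one {K T : Subgroup G} {p : ℕ} [hp : Fact p.Prime] (hp2 : p ≠ 2) (hr : PRankLE p 1 K)
    (hT : IsPGroup p T) (hTK : T ≤ K) : IsCyclic T := by
  by_contra hc
  obtain ⟨B, hB, hBT, hBc⟩ := Core.BG.exists_ea_sq hp2 hT hc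
  exact not_pRankLE_of_ea hB (hBT.trans hTK) (hBc ▸ Nat.pow_lt_pow_right hp.out.one_lt one_lt_two) hr

/-- An `R X`-invariant `p`-group over `P` is centralized by `X = [X, R]`. -/
theorem le_centralizer_of_tau1 {H : Subgroup G} (hH : IsCoatom H) {p q r : ℕ} [hp : Fact p.Prime]
    [hq : Fact q.Prime] [hr : Fact r.Prime] (hσ : p ∈ sigma H) (hI : IsIdealPrime p G) (hrH : r ∈ tau1 H)
    (hpq : p ≠ q) (hqr : q ≠ r) {P X R S : Subgroup G} (hP : Nat.card P = p) (hR : Nat.card R = r)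
    (hRP : R ≤ Subgroup.centralizer (P : Set G)) (hXP : X ≤ Subgroup.centralizer (P : Set G))
    (hX : IsPGroup q X) (hq2 : q ≠ 2) (hRX : R ≤ Subgroup.normalizer (X : Set G)) (hXR : ⁅X, R⁆ = X)
    (hS : IsPGroup p S) (hPS : P ≤ S) (hRS : R ≤ Subgroup.normalizer (S : Set G))
    (hXS : X ≤ Subgroup.normalizer (S : Set G)) : X ≤ Subgroup.centralizer (S : Set G) := by
  have hpr : p ≠ r := fun e => hrH.2.1 (e ▸ hσ)
  have hp2 : p ≠ 2 := ne_two_of_dvd hG (sigma_dvd hσ)
  refine le_centralizer_of_fix hr.out hp2 hq2 hpq hpr hqr hX hR hS hRX hRS hXS hXR fun x hxS hxR hxp => ?_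
  obtain ⟨K, hK, hNK⟩ := (eq_top_or_exists_le_coatom (Subgroup.normalizer (R : Set G))).resolve_left
    (Core.BG.normalizer_ne_top_of_isPGroup hG (ne_bot_of_card_prime hR) (IsPGroup.of_card (by rw [hR, pow_one])))
  obtain ⟨hnc, -, -, -⟩ := normalizer_tau13 hG hpl hH hK (Or.inl hrH) hR hNK
  have hcyc : IsCyclic ↥(S ⊓ Subgroup.centralizer (R : Set G)) :=
    isCyclic_of_rank_one hG hpl hp2 (pRankLE_one_of_ideal hG hpl hH hK hnc hσ hI) (hS.to_le inf_le_left)
      (inf_le_right.trans ((Subgroup.centralizer_le_normalizer _).trans hNK))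
  by_cases hx1 : x = 1
  · rw [hx1]; exact one_mem _
  have hx : Subgroup.zpowers x = P := OddLocal.eq_of_card_eq_of_isCyclic hcyc
    (Subgroup.zpowers_le.mpr ⟨hxS, hxR⟩) (le_inf hPS (Subgroup.le_centralizer_iff.mp hRP))
    (by rw [Nat.card_zpowers, orderOf_eq_prime hxp hx1, hP])
  exact Subgroup.le_centralizer_iff.mp hXP (hx ▸ Subgroup.mem_zpowers x)

/-- A Sylow subgroup for an ideal prime contains an elementary abelian `p ^ 3`. -/
theorem exists_ea_three_le {p : ℕ} [hp : Fact p.Prime] (hI : IsIdealPrime p G) (S : Sylow p G) :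
    ∃ B : Subgroup G, B ≤ (S : Subgroup G) ∧ IsElementaryAbelian p B ∧ p ^ 3 ≤ Nat.card B := by
  obtain ⟨E, hE, hE3⟩ := RankTwo.exists_ea_of_rank hI.2.1
  obtain ⟨g, hg⟩ := Transfer.exists_map_conj_le_sylow S (Components.ea_isPGroup hE)
  have hB : IsElementaryAbelian p (E.map (MulAut.conj g).toMonoidHom) := PLocal.isEA_map hE _
  exact ⟨_, hg, hB, RankTwo.three_le_of_gt hB (by
    rwa [show Nat.card (E.map (MulAut.conj g).toMonoidHom) = Nat.card E from card_cj g E])⟩

/-- For `p ∈ τ₁(M)`, `P` of order `p` and `R` of prime order centralizing it, both outside `σ(M)`. -/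
theorem cent_tau1_le {M P R : Subgroup G} (hM : IsCoatom M) {p r : ℕ} [hp : Fact p.Prime] [hr : Fact r.Prime]
    (hpt : p ∈ tau1 M) (hP : Nat.card P = p) (hPM : P ≤ M) (hR : Nat.card R = r) (hRM : R ≤ M)
    (hrσ : r ∉ sigma M) (hRP : R ≤ Subgroup.centralizer (P : Set G)) :
    sigmaCore M ⊓ Subgroup.centralizer (P : Set G) ≤ sigmaCore M ⊓ Subgroup.centralizer (R : Set G) := by
  refine le_inf inf_le_left ?_
  have hpσ := hpt.2.1
  have hPp : IsPGroup p P := IsPGroup.of_card (by rw [hP, pow_one])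
  have hRp : IsPGroup r R := IsPGroup.of_card (by rw [hR, pow_one])
  obtain ⟨H, hH, hNP⟩ := (eq_top_or_exists_le_coatom (Subgroup.normalizer (P : Set G))).resolve_left
    (Core.BG.normalizer_ne_top_of_isPGroup hG (ne_bot_of_card_prime hP) hPp)
  obtain ⟨hnc, hcl, hpτH, hpH⟩ := normalizer_tau13 hG hpl hM hH (Or.inl hpt) hP hNP
  have hCH : Subgroup.centralizer (P : Set G) ≤ H := (Subgroup.centralizer_le_normalizer _).trans hNP
  set C := sigmaCore M ⊓ Subgroup.centralizer (P : Set G) with hC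
  have hCD : C ≤ sigmaCore M ⊓ H := le_inf inf_le_left (inf_le_right.trans hCH)
  have hRC : R ≤ Subgroup.normalizer (C : Set G) := fun x hx => Coprime.mem_normalizer_of_conj_mem fun y hy =>
    ⟨(Subgroup.mem_normalizer_iff.mp (le_normalizer_sigmaCore M (hRM hx)) y).mp hy.1,
      Subgroup.mul_mem _ (Subgroup.mul_mem _ (hRP hx) hy.2) (Subgroup.inv_mem _ (hRP hx))⟩
  by_cases hrH : r ∈ tau1 H
  swap
  · exact hCD.trans (Subgroup.le_centralizer_iff.mp (le_centralizer_sigmaCore_inf hG hpl hM hH hnc hrσ hrH hRp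
      (le_inf hRM (hRP.trans hCH))))
  by_cases hD : sigmaCore M ⊓ H ⊓ ⁅H, H⁆ = ⊥
  · refine Subgroup.commutator_eq_bot_iff_le_centralizer.mp (le_bot_iff.mp (hD ▸ le_inf ?_ ?_))
    · exact (Coprime.commutator_le_of_le_normalizer hRC).trans hCD
    · exact Subgroup.commutator_mono (inf_le_right.trans hCH) (hRP.trans hCH)
  have hI := ideal_of_inf_derived hG hpl hM hH hnc hpt hpτH hpH hD
  have hσH : p ∈ sigma H := hcl.resolve_right fun h =>
    hD (inf_derived_eq_bot hG hpl hM hH hnc h hpt.2.2.1 hpσ)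
  have hpβ : p ∈ beta H := mem_beta_of_ideal hG hσH hI
  haveI : Group.IsSolvable R := Coprime.isSolvable_of_isPGroup hRp
  have hrC : ¬ r ∣ Nat.card C := fun hd =>
    hrσ (mem_sigma_of_dvd hr.out (hd.trans (Subgroup.card_dvd_of_le inf_le_left)))
  refine Coprime.le_of_forall_invariant_sylow fun q hq => ?_
  haveI := Fact.mk hq
  obtain ⟨W, hWC, hW, hWi, hRW⟩ := Coprime.exists_invariant_sylow hRC
    (by rw [hR]; exact (hr.out.coprime_iff_not_dvd).mpr hrC) q
  refine ⟨W, hWC, ?_, hWi⟩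
  by_contra hWR
  have hW1 : W ≠ ⊥ := fun e => hWR (e ▸ bot_le)
  have hqW : q ∣ Nat.card W := by
    obtain ⟨k, hk⟩ := IsPGroup.iff_card.mp hW
    rw [hk]
    exact dvd_pow_self q fun e => hW1 (Subgroup.eq_bot_of_card_eq _ (by rw [hk, e, pow_zero]))
  have hqM : q ∈ sigma M := mem_sigma_of_dvd hq (hqW.trans (Subgroup.card_dvd_of_le (hWC.trans inf_le_left)))
  have hqr : q ≠ r := fun e => hrσ (e ▸ hqM)
  have hqp : p ≠ q := fun e => hpσ (e ▸ hqM)
  have hq2 : q ≠ 2 := ne_two_of_dvd hG (sigma_dvd hqM)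
  set X := ⁅W, R⁆ with hXdef
  have hXW : X ≤ W := Coprime.commutator_le_of_le_normalizer hRW
  have hXR : ⁅X, R⁆ = X := Coprime.commutator_commutator_eq hRW (coprime_of_pGroups hqr.symm hRp hW)
  have hX1 : X ≠ ⊥ := fun e => hWR (Subgroup.commutator_eq_bot_iff_le_centralizer.mp e)
  have hX : IsPGroup q X := hW.to_le hXW
  have hXP : X ≤ Subgroup.centralizer (P : Set G) := hXW.trans (hWC.trans inf_le_right)
  have hRX : R ≤ Subgroup.normalizer (X : Set G) := Subgroup.normalizer_commutator_ge_right W R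
  have hqβ : q ∉ beta H := notMem_beta_of_sigma hG hpl hM hH hnc hqM
  -- an invariant Sylow `p`-subgroup of `H_β`
  set Nb := piCoreOf (beta H) H with hNb
  have hNbH : Nb ≤ H := Core.BG.piCoreOf_le _ _
  have hPNb : P ≤ Nb := by
    have hPH : P ≤ H := Subgroup.le_normalizer.trans hNP
    have : P.subgroupOf H ≤ piCore (beta H) H := Core.le_of_coprime_index (by
      rw [Core.card_subgroupOf hPH, hP]
      exact hp.out.coprime_iff_not_dvd.mpr fun hd => (betaCore_hall hG hpl hH).2 p hp.out hpβ hd)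
    rw [hNb, ← Subgroup.map_subgroupOf_eq_of_le hPH]
    exact Subgroup.map_mono this
  have hsylG : ∀ S : Subgroup G, S ≤ Nb → IsPGroup p S → ¬ p ∣ S.relIndex Nb →
      ∃ S' : Sylow p G, (S' : Subgroup G) = S := by
    intro S hSN hS hSi
    refine ⟨hS.toSylow fun hd => ?_, rfl⟩
    rw [← Subgroup.relIndex_mul_index hSN] at hd
    rcases hp.out.dvd_mul.mp hd with h | h
    · exact hSi h
    · exact (beta_facts hG hpl hH).2.1.2 p hp.out hpβ h
  have key : ∀ (W₀ : Subgroup G) [Group.IsSolvable W₀], W₀ ≤ H → W₀ ≤ Subgroup.centralizer (P : Set G) →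
      (∀ t : ℕ, t.Prime → t ∣ Nat.card W₀ → t ∉ beta H) →
      ∃ S : Sylow p G, P ≤ (S : Subgroup G) ∧ (S : Subgroup G) ≤ H ∧
        W₀ ≤ Subgroup.normalizer ((S : Subgroup G) : Set G) := by
    intro W₀ _ hW₀H hW₀P hW₀β
    have hcop : (Nat.card W₀).Coprime (Nat.card Nb) := Nat.coprime_of_dvd fun t ht h1 h2 =>
      hW₀β t ht h1 (Core.BG.isPiNat_piCoreOf (beta H) H t ht h2)
    obtain ⟨S, hPS, hSN, hS, hSi, hW₀S⟩ := Coprime.exists_invariant_sylow_ge
      (hW₀H.trans (Core.BG.le_normalizer_piCoreOf _ _)) hcop hPNb hPp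
      (hW₀P.trans (Subgroup.centralizer_le_normalizer _))
    obtain ⟨S', hS'⟩ := hsylG S hSN hS hSi
    exact ⟨S', hS' ▸ hPS, hS' ▸ hSN.trans hNbH, hS' ▸ hW₀S⟩
  have hXH : X ≤ H := hXP.trans hCH
  have hXRH : X ⊔ R ≤ H := sup_le hXH (hRP.trans hCH)
  haveI : Group.IsSolvable ↥(X ⊔ R) := Core.BG.isSolvable_proper hG fun e => hH.1 (top_le_iff.mp (e ▸ hXRH))
  obtain ⟨S, hPS, hSH, hXRS⟩ := key (X ⊔ R) hXRH (sup_le hXP hRP) (fun t ht hd hβ => by
    have hc : Nat.card ↥(X ⊔ R) = Nat.card X * Nat.card R :=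
      Coprime.card_sup hRX (Coprime.inf_eq_bot_of_coprime (coprime_of_pGroups hqr.symm hRp hX))
    rw [hc] at hd
    rcases ht.dvd_mul.mp hd with h | h
    · exact hqβ ((mem_of_pGroup (π := {t | t = q}) hX rfl t ht h) ▸ hβ)
    · rw [hR] at h
      exact hrH.2.1 ((Nat.prime_dvd_prime_iff_eq ht hr.out).mp h ▸ alpha_subset_sigma hG hH hβ.1))
  have hXC : X ≤ Subgroup.centralizer ((S : Subgroup G) : Set G) :=
    le_centralizer_of_tau1 hG hpl hH hσH hI hrH hqp hqr hP hR hRP hXP hX hq2 hRX hXR S.isPGroup' hPS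
      (le_sup_right.trans hXRS) (le_sup_left.trans hXRS)
  obtain ⟨B, hBS, hB, hB3⟩ := exists_ea_three_le hG hpl hI S
  have hBu := Core.BG.ea_three_unique hG hB hB3
  -- an element of order `q` in `X`
  obtain ⟨x₀, hx₀⟩ : ∃ x : X, orderOf x = q := exists_prime_orderOf_dvd_card' q (by
    obtain ⟨k, hk⟩ := IsPGroup.iff_card.mp hX
    rw [hk]
    exact dvd_pow_self q fun e => hX1 (Subgroup.eq_bot_of_card_eq _ (by rw [hk, e, pow_zero])))
  set X₀ := Subgroup.zpowers (x₀ : G)
  have hX₀c : Nat.card X₀ = q := by rw [Nat.card_zpowers, Subgroup.orderOf_coe, hx₀]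
  have hX₀X : X₀ ≤ X := Subgroup.zpowers_le.mpr x₀.2
  have hX₀p : IsPGroup q X₀ := hX.to_le hX₀X
  have hX₀1 : X₀ ≠ ⊥ := ne_bot_of_card_prime hX₀c
  have hX₀M : X₀ ≤ M := hX₀X.trans (hXW.trans (hWC.trans (inf_le_left.trans (sigmaCore_le M))))
  obtain ⟨L, hL, hNX⟩ := (eq_top_or_exists_le_coatom (Subgroup.normalizer (X₀ : Set G))).resolve_left
    (Core.BG.normalizer_ne_top_of_isPGroup hG hX₀1 hX₀p)
  have hSC : (S : Subgroup G) ≤ Subgroup.centralizer (X₀ : Set G) :=
    Subgroup.le_centralizer_iff.mp (hX₀X.trans hXC)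
  have hLH : L = H := hBu.unique
    ⟨hL, hBS.trans ((hSC.trans (Subgroup.centralizer_le_normalizer _)).trans hNX)⟩ ⟨hH, hBS.trans hSH⟩
  rw [hLH] at hNX
  have hne : H ≠ M := fun e => hnc 1 (by rw [cj_one]; exact e)
  obtain ⟨S₀, hXS₀⟩ := exists_sylow_map_ge hX₀p (le_inf hX₀M (Subgroup.le_normalizer.trans hNX) : X₀ ≤ M ⊓ H)
  obtain ⟨hNS, hSi⟩ := sylow_inter_facts hG hpl hM hqM hX₀1 hNX S₀ hXS₀
  set T₀ := (S₀ : Subgroup ↥(M ⊓ H)).map (M ⊓ H).subtype with hT₀def
  have hT₀ : IsPGroup q T₀ := S₀.isPGroup'.map _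
  have hT₀I : T₀ ≤ M ⊓ H := Subgroup.map_subtype_le _
  by_cases hqH : q ∈ sigma H
  · -- a common Sylow subgroup
    obtain ⟨T, hTH, -⟩ := exists_sylow_le hqH
    have hT₀G : ∃ T' : Sylow q G, (T' : Subgroup G) = T₀ := by
      refine ⟨hT₀.toSylow fun hd => ?_, rfl⟩
      rw [← Subgroup.relIndex_mul_index (hT₀I.trans inf_le_right)] at hd
      rcases hq.dvd_mul.mp hd with h | h
      · exact hSi h
      · exact T.not_dvd_index (h.trans (Subgroup.index_dvd_of_le hTH))
    obtain ⟨T', hT'⟩ := hT₀G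
    have hTM' : (T' : Subgroup G) ≤ M := hT' ▸ hT₀I.trans inf_le_left
    have hTH' : (T' : Subgroup G) ≤ H := hT' ▸ hT₀I.trans inf_le_right
    obtain ⟨hab, hT1, hN⟩ := shared_sylow hG hpl hM hH hnc hqM hqH T' hTM' hTH'
    have hTP : (T' : Subgroup G) ≤ Subgroup.centralizer (P : Set G) := by
      refine le_trans (le_inf (le_sigmaCore hG hM hTM' (mem_of_pGroup T'.isPGroup' hqM)) hTH') ?_
      exact Subgroup.le_centralizer_iff.mp (le_centralizer_sigmaCore_inf hG hpl hM hH hnc hpσ hpτH hPp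
        (le_inf hPM (Subgroup.le_normalizer.trans hNP)))
    set N := Subgroup.normalizer ((T' : Subgroup G) : Set G) with hNdef
    set CT := Subgroup.centralizer ((T' : Subgroup G) : Set G)
    have hPCT : P ≤ CT := Subgroup.le_centralizer_iff.mp hTP
    have hCTN : CT ≤ N := Subgroup.centralizer_le_normalizer _
    obtain ⟨PC₀, hPC⟩ := exists_sylow_map_ge hPp hPCT
    set PC := (PC₀ : Subgroup CT).map CT.subtype with hPCdef
    have hPCC : PC ≤ CT := Subgroup.map_subtype_le _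
    have hPCp : IsPGroup p PC := PC₀.isPGroup'.map _
    have hPCcyc : IsCyclic PC := isCyclic_of_rank_one hG hpl (ne_two_of_dvd hG (sigma_dvd hσH)) hpt.2.2.2.2 hPCp
      (hPCC.trans (hCTN.trans (hN.trans inf_le_left)))
    set N₀ := N ⊓ Subgroup.centralizer (P : Set G)
    have hfac : ∀ n ∈ N, ∃ c ∈ CT, ∃ n₀ ∈ N₀, n = c * n₀ := by
      intro n hn
      haveI : (CT.subgroupOf N).Normal := Subgroup.normal_subgroupOf_of_le_normalizer fun m hm =>
        Coprime.mem_normalizer_of_conj_mem fun c hc => conj_mem_centralizer hm hc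
      have hcj : cj n PC ≤ CT := by
        rintro _ ⟨y, hy, rfl⟩
        exact conj_mem_centralizer hn (hPCC hy)
      obtain ⟨c, hc, hcle⟩ := exists_cj_le_of_not_dvd_relIndex hPCC hPCp (by
        rw [hPCdef, Subgroup.relIndex, Subgroup.subgroupOf,
          Subgroup.comap_map_eq_self_of_injective CT.subtype_injective]
        exact PC₀.not_dvd_index) hcj (hPCp.map _)
      refine ⟨c⁻¹, inv_mem hc, c * n, ⟨mul_mem (hCTN hc) hn, ?_⟩, by group⟩
      have hnorm : c * n ∈ Subgroup.normalizer (P : Set G) := by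
        refine cj_eq_iff.mp (OddLocal.eq_of_card_eq_of_isCyclic hPCcyc ?_ hPC (card_cj _ _))
        refine (cj_mono hPC).trans ?_
        rw [cj_mul]
        exact hcle
      have hcnM : c * n ∈ M := M.mul_mem ((hN (hCTN hc)).1) (hN hn).1
      refine Subgroup.mem_centralizer_iff.mpr fun y hy => ?_
      have h1 : ⁅c * n, y⁆ ∈ P ⊓ ⁅M, M⁆ := ⟨by
        rw [commutatorElement_def]
        exact P.mul_mem ((Subgroup.mem_normalizer_iff.mp hnorm y).mp hy) (P.inv_mem hy),
        Subgroup.commutator_mem_commutator hcnM (hPM hy)⟩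
      have h2 : P ⊓ ⁅M, M⁆ = ⊥ := Subgroup.inf_eq_bot_of_coprime (by
        rw [hP]
        exact hp.out.coprime_iff_not_dvd.mpr hpt.2.2.2.1)
      rw [h2, Subgroup.mem_bot] at h1
      exact (commutatorElement_eq_one_iff_mul_comm.mp h1).symm
    have hgen : (T' : Subgroup G) ≤ ⁅(T' : Subgroup G), N₀⁆ := by
      refine (sylow_le_commutator_normalizer hG hpl T').trans (Subgroup.commutator_le.mpr fun t ht n hn => ?_)
      obtain ⟨c, hc, n₀, hn₀, rfl⟩ := hfac n hn
      have hz : ⁅t, n₀⁆ ∈ (T' : Subgroup G) := Coprime.commutator_le_of_le_normalizer (inf_le_left : N₀ ≤ N)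
        (Subgroup.commutator_mem_commutator ht hn₀)
      have h2 : c * ⁅t, n₀⁆ * c⁻¹ = ⁅t, n₀⁆ := by
        rw [← Subgroup.mem_centralizer_iff.mp hc _ hz, mul_inv_cancel_right]
      have h3 : ⁅t, c⁆ = 1 := by
        rw [commutatorElement_eq_one_iff_mul_comm]
        exact Subgroup.mem_centralizer_iff.mp hc t ht
      rw [show ⁅t, c * n₀⁆ = ⁅t, c⁆ * (c * ⁅t, n₀⁆ * c⁻¹) by simp only [commutatorElement_def]; group, h2, h3,
        one_mul]
      exact Subgroup.commutator_mem_commutator ht hn₀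
    obtain ⟨V, hVN₀, hVab, hVπ, hTV⟩ :=
      exists_tau1_generators hG hpl hM hH hnc hqM hqH T' hTM' hTH' inf_le_left hgen
    have hVN : V ≤ N := hVN₀.trans inf_le_left
    have hW₀H : (T' : Subgroup G) ⊔ V ≤ H := sup_le hTH' (hVN.trans (hN.trans inf_le_right))
    haveI : Group.IsSolvable ↥((T' : Subgroup G) ⊔ V) :=
      Core.BG.isSolvable_proper hG fun e => hH.1 (top_le_iff.mp (e ▸ hW₀H))
    have hVcop : (Nat.card V).Coprime (Nat.card (T' : Subgroup G)) := Nat.coprime_of_dvd fun t ht h1 h2 =>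
      (hVπ t ht h1).2 (mem_of_pGroup (π := {t | t = q}) T'.isPGroup' rfl t ht h2)
    obtain ⟨S', hPS', hS'H, hWS'⟩ := key _ hW₀H (sup_le hTP (hVN₀.trans inf_le_right)) (fun t ht hd hβ => by
      rw [Coprime.card_sup hVN (Coprime.inf_eq_bot_of_coprime hVcop)] at hd
      rcases ht.dvd_mul.mp hd with h | h
      · exact hqβ ((mem_of_pGroup (π := {t | t = q}) T'.isPGroup' rfl t ht h) ▸ hβ)
      · exact (hVπ t ht h).1.2.2.1 (alpha_subset_sigma hG hH hβ.1))
    set T₁ := (T' : Subgroup G) ⊓ Subgroup.centralizer ((S' : Subgroup G) : Set G)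
    have hTT₁ : ⁅V, (T' : Subgroup G)⁆ ≤ T₁ := by
      refine le_of_commutator_sylows (fun t ht => Coprime.mem_normalizer_of_conj_mem fun y hy => ?_)
        (fun v hv => Coprime.mem_normalizer_of_conj_mem fun y hy => ⟨(Subgroup.mem_normalizer_iff.mp (hVN hv) y).mp hy.1,
          conj_mem_centralizer (hWS' (Subgroup.mem_sup_right hv)) hy.2⟩) fun s hs => ?_
      · rw [Subgroup.mem_centralizer_iff.mp ((Subgroup.le_centralizer_iff_isMulCommutative.mpr hab) hy.1) t ht,
          mul_inv_cancel_right]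
        exact hy
      haveI := Fact.mk hs
      obtain ⟨Q₀⟩ := (inferInstance : Nonempty (Sylow s V))
      set Q := (Q₀ : Subgroup V).map V.subtype with hQdef
      have hQV : Q ≤ V := Subgroup.map_subtype_le _
      refine ⟨Q, hQV, ?_, ?_⟩
      · rw [hQdef, Subgroup.relIndex, Subgroup.subgroupOf,
          Subgroup.comap_map_eq_self_of_injective V.subtype_injective]
        exact Q₀.not_dvd_index
      by_cases hQC : Q ≤ CT
      · rw [Subgroup.commutator_eq_bot_iff_le_centralizer.mpr hQC]; exact bot_le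
      have hQp : IsPGroup s Q := Q₀.isPGroup'.map _
      have hQN : Q ≤ N := hQV.trans hVN
      obtain ⟨⟨hsM, hsH⟩, hsq⟩ := mem_tau1_of_mover hG hpl hM hH hnc hqM hqH T' hTM' hTH' hQp hQN hQC
      have hQ1 : Q ≠ ⊥ := fun e => hQC (e ▸ bot_le)
      have hQc : IsCyclic Q := isCyclic_of_rank_one hG hpl
        (ne_two_of_dvd hG (hsM.2.2.1.trans (Subgroup.card_subgroup_dvd_card M))) hsM.2.2.2.2 hQp
        (hQN.trans (hN.trans inf_le_left))
      obtain ⟨v, hv⟩ : ∃ v : Q, orderOf v = s := exists_prime_orderOf_dvd_card' s (by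
        obtain ⟨k, hk⟩ := IsPGroup.iff_card.mp hQp
        rw [hk]
        exact dvd_pow_self s fun e => hQ1 (Subgroup.eq_bot_of_card_eq _ (by rw [hk, e, pow_zero])))
      set R' := Subgroup.zpowers (v : G)
      have hR' : Nat.card R' = s := by rw [Nat.card_zpowers, Subgroup.orderOf_coe, hv]
      have hR'Q : R' ≤ Q := Subgroup.zpowers_le.mpr v.2
      -- `C_T(Q) = C_T(R')`
      have hfixeq : (T' : Subgroup G) ⊓ Subgroup.centralizer (R' : Set G) ≤ Subgroup.centralizer (Q : Set G) := by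
        obtain ⟨L', hL', hNL'⟩ := (eq_top_or_exists_le_coatom (Subgroup.normalizer (R' : Set G))).resolve_left
          (Core.BG.normalizer_ne_top_of_isPGroup hG (ne_bot_of_card_prime hR')
            (IsPGroup.of_card (by rw [hR', pow_one])))
        obtain ⟨hnc', -, hsL', -⟩ := normalizer_tau13 hG hpl hM hL' (Or.inl hsM) hR' hNL'
        have hCL' : Subgroup.centralizer (R' : Set G) ≤ L' := (Subgroup.centralizer_le_normalizer _).trans hNL'
        haveI := hQc
        have hQL' : Q ≤ L' := (Subgroup.le_centralizer_iff.mp (hR'Q.trans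
          (Subgroup.le_centralizer_iff_isMulCommutative.mpr inferInstance))).trans hCL'
        refine le_trans ?_ (Subgroup.le_centralizer_iff.mp (le_centralizer_sigmaCore_inf hG hpl hM hL' hnc'
          hsM.2.1 hsL' hQp (le_inf (hQN.trans (hN.trans inf_le_left)) hQL')))
        exact le_inf (inf_le_left.trans (le_sigmaCore hG hM hTM' (mem_of_pGroup T'.isPGroup' hqM)))
          (inf_le_right.trans hCL')
      have hR'N : R' ≤ N := hR'Q.trans hQN
      haveI : Group.IsSolvable R' :=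
        Coprime.isSolvable_of_isPGroup (IsPGroup.of_card (by rw [hR', pow_one]) : IsPGroup s R')
      have hcop' : (Nat.card R').Coprime (Nat.card (T' : Subgroup G)) :=
        coprime_of_pGroups hsq (IsPGroup.of_card (by rw [hR', pow_one])) T'.isPGroup'
      set X' := ⁅(T' : Subgroup G), R'⁆
      have hX'T : X' ≤ (T' : Subgroup G) := Coprime.commutator_le_of_le_normalizer hR'N
      have hX'R : ⁅X', R'⁆ = X' := Coprime.commutator_commutator_eq hR'N hcop'
      have hRS' : R' ≤ Subgroup.normalizer ((S' : Subgroup G) : Set G) :=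
        (hR'Q.trans hQV).trans (le_sup_right.trans hWS')
      have hX'C : X' ≤ Subgroup.centralizer ((S' : Subgroup G) : Set G) :=
        le_centralizer_of_tau1 hG hpl hH hσH hI hsH hqp hsq.symm hP hR'
          ((hR'Q.trans hQV).trans (hVN₀.trans inf_le_right)) (hX'T.trans hTP) (T'.isPGroup'.to_le hX'T) hq2
          (Subgroup.normalizer_commutator_ge_right _ _) hX'R S'.isPGroup' hPS' hRS'
          (hX'T.trans (le_sup_left.trans hWS'))
      refine Subgroup.commutator_comm_le _ _ |>.trans ?_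
      refine Subgroup.commutator_le.mpr fun t ht y hy => ?_
      obtain ⟨a, ha, c, hc, rfl⟩ := Coprime.exists_mul_of_mem_sup
        ((inf_le_left).trans (Subgroup.normalizer_commutator_ge_left (T' : Subgroup G) R') :
          (T' : Subgroup G) ⊓ Subgroup.centralizer (R' : Set G) ≤ _)
        ((Coprime.eq_commutator_sup_centralizer hR'N hcop').le ht)
      have hyc : y * c = c * y := Subgroup.mem_centralizer_iff.mp (hfixeq hc) y hy
      have e : ⁅a * c, y⁆ = a * (y * a⁻¹ * y⁻¹) := by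
        simp only [commutatorElement_def, mul_inv_rev]
        rw [show a * c * y * (c⁻¹ * a⁻¹) * y⁻¹ = a * (c * y * c⁻¹) * a⁻¹ * y⁻¹ by group, ← hyc]
        group
      rw [e]
      have hyS : y ∈ Subgroup.normalizer ((S' : Subgroup G) : Set G) := hWS' (Subgroup.mem_sup_right (hQV hy))
      exact mul_mem ⟨hX'T ha, hX'C ha⟩ ⟨(Subgroup.mem_normalizer_iff.mp (hQN hy) _).mp (inv_mem (hX'T ha)),
        conj_mem_centralizer hyS (inv_mem (hX'C ha))⟩
    have hTS : (T' : Subgroup G) ≤ Subgroup.centralizer ((S' : Subgroup G) : Set G) :=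
      hTV.trans ((Subgroup.commutator_comm_le _ _).trans (hTT₁.trans inf_le_right))
    have hS'M : (S' : Subgroup G) ≤ M :=
      ((Subgroup.le_centralizer_iff.mp hTS).trans hCTN).trans (hN.trans inf_le_left)
    obtain ⟨B', hB'S, hB', hB'3⟩ := exists_ea_three_le hG hpl hI S'
    exact not_pRankLE_of_ea hB' (hB'S.trans hS'M)
      (lt_of_lt_of_le (Nat.pow_lt_pow_right hp.out.one_lt (by norm_num)) hB'3) hpt.2.2.2.2
  · -- `q ∈ τ₂(H)`
    have hTc : ¬ IsCyclic T₀ := fun hc => hqH (mem_sigma_of_normalizer_le hG hpl hT₀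
      (fun e => hX₀1 (le_bot_iff.mp (e ▸ hXS₀))) (hT₀I.trans inf_le_right) hSi
      fun n hn => hNX (cj_eq_iff.mp (OddLocal.eq_of_card_eq_of_isCyclic hc
        ((cj_mono hXS₀).trans (cj_eq_iff.mpr hn).le) hXS₀ (card_cj _ _))))
    obtain ⟨U, -, hU, hUc⟩ := Transfer.PNormal.exists_normal_ea_sq hq2 hT₀ hTc
    set A := U.map T₀.subtype
    have hAI : A ≤ M ⊓ H := (Subgroup.map_subtype_le _).trans hT₀I
    obtain ⟨A0, hexc⟩ := exists_exc hG hpl hH hqH (hAI.trans inf_le_right) (PLocal.isEA_map hU T₀.subtype)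
      (by rw [Core.card_map_subtype, hUc])
    haveI := hexc.isNilpotent hG hpl
    obtain ⟨Tp, hTp, hTpN⟩ := le_normalizer_sylow_of_nilpotent' hG hH hσH
    have hPH : P ≤ H := Subgroup.le_normalizer.trans hNP
    have hPTp : P ≤ (Tp : Subgroup G) := by
      have h1 : IsPGroup p ↥((Tp : Subgroup G) ⊔ P) :=
        IsPGroup.to_sup_of_normal_left' Tp.isPGroup' hPp (hPH.trans hTpN)
      exact le_sup_right.trans (Tp.3 h1 le_sup_left).le
    have hPA : ⁅P, A⁆ = ⊥ := by
      refine Subgroup.card_eq_one.mp (Nat.eq_one_iff_not_exists_prime_dvd.mpr fun t ht hd => ?_)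
      have h1 : ⁅P, A⁆ ≤ ⁅M, M⁆ := Subgroup.commutator_mono hPM (hAI.trans inf_le_left)
      have h2 : ⁅P, A⁆ ≤ (Tp : Subgroup G) := (Subgroup.commutator_mono hPTp le_rfl).trans
        (Coprime.commutator_le_of_le_normalizer ((hAI.trans inf_le_right).trans hTpN))
      have htp : t = p := mem_of_pGroup (π := {t | t = p}) Tp.isPGroup' rfl t ht
        (hd.trans (Subgroup.card_dvd_of_le h2))
      exact hpt.2.2.2.1 (htp ▸ hd.trans (Subgroup.card_dvd_of_le h1))
    exact ne_bot_of_card_prime hP (le_bot_iff.mp (hexc.inf_centralizer_eq_bot hG hpl ▸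
      le_inf (hPTp.trans hTp) (Subgroup.commutator_eq_bot_iff_le_centralizer.mp hPA)))

end Cfsg.Agent.OddLocal.Sigma
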