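import Cfsg.Agent.OddLocal.Sigma.QBeta

/-! `F(M)` for a maximal subgroup `M` (BG 15.1, 15.2). -/

set_option autoImplicit false
set_option linter.style.haveILetI false
set_option linter.unusedSectionVars false

namespace Cfsg.Agent.OddLocal.Sigma

open Cfsg
open scoped commutatorElement

variable {G : Type*} [Group G] [Finite G]

theorem derived_le_sup_derived {M N E : Subgroup G} (hN : M ≤ Subgroup.normalizer (N : Set G)) (hEM : E ≤ M)
    (hsup : M ≤ N ⊔ E) : ⁅M, M⁆ ≤ N ⊔ ⁅E, E⁆ := by
  refine Subgroup.commutator_le.mpr fun a ha b hb => ?_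
  obtain ⟨n, hn, k, hk, rfl⟩ := Coprime.exists_mul_of_mem_sup (hEM.trans hN) (hsup ha)
  obtain ⟨n', hn', k', hk', rfl⟩ := Coprime.exists_mul_of_mem_sup (hEM.trans hN) (hsup hb)
  have hc : ∀ {g x : G}, g ∈ M → x ∈ N → g * x * g⁻¹ ∈ N ⊔ ⁅E, E⁆ := fun hg hx =>
    Subgroup.mem_sup_left ((Subgroup.mem_normalizer_iff.mp (hN hg) _).mp hx)
  have e : ⁅n * k, n' * k'⁆ = n * (k * n' * k⁻¹) * ⁅k, k'⁆ * (k' * n⁻¹ * k'⁻¹) * n'⁻¹ := by
    rw [commutatorElement_def, commutatorElement_def]; group
  rw [e]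
  exact mul_mem (mul_mem (mul_mem (mul_mem (Subgroup.mem_sup_left hn) (hc (hEM hk) hn'))
    (Subgroup.mem_sup_right (Subgroup.commutator_mem_commutator hk hk'))) (hc (hEM hk') (inv_mem hn)))
    (Subgroup.mem_sup_left (inv_mem hn'))

variable (hG : IsMinSimpleOddOrder G)
include hG
variable (hpl : ∀ (p : ℕ) [Fact p.Prime] (H : Subgroup G), H ≠ ⊤ → PLengthLE p 1 H)
include hpl

theorem le_normalizer_fittingHallOf (M : Subgroup G) :
    M ≤ Subgroup.normalizer (fittingHallOf M : Set G) := fun m hm =>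
  Coprime.mem_normalizer_of_conj_mem fun y hy => by
    obtain ⟨z, hz, rfl⟩ := hy
    exact ⟨⟨m, hm⟩ * z * ⟨m, hm⟩⁻¹, (fittingHall_normal M).conj_mem z hz _, rfl⟩

/-- An element outside `U M_σ` has a power of order in `κ(M)` conjugate into `K`. -/
theorem exists_kappa_power {M K U : Subgroup G} (hM : IsCoatom M) (h : IsSigmaDecomposition M K U) {a : G}
    (haM : a ∈ M) (ha : a ∉ U ⊔ sigmaCore M) :
    ∃ m ∈ M, ∃ i : ℕ, a ^ i ≠ 1 ∧ m * a ^ i * m⁻¹ ∈ K := by
  set N := U ⊔ sigmaCore M
  obtain ⟨k₀, hk₀, n₀, hn₀, ea⟩ := exists_kappa_mul h haM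
  haveI : (N.subgroupOf M).Normal := (Subgroup.normal_subgroupOf_iff_le_normalizer
    (sup_le h.compl.1 (sigmaCore_le M))).mpr (decomp_le_normalizer h)
  have hndvd : ¬ (orderOf a).Coprime (Nat.card K) := by
    intro hco
    have h1 : (QuotientGroup.mk' (N.subgroupOf M)) ⟨a, haM⟩ = QuotientGroup.mk' (N.subgroupOf M) ⟨k₀, h.hall.1 hk₀⟩ := by
      refine QuotientGroup.eq.mpr ?_
      rw [Subgroup.mem_subgroupOf]
      show a⁻¹ * k₀ ∈ N
      rw [ea, show (k₀ * n₀)⁻¹ * k₀ = n₀⁻¹ by group]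
      exact inv_mem hn₀
    have h2 : orderOf (QuotientGroup.mk' (N.subgroupOf M) ⟨a, haM⟩) ∣ orderOf a := by
      rw [← Subgroup.orderOf_mk a haM]; exact orderOf_map_dvd _ _
    have h3 : orderOf (QuotientGroup.mk' (N.subgroupOf M) ⟨a, haM⟩) ∣ Nat.card K := by
      rw [h1]
      exact (orderOf_map_dvd _ _).trans (by rw [Subgroup.orderOf_mk]; exact Subgroup.orderOf_dvd_natCard K hk₀)
    have h4 := orderOf_eq_one_iff.mp (Nat.eq_one_of_dvd_coprimes hco h2 h3)
    exact ha (Subgroup.mem_subgroupOf.mp ((QuotientGroup.eq_one_iff (⟨a, haM⟩ : M)).mp h4))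
  obtain ⟨p, hp, hpa, hpK⟩ := Nat.Prime.not_coprime_iff_dvd.mp hndvd
  set u := a ^ (orderOf a / p) with hu'
  have hu : orderOf u = p := orderOf_pow_orderOf_div (orderOf_pos a).ne' hpa
  haveI := Core.BG.isSolvable_proper hG hM.1
  obtain ⟨m, hm, hmu⟩ := exists_conj_le_hallOf h.hall (Q := Subgroup.zpowers u)
    (Subgroup.zpowers_le.mpr (pow_mem haM _))
    (fun q hq hqd => by
      rw [Nat.card_zpowers, hu] at hqd
      rw [(Nat.prime_dvd_prime_iff_eq hq hp).mp hqd]
      exact h.hall.2.1 p hp hpK)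
  refine ⟨m, hm, orderOf a / p, fun e => hp.one_lt.ne' ?_, hmu (Subgroup.mem_map_of_mem _ (Subgroup.mem_zpowers u))⟩
  rw [← hu, hu', e, orderOf_one]

/-- `C_M(M_F) ≤ M'` when `κ(M) ≠ ∅`. -/
theorem centralizer_fittingHallOf_le {M K U : Subgroup G} (hM : IsCoatom M) (h : IsSigmaDecomposition M K U)
    (hK1 : K ≠ ⊥) : M ⊓ Subgroup.centralizer (fittingHallOf M : Set G) ≤ ⁅M, M⁆ := by
  rw [(derived_eq_and_fixed_le hG hpl hM h hK1).1]
  intro c hc
  obtain ⟨hcM, hcC⟩ := Subgroup.mem_inf.mp hc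
  by_contra hcN
  obtain ⟨m, hm, i, hi, hk⟩ := exists_kappa_power hG hpl hM h hcM hcN
  have hk1 : m * c ^ i * m⁻¹ ≠ 1 := fun e => hi (by
    rw [show c ^ i = m⁻¹ * (m * c ^ i * m⁻¹) * m by group, e]; group)
  obtain ⟨-, -, -, hfix⟩ := kappa_hall_facts hG hpl hM h.hall hK1
  obtain ⟨L, hL⟩ := exists_partner hG hpl hM h.hall hK1
  have hle : fittingHallOf M ≤ sigmaCore M ⊓ Subgroup.centralizer (K : Set G) := by
    rw [← hfix _ hk hk1]
    refine le_inf (fittingHallOf_le_sigmaCore hG hpl hM) fun y hy => Subgroup.mem_centralizer_singleton_iff.mpr ?_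
    have h1 := Subgroup.mem_centralizer_iff.mp (pow_mem hcC i) (m⁻¹ * y * m)
      ((Subgroup.mem_set_normalizer_iff''.mp (le_normalizer_fittingHallOf hG hpl M hm) y).mp hy)
    calc y * (m * c ^ i * m⁻¹) = m * ((m⁻¹ * y * m) * c ^ i) * m⁻¹ := by group
      _ = m * (c ^ i * (m⁻¹ * y * m)) * m⁻¹ := by rw [h1]
      _ = m * c ^ i * m⁻¹ * y := by group
  haveI := hL.cyclic
  exact (fixed_le_fittingHallOf hG hpl hM h hK1).2
    (isCyclic_of_injective (Subgroup.inclusion (hle.trans (le_sup_right : _ ≤ K ⊔ _))) (Subgroup.inclusion_injective _))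

/-- `C_M(M_F)` is nilpotent. -/
theorem isNilpotent_centralizer_fittingHallOf {M : Subgroup G} (hM : IsCoatom M) :
    Group.IsNilpotent ↥(M ⊓ Subgroup.centralizer (fittingHallOf M : Set G)) := by
  obtain ⟨⟨K, hK⟩, hc⟩ := kappa_hall hG hpl hM
  obtain ⟨U, h⟩ := exists_decomp hG hpl hM (hc K hK) hK
  haveI := fittingHall_normal M
  set C := M ⊓ Subgroup.centralizer (fittingHallOf M : Set G) with hC
  set f := (QuotientGroup.mk' (fittingHall M)).comp (Subgroup.inclusion (inf_le_left : C ≤ M)) with hf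
  have hker : f.ker ≤ Subgroup.center C := by
    intro c hcK
    refine Subgroup.mem_center_iff.mpr fun d => Subtype.ext ?_
    have h1 : (c : G) ∈ fittingHallOf M :=
      ⟨Subgroup.inclusion inf_le_left c, (QuotientGroup.eq_one_iff _).mp (MonoidHom.mem_ker.mp hcK), rfl⟩
    exact (Subgroup.mem_centralizer_iff.mp (Subgroup.mem_inf.mp d.2).2 c h1).symm
  have himg : Group.IsNilpotent f.range := by
    by_cases hK1 : K = ⊥
    · have hn : Group.IsNilpotent (sigmaCore M) := by
        by_contra hn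
        exact (decomp_of_not_nilpotent hG hpl hM h hn).2 hK1
      have hle := sigmaCore_le_fittingHallOf hG hpl hM hn
      have hκ := decomp_kappa_empty hG hpl h hK1
      obtain ⟨hE, -, -⟩ := decomp_facts hG hpl hM h
      rw [hK1, sup_bot_eq] at hE
      obtain ⟨⟨A, hAU, -, hA, hfix⟩, -⟩ := frobenius_type_criterion hG hpl hM hE
        fun e he he1 hp => regular_of_kappa_empty hG hpl hM hκ (hE.1 he) he1 hp
      have hUσ : (Nat.card U).Coprime (Nat.card (sigmaCore M)) := Nat.coprime_of_dvd fun r hr h1 h2 =>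
        complIn_notMem_sigma hG hM hE hr h1 (mem_sigma_of_dvd hr h2)
      have hrange : f.range ≤ (A.subgroupOf M).map (QuotientGroup.mk' (fittingHall M)) := by
        rintro _ ⟨c, rfl⟩
        obtain ⟨hcM, hcC⟩ := Subgroup.mem_inf.mp c.2
        obtain ⟨u, hu, s, hs, e⟩ := hE.2.2.2 c hcM
        -- `u` centralizes `M_σ`
        have huC : ∀ y ∈ sigmaCore M, u * y * u⁻¹ = y := by
          set m := Nat.card (sigmaCore M)
          have hun : u ∈ Subgroup.normalizer (sigmaCore M : Set G) := le_normalizer_sigmaCore M (hE.1 hu)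
          set φ : MulAut (sigmaCore M) := (sigmaCore M).normalizerMonoidHom ⟨u, hun⟩ with hφ
          have hφs : φ = (MulAut.conj (⟨s, hs⟩ : sigmaCore M))⁻¹ := by
            rw [← map_inv]
            refine MulEquiv.ext fun y => Subtype.ext ?_
            show u * (y : G) * u⁻¹ = s⁻¹ * (y : G) * s⁻¹⁻¹
            have h1 := Subgroup.mem_centralizer_iff.mp hcC (s⁻¹ * y * s) (hle (mul_mem (mul_mem (inv_mem hs) y.2) hs))
            rw [e] at h1
            have h2 : u * (y : G) = (u * s) * (s⁻¹ * y * s) * s⁻¹ := by group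
            rw [h2, ← h1]
            group
          have h1 : orderOf φ ∣ Nat.card U := (orderOf_map_dvd _ _).trans (by
            rw [Subgroup.orderOf_mk]; exact Subgroup.orderOf_dvd_natCard U hu)
          have h2 : orderOf φ ∣ m := by
            rw [hφs, orderOf_inv]
            exact (orderOf_map_dvd _ _).trans (orderOf_dvd_natCard _)
          intro y hy
          have h3 := DFunLike.congr_fun (orderOf_eq_one_iff.mp (Nat.eq_one_of_dvd_coprimes hUσ h1 h2)) ⟨y, hy⟩
          exact congrArg Subtype.val h3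
        obtain ⟨y, hy, hy1⟩ := (sigmaCore M).bot_or_exists_ne_one.resolve_left (sigmaCore_ne_bot hG hM)
        have huA : u ∈ A := hfix y hy hy1 (Subgroup.mem_inf.mpr ⟨hu, Subgroup.mem_centralizer_singleton_iff.mpr
          (mul_inv_eq_iff_eq_mul.mp (huC y hy))⟩)
        refine ⟨⟨u, hE.1 hu⟩, Subgroup.mem_subgroupOf.mpr huA, QuotientGroup.eq.mpr ?_⟩
        obtain ⟨z, hz, hze⟩ := hle hs
        rwa [show (⟨u, hE.1 hu⟩ : M)⁻¹ * Subgroup.inclusion inf_le_left c = z from Subtype.ext (by
          show u⁻¹ * (c : G) = _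
          rw [e, inv_mul_cancel_left]; exact hze.symm)]
      haveI : Group.IsNilpotent (A.subgroupOf M) := by
        haveI := hA
        letI : CommGroup (A.subgroupOf M) :=
          { (inferInstance : Group (A.subgroupOf M)) with
            mul_comm := fun a b => Subtype.ext (Subtype.ext
              (congrArg Subtype.val (mul_comm' (⟨(a : M), a.2⟩ : A) ⟨(b : M), b.2⟩) :)) }
        infer_instance
      exact Core.isNilpotent_of_le hrange (Core.isNilpotent_map inferInstance _)
    · refine Core.isNilpotent_of_le (K := (commutator M).map (QuotientGroup.mk' (fittingHall M))) ?_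
        (derived_quotient_nilpotent hG hpl hM)
      rintro _ ⟨c, rfl⟩
      have h1 := centralizer_fittingHallOf_le hG hpl hM h hK1 c.2
      rw [← M.map_subtype_commutator] at h1
      obtain ⟨z, hz, e⟩ := h1
      exact ⟨z, hz, congrArg (QuotientGroup.mk' (fittingHall M)) (Subtype.ext e)⟩
  haveI := himg
  exact isNilpotent_of_ker_le_center f.rangeRestrict (by rwa [MonoidHom.ker_rangeRestrict])

theorem fittingOf_eq {M : Subgroup G} (hM : IsCoatom M) :
    fittingOf M = (M ⊓ Subgroup.centralizer (fittingHallOf M : Set G)) ⊔ fittingHallOf M := by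
  haveI := fittingHall_normal M
  refine le_antisymm (fun a ha => ?_) (sup_le ?_ ?_)
  · have haM : a ∈ M := Subgroup.map_subtype_le _ ha
    have hFF : fittingHallOf M ≤ fittingOf M :=
      Subgroup.map_mono (Core.le_fittingSubgroup inferInstance (fittingHall_props M).1)
    haveI := isNilpotent_fittingOf M
    set n := Nat.card (fittingHallOf M)
    set m := (fittingHallOf M).relIndex M
    have hco : n.Coprime m := coprime_fittingHallOf M
    have hord : orderOf a ∣ n * m := by
      rw [Core.card_mul_relIndex (fittingHallOf_le M)]; exact Subgroup.orderOf_dvd_natCard M haM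
    have hcomm : a ^ n ∈ M ⊓ Subgroup.centralizer (fittingHallOf M : Set G) := by
      refine Subgroup.mem_inf.mpr ⟨pow_mem haM n, Subgroup.mem_centralizer_iff.mpr fun y hy => ?_⟩
      have h1 : orderOf (a ^ n) ∣ m := orderOf_dvd_of_pow_eq_one (by
        rw [← pow_mul]; exact orderOf_dvd_iff_pow_eq_one.mp hord)
      have h2 := (OddLocal.commute_of_coprime_orderOf (x := (⟨y, hFF hy⟩ : fittingOf M))
        (y := ⟨a ^ n, pow_mem ha n⟩) (by
        rw [Subgroup.orderOf_mk, Subgroup.orderOf_mk]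
        exact (hco.coprime_dvd_right h1).coprime_dvd_left (Subgroup.orderOf_dvd_natCard _ hy))).eq
      exact congrArg Subtype.val h2
    have hmem : a ^ m ∈ fittingHallOf M := by
      refine ⟨⟨a ^ m, pow_mem haM m⟩, ?_, rfl⟩
      refine Subgroup.zpowers_le.mp (Core.le_of_coprime_index (H := Subgroup.zpowers _) (N := fittingHall M) ?_)
      rw [Nat.card_zpowers, Subgroup.orderOf_mk]
      have h3 : (fittingHall M).index = m := by
        show _ = (fittingHallOf M).relIndex M
        rw [fittingHallOf, Subgroup.relIndex, Subgroup.subgroupOf,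
          Subgroup.comap_map_eq_self_of_injective M.subtype_injective]
      rw [h3]
      refine hco.coprime_dvd_left (orderOf_dvd_of_pow_eq_one ?_)
      rw [← pow_mul, mul_comm]; exact orderOf_dvd_iff_pow_eq_one.mp hord
    have hbez := Nat.gcd_eq_gcd_ab n m
    rw [hco.gcd_eq_one] at hbez
    have : a = (a ^ n) ^ (Nat.gcdA n m) * (a ^ m) ^ (Nat.gcdB n m) := by
      rw [← zpow_natCast a n, ← zpow_natCast a m, ← zpow_mul, ← zpow_mul, ← zpow_add, ← hbez, Nat.cast_one,
        zpow_one]
    rw [this]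
    exact mul_mem (Subgroup.mem_sup_left (zpow_mem hcomm _)) (Subgroup.mem_sup_right (zpow_mem hmem _))
  · intro c hc
    have hcM := (Subgroup.mem_inf.mp hc).1
    refine ⟨⟨c, hcM⟩, Core.le_fittingSubgroup (N := (M ⊓ Subgroup.centralizer (fittingHallOf M : Set G)).subgroupOf M)
      ?_ ?_ (Subgroup.mem_subgroupOf.mpr hc), rfl⟩
    · exact (Subgroup.normal_subgroupOf_iff_le_normalizer inf_le_left).mpr fun m hm =>
        mem_normalizer_inf (Subgroup.le_normalizer hm)
          (mem_normalizer_centralizer (le_normalizer_fittingHallOf hG hpl M hm))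
    · haveI := isNilpotent_centralizer_fittingHallOf hG hpl hM
      exact Group.nilpotent_of_mulEquiv (Subgroup.subgroupOfEquivOfLe inf_le_left).symm
  · exact Subgroup.map_mono (Core.le_fittingSubgroup inferInstance (fittingHall_props M).1)

theorem second_derived_le_fittingOf {M : Subgroup G} (hM : IsCoatom M) :
    ⁅⁅M, M⁆, ⁅M, M⁆⁆ ≤ fittingOf M := by
  obtain ⟨⟨K, hK⟩, hc⟩ := kappa_hall hG hpl hM
  obtain ⟨U, h⟩ := exists_decomp hG hpl hM (hc K hK) hK
  have hσM := sigmaCore_le M
  have hM'M : ⁅M, M⁆ ≤ M := (derived_lt hG hpl hM).le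
  by_cases hn : Group.IsNilpotent (sigmaCore M)
  · refine le_trans ?_ ((sigmaCore_le_fittingHallOf hG hpl hM hn).trans
      ((le_sup_right : fittingHallOf M ≤ _).trans (fittingOf_eq hG hpl hM).ge))
    obtain ⟨E, hE, -⟩ := exists_compl_ge hG hM (bot_le : (⊥ : Subgroup G) ≤ M)
      (fun r hr hd => absurd (by rwa [Subgroup.card_bot] at hd) hr.not_dvd_one)
    have hME : M ≤ sigmaCore M ⊔ E := fun g hg => by
      obtain ⟨a, ha, b, hb, rfl⟩ := hE.2.2.2 g hg
      exact mul_mem (Subgroup.mem_sup_right ha) (Subgroup.mem_sup_left hb)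
    have hE'E : ⁅E, E⁆ ≤ E := Coprime.commutator_le_of_le_normalizer Subgroup.le_normalizer
    haveI := complIn_derived_nilpotent hG hM hE
    have hab : IsMulCommutative ↥⁅E, E⁆ := isMulCommutative_of_nilpotent_le hG hpl hM (hE'E.trans hE.1)
      fun q hq hd => complIn_notMem_sigma hG hM hE hq (hd.trans (Subgroup.card_dvd_of_le hE'E))
    have h1 := derived_le_sup_derived (le_normalizer_sigmaCore M) hE.1 hME
    exact derived_le_of_abelian_supplement (hM'M.trans (le_normalizer_sigmaCore M)) (sigmaCore_le_derived hG hM)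
      (Subgroup.commutator_mono hE.1 hE.1) hab h1
  · obtain ⟨hU, hK1⟩ := decomp_of_not_nilpotent hG hpl hM h hn
    obtain ⟨Q, hQ⟩ := exists_qData hG hpl hM h hn
    have hder := (derived_eq_and_fixed_le hG hpl hM h hK1).1
    rw [hU, bot_sup_eq] at hder
    haveI := Fact.mk hQ.prime
    haveI : (Q.subgroupOf (sigmaCore M)).Normal :=
      (Subgroup.normal_subgroupOf_iff_le_normalizer hQ.le).mpr (hσM.trans hQ.normal)
    obtain ⟨N, hN⟩ := Subgroup.exists_right_complement'_of_coprime (N := Q.subgroupOf (sigmaCore M)) (by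
      obtain ⟨k, hk⟩ := IsPGroup.iff_card.mp hQ.pgroup
      rw [Core.card_subgroupOf hQ.le, hk]
      exact (hQ.prime.coprime_iff_not_dvd.mpr hQ.sylow).pow_left k) 
    have hD := complIn_of_complement' hQ.le hN
    set D := N.map (sigmaCore M).subtype
    have hs := qStructure hG hpl hM h hn hQ hD
    rw [hder]
    have h1 : ⁅sigmaCore M, sigmaCore M⁆ ≤ Q ⊔ ⁅D, D⁆ :=
      derived_le_sup_derived (hσM.trans hQ.normal) hD.2.1 fun g hg => by
        obtain ⟨a, ha, b, hb, rfl⟩ := hD.2.2.2 g hg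
        exact mul_mem (Subgroup.mem_sup_left ha) (Subgroup.mem_sup_right hb)
    have hnil : Group.IsNilpotent ↥(Q ⊔ ⁅D, D⁆) := by
      set W := Q ⊔ ⁅D, D⁆ with hW
      have hcomm : ⁅D, D⁆ ≤ Subgroup.centralizer (Q : Set G) := hs.derived
      have hQn : (Q.subgroupOf W).Normal := (Subgroup.normal_subgroupOf_iff_le_normalizer le_sup_left).mpr
        (sup_le Subgroup.le_normalizer (hcomm.trans (Subgroup.centralizer_le_normalizer _)))
      have hDn : (⁅D, D⁆.subgroupOf W).Normal := (Subgroup.normal_subgroupOf_iff_le_normalizer le_sup_right).mpr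
        (sup_le ((Subgroup.le_centralizer_iff.mp hcomm).trans (Subgroup.centralizer_le_normalizer _))
          Subgroup.le_normalizer)
      have hDD : Group.IsNilpotent ↥⁅D, D⁆ :=
        Core.isNilpotent_of_le (Coprime.commutator_le_of_le_normalizer Subgroup.le_normalizer) hs.nilpotent
      have h2 := Core.isNilpotent_sup_of_normal hQn hDn
        (haveI := hQ.pgroup.isNilpotent; Group.nilpotent_of_mulEquiv (Subgroup.subgroupOfEquivOfLe le_sup_left).symm)
        (haveI := hDD; Group.nilpotent_of_mulEquiv (Subgroup.subgroupOfEquivOfLe le_sup_right).symm)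
      rw [← Subgroup.subgroupOf_sup le_sup_left le_sup_right, Subgroup.subgroupOf_self] at h2
      haveI := h2
      exact Group.nilpotent_of_mulEquiv Subgroup.topEquiv
    have hle : ⁅sigmaCore M, sigmaCore M⁆ ≤ M :=
      (Coprime.commutator_le_of_le_normalizer Subgroup.le_normalizer).trans hσM
    intro x hx
    refine ⟨⟨x, hle hx⟩, Core.le_fittingSubgroup (N := (⁅sigmaCore M, sigmaCore M⁆).subgroupOf M) ?_ ?_
      (Subgroup.mem_subgroupOf.mpr hx), rfl⟩
    · exact (Subgroup.normal_subgroupOf_iff_le_normalizer hle).mpr fun m hm =>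
        mem_normalizer_commutator (le_normalizer_sigmaCore M hm) (le_normalizer_sigmaCore M hm)
    · haveI := Core.isNilpotent_of_le h1 hnil
      exact Group.nilpotent_of_mulEquiv (Subgroup.subgroupOfEquivOfLe hle).symm

theorem fittingOf_le_derived {M : Subgroup G} (hM : IsCoatom M) (hκ : (kappa M).Nonempty) :
    fittingOf M ≤ ⁅M, M⁆ := by
  obtain ⟨⟨K, hK⟩, hc⟩ := kappa_hall hG hpl hM
  obtain ⟨U, h⟩ := exists_decomp hG hpl hM (hc K hK) hK
  have hK1 : K ≠ ⊥ := by
    rintro rfl
    rw [decomp_kappa_empty hG hpl h rfl] at hκ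
    exact Set.not_nonempty_empty hκ
  rw [fittingOf_eq hG hpl hM]
  exact sup_le (centralizer_fittingHallOf_le hG hpl hM h hK1)
    ((fittingHallOf_le_sigmaCore hG hpl hM).trans (sigmaCore_le_derived hG hM))

end Cfsg.Agent.OddLocal.Sigma
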