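import Cfsg.Agent.OddLocal.Sigma.FittingM

/-! Hall subgroups of `M_σ` and the `σ'`-part of `F(M)` (BG 15.1). -/

set_option autoImplicit false
set_option linter.style.haveILetI false
set_option linter.unusedSectionVars false

namespace Cfsg.Agent.OddLocal.Sigma

open Cfsg
open scoped commutatorElement

variable {G : Type*} [Group G] [Finite G]

theorem hall_normal_of_isNilpotent {X : Type*} [Group X] [Finite X] [Group.IsNilpotent X] {H : Subgroup X}
    (hH : (Nat.card H).Coprime H.index) : H.Normal := by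
  refine ⟨fun y hy a => ?_⟩
  suffices h : H ≤ H.comap (MulAut.conj a).toMonoidHom from h hy
  refine Core.le_of_forall_exists_sylow_le fun r hr => ?_
  haveI := Fact.mk hr
  obtain ⟨T⟩ := (inferInstance : Nonempty (Sylow r H))
  refine ⟨T, ?_⟩
  by_cases hd : r ∣ Nat.card H
  · have hi : ¬ r ∣ ((T : Subgroup H).map H.subtype).index := by
      rw [Subgroup.index_map_subtype]
      intro h'
      rcases hr.dvd_mul.mp h' with h'' | h''
      · exact T.not_dvd_index h''
      · exact hr.not_dvd_one (hH.gcd_eq_one ▸ Nat.dvd_gcd hd h'')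
    set S : Sylow r X := (T.isPGroup'.map H.subtype).toSylow hi with hS
    haveI hSn : (S : Subgroup X).Normal :=
      Core.isNilpotent_iff_forall_sylow_normal.mp inferInstance r inferInstance S
    rintro x hx
    exact Subgroup.map_subtype_le (T : Subgroup H) (hSn.conj_mem x hx a)
  · have : (T : Subgroup H) = ⊥ := Subgroup.eq_bot_of_card_eq _ (by
      obtain ⟨k, hk⟩ := IsPGroup.iff_card.mp T.isPGroup'
      rcases Nat.eq_zero_or_pos k with rfl | hk0
      · simpa using hk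
      · exact absurd ((dvd_pow_self r hk0.ne').trans (hk ▸ Subgroup.card_subgroup_dvd_card _)) hd)
    rw [this, Subgroup.map_bot]; exact bot_le

variable (hG : IsMinSimpleOddOrder G)
include hG
variable (hpl : ∀ (p : ℕ) [Fact p.Prime] (H : Subgroup G), H ≠ ⊤ → PLengthLE p 1 H)
include hpl

/-- No Hall subgroup of `M_σ` lies in `C_{M_σ}(K)`. -/
theorem hall_not_le_fixed {M K H : Subgroup G} (hM : IsCoatom M) (hK : IsPiHallOf (kappa M) K M) (hK1 : K ≠ ⊥)
    (hH : H ≤ sigmaCore M) (hH1 : H ≠ ⊥) (hHall : (Nat.card H).Coprime (H.relIndex (sigmaCore M))) :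
    ¬ H ≤ sigmaCore M ⊓ Subgroup.centralizer (K : Set G) := by
  intro hle
  obtain ⟨L, hL⟩ := exists_partner hG hpl hM hK hK1
  obtain ⟨r, hr, hd⟩ := Nat.exists_prime_and_dvd fun e => hH1 (Subgroup.eq_bot_of_card_eq _ e)
  haveI := Fact.mk hr
  obtain ⟨T⟩ := (inferInstance : Nonempty (Sylow r H))
  set T' := (T : Subgroup H).map H.subtype
  have hT'H : T' ≤ H := Subgroup.map_subtype_le _
  have hi : ¬ r ∣ (T'.subgroupOf (sigmaCore M)).index := by
    show ¬ r ∣ T'.relIndex (sigmaCore M)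
    rw [← Subgroup.relIndex_mul_relIndex T' H (sigmaCore M) hT'H hH]
    intro h'
    rcases hr.dvd_mul.mp h' with h'' | h''
    · rw [show T'.relIndex H = (T : Subgroup H).index from by
        rw [Subgroup.relIndex, Subgroup.subgroupOf, Subgroup.comap_map_eq_self_of_injective H.subtype_injective]] at h''
      exact T.not_dvd_index h''
    · exact hr.not_dvd_one (hHall.gcd_eq_one ▸ Nat.dvd_gcd hd h'')
  set S : Sylow r (sigmaCore M) :=
    ((T.isPGroup'.map H.subtype).comap_subtype : IsPGroup r (T'.subgroupOf (sigmaCore M))).toSylow hi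
  obtain ⟨S', hS'⟩ := exists_sylow_eq_map hG hpl hM (mem_sigma_of_dvd hr (hd.trans (Subgroup.card_dvd_of_le hH))) S
  refine hL.sylow_not_le hG hpl hM hK hK1 S' (hd.trans (Subgroup.card_dvd_of_le hle)) ?_
  rw [hS']
  show (T'.subgroupOf (sigmaCore M)).map (sigmaCore M).subtype ≤ _
  rw [Subgroup.subgroupOf_map_subtype]
  exact inf_le_left.trans (hT'H.trans hle)

/-- A `σ'`-subgroup of `M` centralizing a non-trivial Hall subgroup of `M_σ` is cyclic with primes in `τ₂(M)`. -/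
theorem centralizing_cyclic {M H X : Subgroup G} (hM : IsCoatom M) (hH : H ≤ sigmaCore M) (hH1 : H ≠ ⊥)
    (hHall : (Nat.card H).Coprime (H.relIndex (sigmaCore M))) (hXM : X ≤ M)
    (hXσ : ∀ q : ℕ, q.Prime → q ∣ Nat.card X → q ∉ sigma M) (hXC : X ≤ Subgroup.centralizer (H : Set G)) :
    IsCyclic X ∧ ∀ q : ℕ, q.Prime → q ∣ Nat.card X → q ∈ tau2 M := by
  obtain ⟨⟨K, hK⟩, hc⟩ := kappa_hall hG hpl hM
  obtain ⟨U, h⟩ := exists_decomp hG hpl hM (hc K hK) hK
  haveI hMs := Core.BG.isSolvable_proper hG hM.1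
  obtain ⟨y, hy, hy1⟩ := H.bot_or_exists_ne_one.resolve_left hH1
  have hprimes : ∀ q : ℕ, q.Prime → q ∣ Nat.card X → q ∈ tau2 M ∧ q ∉ kappa M := by
    intro q hq hd
    haveI := Fact.mk hq
    obtain ⟨x, hx⟩ := exists_prime_orderOf_dvd_card' q hd
    have hQ : Nat.card (Subgroup.zpowers (x : G)) = q := by rw [Nat.card_zpowers, Subgroup.orderOf_coe, hx]
    have hQM : Subgroup.zpowers (x : G) ≤ M := Subgroup.zpowers_le.mpr (hXM x.2)
    have hκ : q ∉ kappa M := by
      intro hκ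
      have hK1 : K ≠ ⊥ := fun e => hK.2.2 q hq hκ (by rw [e, Subgroup.relIndex_bot_left]; exact hκ.2.1)
      obtain ⟨m, hm, hle⟩ := exists_conj_le_hallOf hK hQM (fun r hr hrd => eq_prime_of_dvd_card hQ hr hrd ▸ hκ)
      obtain ⟨-, -, hfixP, -⟩ := kappa_hall_facts hG hpl hM hK hK1
      have hσn := cj_eq_iff.mpr (le_normalizer_sigmaCore M hm)
      refine hall_not_le_fixed hG hpl hM hK hK1 (H := cj m H) ((cj_mono hH).trans hσn.le) ?_ ?_ ?_
      · exact fun e => hH1 (Subgroup.eq_bot_of_card_eq _ (by rw [← card_cj m H, e, Subgroup.card_bot]))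
      · conv_rhs => rw [← hσn, cj, cj, Subgroup.relIndex_map_map_of_injective _ _ (MulAut.conj m).injective]
        rwa [card_cj]
      · rw [← hfixP q (cj m (Subgroup.zpowers (x : G))) (by rw [card_cj, hQ]) hle, ← cj_centralizer]
        refine le_inf ((cj_mono hH).trans hσn.le) (cj_mono ?_)
        exact Subgroup.le_centralizer_iff.mp ((Subgroup.zpowers_le.mpr x.2).trans hXC)
    refine ⟨(fixed_classes hG hpl hM hQ hQM (hXσ q hq hd) fun e => hy1 ?_).resolve_left hκ, hκ⟩
    refine Subgroup.mem_bot.mp (e.le (Subgroup.mem_inf.mpr ⟨hH hy, ?_⟩))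
    exact Subgroup.le_centralizer_iff.mp ((Subgroup.zpowers_le.mpr x.2).trans hXC) hy
  refine ⟨?_, fun q hq hd => (hprimes q hq hd).1⟩
  -- conjugate into `U`
  obtain ⟨hE, hUp, hKU⟩ := decomp_facts hG hpl hM h
  have hUhall : IsPiHallOf {r | r.Prime ∧ r ∉ sigma M ∧ r ∉ kappa M} U M := by
    refine ⟨h.compl.1, fun r hr hd => ⟨hr, hUp r hr hd⟩, fun r hr hrπ hd => ?_⟩
    rw [OddLocal.IsComplIn.relIndex_left h.compl] at hd
    have hKσ : sigmaCore M ⊓ K = ⊥ := Coprime.inf_eq_bot_of_coprime (Nat.coprime_of_dvd fun r hr h1 h2 =>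
      (hK.2.1 r hr h1).2.2.1 (mem_sigma_of_dvd hr h2))
    rw [sup_comm, Coprime.card_sup (hK.1.trans (le_normalizer_sigmaCore M)) hKσ] at hd
    rcases hr.dvd_mul.mp hd with h' | h'
    · exact hrπ.2.1 (mem_sigma_of_dvd hr h')
    · exact hrπ.2.2 (hK.2.1 r hr h')
  obtain ⟨m, hm, hXU⟩ := exists_conj_le_hallOf hUhall hXM
    (fun r hr hd => ⟨hr, hXσ r hr hd, (hprimes r hr hd).2⟩)
  set X' := cj m X with hX'
  have hX'M : X' ≤ M := hXU.trans h.compl.1
  have hσn := cj_eq_iff.mpr (le_normalizer_sigmaCore M hm)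
  have hy' : m * y * m⁻¹ ∈ sigmaCore M := hσn.le ⟨y, hH hy, rfl⟩
  have hy'1 : m * y * m⁻¹ ≠ 1 := fun e => hy1 (by rw [show y = m⁻¹ * (m * y * m⁻¹) * m by group, e]; group)
  have hX'C : X' ≤ Subgroup.centralizer ({m * y * m⁻¹} : Set G) := by
    rintro _ ⟨a, ha, rfl⟩
    refine Subgroup.mem_centralizer_singleton_iff.mpr ?_
    show m * a * m⁻¹ * (m * y * m⁻¹) = m * y * m⁻¹ * (m * a * m⁻¹)
    rw [show m * a * m⁻¹ * (m * y * m⁻¹) = m * (a * y) * m⁻¹ by group,
      ← Subgroup.mem_centralizer_iff.mp (hXC ha) y hy]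
    group
  have hab : IsMulCommutative X' := by
    by_cases hK1 : K = ⊥
    · have hκ := decomp_kappa_empty hG hpl h hK1
      rw [hK1, sup_bot_eq] at hE
      obtain ⟨⟨A, -, -, hA, hfix⟩, -⟩ := frobenius_type_criterion hG hpl hM hE
        fun e he he1 hp => regular_of_kappa_empty hG hpl hM hκ (hE.1 he) he1 hp
      haveI := hA
      exact isMulCommutative_of_le fun a ha => hfix _ hy' hy'1 (Subgroup.mem_inf.mpr ⟨hXU ha, hX'C ha⟩)
    · haveI := decomp_abelian hG hpl hM h hK1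
      exact isMulCommutative_of_le hXU
  haveI := hab
  haveI hZ : IsZGroup X' := by
    refine ⟨fun r hr S => ?_⟩
    haveI := Fact.mk hr
    by_contra hcyc
    have hrd : r ∣ Nat.card X' := by
      by_contra hnd
      refine hcyc ?_
      have : (S : Subgroup X') = ⊥ := Subgroup.eq_bot_of_card_eq _ (by
        obtain ⟨k, hk⟩ := IsPGroup.iff_card.mp S.isPGroup'
        rcases Nat.eq_zero_or_pos k with rfl | hk0
        · simpa using hk
        · exact absurd ((dvd_pow_self r hk0.ne').trans (hk ▸ Subgroup.card_subgroup_dvd_card _)) hnd)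
      rw [this]; infer_instance
    have hrX : r ∣ Nat.card X := by rwa [card_cj] at hrd
    obtain ⟨hτ, -⟩ := hprimes r hr hrX
    have hr2 : r ≠ 2 := ne_two_of_dvd hG (hrd.trans (Subgroup.card_subgroup_dvd_card _))
    set S' := (S : Subgroup X').map X'.subtype
    have hS'c : ¬ IsCyclic S' := fun hc' => hcyc (isCyclic_of_injective
      ((S : Subgroup X').equivMapOfInjective X'.subtype X'.subtype_injective).toMonoidHom (MulEquiv.injective _))
    obtain ⟨B, hB, hBS, hB2⟩ := Core.BG.exists_ea_sq hr2 (S.isPGroup'.map X'.subtype) hS'c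
    have hBX : B ≤ X' := hBS.trans (Subgroup.map_subtype_le _)
    obtain ⟨E, hE', hBE⟩ := exists_compl_ge hG hM (hBX.trans hX'M)
      (fun t ht hd => by
        rw [hB2] at hd
        exact (Nat.prime_dvd_prime_iff_eq ht hr).mp (ht.dvd_of_dvd_pow hd) ▸ hXσ r hr hrX)
    obtain ⟨z₀, hz₀E, hz₀p, hmax, hreg⟩ := exists_free_generator hG hpl hM hE' hτ
    have hz₀1 : z₀ ≠ 1 := by
      intro e
      obtain ⟨b, hb, hb1⟩ := B.bot_or_exists_ne_one.resolve_left (fun e => by
        rw [e, Subgroup.card_bot] at hB2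
        exact absurd hB2.symm (Nat.one_lt_pow two_ne_zero hr.one_lt).ne')
      have h1 := hmax b (hBE hb) ((IsPGroup.of_card hB2).to_le (Subgroup.zpowers_le.mpr hb))
      rw [e, orderOf_one, Nat.dvd_one, orderOf_eq_one_iff] at h1
      exact hb1 h1
    obtain ⟨q, hq, hqd, Z, hZ, hZz⟩ := exists_prime_le_zpowers hz₀1
    haveI := Fact.mk hq
    have hqr : q = r := by
      obtain ⟨k, hk⟩ := IsPGroup.iff_card.mp hz₀p
      have := hZ ▸ Subgroup.card_dvd_of_le hZz
      rw [hk] at this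
      exact (Nat.prime_dvd_prime_iff_eq hq hr).mp (hq.dvd_of_dvd_pow this)
    subst hqr
    have hZB : Z ≤ B := (tau2_compl_facts hG hpl hM hE' hτ ⟨hBE, hB, hB2⟩).1.2 Z
      (hZz.trans (Subgroup.zpowers_le.mpr hz₀E)) hZ
    obtain ⟨z, hz, hz1⟩ := Z.bot_or_exists_ne_one.resolve_left (ne_bot_of_card_prime hZ)
    have hzo : orderOf z = q := by rw [← Nat.card_zpowers, zpowers_eq_of_card_prime hZ hz hz1, hZ]
    refine hy'1 (Subgroup.mem_bot.mp ((hreg z (hZz hz) hzo).le (Subgroup.mem_inf.mpr ⟨hy', ?_⟩)))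
    exact Subgroup.mem_centralizer_singleton_iff.mpr
      (Subgroup.mem_centralizer_singleton_iff.mp (hX'C (hBX (hZB hz)))).symm
  haveI : IsCyclic X' := by
    haveI : Group.IsNilpotent X' := by
      letI : CommGroup X' := { (inferInstance : Group X') with mul_comm := mul_comm' }
      infer_instance
    infer_instance
  exact isCyclic_of_injective (X.equivMapOfInjective (MulAut.conj m).toMonoidHom (MulEquiv.injective _)).toMonoidHom
    (MulEquiv.injective _)

theorem exists_centralizer_decomp {M H : Subgroup G} (hM : IsCoatom M) (hH : H ≤ sigmaCore M) (hH1 : H ≠ ⊥)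
    (hHall : (Nat.card H).Coprime (H.relIndex (sigmaCore M))) :
    ∃ X : Subgroup G, IsCyclic X ∧ (∀ p : ℕ, p.Prime → p ∣ Nat.card X → p ∈ tau2 M) ∧
      M ⊓ Subgroup.centralizer (H : Set G) = (sigmaCore M ⊓ Subgroup.centralizer (H : Set G)) ⊔ X := by
  set C := M ⊓ Subgroup.centralizer (H : Set G) with hC
  set N := sigmaCore M ⊓ Subgroup.centralizer (H : Set G) with hN
  have hNC : N ≤ C := inf_le_inf_right _ (sigmaCore_le M)
  haveI hNn : (N.subgroupOf C).Normal := (Subgroup.normal_subgroupOf_iff_le_normalizer hNC).mpr fun c hc =>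
    mem_normalizer_inf (le_normalizer_sigmaCore M (Subgroup.mem_inf.mp hc).1)
      (Subgroup.le_normalizer (Subgroup.mem_inf.mp hc).2)
  have hidx : N.relIndex C ∣ (sigmaCore M).relIndex M := by
    have e : N = sigmaCore M ⊓ C := by
      rw [hC, hN, ← inf_assoc, inf_eq_left.mpr (sigmaCore_le M)]
    rw [e, Subgroup.inf_relIndex_right]
    haveI : ((sigmaCore M).subgroupOf M).Normal :=
      (Subgroup.normal_subgroupOf_iff_le_normalizer (sigmaCore_le M)).mpr (le_normalizer_sigmaCore M)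
    rw [← Subgroup.relIndex_subgroupOf (inf_le_left : C ≤ M) (H := sigmaCore M)]
    exact Subgroup.relIndex_dvd_index_of_normal _ _
  obtain ⟨X, hX⟩ := Subgroup.exists_right_complement'_of_coprime (N := N.subgroupOf C) (by
    rw [Core.card_subgroupOf hNC]
    exact Nat.coprime_of_dvd fun q hq h1 h2 => (sigmaCore_hallOf hG hM).2.2 q hq
      (mem_sigma_of_dvd hq (h1.trans (Subgroup.card_dvd_of_le inf_le_left))) (h2.trans hidx))
  have hcompl := complIn_of_complement' hNC hX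
  have hXC : X.map C.subtype ≤ C := Subgroup.map_subtype_le X
  obtain ⟨hc, hτ⟩ := centralizing_cyclic hG hpl hM hH hH1 hHall (X := X.map C.subtype) (hXC.trans inf_le_left)
    (fun q hq hd hσ => (sigmaCore_hallOf hG hM).2.2 q hq hσ ((hd.trans (by
      rw [← OddLocal.IsComplIn.relIndex_left hcompl])).trans hidx)) (hXC.trans inf_le_right)
  refine ⟨_, hc, hτ, le_antisymm (fun a ha => ?_) (sup_le hNC hXC)⟩
  obtain ⟨b, hb, c, hc', rfl⟩ := hcompl.2.2.2 a ha
  exact mul_mem (Subgroup.mem_sup_left hb) (Subgroup.mem_sup_right hc')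

/-- Elements of `M_σ` fused in `G` are fused in `M`. -/
theorem fused_in {M : Subgroup G} (hM : IsCoatom M) {x g : G} (hx : x ∈ sigmaCore M) (hx1 : x ≠ 1)
    (hgx : g * x * g⁻¹ ∈ M) : ∃ m ∈ M, m * x * m⁻¹ = g * x * g⁻¹ := by
  obtain ⟨V, hVC, -, hdec, -, -⟩ := exists_rsub hG hpl hM hx hx1
  obtain ⟨v, hv, l, hl, e⟩ := hdec g⁻¹ (conj_mem_cj hgx)
  refine ⟨l⁻¹, inv_mem hl, ?_⟩
  have hg : g = l⁻¹ * v⁻¹ := by rw [← inv_inv g, e, mul_inv_rev]
  have hvx : v⁻¹ * x = x * v⁻¹ := Subgroup.mem_centralizer_singleton_iff.mp (inv_mem (hVC hv))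
  rw [hg, show l⁻¹ * v⁻¹ * x * (l⁻¹ * v⁻¹)⁻¹ = l⁻¹ * (v⁻¹ * x) * v * l by group, hvx]
  group

theorem hall_fusion {M H : Subgroup G} (hM : IsCoatom M) (hH : H ≤ sigmaCore M)
    (hHall : (Nat.card H).Coprime (H.relIndex (sigmaCore M))) :
    ∀ x ∈ H, ∀ g : G, g * x * g⁻¹ ∈ H →
      ∃ n ∈ M ⊓ Subgroup.normalizer (H : Set G), n * x * n⁻¹ = g * x * g⁻¹ := by
  intro x hx g hg
  by_cases hx1 : x = 1
  · exact ⟨1, one_mem _, by simp [hx1]⟩
  obtain ⟨m, hm, e⟩ := fused_in hG hpl hM (hH hx) hx1 (sigmaCore_le M (hH hg))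
  by_cases hn : Group.IsNilpotent (sigmaCore M)
  · refine ⟨m, Subgroup.mem_inf.mpr ⟨hm, ?_⟩, e⟩
    haveI := hn
    haveI hHn : (H.subgroupOf (sigmaCore M)).Normal := hall_normal_of_isNilpotent (by
      rw [Core.card_subgroupOf hH]; exact hHall)
    have hσn := cj_eq_iff.mpr (le_normalizer_sigmaCore M hm)
    refine cj_eq_iff.mp (Subgroup.eq_of_le_of_card_ge ?_ (card_cj _ _).ge)
    intro a ha
    have haσ : a ∈ sigmaCore M := hσn.le (cj_mono hH ha)
    refine Subgroup.mem_subgroupOf.mp (Subgroup.zpowers_le.mp (Core.le_of_coprime_index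
      (H := Subgroup.zpowers (⟨a, haσ⟩ : sigmaCore M)) (N := H.subgroupOf (sigmaCore M)) ?_))
    rw [Nat.card_zpowers, Subgroup.orderOf_mk]
    exact hHall.coprime_dvd_left ((Subgroup.orderOf_dvd_natCard _ ha).trans (card_cj m H).dvd)
  obtain ⟨⟨K, hK⟩, hc⟩ := kappa_hall hG hpl hM
  obtain ⟨U, h⟩ := exists_decomp hG hpl hM (hc K hK) hK
  obtain ⟨Q, hQ⟩ := exists_qData hG hpl hM h hn
  set q := Nat.card ↥(sigmaCore M ⊓ Subgroup.centralizer (K : Set G))
  haveI := Fact.mk hQ.prime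
  have hσM := sigmaCore_le M
  haveI : (Q.subgroupOf (sigmaCore M)).Normal :=
    (Subgroup.normal_subgroupOf_iff_le_normalizer hQ.le).mpr (hσM.trans hQ.normal)
  haveI hσs : Group.IsSolvable (sigmaCore M) :=
    Core.BG.isSolvable_proper hG fun e => hM.1 (top_le_iff.mp (e.ge.trans hσM))
  obtain ⟨N₀, hN₀⟩ := Subgroup.exists_right_complement'_of_coprime (N := Q.subgroupOf (sigmaCore M)) (by
    obtain ⟨k, hk⟩ := IsPGroup.iff_card.mp hQ.pgroup
    rw [Core.card_subgroupOf hQ.le, hk]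
    exact (hQ.prime.coprime_iff_not_dvd.mpr hQ.sylow).pow_left k)
  have hD₀ := complIn_of_complement' hQ.le hN₀
  by_cases hqH : q ∣ Nat.card H
  · -- `Q ≤ H`, so `H` is normal in `M`
    have hQH : Q ≤ H := by
      obtain ⟨T⟩ := (inferInstance : Nonempty (Sylow q H))
      set T' := (T : Subgroup H).map H.subtype
      obtain ⟨k, hk⟩ := IsPGroup.iff_card.mp (T.isPGroup'.map H.subtype)
      have hT'Q : T' ≤ Q := fun a ha => by
        have haσ : a ∈ sigmaCore M := hH (Subgroup.map_subtype_le _ ha)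
        refine Subgroup.mem_subgroupOf.mp (Subgroup.zpowers_le.mp (Core.le_of_coprime_index
          (H := Subgroup.zpowers (⟨a, haσ⟩ : sigmaCore M)) (N := Q.subgroupOf (sigmaCore M)) ?_))
        rw [Nat.card_zpowers, Subgroup.orderOf_mk]
        exact ((hQ.prime.coprime_iff_not_dvd.mpr hQ.sylow).pow_left k).coprime_dvd_left
          ((Subgroup.orderOf_dvd_natCard _ ha).trans hk.dvd)
      have hT'H : T' ≤ H := Subgroup.map_subtype_le _
      suffices Q = T' from this ▸ hT'H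
      refine (Subgroup.eq_of_le_of_card_ge hT'Q ?_).symm
      obtain ⟨j, hj⟩ := IsPGroup.iff_card.mp hQ.pgroup
      refine Nat.le_of_dvd Nat.card_pos ?_
      have h1 : Nat.card Q ∣ Nat.card T' * (T'.relIndex H * H.relIndex (sigmaCore M)) := by
        rw [Subgroup.relIndex_mul_relIndex T' H _ hT'H hH, Core.card_mul_relIndex (hT'H.trans hH)]
        exact Subgroup.card_dvd_of_le hQ.le
      refine (Nat.Coprime.dvd_mul_right ?_).mp h1
      rw [hj]
      refine Nat.Coprime.pow_left _ (hQ.prime.coprime_iff_not_dvd.mpr fun hd => ?_)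
      rcases hQ.prime.dvd_mul.mp hd with h' | h'
      · rw [show T'.relIndex H = (T : Subgroup H).index from by
          rw [Subgroup.relIndex, Subgroup.subgroupOf, Subgroup.comap_map_eq_self_of_injective H.subtype_injective]] at h'
        exact T.not_dvd_index h'
      · exact hQ.prime.not_dvd_one (hHall.gcd_eq_one ▸ Nat.dvd_gcd hqH h')
    refine ⟨m, Subgroup.mem_inf.mpr ⟨hm, ?_⟩, e⟩
    set HD := H ⊓ N₀.map (sigmaCore M).subtype
    have hs := qStructure hG hpl hM h hn hQ hD₀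
    set f := QuotientGroup.mk' (Q.subgroupOf (sigmaCore M))
    haveI : Group.IsNilpotent (↥(sigmaCore M) ⧸ Q.subgroupOf (sigmaCore M)) := by
      haveI := hs.nilpotent
      haveI : Group.IsNilpotent N₀ :=
        Group.nilpotent_of_mulEquiv (N₀.equivMapOfInjective (sigmaCore M).subtype (Subgroup.subtype_injective _)).symm
      refine Group.nilpotent_of_surjective (f.comp N₀.subtype) fun z => ?_
      obtain ⟨z, rfl⟩ := QuotientGroup.mk'_surjective _ z
      obtain ⟨⟨a, b⟩, eab⟩ := hN₀.2 z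
      refine ⟨b, ?_⟩
      show f b = f z
      have ha1 : f (a : sigmaCore M) = 1 := (QuotientGroup.eq_one_iff (a : sigmaCore M)).mpr a.2
      rw [← eab]
      show f b = f ((a : sigmaCore M) * b)
      rw [map_mul, ha1, one_mul]
    have hcomap : ((H.subgroupOf (sigmaCore M)).map f).comap f = H.subgroupOf (sigmaCore M) := by
      rw [Subgroup.comap_map_eq, QuotientGroup.ker_mk', sup_eq_left]
      exact fun a ha => Subgroup.mem_subgroupOf.mpr (hQH (Subgroup.mem_subgroupOf.mp ha))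
    haveI : ((H.subgroupOf (sigmaCore M)).map f).Normal := hall_normal_of_isNilpotent (by
      refine Nat.Coprime.coprime_dvd_left ((Subgroup.card_map_dvd _ f).trans (Core.card_subgroupOf hH).dvd)
        (Nat.Coprime.coprime_dvd_right (Subgroup.index_map_dvd _ (QuotientGroup.mk'_surjective _)) ?_)
      exact hHall)
    haveI hHn : (H.subgroupOf (sigmaCore M)).Normal := hcomap ▸ Subgroup.normal_comap f
    have hσn := cj_eq_iff.mpr (le_normalizer_sigmaCore M hm)
    refine cj_eq_iff.mp (Subgroup.eq_of_le_of_card_ge ?_ (card_cj _ _).ge)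
    intro a ha
    have haσ : a ∈ sigmaCore M := hσn.le (cj_mono hH ha)
    refine Subgroup.mem_subgroupOf.mp (Subgroup.zpowers_le.mp (Core.le_of_coprime_index
      (H := Subgroup.zpowers (⟨a, haσ⟩ : sigmaCore M)) (N := H.subgroupOf (sigmaCore M)) ?_))
    rw [Nat.card_zpowers, Subgroup.orderOf_mk]
    exact hHall.coprime_dvd_left ((Subgroup.orderOf_dvd_natCard _ ha).trans (card_cj m H).dvd)
  · -- `H` lies in a complement `D` of `Q`
    have hHallD := qData_hall hG hpl hQ hD₀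
    obtain ⟨a₀, ha₀, hle⟩ := exists_conj_le_hallOf hHallD hH
      (fun r hr hd => ⟨hr, fun er => hqH (er ▸ hd)⟩)
    set D := cj a₀⁻¹ (N₀.map (sigmaCore M).subtype) with hDdef
    have hHD : H ≤ D := cj_le_iff.mp hle
    have hσn₀ : cj a₀⁻¹ (sigmaCore M) = sigmaCore M := cj_eq_iff.mpr (Subgroup.le_normalizer (inv_mem ha₀))
    have hQn₀ : cj a₀⁻¹ Q = Q := cj_eq_iff.mpr (hQ.normal (hσM (inv_mem ha₀)))
    have hD : IsComplIn Q D (sigmaCore M) := by
      refine ⟨hQ.le, (cj_mono hD₀.2.1).trans hσn₀.le, ?_, fun z hz => ?_⟩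
      · rw [← hQn₀, hDdef, ← cj_inf, hD₀.2.2.1]
        exact Subgroup.map_bot _
      · obtain ⟨a, ha, d, hd, ez⟩ := hD₀.2.2.2 (a₀ * z * a₀⁻¹) (mul_mem (mul_mem ha₀ hz) (inv_mem ha₀))
        refine ⟨a₀⁻¹ * a * a₀, (Subgroup.mem_set_normalizer_iff''.mp (hQ.normal (hσM ha₀)) a).mp ha,
          a₀⁻¹ * d * a₀, mem_cj.mpr ?_, ?_⟩
        · rwa [show a₀⁻¹⁻¹ * (a₀⁻¹ * d * a₀) * a₀⁻¹ = d by group]
        · rw [show z = a₀⁻¹ * (a₀ * z * a₀⁻¹) * a₀ by group, ez]; group
    have hs := qStructure hG hpl hM h hn hQ hD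
    have hσn := cj_eq_iff.mpr (le_normalizer_sigmaCore M hm)
    obtain ⟨b, hb, hbD⟩ := exists_conj_le_hallOf (qData_hall hG hpl hQ hD) (Q := cj m D)
      ((cj_mono hD.2.1).trans hσn.le) (fun r hr hd => (qData_hall hG hpl hQ hD).2.1 r hr (by rwa [card_cj] at hd))
    have heq : cj b (cj m D) = D :=
      Subgroup.eq_of_le_of_card_ge hbD ((card_cj b (cj m D)).trans (card_cj m D)).ge
    obtain ⟨a, ha, d, hd, rfl⟩ := hD.2.2.2 b hb
    set a' := d⁻¹ * a * d with ha'
    have ha'Q : a' ∈ Q := (Subgroup.mem_set_normalizer_iff''.mp (hQ.normal (hσM (hD.2.1 hd))) a).mp ha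
    set n := a' * m with hndef
    have hnD : n ∈ Subgroup.normalizer (D : Set G) := by
      have h1 : (a * d) * m ∈ Subgroup.normalizer (D : Set G) := cj_eq_iff.mp (by rw [cj_mul, heq])
      rw [hndef, ha', show d⁻¹ * a * d * m = d⁻¹ * ((a * d) * m) by group]
      exact mul_mem (inv_mem (Subgroup.le_normalizer hd)) h1
    have hnM : n ∈ M := mul_mem (hσM (hQ.le ha'Q)) hm
    refine ⟨n, Subgroup.mem_inf.mpr ⟨hnM, ?_⟩, ?_⟩
    · haveI := hs.nilpotent
      haveI hHnD : (H.subgroupOf D).Normal := hall_normal_of_isNilpotent (by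
        rw [Core.card_subgroupOf hHD]
        exact hHall.coprime_dvd_right (Dvd.intro _ (Subgroup.relIndex_mul_relIndex H D _ hHD hD.2.1)))
      have hDn : cj n D = D := cj_eq_iff.mpr hnD
      refine cj_eq_iff.mp (Subgroup.eq_of_le_of_card_ge ?_ (card_cj _ _).ge)
      intro c hc
      have hcD : c ∈ D := hDn.le (cj_mono hHD hc)
      refine Subgroup.mem_subgroupOf.mp (Subgroup.zpowers_le.mp (Core.le_of_coprime_index
        (H := Subgroup.zpowers (⟨c, hcD⟩ : D)) (N := H.subgroupOf D) ?_))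
      rw [Nat.card_zpowers, Subgroup.orderOf_mk]
      exact (hHall.coprime_dvd_right (Dvd.intro _ (Subgroup.relIndex_mul_relIndex H D _ hHD hD.2.1))).coprime_dvd_left
        ((Subgroup.orderOf_dvd_natCard _ hc).trans (card_cj n H).dvd)
    · have hnx : n * x * n⁻¹ ∈ D := (Subgroup.mem_normalizer_iff.mp hnD x).mp (hHD hx)
      have hy : g * x * g⁻¹ ∈ D := hHD hg
      have hrel : n * x * n⁻¹ = a' * (g * x * g⁻¹) * a'⁻¹ := by rw [hndef, ← e]; group
      have h1 : (n * x * n⁻¹) * (g * x * g⁻¹)⁻¹ ∈ Q ⊓ D := Subgroup.mem_inf.mpr ⟨by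
        rw [hrel, show a' * (g * x * g⁻¹) * a'⁻¹ * (g * x * g⁻¹)⁻¹ =
          a' * ((g * x * g⁻¹) * a'⁻¹ * (g * x * g⁻¹)⁻¹) by group]
        exact mul_mem ha'Q ((Subgroup.mem_normalizer_iff.mp (hQ.normal (hσM (hH hg))) _).mp (inv_mem ha'Q)),
        mul_mem hnx (inv_mem hy)⟩
      rw [hD.2.2.1, Subgroup.mem_bot] at h1
      exact mul_inv_eq_one.mp h1

theorem fittingOf_decomp {M : Subgroup G} (hM : IsCoatom M) :
    IsCyclic ↥(piCoreOf {q | q.Prime ∧ q ∉ sigma M} (fittingOf M)) ∧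
      (∀ p : ℕ, p.Prime → p ∣ Nat.card ↥(piCoreOf {q | q.Prime ∧ q ∉ sigma M} (fittingOf M)) → p ∈ tau2 M) ∧
      fittingOf M = fittingOf (sigmaCore M) ⊔ piCoreOf {q | q.Prime ∧ q ∉ sigma M} (fittingOf M) := by
  set π := {q | q.Prime ∧ q ∉ sigma M} with hπ
  set W := piCoreOf π (fittingOf M) with hW
  have hσM := sigmaCore_le M
  have hFM : fittingOf M ≤ M := Subgroup.map_subtype_le _
  have hWF : W ≤ fittingOf M := Subgroup.map_subtype_le _
  have hWp : ∀ q : ℕ, q.Prime → q ∣ Nat.card W → q ∉ sigma M := fun q hq hd =>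
    ((Core.isPiNat_card_piCore π (fittingOf M)) q hq (by rwa [hW, piCoreOf, Core.card_map_subtype] at hd)).2
  have hFn : M ≤ Subgroup.normalizer (fittingOf M : Set G) := fun m hm => Coprime.mem_normalizer_of_conj_mem
    fun y hy => by
      obtain ⟨z, hz, rfl⟩ := hy
      exact ⟨⟨m, hm⟩ * z * ⟨m, hm⟩⁻¹, (Core.fittingSubgroup_normal M).conj_mem z hz _, rfl⟩
  have hWn : M ≤ Subgroup.normalizer (W : Set G) := hFn.trans fun m hm => Coprime.mem_normalizer_of_conj_mem
    fun y hy => by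
      obtain ⟨z, hz, rfl⟩ := hy
      haveI : (piCore π (fittingOf M)).Characteristic := Core.piCore_characteristic π (fittingOf M)
      exact ⟨(fittingOf M).normalizerMonoidHom ⟨m, hm⟩ z, Subgroup.characteristic_iff_map_le.mp inferInstance
        ((fittingOf M).normalizerMonoidHom ⟨m, hm⟩) ⟨z, hz, rfl⟩, rfl⟩
  have hdisj : sigmaCore M ⊓ W = ⊥ := Coprime.inf_eq_bot_of_coprime
    (Nat.coprime_of_dvd fun q hq h1 h2 => hWp q hq h1 (mem_sigma_of_dvd hq h2))
  have hWC : W ≤ Subgroup.centralizer (sigmaCore M : Set G) := fun w hw =>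
    Subgroup.mem_centralizer_iff.mpr fun s hs => by
      have h1 : s * w * s⁻¹ * w⁻¹ ∈ sigmaCore M ⊓ W := Subgroup.mem_inf.mpr ⟨by
        rw [show s * w * s⁻¹ * w⁻¹ = s * (w * s⁻¹ * w⁻¹) by group]
        exact mul_mem hs ((Subgroup.mem_normalizer_iff.mp (le_normalizer_sigmaCore M (hFM (hWF hw))) _).mp (inv_mem hs)),
        mul_mem ((Subgroup.mem_normalizer_iff.mp (hWn (hσM hs)) _).mp hw) (inv_mem hw)⟩
      rw [hdisj, Subgroup.mem_bot] at h1
      exact mul_inv_eq_iff_eq_mul.mp (mul_inv_eq_one.mp h1)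
  obtain ⟨hcyc, hτ⟩ := centralizing_cyclic hG hpl hM (H := sigmaCore M) le_rfl (sigmaCore_ne_bot hG hM)
    (by rw [Subgroup.relIndex_self]; exact Nat.coprime_one_right _) (hWF.trans hFM) hWp hWC
  refine ⟨hcyc, hτ, le_antisymm (fun a ha => ?_) (sup_le ?_ hWF)⟩
  · haveI := isNilpotent_fittingOf M
    haveI := Core.BG.isSolvable_proper hG hM.1
    have haM : a ∈ M := hFM ha
    set n := Nat.card (sigmaCore M)
    set m := (sigmaCore M).relIndex M
    have hco : n.Coprime m := Nat.coprime_of_dvd fun q hq h1 h2 =>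
      (sigmaCore_hallOf hG hM).2.2 q hq (mem_sigma_of_dvd hq h1) h2
    have hord : orderOf a ∣ n * m := by
      rw [Core.card_mul_relIndex hσM]; exact Subgroup.orderOf_dvd_natCard M haM
    -- the `σ'`-part
    have h1 : a ^ n ∈ W := by
      have ho : orderOf (⟨a ^ n, pow_mem ha n⟩ : fittingOf M) ∣ m := by
        rw [Subgroup.orderOf_mk]
        exact orderOf_dvd_of_pow_eq_one (by rw [← pow_mul]; exact orderOf_dvd_iff_pow_eq_one.mp hord)
      obtain ⟨P, hP⟩ := Core.exists_isPiHall_of_isSolvable (G := fittingOf M) π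
      haveI hPn : P.Normal := hall_normal_of_isNilpotent (Nat.coprime_of_dvd fun q hq h1 h2 =>
        hP.2 q hq (hP.1 q hq h1) h2)
      have hPle : P ≤ piCore π (fittingOf M) := Core.le_piCore inferInstance fun r hr hd => hP.1 r hr hd
      refine ⟨⟨a ^ n, pow_mem ha n⟩, hPle (Subgroup.zpowers_le.mp (Core.le_of_coprime_index ?_)), rfl⟩
      rw [Nat.card_zpowers]
      exact Nat.coprime_of_dvd fun q hq h1 h2 => hP.2 q hq
        ⟨hq, fun hσ => (sigmaCore_hallOf hG hM).2.2 q hq hσ (h1.trans ho)⟩ h2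
    have h2 : a ^ m ∈ fittingOf (sigmaCore M) := by
      haveI hSn : ((sigmaCore M).subgroupOf M).Normal :=
        (Subgroup.normal_subgroupOf_iff_le_normalizer hσM).mpr (le_normalizer_sigmaCore M)
      have hmem : a ^ m ∈ sigmaCore M := by
        refine Subgroup.mem_subgroupOf.mp (Subgroup.zpowers_le.mp (Core.le_of_coprime_index
          (H := Subgroup.zpowers (⟨a ^ m, pow_mem haM m⟩ : M)) (N := (sigmaCore M).subgroupOf M) ?_))
        rw [Nat.card_zpowers, Subgroup.orderOf_mk]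
        refine hco.coprime_dvd_left (orderOf_dvd_of_pow_eq_one ?_)
        rw [← pow_mul, mul_comm]; exact orderOf_dvd_iff_pow_eq_one.mp hord
      have hle : sigmaCore M ⊓ fittingOf M ≤ sigmaCore M := inf_le_left
      refine ⟨⟨a ^ m, hmem⟩, Core.le_fittingSubgroup (N := (sigmaCore M ⊓ fittingOf M).subgroupOf (sigmaCore M))
        ?_ ?_ (Subgroup.mem_subgroupOf.mpr (Subgroup.mem_inf.mpr ⟨hmem, pow_mem ha m⟩)), rfl⟩
      · exact (Subgroup.normal_subgroupOf_iff_le_normalizer hle).mpr fun s hs =>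
          mem_normalizer_inf (Subgroup.le_normalizer hs) (hFn (hσM hs))
      · haveI := Core.isNilpotent_of_le (inf_le_right : sigmaCore M ⊓ fittingOf M ≤ fittingOf M) inferInstance
        exact Group.nilpotent_of_mulEquiv (Subgroup.subgroupOfEquivOfLe hle).symm
    have hbez := Nat.gcd_eq_gcd_ab n m
    rw [hco.gcd_eq_one] at hbez
    have : a = (a ^ n) ^ (Nat.gcdA n m) * (a ^ m) ^ (Nat.gcdB n m) := by
      rw [← zpow_natCast a n, ← zpow_natCast a m, ← zpow_mul, ← zpow_mul, ← zpow_add, ← hbez, Nat.cast_one,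
        zpow_one]
    rw [this]
    exact mul_mem (Subgroup.mem_sup_right (zpow_mem h1 _)) (Subgroup.mem_sup_left (zpow_mem h2 _))
  · have hF'σ : fittingOf (sigmaCore M) ≤ sigmaCore M := Subgroup.map_subtype_le _
    intro x hx
    refine ⟨⟨x, hσM (hF'σ hx)⟩, Core.le_fittingSubgroup (N := (fittingOf (sigmaCore M)).subgroupOf M) ?_ ?_
      (Subgroup.mem_subgroupOf.mpr hx), rfl⟩
    · refine (Subgroup.normal_subgroupOf_iff_le_normalizer (hF'σ.trans hσM)).mpr fun k hk =>
        Coprime.mem_normalizer_of_conj_mem fun y hy => ?_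
      obtain ⟨z, hz, rfl⟩ := hy
      haveI : (fittingSubgroup (sigmaCore M)).Characteristic := Core.fittingSubgroup_characteristic _
      exact ⟨(sigmaCore M).normalizerMonoidHom ⟨k, le_normalizer_sigmaCore M hk⟩ z,
        Subgroup.characteristic_iff_map_le.mp inferInstance
        ((sigmaCore M).normalizerMonoidHom ⟨k, le_normalizer_sigmaCore M hk⟩) ⟨z, hz, rfl⟩, rfl⟩
    · haveI := isNilpotent_fittingOf (sigmaCore M)
      exact Group.nilpotent_of_mulEquiv (Subgroup.subgroupOfEquivOfLe (hF'σ.trans hσM)).symm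

end Cfsg.Agent.OddLocal.Sigma
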