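import Cfsg.Agent.OddLocal.Sigma.QStructure

/-! `q ∈ β(M)` when `M_F ≠ M_σ` (BG 15.2). -/

set_option autoImplicit false
set_option linter.style.haveILetI false
set_option linter.unusedSectionVars false

namespace Cfsg.Agent.OddLocal.Sigma

open Cfsg
open scoped commutatorElement

variable {G : Type*} [Group G] [Finite G]
variable (hG : IsMinSimpleOddOrder G)
include hG
variable (hpl : ∀ (p : ℕ) [Fact p.Prime] (H : Subgroup G), H ≠ ⊤ → PLengthLE p 1 H)
include hpl

theorem not_nilpotent_of_ne {M : Subgroup G} (hM : IsCoatom M) (hne : fittingHallOf M ≠ sigmaCore M) :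
    ¬ Group.IsNilpotent (sigmaCore M) := fun hn => hne
  (le_antisymm (fittingHallOf_le_sigmaCore hG hpl hM) (sigmaCore_le_fittingHallOf hG hpl hM hn))

theorem qData_mem_beta {M K U Q : Subgroup G} {q : ℕ} (hM : IsCoatom M) (h : IsSigmaDecomposition M K U)
    (hne : ¬ Group.IsNilpotent (sigmaCore M)) (hQ : QData M K Q q) : q ∈ beta M := by
  by_contra hβ
  haveI := Fact.mk hQ.prime
  obtain ⟨S, N, hN, hc⟩ : HasNormalPComplement q ↥(sigmaCore M) :=
    Transfer.hasNormalPComplement_of_le (sigmaCore_le_derived hG hM) (derived_npc hG hpl hM hβ)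
  set T := N.map (sigmaCore M).subtype
  have hQn : (Q.subgroupOf (sigmaCore M)).Normal :=
    (Subgroup.normal_subgroupOf_iff_le_normalizer hQ.le).mpr ((sigmaCore_le M).trans hQ.normal)
  set S' : Sylow q (sigmaCore M) :=
    (hQ.pgroup.comap_subtype : IsPGroup q (Q.subgroupOf (sigmaCore M))).toSylow hQ.sylow
  obtain ⟨g, hg⟩ := MulAction.exists_smul_eq (sigmaCore M) S' S
  have hSQ : (S : Subgroup (sigmaCore M)) = Q.subgroupOf (sigmaCore M) := by
    rw [← hg, Sylow.coe_subgroup_smul, Core.conj_smul_eq_map]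
    show (Q.subgroupOf (sigmaCore M)).map (MulAut.conj g).toMonoidHom = _
    refine Subgroup.eq_of_le_of_card_ge ?_ (Transfer.card_map_conj g _).ge
    rintro _ ⟨x, hx, rfl⟩
    exact hQn.conj_mem x hx g
  rw [hSQ] at hc
  haveI := hN
  haveI := hQn
  have hdisj : Q.subgroupOf (sigmaCore M) ⊓ N = ⊥ := by rw [inf_comm]; exact disjoint_iff.mp hc.disjoint
  have hTQ : IsComplIn Q T (sigmaCore M) := by
    refine ⟨hQ.le, Subgroup.map_subtype_le N, ?_, fun m hm => ?_⟩
    · rw [Subgroup.eq_bot_iff_forall]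
      intro x hx
      obtain ⟨hxQ, n, hn, rfl⟩ := Subgroup.mem_inf.mp hx
      have h1 : n ∈ Q.subgroupOf (sigmaCore M) ⊓ N := Subgroup.mem_inf.mpr ⟨Subgroup.mem_subgroupOf.mpr hxQ, hn⟩
      rw [hdisj, Subgroup.mem_bot] at h1
      rw [h1]; rfl
    · obtain ⟨a, ha, b, hb, e⟩ := Subgroup.mem_sup_of_normal_left.mp
        ((sup_comm N _ ▸ hc.sup_eq_top : Q.subgroupOf (sigmaCore M) ⊔ N = ⊤).ge (Subgroup.mem_top (⟨m, hm⟩ : sigmaCore M)))
      exact ⟨a, Subgroup.mem_subgroupOf.mp ha, b, ⟨b, hb, rfl⟩, (congrArg Subtype.val e).symm⟩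
  refine (qStructure hG hpl hM h hne hQ hTQ).lt.ne (le_antisymm inf_le_left (le_inf le_rfl fun x hx => ?_))
  refine Subgroup.mem_centralizer_iff.mpr fun t ht => ?_
  obtain ⟨n, hn, rfl⟩ := ht
  have hcomm := Subgroup.commute_of_normal_of_disjoint (Q.subgroupOf (sigmaCore M)) N hQn hN
    (disjoint_iff.mpr hdisj) ⟨x, hQ.le hx⟩ n (Subgroup.mem_subgroupOf.mpr hx) hn
  exact (congrArg Subtype.val hcomm.eq).symm

end Cfsg.Agent.OddLocal.Sigma

namespace Cfsg.Agent.OddLocal.Sigma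

open Cfsg

variable {G : Type*} [Group G] [Finite G]

theorem card_subgroupOf_eq {H M : Subgroup G} (h : H ≤ M) : Nat.card (H.subgroupOf M) = Nat.card H :=
  Core.card_subgroupOf h

theorem complIn_of_complement' {A M : Subgroup G} {N : Subgroup M} (hA : A ≤ M)
    (h : (A.subgroupOf M).IsComplement' N) : IsComplIn A (N.map M.subtype) M := by
  refine ⟨hA, Subgroup.map_subtype_le N, ?_, fun m hm => ?_⟩
  · rw [Subgroup.eq_bot_iff_forall]
    intro x hx
    obtain ⟨hxA, n, hn, rfl⟩ := Subgroup.mem_inf.mp hx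
    have h1 : n ∈ A.subgroupOf M ⊓ N := Subgroup.mem_inf.mpr ⟨Subgroup.mem_subgroupOf.mpr hxA, hn⟩
    rw [disjoint_iff.mp h.disjoint, Subgroup.mem_bot] at h1
    rw [h1]; rfl
  · obtain ⟨⟨a, b⟩, e⟩ := h.2 ⟨m, hm⟩
    exact ⟨_, Subgroup.mem_subgroupOf.mp a.2, _, ⟨b, b.2, rfl⟩, (congrArg Subtype.val e).symm⟩

end Cfsg.Agent.OddLocal.Sigma
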