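import Cfsg.Agent.OddLocal.Sigma.RGroup
import Cfsg.Agent.OddLocal.Sigma.HallFusion
import Cfsg.Agent.OddLocal.Sigma.QBeta
import Cfsg.Agent.OddLocal.RankTwo.NarrowSolvable

/-! Maximal subgroups whose Fitting subgroup is not TI (first half of BG 15.7). -/

set_option autoImplicit false
set_option linter.style.haveILetI false
set_option linter.unusedSectionVars false

namespace Cfsg.Agent.OddLocal.Sigma

open Cfsg
open scoped commutatorElement

variable {G : Type*} [Group G] [Finite G]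

/-- Elements of coprime orders in a nilpotent subgroup commute. -/
theorem commute_of_mem_nilpotent {F : Subgroup G} (hF : Group.IsNilpotent F) {a b : G} (ha : a ∈ F) (hb : b ∈ F)
    (h : (orderOf a).Coprime (orderOf b)) : Commute a b := by
  haveI := hF
  have hc := OddLocal.commute_of_coprime_orderOf (x := (⟨a, ha⟩ : F)) (y := ⟨b, hb⟩)
    (by rwa [Subgroup.orderOf_mk, Subgroup.orderOf_mk])
  exact congrArg Subtype.val hc.eq

theorem le_normalizer_fittingOf (M : Subgroup G) : M ≤ Subgroup.normalizer (fittingOf M : Set G) := fun m hm =>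
  Coprime.mem_normalizer_of_conj_mem fun y hy => by
    obtain ⟨z, hz, rfl⟩ := hy
    exact ⟨⟨m, hm⟩ * z * ⟨m, hm⟩⁻¹, (Core.fittingSubgroup_normal M).conj_mem z hz _, rfl⟩

theorem fittingHallOf_le_fittingOf (M : Subgroup G) : fittingHallOf M ≤ fittingOf M := by
  obtain ⟨hnil, -⟩ := fittingHall_props M
  haveI := hnil
  exact Subgroup.map_mono (Core.le_fittingSubgroup (fittingHall_normal M) inferInstance)

section
variable (hG : IsMinSimpleOddOrder G)
include hG
variable (hpl : ∀ (p : ℕ) [Fact p.Prime] (H : Subgroup G), H ≠ ⊤ → PLengthLE p 1 H)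
include hpl

/-- A `σ(M)'`-subgroup of prime order of `F(M)` is normal in `M`. -/
theorem le_normalizer_of_fitting {M : Subgroup G} (hM : IsCoatom M) {p : ℕ} [hp : Fact p.Prime] {y z : G}
    (hy : y ∈ fittingOf M) (hz : z ∈ fittingOf M) (hyo : orderOf y = p) (hzo : orderOf z = p) (hσ : p ∉ sigma M) :
    Subgroup.zpowers z = Subgroup.zpowers y := by
  set π := {q | q.Prime ∧ q ∉ sigma M} with hπ
  set F := fittingOf M
  set W := piCoreOf π F with hW
  obtain ⟨hcyc, -, hdec⟩ := fittingOf_decomp hG hpl hM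
  have hmem : ∀ a ∈ F, orderOf a = p → a ∈ W := by
    intro a ha hao
    have hWF : W ≤ F := Subgroup.map_subtype_le _
    have hFW : fittingOf (sigmaCore M) ≤ F := hdec.ge.trans' le_sup_left
    have hco : (orderOf (⟨a, ha⟩ : F)).Coprime (piCore π F).index := by
      rw [Subgroup.orderOf_mk, hao]
      refine hp.out.coprime_iff_not_dvd.mpr fun hd => hσ ?_
      have h1 : Nat.card F = Nat.card W * Nat.card (fittingOf (sigmaCore M)) := by
        rw [show F = fittingOf M from rfl, hdec, sup_comm, ← hW, Coprime.card_sup (hFW.trans (Core.BG.le_normalizer_piCoreOf π F))]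
        refine Coprime.inf_eq_bot_of_coprime (Nat.coprime_of_dvd fun q hq h2 h1 => ?_)
        exact ((Core.isPiNat_card_piCore π F) q hq (by rwa [piCoreOf, Core.card_map_subtype] at h1)).2
          (mem_sigma_of_dvd hq (h2.trans (Subgroup.card_dvd_of_le (Subgroup.map_subtype_le _))))
      rw [show W = (piCore π F).map F.subtype from rfl, Core.card_map_subtype, ← Subgroup.card_mul_index (piCore π F)] at h1
      rw [Nat.eq_of_mul_eq_mul_left Nat.card_pos h1] at hd
      exact mem_sigma_of_dvd hp.out (hd.trans (Subgroup.card_dvd_of_le (Subgroup.map_subtype_le _)))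
    exact ⟨⟨a, ha⟩, Subgroup.zpowers_le.mp (Core.le_of_coprime_index (H := Subgroup.zpowers (⟨a, ha⟩ : F))
      (N := piCore π F) (by rwa [Nat.card_zpowers])), rfl⟩
  exact le_antisymm
    (Core.BG.le_of_card_dvd_of_isCyclic hcyc (Subgroup.zpowers_le.mpr (hmem z hz hzo))
      (Subgroup.zpowers_le.mpr (hmem y hy hyo)) (by rw [Nat.card_zpowers, Nat.card_zpowers, hyo, hzo]))
    (Core.BG.le_of_card_dvd_of_isCyclic hcyc (Subgroup.zpowers_le.mpr (hmem y hy hyo))
      (Subgroup.zpowers_le.mpr (hmem z hz hzo)) (by rw [Nat.card_zpowers, Nat.card_zpowers, hyo, hzo]))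

/-- An element of prime order of `F(M) ∩ F(M)ᵍ` lies in `M_σ` and has centralizer outside `M`. -/
theorem moved_facts {M : Subgroup G} (hM : IsCoatom M) {g : G} (hg : g ∉ M) {p : ℕ} [hp : Fact p.Prime] {y : G}
    (hyo : orderOf y = p) (hy : y ∈ fittingOf M) (hy' : y ∈ cj g (fittingOf M)) :
    p ∈ sigma M ∧ y ∈ sigmaCore M ∧ y ∈ cj g (sigmaCore M) ∧ ¬ Subgroup.centralizer ({y} : Set G) ≤ M := by
  have hy1 : y ≠ 1 := fun e => hp.out.one_lt.ne' (by rw [← hyo, e, orderOf_one])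
  have hFM : fittingOf M ≤ M := Subgroup.map_subtype_le _
  have hσ : p ∈ sigma M := by
    by_contra hσ
    set Z := Subgroup.zpowers y with hZ
    have hnorm : M ≤ Subgroup.normalizer (Z : Set G) := fun m hm => cj_eq_iff.mp (by
      rw [hZ, cj, MonoidHom.map_zpowers]
      exact le_normalizer_of_fitting hG hpl hM hy ((Subgroup.mem_normalizer_iff.mp (le_normalizer_fittingOf M hm) y).mp hy)
        hyo (by simp only [MulEquiv.coe_toMonoidHom, MulAut.conj_apply]; rw [orderOf_conj_eq]; exact hyo) hσ)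
    have hN : Subgroup.normalizer (Z : Set G) = M := (hM.le_iff.mp hnorm).resolve_left
      (Core.BG.normalizer_ne_top_of_isPGroup hG (by rwa [hZ, ne_eq, Subgroup.zpowers_eq_bot])
        (isPGroup_of_card_prime (p := p) (by rw [Nat.card_zpowers, hyo])))
    refine hg (inv_mem_iff.mp (hN.le (cj_eq_iff.mp ?_)))
    rw [hZ, cj, MonoidHom.map_zpowers]
    refine le_normalizer_of_fitting hG hpl hM hy ?_ hyo
      (by simp only [MulEquiv.coe_toMonoidHom, MulAut.conj_apply]; rw [orderOf_conj_eq]; exact hyo) hσ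
    have := mem_cj.mp hy'
    simpa using this
  have hmem : ∀ {a : G}, a ∈ M → orderOf a = p → a ∈ sigmaCore M := fun {a} ha hao =>
    le_sigmaCore hG hM (Subgroup.zpowers_le.mpr ha) (fun q hq hd => by
      rw [Nat.card_zpowers, hao] at hd
      rw [(Nat.prime_dvd_prime_iff_eq hq hp.out).mp hd]
      exact hσ) (Subgroup.mem_zpowers a)
  have hyσ : y ∈ sigmaCore M := hmem (hFM hy) hyo
  refine ⟨hσ, hyσ, ?_, fun hC => hg ?_⟩
  · refine mem_cj.mpr (hmem (hFM (mem_cj.mp hy')) ?_)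
    have := orderOf_conj_eq g⁻¹ y
    rwa [inv_inv, hyo] at this
  · obtain ⟨-, -, -, htr, -, -⟩ := supportR_facts hG hpl hM hyσ hy1
    obtain ⟨r, hr, e⟩ := htr g (cj_mono hFM hy')
    rw [supportR_eq_bot hC, Subgroup.mem_bot] at hr
    rw [hr, cj_one] at e
    exact mem_of_cj_eq hG hM e.symm

theorem exists_moved {M : Subgroup G} (hM : IsCoatom M) {g : G} (hg : g ∉ M) {x : G} (hx1 : x ≠ 1)
    (hx : x ∈ fittingOf M) (hx' : x ∈ cj g (fittingOf M)) :
    ∃ (p : ℕ) (y : G), p.Prime ∧ orderOf y = p ∧ y ∈ fittingOf M ∧ y ∈ cj g (fittingOf M) := by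
  obtain ⟨p, hp, hd⟩ := Nat.exists_prime_and_dvd (show orderOf x ≠ 1 by rwa [ne_eq, orderOf_eq_one_iff])
  exact ⟨p, _, hp, orderOf_pow_orderOf_div (orderOf_pos x).ne' hd, pow_mem hx _, pow_mem hx' _⟩

/-- If `F(M)` is not TI then `M_σ` is nilpotent. -/
theorem isNilpotent_of_moved {M : Subgroup G} (hM : IsCoatom M) {g : G} (hg : g ∉ M) {p : ℕ} [hp : Fact p.Prime]
    {y : G} (hyo : orderOf y = p) (hy : y ∈ fittingOf M) (hy' : y ∈ cj g (fittingOf M)) :
    Group.IsNilpotent (sigmaCore M) := by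
  by_contra hne
  obtain ⟨hσ, hyσ, hyσ', hC⟩ := moved_facts hG hpl hM hg hyo hy hy'
  have hy1 : y ≠ 1 := fun e => hp.out.one_lt.ne' (by rw [← hyo, e, orderOf_one])
  obtain ⟨⟨K, hK⟩, hc⟩ := kappa_hall hG hpl hM
  obtain ⟨U, h⟩ := exists_decomp hG hpl hM (hc K hK) hK
  obtain ⟨hU, hK1⟩ := decomp_of_not_nilpotent hG hpl hM h hne
  obtain ⟨Q, hQ⟩ := exists_qData hG hpl hM h hne
  set q := Nat.card ↥(sigmaCore M ⊓ Subgroup.centralizer (K : Set G))
  haveI := Fact.mk hQ.prime
  have hqβ := qData_mem_beta hG hpl hM h hne hQ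
  have hpq : p ≠ q := fun e => by
    refine (inf_conj_facts hG hpl hM hg).2.1 p hp.out ?_ (e ▸ hqβ)
    rw [← hyo]
    exact Subgroup.orderOf_dvd_natCard _ (Subgroup.mem_inf.mpr ⟨hyσ, cj_mono (sigmaCore_le M) hyσ'⟩)
  obtain ⟨N, hN⟩ := exists_support hG hpl hM hyσ hy1 hC
  have hQF : Q ≤ fittingOf M := (qData_le_fittingHallOf hG hpl hM hQ).trans (fittingHallOf_le_fittingOf M)
  have hQC : Q ≤ Subgroup.centralizer ({y} : Set G) := fun a ha => by
    refine Subgroup.mem_centralizer_singleton_iff.mpr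
      (commute_of_mem_nilpotent (isNilpotent_fittingOf M) (hQF ha) hy ?_).eq
    obtain ⟨k, hk⟩ := IsPGroup.iff_card.mp hQ.pgroup
    refine Nat.Coprime.coprime_dvd_left (hk ▸ Subgroup.orderOf_dvd_natCard Q ha) ?_
    rw [hyo]
    exact ((Nat.coprime_primes hQ.prime hp.out).mpr (Ne.symm hpq)).pow_left k
  have hQN : Q ≤ M ⊓ N := le_inf (hQ.le.trans (sigmaCore_le M)) (hQC.trans hN.le)
  have hY : sigmaCore M ⊓ Subgroup.centralizer (K : Set G) ≠ ⊥ := IsPartner.kst_ne hG hpl hM hK hK1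
  obtain ⟨a, ha, ha1⟩ := (Subgroup.bot_or_exists_ne_one _).resolve_left hY
  have hnc : ¬ IsCyclic Q := not_isCyclic_over_fixed hG hpl hM hK hK1 hQ.pgroup hQ.le (hK.1.trans hQ.normal)
    hQ.sylow (hQ.fixed_le ha) ha1 ha
  have hqQ : q ∣ Nat.card Q := (Subgroup.card_dvd_of_le hQ.fixed_le)
  have hqN : q ∉ sigma N := complIn_notMem_sigma hG hN.coatom hN.compl hQ.prime
    (hqQ.trans (Subgroup.card_dvd_of_le hQN))
  have hr2 := pRankLE_two_of_notMem_sigma hG hN.coatom hQ.prime hqN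
  by_cases hr1 : PRankLE q 1 N
  · obtain ⟨S⟩ := (inferInstance : Nonempty (Sylow q Q))
    have hS := sylow_isCyclic_of_rankOne hG hr1 (hQN.trans inf_le_right) S
    have hS' : (S : Subgroup Q) = ⊤ := S.is_maximal'
      (show IsPGroup q (⊤ : Subgroup Q) from hQ.pgroup.to_subgroup ⊤) le_top |>.symm
    refine hnc ?_
    haveI : IsCyclic (⊤ : Subgroup Q) := hS' ▸ hS
    exact isCyclic_of_surjective _ (Subgroup.topEquiv : (⊤ : Subgroup Q) ≃* Q).surjective
  · exact not_ideal hG hN.coatom hqN hr2 hr1 hqβ.2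

/-- The Sylow subgroups of `M_σ` have small odd automorphism groups when `F(M)` is not TI. -/
theorem oddAutSmall_sylow {M : Subgroup G} (hM : IsCoatom M) {g : G} (hg : g ∉ M) {p : ℕ} [hp : Fact p.Prime] {y : G}
    (hyo : orderOf y = p) (hy : y ∈ fittingOf M) (hy' : y ∈ cj g (fittingOf M)) {t : ℕ} [ht : Fact t.Prime]
    {T : Subgroup G} (hT : IsPGroup t T) (hTσ : T ≤ sigmaCore M) (htT : t ∣ Nat.card T)
    (hTi : ¬ t ∣ T.relIndex (sigmaCore M)) : RankTwo.OddAutSmall t T := by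
  obtain ⟨hσ, hyσ, -, hC⟩ := moved_facts hG hpl hM hg hyo hy hy'
  have hy1 : y ≠ 1 := fun e => hp.out.one_lt.ne' (by rw [← hyo, e, orderOf_one])
  have hnil := isNilpotent_of_moved hG hpl hM hg hyo hy hy'
  obtain ⟨N, hN⟩ := exists_support hG hpl hM hyσ hy1 hC
  have ht2 : t ≠ 2 := ne_two_of_dvd hG (htT.trans (Subgroup.card_subgroup_dvd_card T))
  by_cases htp : t = p
  · subst htp
    obtain ⟨hpτ, -⟩ := hN.tau2_primes t ht.out (by rw [hyo])
    obtain ⟨A, hAE, hAe, hA2⟩ := exists_ea_le_compl hG hN.compl hpτ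
    obtain ⟨A0, hexc⟩ := exists_exc hG hpl hN.coatom hpτ.2.1 (hAE.trans hN.compl.1) hAe hA2
    have hAσ : A ≤ sigmaCore M :=
      le_sigmaCore hG hM (hAE.trans inf_le_left) (mem_of_pGroup (Components.ea_isPGroup hAe) hσ)
    -- `T` is the Sylow subgroup of the nilpotent group `M_σ`
    have hAT : A ≤ T := by
      haveI := hnil
      have hT' : IsPGroup t (T.subgroupOf (sigmaCore M)) := hT.comap_subtype
      obtain ⟨k, hk⟩ := IsPGroup.iff_card.mp hT'
      haveI : (T.subgroupOf (sigmaCore M)).Normal := hall_normal_of_isNilpotent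
        (hk ▸ ((ht.out.coprime_iff_not_dvd).mpr hTi).pow_left k)
      intro a ha
      refine Subgroup.mem_subgroupOf.mp ((Core.le_of_coprime_index (H := A.subgroupOf (sigmaCore M)) ?_)
        (Subgroup.mem_subgroupOf.mpr ha : (⟨a, hAσ ha⟩ : sigmaCore M) ∈ A.subgroupOf (sigmaCore M)))
      rw [Core.card_subgroupOf hAσ, hA2]
      exact ((ht.out.coprime_iff_not_dvd).mpr hTi).pow_left 2
    by_cases hr : PRankLE t 2 T
    · exact RankTwo.oddAutSmall_of_rankLE_two ht2 hT hr
    · have hmax := hexc.maxEA.subgroupOf hAT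
      exact RankTwo.oddAutSmall_of_maxEASq ht2 hT hr (E := A.subgroupOf T) ⟨hmax.ea, hmax.card, fun B hB hle =>
        le_antisymm (fun b hb => hmax.full b (Subgroup.centralizer_le hle
          (Subgroup.le_centralizer_iff_isMulCommutative.mpr hB.1 hb)) (hB.2 b hb)) hle⟩
  · have hTC : T ≤ Subgroup.centralizer ({y} : Set G) := fun a ha => by
      refine Subgroup.mem_centralizer_singleton_iff.mpr (commute_of_mem_nilpotent hnil (hTσ ha) hyσ ?_).eq
      obtain ⟨k, hk⟩ := IsPGroup.iff_card.mp hT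
      refine Nat.Coprime.coprime_dvd_left (hk ▸ Subgroup.orderOf_dvd_natCard T ha) ?_
      rw [hyo]
      exact ((Nat.coprime_primes ht.out hp.out).mpr htp).pow_left k
    have hTN : T ≤ M ⊓ N := le_inf (hTσ.trans (sigmaCore_le M)) (hTC.trans hN.le)
    have htN := complIn_notMem_sigma hG hN.coatom hN.compl ht.out (htT.trans (Subgroup.card_dvd_of_le hTN))
    exact RankTwo.oddAutSmall_of_rankLE_two ht2 hT (Components.pRankLE_of_injective
      (Subgroup.inclusion_injective (hTN.trans inf_le_right)) (pRankLE_two_of_notMem_sigma hG hN.coatom ht.out htN))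

/-- When `F(M)` is not TI, the `σ(M)'`-subgroups of `M'` centralize `M_σ`. -/
theorem le_centralizer_sigmaCore_of_moved {M : Subgroup G} (hM : IsCoatom M) {g : G} (hg : g ∉ M) {p : ℕ}
    [hp : Fact p.Prime] {y : G} (hyo : orderOf y = p) (hy : y ∈ fittingOf M) (hy' : y ∈ cj g (fittingOf M))
    {V : Subgroup G} (hV : V ≤ ⁅M, M⁆) (hVσ : ∀ q : ℕ, q.Prime → q ∣ Nat.card V → q ∉ sigma M) :
    V ≤ Subgroup.centralizer (sigmaCore M : Set G) := by
  have hnil := isNilpotent_of_moved hG hpl hM hg hyo hy hy'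
  refine Core.le_of_forall_exists_sylow_le fun q hq => ?_
  haveI := Fact.mk hq
  obtain ⟨S⟩ := (inferInstance : Nonempty (Sylow q V))
  refine ⟨S, ?_⟩
  rw [Subgroup.le_centralizer_iff]
  refine Core.le_of_forall_exists_sylow_le fun t ht => ?_
  haveI := Fact.mk ht
  obtain ⟨T⟩ := (inferInstance : Nonempty (Sylow t ↥(sigmaCore M)))
  refine ⟨T, ?_⟩
  set T' := (T : Subgroup ↥(sigmaCore M)).map (sigmaCore M).subtype with hT'
  rw [Subgroup.le_centralizer_iff]
  by_cases htd : t ∣ Nat.card T'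
  swap
  · have : T' = ⊥ := by
      obtain ⟨k, hk⟩ := IsPGroup.iff_card.mp (T.isPGroup'.map (sigmaCore M).subtype)
      refine Subgroup.eq_bot_of_card_eq _ ?_
      rcases k with _ | k
      · rw [hT', hk, pow_zero]
      · exact absurd (hk ▸ dvd_pow_self t k.succ_ne_zero) htd
    rw [this]
    intro a _
    exact Subgroup.mem_centralizer_iff.mpr fun b hb => by rw [Subgroup.mem_bot.mp hb, one_mul, mul_one]
  have hT'σ : T' ≤ sigmaCore M := Subgroup.map_subtype_le _
  have htσ : t ∈ sigma M := mem_sigma_of_dvd ht (htd.trans (Subgroup.card_dvd_of_le hT'σ))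
  by_cases hqV : q ∣ Nat.card ((S : Subgroup V).map V.subtype)
  swap
  · have : (S : Subgroup V).map V.subtype = ⊥ := by
      obtain ⟨k, hk⟩ := IsPGroup.iff_card.mp (S.isPGroup'.map V.subtype)
      refine Subgroup.eq_bot_of_card_eq _ ?_
      rcases k with _ | k
      · rw [hk, pow_zero]
      · exact absurd (hk ▸ dvd_pow_self q k.succ_ne_zero) hqV
    rw [this]
    exact bot_le
  obtain ⟨S', hS'⟩ := exists_sylow_eq_map hG hpl hM htσ T
  have hMT : M ≤ Subgroup.normalizer (T' : Set G) := hT' ▸ hS' ▸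
    le_normalizer_sylow_of_nilpotent hG hM hnil htσ S' (hS' ▸ hT'σ.trans (sigmaCore_le M))
  have hTi : ¬ t ∣ T'.relIndex (sigmaCore M) := by
    rw [hT', Subgroup.relIndex, Subgroup.subgroupOf, Subgroup.comap_map_eq_self_of_injective (sigmaCore M).subtype_injective]
    exact T.not_dvd_index
  exact Core.BG.le_centralizer_of_oddAutSmall
    (show q ≠ t from fun e => hVσ q hq (hqV.trans (Subgroup.card_dvd_of_le (Subgroup.map_subtype_le _))) (e ▸ htσ))
    (odd_of_dvd hG (Subgroup.card_subgroup_dvd_card M)) (Core.BG.isSolvable_proper hG hM.1)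
    (S.isPGroup'.map V.subtype) ((Subgroup.map_subtype_le _).trans hV) hMT
    (oddAutSmall_sylow hG hpl hM hg hyo hy hy' (T.isPGroup'.map _) hT'σ htd hTi)

/-- If `U ≠ 1` and `K ≠ 1` then `F(M)` is TI. -/
theorem fitting_isTI_of_U {M K U : Subgroup G} (hM : IsCoatom M) (h : IsSigmaDecomposition M K U) (hK1 : K ≠ ⊥)
    (hU1 : U ≠ ⊥) : IsTISubset (fittingOf M : Set G) := by
  intro g hg x hx hgx
  by_contra hx1
  have hgM : g⁻¹ ∉ M := fun h' => hg (inv_mem_iff.mp (le_normalizer_fittingOf M h'))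
  obtain ⟨p, y, hp, hyo, hy, hy'⟩ := exists_moved hG hpl hM hgM hx1 hx
    (mem_cj.mpr (by rw [inv_inv]; exact hgx))
  haveI := Fact.mk hp
  obtain ⟨-, hUp, -⟩ := decomp_facts hG hpl hM h
  have hUD : U ≤ ⁅M, M⁆ := (derived_eq_and_fixed_le hG hpl hM h hK1).1 ▸ le_sup_left
  have hUC := le_centralizer_sigmaCore_of_moved hG hpl hM hgM hyo hy hy' hUD (fun q hq hd => (hUp q hq hd).1)
  obtain ⟨U₀, hU₀, hexp, hfree⟩ := decomp_free hG hpl hM h
  refine hU1 ((Subgroup.eq_bot_iff_forall U).mpr fun u hu => ?_)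
  obtain ⟨-, hyσ, -, -⟩ := moved_facts hG hpl hM hgM hyo hy hy'
  have hy1 : y ≠ 1 := fun e => hp.one_lt.ne' (by rw [← hyo, e, orderOf_one])
  have hbot : U₀ = ⊥ := (Subgroup.eq_bot_iff_forall U₀).mpr fun v hv => hfree v hv
    ⟨h.compl.1 (hU₀ hv), y, hyσ, hy1, (Subgroup.mem_centralizer_iff.mp (hUC (hU₀ hv)) y hyσ).symm⟩
  have := Monoid.pow_exponent_eq_one (⟨u, hu⟩ : U)
  rw [← hexp, hbot, Monoid.exp_eq_one_iff.mpr inferInstance, pow_one] at this
  exact congrArg Subtype.val this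

/-- If `M_F ≠ M_σ` then `F(M)` is TI. -/
theorem fitting_isTI_of_ne {M : Subgroup G} (hM : IsCoatom M) (hne : fittingHallOf M ≠ sigmaCore M) :
    IsTISubset (fittingOf M : Set G) := by
  intro g hg x hx hgx
  by_contra hx1
  have hgM : g⁻¹ ∉ M := fun h' => hg (inv_mem_iff.mp (le_normalizer_fittingOf M h'))
  obtain ⟨p, y, hp, hyo, hy, hy'⟩ := exists_moved hG hpl hM hgM hx1 hx
    (mem_cj.mpr (by rw [inv_inv]; exact hgx))
  haveI := Fact.mk hp
  exact not_nilpotent_of_ne hG hpl hM hne (isNilpotent_of_moved hG hpl hM hgM hyo hy hy')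

end

end Cfsg.Agent.OddLocal.Sigma
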