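import Cfsg.Agent.OddLocal.Sigma.SigmaCoreFacts

/-! The structure of `Q` when `M_F ≠ M_σ` (BG 15.2). -/

set_option autoImplicit false
set_option linter.style.haveILetI false
set_option linter.unusedSectionVars false

namespace Cfsg.Agent.OddLocal.Sigma

open Cfsg
open scoped commutatorElement

variable {G : Type*} [Group G] [Finite G]

theorem mem_normalizer_commutator {A B : Subgroup G} {g : G} (hA : g ∈ Subgroup.normalizer (A : Set G))
    (hB : g ∈ Subgroup.normalizer (B : Set G)) : g ∈ Subgroup.normalizer ((⁅A, B⁆ : Subgroup G) : Set G) :=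
  cj_eq_iff.mp (by rw [cj, Subgroup.map_commutator, ← cj, ← cj, cj_eq_iff.mpr hA, cj_eq_iff.mpr hB])

theorem mem_normalizer_sup {A B : Subgroup G} {g : G} (hA : g ∈ Subgroup.normalizer (A : Set G))
    (hB : g ∈ Subgroup.normalizer (B : Set G)) : g ∈ Subgroup.normalizer ((A ⊔ B : Subgroup G) : Set G) :=
  cj_eq_iff.mp (by rw [cj, Subgroup.map_sup, ← cj, ← cj, cj_eq_iff.mpr hA, cj_eq_iff.mpr hB])

theorem mem_normalizer_centralizer {A : Subgroup G} {g : G} (hA : g ∈ Subgroup.normalizer (A : Set G)) :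
    g ∈ Subgroup.normalizer ((Subgroup.centralizer (A : Set G) : Subgroup G) : Set G) := by
  refine Coprime.mem_normalizer_of_conj_mem fun c hc => Subgroup.mem_centralizer_iff.mpr fun a ha => ?_
  have h1 := Subgroup.mem_centralizer_iff.mp hc (g⁻¹ * a * g) ((Subgroup.mem_set_normalizer_iff''.mp hA a).mp ha)
  calc a * (g * c * g⁻¹) = g * ((g⁻¹ * a * g) * c) * g⁻¹ := by group
    _ = g * (c * (g⁻¹ * a * g)) * g⁻¹ := by rw [h1]
    _ = g * c * g⁻¹ * a := by group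

theorem mem_normalizer_inf {A B : Subgroup G} {g : G} (hA : g ∈ Subgroup.normalizer (A : Set G))
    (hB : g ∈ Subgroup.normalizer (B : Set G)) : g ∈ Subgroup.normalizer ((A ⊓ B : Subgroup G) : Set G) :=
  Subgroup.inf_normalizer_le_normalizer_inf (Subgroup.mem_inf.mpr ⟨hA, hB⟩)

theorem cj_centralizer (g : G) (A : Subgroup G) :
    cj g (Subgroup.centralizer (A : Set G)) = Subgroup.centralizer ((cj g A : Subgroup G) : Set G) := by
  ext c
  rw [mem_cj, Subgroup.mem_centralizer_iff, Subgroup.mem_centralizer_iff]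
  constructor
  · intro h a ha
    have h1 := h (g⁻¹ * a * g) (mem_cj.mp ha)
    calc a * c = g * ((g⁻¹ * a * g) * (g⁻¹ * c * g)) * g⁻¹ := by group
      _ = g * ((g⁻¹ * c * g) * (g⁻¹ * a * g)) * g⁻¹ := by rw [h1]
      _ = c * a := by group
  · intro h a ha
    have h1 := h (g * a * g⁻¹) (mem_cj.mpr (by rwa [show g⁻¹ * (g * a * g⁻¹) * g = a by group]))
    calc a * (g⁻¹ * c * g) = g⁻¹ * ((g * a * g⁻¹) * c) * g := by group
      _ = g⁻¹ * (c * (g * a * g⁻¹)) * g := by rw [h1]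
      _ = g⁻¹ * c * g * a := by group

theorem cj_inf (g : G) (A B : Subgroup G) : cj g (A ⊓ B) = cj g A ⊓ cj g B :=
  Subgroup.map_inf _ _ _ (MulAut.conj g).injective

/-- In a nilpotent group a non-trivial subgroup `R` is not `[R, Q]`. -/
theorem commutator_ne_of_isNilpotent {Q R : Subgroup G} (hQ : Group.IsNilpotent Q) (hRQ : R ≤ Q) (hR : R ≠ ⊥) :
    ¬ R ≤ ⁅R, Q⁆ := by
  intro hle
  haveI := hQ
  have key : ∀ n : ℕ, R.subgroupOf Q ≤ Subgroup.lowerCentralSeries (⊤ : Subgroup Q) n := by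
    intro n
    induction n with
    | zero => rw [Subgroup.lowerCentralSeries_zero]; exact le_top
    | succ n ih =>
      rw [Subgroup.lowerCentralSeries_succ]
      refine le_trans (le_of_le_of_eq ?_ (rfl : ⁅R.subgroupOf Q, (⊤ : Subgroup Q)⁆ = _))
        (Subgroup.commutator_mono ih le_rfl)
      intro x hx
      have h1 : (x : G) ∈ (⁅R.subgroupOf Q, (⊤ : Subgroup Q)⁆).map Q.subtype := by
        rw [Subgroup.map_commutator, Subgroup.subgroupOf_map_subtype, inf_eq_left.mpr hRQ,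
          ← MonoidHom.range_eq_map, Subgroup.range_subtype]
        exact hle (Subgroup.mem_subgroupOf.mp hx)
      obtain ⟨y, hy, e⟩ := h1
      rwa [← Subtype.ext e]
  obtain ⟨n, hn⟩ := nilpotent_iff_lowerCentralSeries.mp hQ
  have h1 := key n
  rw [hn, le_bot_iff] at h1
  refine hR ((Subgroup.eq_bot_iff_forall R).mpr fun x hx => ?_)
  have h2 : (⟨x, hRQ hx⟩ : Q) ∈ R.subgroupOf Q := Subgroup.mem_subgroupOf.mpr hx
  rw [h1, Subgroup.mem_bot] at h2
  exact congrArg Subtype.val h2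

/-- A nilpotent group on which a group of prime order acts freely centralizes any `q`-group on which that
group acts freely. -/
theorem le_centralizer_of_free {p q : ℕ} [hp : Fact p.Prime] [hq : Fact q.Prime] (hp2 : p ≠ 2) (hq2 : q ≠ 2)
    (hpq : p ≠ q) {P D S : Subgroup G} (hP : Nat.card P = p) (hS : IsPGroup q S) (hDn : Group.IsNilpotent D)
    (hodd : Odd (Nat.card D)) (hqD : ¬ q ∣ Nat.card D) (hpD : ¬ p ∣ Nat.card D)
    (hPD : P ≤ Subgroup.normalizer (D : Set G)) (hPS : P ≤ Subgroup.normalizer (S : Set G))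
    (hDS : D ≤ Subgroup.normalizer (S : Set G)) (hDP : D ⊓ Subgroup.centralizer (P : Set G) = ⊥)
    (hSP : S ⊓ Subgroup.centralizer (P : Set G) = ⊥) : D ≤ Subgroup.centralizer (S : Set G) := by
  refine Core.le_of_forall_exists_sylow_le fun r hr => ?_
  haveI := Fact.mk hr
  obtain ⟨T⟩ := (inferInstance : Nonempty (Sylow r D))
  refine ⟨T, ?_⟩
  set X := (T : Subgroup D).map D.subtype
  by_cases hT1 : (T : Subgroup D) = ⊥
  · simp only [X, hT1, Subgroup.map_bot, bot_le]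
  have hrD : r ∣ Nat.card D := by
    obtain ⟨k, hk⟩ := IsPGroup.iff_card.mp T.isPGroup'
    rcases Nat.eq_zero_or_pos k with rfl | hk0
    · exact absurd (Subgroup.eq_bot_of_card_eq _ (hk.trans (pow_zero r))) hT1
    · exact (dvd_pow_self r hk0.ne').trans (hk ▸ Subgroup.card_subgroup_dvd_card _)
  haveI hTn : (T : Subgroup D).Normal := Core.isNilpotent_iff_forall_sylow_normal.mp hDn r inferInstance T
  have hNX : Subgroup.normalizer (D : Set G) ≤ Subgroup.normalizer (X : Set G) := fun m hm =>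
    Coprime.mem_normalizer_of_conj_mem fun y hy => by
      obtain ⟨z, hz, rfl⟩ := hy
      haveI : (T : Subgroup D).Characteristic := T.characteristic_of_normal hTn
      exact ⟨D.normalizerMonoidHom ⟨m, hm⟩ z, Subgroup.characteristic_iff_map_le.mp inferInstance
        (D.normalizerMonoidHom ⟨m, hm⟩) ⟨z, hz, rfl⟩, rfl⟩
  have hX : IsPGroup r X := T.isPGroup'.map _
  have hXD : X ≤ D := Subgroup.map_subtype_le _
  haveI : Group.IsSolvable P := Coprime.isSolvable_of_isPGroup (isPGroup_of_card_prime hP)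
  have hrp : r ≠ p := fun e => hpD (e ▸ hrD)
  have hrq : r ≠ q := fun e => hqD (e ▸ hrD)
  have hr2 : r ≠ 2 := fun e => Nat.not_even_iff_odd.mpr hodd (even_iff_two_dvd.mpr (e ▸ hrD))
  have hPX : P ≤ Subgroup.normalizer (X : Set G) := hPD.trans hNX
  have hXP : ⁅X, P⁆ = X := by
    refine le_antisymm (Coprime.commutator_le_of_le_normalizer hPX) ?_
    refine (Coprime.eq_commutator_sup_centralizer hPX
      (coprime_of_pGroups hrp.symm (isPGroup_of_card_prime hP) hX)).le.trans (sup_le le_rfl ?_)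
    exact ((inf_le_inf_right _ hXD).trans hDP.le).trans bot_le
  refine le_centralizer_of_fix (p := q) (q := r) hp.out hq2 hr2 hrq.symm hpq.symm hrp hX hP hS hPX hPS
    (hXD.trans hDS) hXP fun x hx hxP _ => ?_
  have h1 : x ∈ S ⊓ Subgroup.centralizer (P : Set G) := Subgroup.mem_inf.mpr ⟨hx, hxP⟩
  rw [hSP, Subgroup.mem_bot] at h1
  rw [h1]; exact one_mem _

variable (hG : IsMinSimpleOddOrder G)
include hG
variable (hpl : ∀ (p : ℕ) [Fact p.Prime] (H : Subgroup G), H ≠ ⊤ → PLengthLE p 1 H)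
include hpl

/-- The properties of `Q` relative to a complement `D`. -/
structure QStructure (M K Q D : Subgroup G) (q : ℕ) : Prop where
  nilpotent : Group.IsNilpotent D
  normal : M ≤ Subgroup.normalizer ((Q ⊓ Subgroup.centralizer (D : Set G) : Subgroup G) : Set G)
  lt : Q ⊓ Subgroup.centralizer (D : Set G) < Q
  kappa_prime : (Nat.card K).Prime
  card : Nat.card Q = Nat.card ↥(Q ⊓ Subgroup.centralizer (D : Set G)) * q ^ Nat.card K
  elementary : ∀ a ∈ Q, ∀ b ∈ Q, a ^ q ∈ Q ⊓ Subgroup.centralizer (D : Set G) ∧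
    a * b * a⁻¹ * b⁻¹ ∈ Q ⊓ Subgroup.centralizer (D : Set G)
  minimal : ∀ N : Subgroup G, Q ⊓ Subgroup.centralizer (D : Set G) < N → N < Q →
    ¬ M ≤ Subgroup.normalizer (N : Set G)
  derived : ⁅D, D⁆ ≤ Subgroup.centralizer (Q : Set G)
  fixed_not_le : ¬ sigmaCore M ⊓ Subgroup.centralizer (K : Set G) ≤ Subgroup.centralizer (D : Set G)

theorem qData_hall {M K Q : Subgroup G} {q : ℕ} (hQ : QData M K Q q) {D : Subgroup G}
    (hD : IsComplIn Q D (sigmaCore M)) :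
    IsPiHallOf {r | r.Prime ∧ r ≠ q} D (sigmaCore M) := by
  haveI := Fact.mk hQ.prime
  have hqD : ¬ q ∣ Nat.card D := fun h => hQ.sylow (by rwa [OddLocal.IsComplIn.relIndex_left hD])
  refine ⟨hD.2.1, fun r hr hd => ⟨hr, fun e => hqD (e ▸ hd)⟩, fun r hr hrq hd => hrq.2 ?_⟩
  rw [OddLocal.IsComplIn.relIndex_right hD] at hd
  obtain ⟨k, hk⟩ := IsPGroup.iff_card.mp hQ.pgroup
  rw [hk] at hd
  exact (Nat.prime_dvd_prime_iff_eq hr hQ.prime).mp (hr.dvd_of_dvd_pow hd)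

theorem qStructure_of_invariant {M K U Q D : Subgroup G} {q : ℕ} (hM : IsCoatom M)
    (h : IsSigmaDecomposition M K U) (hne : ¬ Group.IsNilpotent (sigmaCore M)) (hQ : QData M K Q q)
    (hD : IsComplIn Q D (sigmaCore M)) (hKD : K ≤ Subgroup.normalizer (D : Set G)) : QStructure M K Q D q := by
  classical
  haveI := Fact.mk hQ.prime
  obtain ⟨hU0, hK1⟩ := decomp_of_not_nilpotent hG hpl hM h hne
  obtain ⟨-, -, hfixP, hfix⟩ := kappa_hall_facts hG hpl hM h.hall hK1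
  set Y := sigmaCore M ⊓ Subgroup.centralizer (K : Set G) with hY
  have hYc : Nat.card Y = q := hQ.card
  obtain ⟨p, hp, P, hP, hPK⟩ := exists_prime_le hK1
  haveI := Fact.mk hp
  obtain ⟨π, hπ, hπ1⟩ := P.bot_or_exists_ne_one.resolve_left (ne_bot_of_card_prime hP)
  have hπo : orderOf π = p := by rw [← Nat.card_zpowers, zpowers_eq_of_card_prime hP hπ hπ1, hP]
  have hσM := sigmaCore_le M
  have hQM : Q ≤ M := hQ.le.trans hσM
  have hDσ : D ≤ sigmaCore M := hD.2.1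
  have hDM : D ≤ M := hDσ.trans hσM
  have hKM : K ≤ M := h.hall.1
  haveI hMs := Core.BG.isSolvable_proper hG hM.1
  have hproper : ∀ {H : Subgroup G}, H ≤ M → H ≠ ⊤ := fun hH e => hM.1 (top_le_iff.mp (e.ge.trans hH))
  haveI : Group.IsSolvable K := Core.BG.isSolvable_proper hG (hproper hKM)
  haveI : Group.IsSolvable D := Core.BG.isSolvable_proper hG (hproper hDM)
  haveI hQnil : Group.IsNilpotent Q := hQ.pgroup.isNilpotent
  have hqD : ¬ q ∣ Nat.card D := fun hd => ((qData_hall hG hpl hQ hD).2.1 q hQ.prime hd).2 rfl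
  obtain ⟨j, hj⟩ := IsPGroup.iff_card.mp hQ.pgroup
  have hqσ : q ∈ sigma M := mem_sigma_of_dvd hQ.prime (hYc ▸ Subgroup.card_dvd_of_le inf_le_left)
  have hqK : ¬ q ∣ Nat.card K := fun hd => (h.hall.2.1 q hQ.prime hd).2.2.1 hqσ
  have hcDQ : (Nat.card D).Coprime (Nat.card Q) := hj ▸ ((hQ.prime.coprime_iff_not_dvd.mpr hqD).symm.pow_right j)
  have hcKQ : (Nat.card K).Coprime (Nat.card Q) := hj ▸ ((hQ.prime.coprime_iff_not_dvd.mpr hqK).symm.pow_right j)
  have hKσ : (Nat.card K).Coprime (Nat.card (sigmaCore M)) := Nat.coprime_of_dvd fun r hr h1 h2 =>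
    (h.hall.2.1 r hr h1).2.2.1 (mem_sigma_of_dvd hr h2)
  have hDK1 : D ⊓ K = ⊥ :=
    Coprime.inf_eq_bot_of_coprime (hKσ.coprime_dvd_right (Subgroup.card_dvd_of_le hDσ))
  have hQD : Q ⊓ D = ⊥ := hD.2.2.1
  have hfreeD : ∀ k ∈ K, k ≠ 1 → D ⊓ Subgroup.centralizer ({k} : Set G) = ⊥ := fun k hk hk1 => by
    rw [eq_bot_iff, ← hQD]
    exact le_inf (((inf_le_inf_right _ hDσ).trans (hfix k hk hk1).le).trans hQ.fixed_le) inf_le_left
  have hDP : D ⊓ Subgroup.centralizer (P : Set G) = ⊥ := by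
    rw [← centralizer_eq_of_card_prime hP hπ hπ1]; exact hfreeD π (hPK hπ) hπ1
  have hDn : Group.IsNilpotent D := Core.BG.isNilpotent_of_fpf_prime hp hπo (hKD (hPK hπ)) (hfreeD π (hPK hπ) hπ1)
  have hgenσ : ∀ m ∈ sigmaCore M, ∃ a ∈ Q, ∃ d ∈ D, m = a * d := hD.2.2.2
  have hgen : ∀ m ∈ M, ∃ a ∈ Q, ∃ d ∈ D, ∃ k ∈ K, m = a * d * k := by
    intro m hm
    obtain ⟨u, hu, b, hb, e⟩ := h.compl.2.2.2 m hm
    rw [hU0, Subgroup.mem_bot] at hu
    obtain ⟨s, hs, k, hk, rfl⟩ := Coprime.exists_mul_of_mem_sup (hKM.trans (le_normalizer_sigmaCore M))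
      (show b ∈ sigmaCore M ⊔ K by rwa [sup_comm])
    obtain ⟨a, ha, d, hd, rfl⟩ := hgenσ s hs
    exact ⟨a, ha, d, hd, k, hk, by rw [e, hu, one_mul]⟩
  have hD1 : D ≠ ⊥ := by
    intro e
    refine hne (Core.isNilpotent_of_le ?_ hQnil)
    intro m hm
    obtain ⟨a, ha, d, hd, rfl⟩ := hgenσ m hm
    rw [e, Subgroup.mem_bot] at hd
    rwa [hd, mul_one]
  -- `R = [Q, D]`
  set R := ⁅Q, D⁆ with hR
  have hDQ : D ≤ Subgroup.normalizer (Q : Set G) := hDM.trans hQ.normal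
  have hRQ : R ≤ Q := Coprime.commutator_le_of_le_normalizer hDQ
  have hRD : ⁅R, D⁆ = R := Coprime.commutator_commutator_eq hDQ hcDQ
  have hMR : M ≤ Subgroup.normalizer (R : Set G) := fun m hm => by
    obtain ⟨a, ha, d, hd, k, hk, rfl⟩ := hgen m hm
    exact mul_mem (mul_mem (Subgroup.normalizer_commutator_ge_left Q D ha)
      (Subgroup.normalizer_commutator_ge_right Q D hd)) (mem_normalizer_commutator (hQ.normal (hKM hk)) (hKD hk))
  have hR1 : R ≠ ⊥ := by
    intro e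
    refine hne ?_
    have hcomm : Q ≤ Subgroup.centralizer (D : Set G) := Subgroup.commutator_eq_bot_iff_le_centralizer.mp e
    have hQn : (Q.subgroupOf (sigmaCore M)).Normal :=
      (Subgroup.normal_subgroupOf_iff_le_normalizer hQ.le).mpr (hσM.trans hQ.normal)
    have hDnrm : (D.subgroupOf (sigmaCore M)).Normal :=
      (Subgroup.normal_subgroupOf_iff_le_normalizer hDσ).mpr fun m hm => by
        obtain ⟨a, ha, d, hd, rfl⟩ := hgenσ m hm
        exact mul_mem (Subgroup.centralizer_le_normalizer _ (hcomm ha)) (Subgroup.le_normalizer hd)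
    have hn := Core.isNilpotent_sup_of_normal hQn hDnrm
      (Group.nilpotent_of_mulEquiv (Subgroup.subgroupOfEquivOfLe hQ.le).symm)
      (haveI := hDn; Group.nilpotent_of_mulEquiv (Subgroup.subgroupOfEquivOfLe hDσ).symm)
    have htop : Q.subgroupOf (sigmaCore M) ⊔ D.subgroupOf (sigmaCore M) = ⊤ := by
      rw [eq_top_iff]
      intro m _
      obtain ⟨a, ha, d, hd, e⟩ := hgenσ m m.2
      rw [show m = ⟨a, hQ.le ha⟩ * ⟨d, hDσ hd⟩ from Subtype.ext e]
      exact mul_mem (Subgroup.mem_sup_left (Subgroup.mem_subgroupOf.mpr ha))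
        (Subgroup.mem_sup_right (Subgroup.mem_subgroupOf.mpr hd))
    rw [htop] at hn
    haveI := hn
    exact Group.nilpotent_of_mulEquiv Subgroup.topEquiv
  set Φ := ⁅R, R⁆ with hΦ
  have hΦR : Φ ≤ R := Coprime.commutator_le_of_le_normalizer Subgroup.le_normalizer
  have hMΦ : M ≤ Subgroup.normalizer (Φ : Set G) := fun m hm => mem_normalizer_commutator (hMR hm) (hMR hm)
  have hΦne : ¬ R ≤ Φ := fun hle =>
    commutator_ne_of_isNilpotent hQnil hRQ hR1 (hle.trans (Subgroup.commutator_mono le_rfl hRQ))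
  have hRM : R ≤ M := hRQ.trans hQM
  have hΦM : Φ ≤ M := hΦR.trans hRM
  -- the quotient by `Φ`
  haveI : (Φ.subgroupOf M).Normal := (Subgroup.normal_subgroupOf_iff_le_normalizer hΦM).mpr hMΦ
  set f := QuotientGroup.mk' (Φ.subgroupOf M) with hf
  set im : Subgroup G → Subgroup (↥M ⧸ Φ.subgroupOf M) := fun H => (H.subgroupOf M).map f with him
  have hker : ∀ {x : M}, f x = 1 ↔ (x : G) ∈ Φ := fun {x} =>
    (QuotientGroup.eq_one_iff x).trans Subgroup.mem_subgroupOf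
  have hmem : ∀ {H : Subgroup G}, Φ ≤ H → ∀ {x : M}, f x ∈ im H ↔ (x : G) ∈ H := by
    intro H hH x
    refine ⟨fun ⟨y, hy, e⟩ => ?_, fun hx => ⟨x, Subgroup.mem_subgroupOf.mpr hx, rfl⟩⟩
    have h1 : f (y⁻¹ * x) = 1 := by rw [map_mul, map_inv, e, inv_mul_cancel]
    have h2 := H.mul_mem (Subgroup.mem_subgroupOf.mp hy) (hH (hker.mp h1))
    rwa [Subgroup.coe_mul, Subgroup.coe_inv, mul_inv_cancel_left] at h2
  have hcardim : ∀ {H : Subgroup G}, H ≤ M → Nat.card (im H) ∣ Nat.card H := fun {H} hH =>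
    (Subgroup.card_map_dvd (H.subgroupOf M) f).trans (Core.card_subgroupOf hH).dvd
  have hnorm : ∀ {A H : Subgroup G}, A ≤ Subgroup.normalizer (H : Set G) →
      im A ≤ Subgroup.normalizer ((im H : Subgroup _) : Set _) := by
    rintro A H hAH _ ⟨a, ha, rfl⟩
    refine Coprime.mem_normalizer_of_conj_mem ?_
    rintro _ ⟨x, hx, rfl⟩
    exact ⟨a * x * a⁻¹, Subgroup.mem_subgroupOf.mpr ((Subgroup.mem_normalizer_iff.mp
      (hAH (Subgroup.mem_subgroupOf.mp ha)) x).mp (Subgroup.mem_subgroupOf.mp hx)), by rw [map_mul, map_mul, map_inv]⟩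
  set V := im R
  have hVab : IsMulCommutative V := ⟨⟨fun a b => by
    obtain ⟨x, hx, hxe⟩ := a.2
    obtain ⟨z, hz, hze⟩ := b.2
    refine Subtype.ext ?_
    show (a : ↥M ⧸ Φ.subgroupOf M) * b = b * a
    rw [← hxe, ← hze, ← commutatorElement_eq_one_iff_mul_comm, ← map_commutatorElement]
    exact hker.mpr (Subgroup.commutator_mem_commutator (Subgroup.mem_subgroupOf.mp hx) (Subgroup.mem_subgroupOf.mp hz))⟩⟩
  haveI hXs : Group.IsSolvable (↥M ⧸ Φ.subgroupOf M) := inferInstance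
  have hΦD : Φ ⊓ D = ⊥ := eq_bot_iff.mpr (hQD ▸ inf_le_inf_right _ (hΦR.trans hRQ))
  have hΦK : Φ ⊓ K = ⊥ := Coprime.inf_eq_bot_of_coprime
    (hcKQ.coprime_dvd_right (Subgroup.card_dvd_of_le (hΦR.trans hRQ)))
  have hinj : ∀ {H : Subgroup G}, Φ ⊓ H = ⊥ → ∀ {x : M}, (x : G) ∈ H → f x = 1 → x = 1 := fun {H} hH {x} hx e =>
    Subtype.ext (Subgroup.mem_bot.mp (hH.le (Subgroup.mem_inf.mpr ⟨hker.mp e, hx⟩)))
  have hcop : (Nat.card ↥(im D ⊔ im K)).Coprime (Nat.card V) := by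
    rw [Coprime.card_sup (hnorm hKD) (Coprime.inf_eq_bot_of_coprime (Nat.Coprime.coprime_dvd_left (hcardim hKM)
      (Nat.Coprime.coprime_dvd_right (hcardim hDM) (hKσ.coprime_dvd_right (Subgroup.card_dvd_of_le hDσ)))))]
    exact Nat.Coprime.mul_left
      (Nat.Coprime.coprime_dvd_left (hcardim hDM) (Nat.Coprime.coprime_dvd_right
        ((hcardim hRM).trans (Subgroup.card_dvd_of_le hRQ)) hcDQ))
      (Nat.Coprime.coprime_dvd_left (hcardim hKM) (Nat.Coprime.coprime_dvd_right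
        ((hcardim hRM).trans (Subgroup.card_dvd_of_le hRQ)) hcKQ))
  have hVD : V ⊓ Subgroup.centralizer ((im D : Subgroup _) : Set _) = ⊥ := by
    have h1 := Coprime.commutator_inf_centralizer_eq_bot (V := V) (A := im D) (hnorm (hDM.trans hMR)) hVab
      (hcop.coprime_dvd_left (Subgroup.card_dvd_of_le le_sup_left))
    have h2 : ⁅V, im D⁆ = V := by
      show ⁅(R.subgroupOf M).map f, (D.subgroupOf M).map f⁆ = (R.subgroupOf M).map f
      rw [← Subgroup.map_commutator]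
      congr 1
      apply Subgroup.map_injective M.subtype_injective
      rw [Subgroup.map_commutator, Subgroup.subgroupOf_map_subtype, Subgroup.subgroupOf_map_subtype,
        inf_eq_left.mpr hRM, inf_eq_left.mpr hDM, hRD]
    rwa [h2] at h1
  have hfixV : ∀ x ∈ im K, x ≠ 1 → V ⊓ Subgroup.centralizer ({x} : Set _) = im (R ⊓ Y) := by
    rintro _ ⟨k, hk, rfl⟩ hk1
    have hkK : (k : G) ∈ K := Subgroup.mem_subgroupOf.mp hk
    have hk1' : (k : G) ≠ 1 := fun e => hk1 (by rw [show k = 1 from Subtype.ext e, map_one])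
    refine le_antisymm ?_ ?_
    · intro v hv
      obtain ⟨⟨r, hr, rfl⟩, hvk⟩ := Subgroup.mem_inf.mp hv
      have hc : Commute (f r) (f k) := Subgroup.mem_centralizer_singleton_iff.mp hvk
      have hzK : Subgroup.zpowers (k : G) ≤ K := Subgroup.zpowers_le.mpr hkK
      haveI : Group.IsSolvable (Subgroup.zpowers (k : G)) :=
        Core.BG.isSolvable_proper hG (hproper (hzK.trans hKM))
      obtain ⟨z, hz, c, hc', e⟩ := Coprime.exists_mul_centralizer (N := R) (M := Φ) (A := Subgroup.zpowers (k : G))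
        ((hzK.trans hKM).trans hMR) (hcKQ.coprime_dvd_left (Subgroup.card_dvd_of_le hzK) |>.coprime_dvd_right
          (Subgroup.card_dvd_of_le hRQ)) hΦR ((hzK.trans hKM).trans hMΦ) (Subgroup.mem_subgroupOf.mp hr) (fun a ha => by
          obtain ⟨i, rfl⟩ := ha
          show ((⁅r, k ^ i⁆ : M) : G) ∈ Φ
          rw [← hker, map_commutatorElement, map_zpow, commutatorElement_eq_one_iff_mul_comm]
          exact (hc.zpow_right i).eq)
      obtain ⟨hcR, hcC⟩ := Subgroup.mem_inf.mp hc'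
      have hcY : c ∈ Y := (hfix k hkK hk1').le (Subgroup.mem_inf.mpr ⟨hQ.le (hRQ hcR),
        (centralizer_singleton_eq rfl).ge hcC⟩)
      refine ⟨⟨c, hRM hcR⟩, Subgroup.mem_subgroupOf.mpr (Subgroup.mem_inf.mpr ⟨hcR, hcY⟩), ?_⟩
      refine QuotientGroup.eq.mpr (Subgroup.mem_subgroupOf.mpr ?_)
      show c⁻¹ * (r : G) ∈ Φ
      rw [e]
      exact (Subgroup.mem_set_normalizer_iff''.mp (hMΦ (hRM hcR)) z).mp hz |> fun h' => by rwa [mul_assoc] at h'
    · rintro _ ⟨y, hy, rfl⟩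
      obtain ⟨hyR, hyY⟩ := Subgroup.mem_inf.mp (Subgroup.mem_subgroupOf.mp hy)
      refine Subgroup.mem_inf.mpr ⟨⟨y, Subgroup.mem_subgroupOf.mpr hyR, rfl⟩,
        Subgroup.mem_centralizer_singleton_iff.mpr ?_⟩
      rw [← map_mul, ← map_mul]
      exact congrArg f (Subtype.ext (Subgroup.mem_centralizer_iff.mp (Subgroup.mem_inf.mp hyY).2 k hkK).symm)
  have hRYq : Nat.card (im (R ⊓ Y)) ∣ q :=
    (hcardim (inf_le_left.trans hRM)).trans (hYc ▸ Subgroup.card_dvd_of_le inf_le_right)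
  have hDne : im D ≠ ⊥ := fun e => hD1 ((Subgroup.eq_bot_iff_forall D).mpr fun d hd => by
    have h1 : f ⟨d, hDM hd⟩ ∈ im D := ⟨_, Subgroup.mem_subgroupOf.mpr hd, rfl⟩
    rw [e, Subgroup.mem_bot] at h1
    exact congrArg Subtype.val (hinj hΦD (x := ⟨d, hDM hd⟩) hd h1))
  have hKne : im K ≠ ⊥ := fun e => hK1 ((Subgroup.eq_bot_iff_forall K).mpr fun d hd => by
    have h1 : f ⟨d, hKM hd⟩ ∈ im K := ⟨_, Subgroup.mem_subgroupOf.mpr hd, rfl⟩
    rw [e, Subgroup.mem_bot] at h1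
    exact congrArg Subtype.val (hinj hΦK (x := ⟨d, hKM hd⟩) hd h1))
  have hfrob : ∀ r ∈ im K, r ≠ 1 → im D ⊓ Subgroup.centralizer ({r} : Set _) = ⊥ := by
    rintro _ ⟨k, hk, rfl⟩ hk1
    rw [Subgroup.eq_bot_iff_forall]
    intro d hd
    obtain ⟨⟨d', hd', rfl⟩, hdc⟩ := Subgroup.mem_inf.mp hd
    have hkK : (k : G) ∈ K := Subgroup.mem_subgroupOf.mp hk
    have hk1' : (k : G) ≠ 1 := fun e => hk1 (by rw [show k = 1 from Subtype.ext e, map_one])
    have hdD : (d' : G) ∈ D := Subgroup.mem_subgroupOf.mp hd'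
    have h1 : f ⁅k, d'⁆ = 1 := by
      rw [map_commutatorElement, commutatorElement_eq_one_iff_mul_comm]
      exact (Subgroup.mem_centralizer_singleton_iff.mp hdc).symm
    have h2 : ((⁅k, d'⁆ : M) : G) ∈ D :=
      D.mul_mem ((Subgroup.mem_normalizer_iff.mp (hKD hkK) _).mp hdD) (D.inv_mem hdD)
    have h3 := hinj hΦD (x := ⁅k, d'⁆) h2 h1
    have h4 : (d' : G) ∈ D ⊓ Subgroup.centralizer ({(k : G)} : Set G) := by
      refine Subgroup.mem_inf.mpr ⟨hdD, Subgroup.mem_centralizer_singleton_iff.mpr ?_⟩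
      exact (congrArg Subtype.val (commutatorElement_eq_one_iff_mul_comm.mp h3) :).symm
    rw [hfreeD k hkK hk1', Subgroup.mem_bot] at h4
    rw [show d' = 1 from Subtype.ext h4, map_one]
  have hDK : im D ⊓ im K = ⊥ := Coprime.inf_eq_bot_of_coprime (Nat.Coprime.coprime_dvd_left (hcardim hKM)
    (Nat.Coprime.coprime_dvd_right (hcardim hDM) (hKσ.coprime_dvd_right (Subgroup.card_dvd_of_le hDσ))))
  have hfixK : ∀ W : Subgroup (↥M ⧸ Φ.subgroupOf M), W ≤ V →
      W ⊓ Subgroup.centralizer ((im K : Subgroup _) : Set _) = W ⊓ im (R ⊓ Y) := by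
    intro W hW
    obtain ⟨x, hx, hx1⟩ := (Subgroup.bot_or_exists_ne_one _).resolve_left hKne
    refine le_antisymm (le_inf inf_le_left ?_) (le_inf inf_le_left ?_)
    · exact (inf_le_inf hW (Subgroup.centralizer_le (Set.singleton_subset_iff.mpr hx))).trans (hfixV x hx hx1).le
    · intro w hw
      refine Subgroup.mem_centralizer_iff.mpr fun a ha => ?_
      by_cases ha1 : a = 1
      · rw [ha1, one_mul, mul_one]
      exact (Subgroup.mem_centralizer_singleton_iff.mp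
        (Subgroup.mem_inf.mp ((hfixV a ha ha1).ge (Subgroup.mem_inf.mp hw).2)).2).symm
  -- every non-trivial invariant subgroup of `V` has order `q ^ |K|`
  have hdich : ∀ W : Subgroup (↥M ⧸ Φ.subgroupOf M), W ≤ V →
      im D ≤ Subgroup.normalizer (W : Set _) → im K ≤ Subgroup.normalizer (W : Set _) → W ≠ ⊥ →
      (Nat.card (im K)).Prime ∧ im (R ⊓ Y) ≤ W ∧ Nat.card (im (R ⊓ Y)) = q ∧ Nat.card W = q ^ Nat.card (im K) ∧
        ⁅im D, im D⁆ ≤ Subgroup.centralizer (W : Set _) := by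
    intro W hW hDW hKW hW1
    haveI := hVab
    haveI hWc : IsMulCommutative W := ⟨⟨fun a b => Subtype.ext (congrArg Subtype.val
      (mul_comm' (⟨a, hW a.2⟩ : V) ⟨b, hW b.2⟩) :)⟩⟩
    have hWn : Group.IsNilpotent W := by
      letI : CommGroup W := { (inferInstance : Group W) with mul_comm := mul_comm' }
      infer_instance
    obtain ⟨h1, h2, h3⟩ := Core.BG.frobenius_prime_manner (im D) (im K) W hDne hKne hDK (hnorm hKD) hfrob hW1
      hWn hDW hKW (hcop.coprime_dvd_right (Subgroup.card_dvd_of_le hW))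
      (eq_bot_iff.mpr (hVD ▸ inf_le_inf_right _ hW))
      (fun x hx hx1 => by
        rw [hfixK W hW]
        refine le_antisymm (le_inf inf_le_left ((inf_le_inf_right _ hW).trans (hfixV x hx hx1).le))
          (le_inf inf_le_left (inf_le_right.trans ((hfixV x hx hx1).ge.trans inf_le_right))))
    rw [hfixK W hW] at h2 h3
    rcases (Nat.dvd_prime hQ.prime).mp ((Subgroup.card_dvd_of_le inf_le_right).trans hRYq :
      Nat.card ↥(W ⊓ im (R ⊓ Y)) ∣ q) with h4 | h4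
    · rw [h4, one_pow] at h2
      exact absurd (Subgroup.eq_bot_of_card_eq _ h2) hW1
    · have h5 : Nat.card (im (R ⊓ Y)) = q :=
        Nat.dvd_antisymm hRYq (h4 ▸ Subgroup.card_dvd_of_le inf_le_right)
      refine ⟨h1, ?_, h5, h4 ▸ h2, h3 (haveI := Fact.mk hQ.prime; isCyclic_of_prime_card h4)⟩
      have h6 : W ⊓ im (R ⊓ Y) = im (R ⊓ Y) :=
        Subgroup.eq_of_le_of_card_ge inf_le_right (by rw [h4, h5])
      exact h6.ge.trans inf_le_left
  have hV1 : V ≠ ⊥ := fun e => hΦne fun r hr => by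
    have h1 : f ⟨r, hRM hr⟩ ∈ V := ⟨_, Subgroup.mem_subgroupOf.mpr hr, rfl⟩
    rw [e, Subgroup.mem_bot] at h1
    exact hker.mp h1
  obtain ⟨hKp', -, hRYc, hVc, hVder⟩ := hdich V le_rfl (hnorm (hDM.trans hMR)) (hnorm (hKM.trans hMR)) hV1
  have hcardK : Nat.card (im K) = Nat.card K := by
    refine (Nat.card_congr (Equiv.ofBijective (f.subgroupMap (K.subgroupOf M))
      ⟨?_, f.subgroupMap_surjective _⟩).symm).trans (Core.card_subgroupOf hKM)
    rw [← MonoidHom.ker_eq_bot_iff, Subgroup.eq_bot_iff_forall]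
    exact fun y hy => Subtype.ext (hinj hΦK (Subgroup.mem_subgroupOf.mp y.2) (congrArg Subtype.val hy))
  rw [hcardK] at hKp' hVc
  have hYR : R ⊓ Y = Y := Subgroup.eq_of_le_of_card_ge inf_le_right (by
    rw [hYc, ← hRYc]; exact Nat.le_of_dvd Nat.card_pos (hcardim (inf_le_left.trans hRM)))
  have hΦY : Φ ⊓ Y = ⊥ := by
    by_contra h1
    have h2 : Φ ⊓ Y = Y := Subgroup.eq_of_le_of_card_ge inf_le_right (by
      rcases (Nat.dvd_prime hQ.prime).mp (hYc ▸ Subgroup.card_dvd_of_le (inf_le_right : Φ ⊓ Y ≤ Y)) with h3 | h3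
      · exact absurd (Subgroup.eq_bot_of_card_eq _ h3) h1
      · rw [h3, hYc])
    have h3 : im (R ⊓ Y) = ⊥ := by
      rw [Subgroup.eq_bot_iff_forall]
      rintro _ ⟨y, hy, rfl⟩
      exact hker.mpr (Subgroup.mem_inf.mp (h2.ge (Subgroup.mem_inf.mp (Subgroup.mem_subgroupOf.mp hy)).2)).1
    rw [h3, Subgroup.card_bot] at hRYc
    exact hQ.prime.one_lt.ne hRYc
  have hΦCD : Φ ≤ Subgroup.centralizer (D : Set G) := by
    have hpK : p ∣ Nat.card K := hP ▸ Subgroup.card_dvd_of_le hPK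
    refine Subgroup.le_centralizer_iff.mp (le_centralizer_of_free (p := p) (q := q)
      (ne_two_of_dvd hG (hpK.trans (Subgroup.card_subgroup_dvd_card K)))
      (ne_two_of_dvd hG (hYc ▸ Subgroup.card_subgroup_dvd_card Y))
      (fun e => hqK (e ▸ hpK)) hP (hQ.pgroup.to_le (hΦR.trans hRQ)) hDn
      (odd_of_dvd hG (Subgroup.card_subgroup_dvd_card D)) hqD
      (fun hd => hp.not_dvd_one (Nat.Coprime.gcd_eq_one hKσ ▸
        Nat.dvd_gcd hpK (hd.trans (Subgroup.card_dvd_of_le hDσ))))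
      (hPK.trans hKD) ((hPK.trans hKM).trans hMΦ) (hDM.trans hMΦ) hDP ?_)
    rw [eq_bot_iff, ← hΦY]
    exact le_inf inf_le_left ((inf_le_inf_right _ (hΦR.trans (hRQ.trans hQ.le))).trans (hfixP p P hP hPK).le)
  have hCRD : R ⊓ Subgroup.centralizer (D : Set G) = Φ := by
    refine le_antisymm (fun r hr => ?_) (le_inf hΦR hΦCD)
    obtain ⟨hrR, hrD⟩ := Subgroup.mem_inf.mp hr
    have h1 : f ⟨r, hRM hrR⟩ ∈ V ⊓ Subgroup.centralizer ((im D : Subgroup _) : Set _) := by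
      refine Subgroup.mem_inf.mpr ⟨⟨_, Subgroup.mem_subgroupOf.mpr hrR, rfl⟩, Subgroup.mem_centralizer_iff.mpr ?_⟩
      rintro _ ⟨d, hd, rfl⟩
      rw [← map_mul, ← map_mul]
      exact congrArg f (Subtype.ext (Subgroup.mem_centralizer_iff.mp hrD d (Subgroup.mem_subgroupOf.mp hd)))
    rw [hVD, Subgroup.mem_bot] at h1
    exact hker.mp h1
  set C := Q ⊓ Subgroup.centralizer (D : Set G) with hC
  have hDC : D ≤ Subgroup.normalizer (C : Set G) := fun d hd =>
    mem_normalizer_inf (hDQ hd) (mem_normalizer_centralizer (Subgroup.le_normalizer hd))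
  have hKC : K ≤ Subgroup.normalizer (C : Set G) := fun k hk =>
    mem_normalizer_inf (hQ.normal (hKM hk)) (mem_normalizer_centralizer (hKD hk))
  have hQgen : Q = R ⊔ C := Coprime.eq_commutator_sup_centralizer hDQ hcDQ
  -- `C` centralizes `R`
  have hCW : ⁅R, C⁆ ≤ Φ := by
    set W := ⁅R, C⁆ ⊔ Φ with hW
    have hWR : W ≤ R := sup_le (Coprime.commutator_le_of_le_normalizer
      ((inf_le_left.trans hQM).trans hMR)) hΦR
    have hXW : ∀ {A : Subgroup G}, A ≤ Subgroup.normalizer (R : Set G) → A ≤ Subgroup.normalizer (C : Set G) →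
        A ≤ Subgroup.normalizer (Φ : Set G) → A ≤ Subgroup.normalizer (W : Set G) := fun h1 h2 h3 a ha =>
      mem_normalizer_sup (mem_normalizer_commutator (h1 ha) (h2 ha)) (h3 ha)
    by_cases hW1 : im W = ⊥
    · intro x hx
      have h1 : f ⟨x, hRM (hWR (Subgroup.mem_sup_left hx))⟩ ∈ im W :=
        ⟨_, Subgroup.mem_subgroupOf.mpr (Subgroup.mem_sup_left hx), rfl⟩
      rw [hW1, Subgroup.mem_bot] at h1
      exact hker.mp h1
    exfalso
    obtain ⟨-, -, -, hWc, -⟩ := hdich (im W) (Subgroup.map_mono fun x hx => Subgroup.mem_subgroupOf.mpr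
        (hWR (Subgroup.mem_subgroupOf.mp hx)))
      (hnorm (hXW (hDM.trans hMR) hDC (hDM.trans hMΦ))) (hnorm (hXW (hKM.trans hMR) hKC (hKM.trans hMΦ))) hW1
    rw [hcardK] at hWc
    have hWV : im W = V := Subgroup.eq_of_le_of_card_ge (Subgroup.map_mono fun x hx => Subgroup.mem_subgroupOf.mpr
      (hWR (Subgroup.mem_subgroupOf.mp hx))) (by rw [hWc, hVc])
    refine commutator_ne_of_isNilpotent hQnil hRQ hR1 fun r hr => ?_
    have h1 : f ⟨r, hRM hr⟩ ∈ im W := hWV.ge ⟨_, Subgroup.mem_subgroupOf.mpr hr, rfl⟩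
    exact sup_le (Subgroup.commutator_mono le_rfl inf_le_left) (Subgroup.commutator_mono le_rfl hRQ)
      ((hmem le_sup_right).mp h1)
  have hCR : C ≤ Subgroup.centralizer (R : Set G) := by
    have h1 : ⁅⁅R, C⁆, D⁆ = ⊥ :=
      le_bot_iff.mp ((Subgroup.commutator_mono (hCW.trans hΦCD) le_rfl).trans
        (Subgroup.commutator_eq_bot_iff_le_centralizer.mpr le_rfl).le)
    have h2 : ⁅⁅C, D⁆, R⁆ = ⊥ := by
      rw [Subgroup.commutator_eq_bot_iff_le_centralizer.mpr (inf_le_right : C ≤ _), Subgroup.commutator_bot_left]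
    have h3 := Subgroup.commutator_commutator_eq_bot_of_rotate h1 h2
    rw [Subgroup.commutator_comm D R, hRD] at h3
    exact Subgroup.le_centralizer_iff.mp (Subgroup.commutator_eq_bot_iff_le_centralizer.mp h3)
  have hMC : M ≤ Subgroup.normalizer (C : Set G) := fun m hm => by
    obtain ⟨a, ha, d, hd, k, hk, rfl⟩ := hgen m hm
    refine mul_mem (mul_mem ?_ (hDC hd)) (hKC hk)
    refine (sup_le ?_ Subgroup.le_normalizer) (hQgen.le ha)
    exact (Subgroup.le_centralizer_iff.mp hCR).trans (Subgroup.centralizer_le_normalizer _)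
  have hΦC : Φ ≤ C := le_inf (hΦR.trans hRQ) hΦCD
  have hlt : C < Q := lt_of_le_of_ne inf_le_left fun e => hR1 (Subgroup.commutator_eq_bot_iff_le_centralizer.mpr
    (e ▸ inf_le_right))
  have hcard : Nat.card Q = Nat.card C * q ^ Nat.card K := by
    haveI : (C.subgroupOf M).Normal :=
      (Subgroup.normal_subgroupOf_iff_le_normalizer (inf_le_left.trans hQM)).mpr hMC
    rw [← Core.card_mul_relIndex (inf_le_left : C ≤ Q)]
    congr 1
    have h1 : (Φ.subgroupOf M).relIndex (R.subgroupOf M) = Nat.card V := by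
      have hk : f.ker = Φ.subgroupOf M := QuotientGroup.ker_mk' _
      have := Subgroup.relIndex_ker (R.subgroupOf M) f
      rwa [hk] at this
    rw [← hVc, ← h1]
    show C.relIndex Q = _
    rw [← Subgroup.relIndex_subgroupOf hQM (H := C)]
    have h2 : Q.subgroupOf M = R.subgroupOf M ⊔ C.subgroupOf M := by
      apply Subgroup.map_injective M.subtype_injective
      rw [Subgroup.map_sup, Subgroup.subgroupOf_map_subtype, Subgroup.subgroupOf_map_subtype,
        Subgroup.subgroupOf_map_subtype, inf_eq_left.mpr hQM, inf_eq_left.mpr hRM,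
        inf_eq_left.mpr (inf_le_left.trans hQM)]
      exact hQgen
    rw [h2, Subgroup.relIndex_sup_right, ← Subgroup.inf_relIndex_right]
    congr 1
    ext x
    rw [Subgroup.mem_inf, Subgroup.mem_subgroupOf, Subgroup.mem_subgroupOf, Subgroup.mem_subgroupOf]
    constructor
    · exact fun hx => hCRD.le (Subgroup.mem_inf.mpr ⟨hx.2, (Subgroup.mem_inf.mp hx.1).2⟩)
    · exact fun hx => ⟨hΦC hx, hΦR hx⟩
  have hVq : ∀ v ∈ V, v ^ q = 1 := by
    haveI := hVab
    set W : Subgroup (↥M ⧸ Φ.subgroupOf M) :=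
      { carrier := {w | ∃ v ∈ V, v ^ q = w}
        mul_mem' := by
          rintro _ _ ⟨v, hv, rfl⟩ ⟨w, hw, rfl⟩
          exact ⟨v * w, mul_mem hv hw, (Commute.mul_pow (congrArg Subtype.val
            (mul_comm' (⟨v, hv⟩ : V) ⟨w, hw⟩) :) q)⟩
        one_mem' := ⟨1, one_mem _, one_pow q⟩
        inv_mem' := by rintro _ ⟨v, hv, rfl⟩; exact ⟨v⁻¹, inv_mem hv, inv_pow v q⟩ } with hWdef
    have hWV : W ≤ V := by rintro _ ⟨v, hv, rfl⟩; exact pow_mem hv q
    have hNW : ∀ a : ↥M ⧸ Φ.subgroupOf M, a ∈ Subgroup.normalizer (V : Set _) →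
        a ∈ Subgroup.normalizer (W : Set _) := fun a ha => Coprime.mem_normalizer_of_conj_mem <| by
      rintro _ ⟨v, hv, rfl⟩
      exact ⟨a * v * a⁻¹, (Subgroup.mem_normalizer_iff.mp ha v).mp hv, conj_pow⟩
    intro v hv
    by_contra hv1
    have hW1 : W ≠ ⊥ := fun e => hv1 (Subgroup.mem_bot.mp (e.le ⟨v, hv, rfl⟩))
    obtain ⟨-, -, -, hWc, -⟩ := hdich W hWV (fun a ha => hNW a (hnorm (hDM.trans hMR) ha))
      (fun a ha => hNW a (hnorm (hKM.trans hMR) ha)) hW1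
    rw [hcardK] at hWc
    have hWe : W = V := Subgroup.eq_of_le_of_card_ge hWV (by rw [hWc, hVc])
    have hsurj : Function.Surjective (fun x : V => x ^ q) := fun x => by
      obtain ⟨y, hy, e⟩ := hWe.ge x.2
      exact ⟨⟨y, hy⟩, Subtype.ext e⟩
    obtain ⟨u, hu⟩ := exists_prime_orderOf_dvd_card' (G := V) q
      (hVc ▸ dvd_pow_self q (Nat.card_pos (α := K)).ne')
    have hinj' := (Finite.injective_iff_surjective.mpr hsurj)
    have : u = 1 := hinj' (show u ^ q = (1 : V) ^ q by rw [one_pow, ← hu, pow_orderOf_eq_one])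
    rw [this, orderOf_one] at hu
    exact hQ.prime.one_lt.ne hu
  have hrep : ∀ a ∈ Q, ∃ r ∈ R, ∃ c ∈ C, a = r * c := fun a ha => by
    obtain ⟨r, hr, c, hc, e⟩ := Coprime.exists_mul_of_mem_sup ((inf_le_left.trans hQM).trans hMR) (hQgen.le ha)
    exact ⟨r, hr, c, hc, e.symm⟩
  have helem : ∀ a ∈ Q, ∀ b ∈ Q, a ^ q ∈ C ∧ a * b * a⁻¹ * b⁻¹ ∈ C := by
    intro a ha b hb
    obtain ⟨r, hr, c, hc, rfl⟩ := hrep a ha
    obtain ⟨s, hs, d, hd, rfl⟩ := hrep b hb
    have hcr : ∀ {x y : G}, x ∈ R → y ∈ C → Commute x y := fun hx hy =>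
      (Subgroup.mem_centralizer_iff.mp (hCR hy) _ hx)
    constructor
    · rw [(hcr hr hc).mul_pow]
      refine mul_mem (hΦC ?_) (pow_mem hc q)
      have h1 := hVq _ (⟨⟨r, hRM hr⟩, Subgroup.mem_subgroupOf.mpr hr, rfl⟩ : f ⟨r, hRM hr⟩ ∈ V)
      rw [← map_pow] at h1
      exact hker.mp h1
    · have e : r * c * (s * d) * (r * c)⁻¹ * (s * d)⁻¹ = ⁅r, s⁆ * ⁅c, d⁆ := by
        rw [commutatorElement_def, commutatorElement_def, mul_inv_rev, mul_inv_rev]
        calc r * c * (s * d) * (c⁻¹ * r⁻¹) * (d⁻¹ * s⁻¹) = r * (c * s) * (d * c⁻¹) * (r⁻¹ * d⁻¹) * s⁻¹ := by group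
          _ = r * (s * c) * (d * c⁻¹) * (d⁻¹ * r⁻¹) * s⁻¹ := by
            rw [← (hcr hs hc).eq, (hcr (R.inv_mem hr) (C.inv_mem hd)).eq]
          _ = r * s * ((c * d * c⁻¹ * d⁻¹) * r⁻¹) * s⁻¹ := by group
          _ = r * s * (r⁻¹ * (c * d * c⁻¹ * d⁻¹)) * s⁻¹ := by
            rw [(hcr (R.inv_mem hr) (mul_mem (mul_mem (mul_mem hc hd) (inv_mem hc)) (inv_mem hd))).eq]
          _ = r * s * r⁻¹ * ((c * d * c⁻¹ * d⁻¹) * s⁻¹) := by group
          _ = r * s * r⁻¹ * (s⁻¹ * (c * d * c⁻¹ * d⁻¹)) := by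
            rw [(hcr (R.inv_mem hs) (mul_mem (mul_mem (mul_mem hc hd) (inv_mem hc)) (inv_mem hd))).eq]
          _ = r * s * r⁻¹ * s⁻¹ * (c * d * c⁻¹ * d⁻¹) := by group
      rw [e]
      exact mul_mem (hΦC (Subgroup.commutator_mem_commutator hr hs))
        (mul_mem (mul_mem (mul_mem hc hd) (inv_mem hc)) (inv_mem hd))
  refine ⟨hDn, hMC, hlt, hKp', hcard, helem, ?_, ?_, fun hle => hQ.prime.one_lt.ne ?_⟩
  rotate_left 2
  · have h1 : Y ≤ Φ := hCRD ▸ le_inf (hYR ▸ inf_le_left) hle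
    rw [← hYc, show Y = ⊥ from le_bot_iff.mp (hΦY ▸ le_inf h1 le_rfl), Subgroup.card_bot]
  · intro N hCN hNQ hMN
    have hW1 : im (N ⊓ R) ≠ ⊥ := by
      intro e
      refine hCN.not_ge fun x hx => ?_
      obtain ⟨r, hr, c, hc, rfl⟩ := hrep x (hNQ.le hx)
      have hrN : r ∈ N := by
        have := N.mul_mem hx (N.inv_mem (hCN.le hc))
        rwa [mul_inv_cancel_right] at this
      have h1 : f ⟨r, hRM hr⟩ ∈ im (N ⊓ R) := ⟨_, Subgroup.mem_subgroupOf.mpr (Subgroup.mem_inf.mpr ⟨hrN, hr⟩), rfl⟩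
      rw [e, Subgroup.mem_bot] at h1
      exact mul_mem (hΦC (hker.mp h1)) hc
    have hle : im (N ⊓ R) ≤ V := Subgroup.map_mono fun x hx =>
      Subgroup.mem_subgroupOf.mpr (Subgroup.mem_inf.mp (Subgroup.mem_subgroupOf.mp hx)).2
    have hMW : M ≤ Subgroup.normalizer ((N ⊓ R : Subgroup G) : Set G) := fun m hm =>
      mem_normalizer_inf (hMN hm) (hMR hm)
    obtain ⟨-, -, -, hWc, -⟩ := hdich _ hle (hnorm (hDM.trans hMW)) (hnorm (hKM.trans hMW)) hW1
    rw [hcardK] at hWc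
    have hWV := Subgroup.eq_of_le_of_card_ge hle (by rw [hWc, hVc])
    refine hNQ.not_ge fun x hx => ?_
    obtain ⟨r, hr, c, hc, rfl⟩ := hrep x hx
    have h1 : f ⟨r, hRM hr⟩ ∈ im (N ⊓ R) := hWV.ge ⟨_, Subgroup.mem_subgroupOf.mpr hr, rfl⟩
    exact N.mul_mem (Subgroup.mem_inf.mp ((hmem (le_inf (hΦC.trans hCN.le) hΦR)).mp h1)).1 (hCN.le hc)
  · have hD'D : ⁅D, D⁆ ≤ D := Coprime.commutator_le_of_le_normalizer Subgroup.le_normalizer
    have h1 : ⁅R, ⁅D, D⁆⁆ ≤ Φ := by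
      refine Subgroup.commutator_le.mpr fun r hr d hd => ?_
      have hd' : f ⟨d, hDM (hD'D hd)⟩ ∈ ⁅im D, im D⁆ := by
        show _ ∈ ⁅(D.subgroupOf M).map f, (D.subgroupOf M).map f⁆
        rw [← Subgroup.map_commutator]
        refine ⟨⟨d, hDM (hD'D hd)⟩, ?_, rfl⟩
        have h2 : d ∈ (⁅D.subgroupOf M, D.subgroupOf M⁆).map M.subtype := by
          rw [Subgroup.map_commutator, Subgroup.subgroupOf_map_subtype, inf_eq_left.mpr hDM]; exact hd
        obtain ⟨z, hz, e⟩ := h2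
        rwa [← Subtype.ext (p := (· ∈ M)) (a2 := ⟨d, hDM (hD'D hd)⟩) e]
      have h3 := Subgroup.mem_centralizer_iff.mp (hVder hd') (f ⟨r, hRM hr⟩) ⟨_, Subgroup.mem_subgroupOf.mpr hr, rfl⟩
      show ((⁅(⟨r, hRM hr⟩ : M), ⟨d, hDM (hD'D hd)⟩⁆ : M) : G) ∈ Φ
      rw [← hker, map_commutatorElement, commutatorElement_eq_one_iff_mul_comm]
      exact h3
    haveI : Group.IsSolvable ↥⁅D, D⁆ := Core.BG.isSolvable_proper hG (hproper (hD'D.trans hDM))
    have h2 : ⁅R, ⁅D, D⁆⁆ = ⊥ := Coprime.commutator_eq_bot_of_chain ((hD'D.trans hDM).trans hMR)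
      ((hcDQ.coprime_dvd_left (Subgroup.card_dvd_of_le hD'D)).coprime_dvd_right (Subgroup.card_dvd_of_le hRQ)) h1
      (Subgroup.commutator_eq_bot_iff_le_centralizer.mpr (hΦCD.trans (Subgroup.centralizer_le hD'D)))
    rw [Subgroup.le_centralizer_iff, hQgen]
    exact sup_le (Subgroup.commutator_eq_bot_iff_le_centralizer.mp h2)
      (inf_le_right.trans (Subgroup.centralizer_le hD'D))

theorem qStructure {M K U Q D : Subgroup G} {q : ℕ} (hM : IsCoatom M) (h : IsSigmaDecomposition M K U)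
    (hne : ¬ Group.IsNilpotent (sigmaCore M)) (hQ : QData M K Q q) (hD : IsComplIn Q D (sigmaCore M)) :
    QStructure M K Q D q := by
  haveI := Fact.mk hQ.prime
  obtain ⟨hU0, hK1⟩ := decomp_of_not_nilpotent hG hpl hM h hne
  have hσM := sigmaCore_le M
  haveI : Group.IsSolvable (sigmaCore M) :=
    Core.BG.isSolvable_proper hG fun e => hM.1 (top_le_iff.mp (e.ge.trans hσM))
  haveI : Group.IsSolvable K := Core.BG.isSolvable_proper hG fun e => hM.1 (top_le_iff.mp (e.ge.trans h.hall.1))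
  have hH := qData_hall hG hpl hQ hD
  have hcard : ∀ k ∈ K, ∃ n ∈ Q, n * k ∈ Subgroup.normalizer (D : Set G) := by
    intro k hk
    have hkσ := le_normalizer_sigmaCore M (h.hall.1 hk)
    obtain ⟨m, hm, hmD⟩ := exists_conj_le_hallOf hH (Q := cj k D)
      ((cj_mono hD.2.1).trans (cj_eq_iff.mpr hkσ).le)
      (fun r hr hd => hH.2.1 r hr (by rwa [card_cj] at hd))
    have heq : cj m (cj k D) = D := Subgroup.eq_of_le_of_card_ge hmD (by rw [card_cj, card_cj])
    obtain ⟨a, ha, d, hd, rfl⟩ := hD.2.2.2 m hm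
    refine ⟨(d⁻¹ * a * d), ?_, ?_⟩
    · exact (Subgroup.mem_set_normalizer_iff''.mp (hQ.normal (hσM (hD.2.1 hd))) a).mp ha
    · rw [show d⁻¹ * a * d * k = d⁻¹ * ((a * d) * k) by group]
      refine mul_mem (inv_mem (Subgroup.le_normalizer hd)) (cj_eq_iff.mp ?_)
      rw [cj_mul, heq]
  have hcopK : (Nat.card K).Coprime (Nat.card Q) := Nat.coprime_of_dvd fun r hr h1 h2 =>
    (h.hall.2.1 r hr h1).2.2.1 (mem_sigma_of_dvd hr (h2.trans (Subgroup.card_dvd_of_le hQ.le)))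
  obtain ⟨x, hx, hxK⟩ := Coprime.exists_conj_le (h.hall.1.trans hQ.normal) hcopK hcard
  set D₀ := cj x⁻¹ D with hD₀
  have hxσ : x⁻¹ ∈ sigmaCore M := inv_mem (hQ.le hx)
  have hKD₀ : K ≤ Subgroup.normalizer (D₀ : Set G) := fun k hk => cj_eq_iff.mp (by
    have h1 := cj_eq_iff.mpr (hxK k hk)
    rw [hD₀, ← cj_mul, show k * x⁻¹ = x⁻¹ * (x * k * x⁻¹) by group, cj_mul, h1])
  have hQx : cj x⁻¹ Q = Q := cj_eq_iff.mpr (Subgroup.le_normalizer (inv_mem hx))
  have hD₀c : IsComplIn Q D₀ (sigmaCore M) := by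
    refine ⟨hQ.le, (cj_mono hD.2.1).trans (cj_eq_iff.mpr (Subgroup.le_normalizer hxσ)).le, ?_, fun m hm => ?_⟩
    · rw [← hQx, hD₀, ← cj_inf, hD.2.2.1]
      exact Subgroup.map_bot _
    · obtain ⟨a, ha, d, hd, e⟩ := hD.2.2.2 (x * m * x⁻¹)
        (mul_mem (mul_mem (hQ.le hx) hm) hxσ)
      refine ⟨x⁻¹ * a * x, mul_mem (mul_mem (inv_mem hx) ha) hx, x⁻¹ * d * x, mem_cj.mpr ?_, ?_⟩
      · rwa [show x⁻¹⁻¹ * (x⁻¹ * d * x) * x⁻¹ = d by group]
      · rw [show m = x⁻¹ * (x * m * x⁻¹) * x by group, e]; group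
  have hs := qStructure_of_invariant hG hpl hM h hne hQ hD₀c hKD₀
  have hxQ : x⁻¹ ∈ M := hσM hxσ
  have hC : Q ⊓ Subgroup.centralizer (D : Set G) = Q ⊓ Subgroup.centralizer (D₀ : Set G) := by
    have h1 : cj x⁻¹ (Q ⊓ Subgroup.centralizer (D : Set G)) = Q ⊓ Subgroup.centralizer (D₀ : Set G) := by
      rw [cj_inf, hQx, cj_centralizer, hD₀]
    have h2 : cj x (Q ⊓ Subgroup.centralizer (D₀ : Set G)) = Q ⊓ Subgroup.centralizer (D₀ : Set G) :=
      cj_eq_iff.mpr (hs.normal (inv_mem_iff.mp hxQ))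
    rw [← h2, ← h1, ← cj_mul, mul_inv_cancel, cj_one]
  have hDeq : D = cj x D₀ := by rw [hD₀, ← cj_mul, mul_inv_cancel, cj_one]
  refine ⟨?_, hC ▸ hs.normal, hC ▸ hs.lt, hs.kappa_prime, hC ▸ hs.card, hC ▸ hs.elementary, hC ▸ hs.minimal, ?_,
    fun hle => hs.fixed_not_le ((le_inf hQ.fixed_le hle).trans (hC.le.trans inf_le_right))⟩
  · rw [hDeq]; exact Core.isNilpotent_map hs.nilpotent _
  · rw [hDeq, show ⁅cj x D₀, cj x D₀⁆ = cj x ⁅D₀, D₀⁆ from (Subgroup.map_commutator _ _ _).symm]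
    refine (cj_mono hs.derived).trans ?_
    rw [cj_centralizer, cj_eq_iff.mpr (Subgroup.le_normalizer hx)]

end Cfsg.Agent.OddLocal.Sigma
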