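import Cfsg.Agent.OddLocal.Sigma.RGroup

/-! Counting the elements attached to a conjugacy class of maximal subgroups (BG 14.6). -/

set_option autoImplicit false
set_option linter.style.haveILetI false
set_option linter.unusedSectionVars false

namespace Cfsg.Agent.OddLocal.Sigma

open Cfsg

variable {G : Type*} [Group G] [Finite G]

theorem cj_centralizer_singleton (y a : G) :
    cj y (Subgroup.centralizer ({a} : Set G)) = Subgroup.centralizer ({y * a * y⁻¹} : Set G) := by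
  ext c
  rw [mem_cj, Subgroup.mem_centralizer_singleton_iff, Subgroup.mem_centralizer_singleton_iff]
  constructor
  · intro h
    calc c * (y * a * y⁻¹) = y * (y⁻¹ * c * y * a) * y⁻¹ := by group
      _ = y * (a * (y⁻¹ * c * y)) * y⁻¹ := by rw [h]
      _ = y * a * y⁻¹ * c := by group
  · intro h
    calc y⁻¹ * c * y * a = y⁻¹ * (c * (y * a * y⁻¹)) * y := by group
      _ = y⁻¹ * (y * a * y⁻¹ * c) * y := by rw [h]
      _ = a * (y⁻¹ * c * y) := by group

theorem cj_inv_cj (g : G) (H : Subgroup G) : cj g⁻¹ (cj g H) = H := by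
  rw [← cj_mul, inv_mul_cancel, cj_one]

theorem conj_mem_cj_of_mem {y a : G} {H : Subgroup G} (h : a ∈ H) : y * a * y⁻¹ ∈ cj y H :=
  ⟨a, h, rfl⟩

theorem Commute.conj_eq_self {r x : G} (h : r * x = x * r) : r * x * r⁻¹ = x := by
  rw [h, mul_inv_cancel_right]

section
variable (hG : IsMinSimpleOddOrder G)
include hG

theorem cj_sigmaCore {M : Subgroup G} (hM : IsCoatom M) (g : G) : cj g (sigmaCore M) = sigmaCore (cj g M) := by
  have h : ∀ {M : Subgroup G}, IsCoatom M → ∀ g : G, cj g (sigmaCore M) ≤ sigmaCore (cj g M) := fun {M} hM g =>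
    le_sigmaCore hG (isCoatom_cj hM g) (cj_mono (sigmaCore_le M)) fun q hq hd => by
      rw [card_cj] at hd
      rw [sigma_eq_of_cj]
      exact mem_sigma_of_dvd hq hd
  refine le_antisymm (h hM g) ?_
  have := cj_mono (g := g) (h (isCoatom_cj hM g) g⁻¹)
  rwa [cj_inv_cj, ← cj_mul, mul_inv_cancel, cj_one] at this

variable (hpl : ∀ (p : ℕ) [Fact p.Prime] (H : Subgroup G), H ≠ ⊤ → PLengthLE p 1 H)
include hpl

theorem supportR_conj {M : Subgroup G} (hM : IsCoatom M) {a : G} (ha : a ∈ sigmaCore M) (ha1 : a ≠ 1) (y : G) :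
    supportR (cj y M) (y * a * y⁻¹) = cj y (supportR M a) := by
  by_cases hC : Subgroup.centralizer ({a} : Set G) ≤ M
  · rw [supportR_eq_bot hC, supportR_eq_bot (cj_centralizer_singleton y a ▸ cj_mono hC), cj, Subgroup.map_bot]
  obtain ⟨N, h⟩ := exists_support hG hpl hM ha ha1 hC
  have ha' : y * a * y⁻¹ ∈ sigmaCore (cj y M) := cj_sigmaCore hG hM y ▸ conj_mem_cj_of_mem ha
  obtain ⟨N', h'⟩ := exists_support hG hpl (isCoatom_cj hM y) ha' (fun e => ha1 (conj_eq_one_iff.mp e))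
    fun h' => hC fun c hc => by
      have := h' (cj_centralizer_singleton y a ▸ conj_mem_cj_of_mem hc)
      simpa [mem_cj, mul_assoc] using this
  have e : cj y N = N' := h'.only _ (isCoatom_cj h.coatom y) (cj_centralizer_singleton y a ▸ cj_mono h.le)
  rw [h.supportR_eq hG hpl, h'.supportR_eq hG hpl, ← e, ← cj_sigmaCore hG h.coatom, cj_inf, cj_centralizer_singleton]

/-- `R(x)` does not depend on the conjugate of `M` containing `x`. -/
theorem supportR_indep {L L' : Subgroup G} (hL : IsCoatom L) {x : G} (hx : x ∈ sigmaCore L)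
    (hx' : x ∈ sigmaCore L') (hx1 : x ≠ 1) {g : G} (hg : L' = cj g L) : supportR L x = supportR L' x := by
  have hL' : IsCoatom L' := hg ▸ isCoatom_cj hL g
  obtain ⟨-, -, -, htr, -, -⟩ := supportR_facts hG hpl hL hx hx1
  obtain ⟨-, -, -, htr', -, -⟩ := supportR_facts hG hpl hL' hx' hx1
  by_cases hC : Subgroup.centralizer ({x} : Set G) ≤ L
  · obtain ⟨r, hr, e⟩ := htr g (hg ▸ sigmaCore_le L' hx')
    rw [supportR_eq_bot hC, Subgroup.mem_bot] at hr
    rw [hr, cj_one, ← hg] at e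
    rw [e]
  by_cases hC' : Subgroup.centralizer ({x} : Set G) ≤ L'
  · obtain ⟨r, hr, e⟩ := htr' g⁻¹ (by rw [hg, cj_inv_cj]; exact sigmaCore_le L hx)
    rw [supportR_eq_bot hC', Subgroup.mem_bot] at hr
    rw [hr, cj_one, hg, cj_inv_cj] at e
    rw [hg, e]
  obtain ⟨N, h⟩ := exists_support hG hpl hL hx hx1 hC
  obtain ⟨N', h'⟩ := exists_support hG hpl hL' hx' hx1 hC'
  rw [h.supportR_eq hG hpl, h'.supportR_eq hG hpl, h.only _ h'.coatom h'.le]

/-- Membership in `M̃_σ`. -/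
theorem mem_tildeOf_iff {M : Subgroup G} (hM : IsCoatom M) {u : G} :
    u ∈ tildeOf M ((sigmaCore M : Set G) \ {1}) ↔
      ∃ g x : G, x ∈ sigmaCore (cj g M) ∧ x ≠ 1 ∧ ∃ r ∈ supportR (cj g M) x, u = x * r := by
  constructor
  · rintro ⟨a, ⟨ha, ha1⟩, r, hr, y, rfl⟩
    have ha1' : a ≠ 1 := ha1
    refine ⟨y, y * a * y⁻¹, cj_sigmaCore hG hM y ▸ conj_mem_cj_of_mem ha, fun e => ha1' (conj_eq_one_iff.mp e),
      y * r * y⁻¹, ?_, by group⟩
    rw [supportR_conj hG hpl hM ha ha1']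
    exact conj_mem_cj_of_mem hr
  · rintro ⟨g, x, hx, hx1, r, hr, rfl⟩
    rw [← cj_sigmaCore hG hM] at hx
    obtain ⟨a, ha, rfl⟩ := hx
    simp only [MulEquiv.coe_toMonoidHom, MulAut.conj_apply] at hx1 hr ⊢
    have ha1 : a ≠ 1 := fun e => hx1 (by rw [e, mul_one, mul_inv_cancel])
    rw [supportR_conj hG hpl hM ha ha1] at hr
    obtain ⟨r', hr', rfl⟩ := hr
    exact ⟨a, ⟨ha, ha1⟩, r', hr', g, by simp only [MulEquiv.coe_toMonoidHom, MulAut.conj_apply]; group⟩

/-- `|M̃_σ| = (|M_σ| - 1) |G : M|` (BG 14.6). -/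
theorem ncard_tildeOf {M : Subgroup G} (hM : IsCoatom M) :
    Set.ncard (tildeOf M ((sigmaCore M : Set G) \ {1})) = (Nat.card (sigmaCore M) - 1) * M.index := by
  let S := {x : G // x ≠ 1 ∧ ∃ g : G, x ∈ sigmaCore (cj g M)}
  let g₀ : S → G := fun x => Classical.choose x.2.2
  have hg₀ : ∀ x : S, (x : G) ∈ sigmaCore (cj (g₀ x) M) := fun x => Classical.choose_spec x.2.2
  have hco : ∀ g : G, IsCoatom (cj g M) := isCoatom_cj hM
  let P := {p : Subgroup G × G // (∃ g : G, p.1 = cj g M) ∧ p.2 ∈ sigmaCore p.1 ∧ p.2 ≠ 1}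
  let A := {a : G // a ∈ sigmaCore M ∧ a ≠ 1}
  have hinP : ∀ (x : S) (r : ↥(supportR (cj (g₀ x) M) (x : G))),
      (x : G) ∈ sigmaCore (cj (r : G) (cj (g₀ x) M)) := by
    intro x r
    obtain ⟨-, hc, -, -, -, -⟩ := supportR_facts hG hpl (hco (g₀ x)) (hg₀ x) x.2.1
    have h := conj_mem_cj_of_mem (y := (r : G)) (hg₀ x)
    rw [Commute.conj_eq_self (Subgroup.mem_centralizer_singleton_iff.mp (hc.2.1 r.2))] at h
    rwa [← cj_sigmaCore hG (hco _)]
  let T := (x : S) × ↥(supportR (cj (g₀ x) M) (x : G))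
  let f : T → P := fun z => ⟨(cj (z.2 : G) (cj (g₀ z.1) M), (z.1 : G)), ⟨(z.2 : G) * g₀ z.1, (cj_mul _ _ _).symm⟩,
    hinP z.1 z.2, z.1.2.1⟩
  have hf : Function.Bijective f := by
    constructor
    · rintro ⟨x, r⟩ ⟨x', r'⟩ e
      have e1 := congrArg (fun p : P => (p : Subgroup G × G).1) e
      have hxx : x = x' := Subtype.ext (congrArg (fun p : P => (p : Subgroup G × G).2) e)
      subst hxx
      obtain ⟨-, -, hRM, -, -, -⟩ := supportR_facts hG hpl (hco (g₀ x)) (hg₀ x) x.2.1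
      have hrr : r = r' := Subtype.ext (eq_of_cj_eq_of_inf hG (hco (g₀ x)) hRM r.2 r'.2 e1)
      rw [hrr]
    · intro p
      obtain ⟨⟨L, x⟩, hL', hx, hx1⟩ := p
      obtain ⟨g, hg⟩ := id hL'
      change L = cj g M at hg
      subst hg
      set x' : S := ⟨x, hx1, g, hx⟩
      obtain ⟨-, -, -, htr, -, -⟩ := supportR_facts hG hpl (hco (g₀ x')) (hg₀ x') hx1
      obtain ⟨r, hr, e⟩ := htr (g * (g₀ x')⁻¹) (by rw [cj_mul, cj_inv_cj]; exact sigmaCore_le _ hx)
      refine ⟨⟨x', r, hr⟩, Subtype.ext (Prod.ext ?_ rfl)⟩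
      show cj r (cj (g₀ x') M) = cj g M
      rw [e, cj_mul g, cj_inv_cj]
  let v : T → ↥(tildeOf M ((sigmaCore M : Set G) \ {1})) := fun z => ⟨(z.1 : G) * z.2,
    (mem_tildeOf_iff hG hpl hM).mpr ⟨g₀ z.1, z.1, hg₀ z.1, z.1.2.1, z.2, z.2.2, rfl⟩⟩
  have hv : Function.Bijective v := by
    constructor
    · rintro ⟨x, r⟩ ⟨x', r'⟩ e
      have e' : (x : G) * r = x' * r' := congrArg Subtype.val e
      have hxx : x = x' := Subtype.ext (supportR_disjoint hG hpl (hco _) (hco _) (hg₀ x) (hg₀ x') x.2.1 x'.2.1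
        r.2 r'.2 e')
      subst hxx
      rw [Subtype.ext (mul_left_cancel e')]
    · rintro ⟨u, hu⟩
      obtain ⟨g, x, hx, hx1, r, hr, rfl⟩ := (mem_tildeOf_iff hG hpl hM).mp hu
      set x' : S := ⟨x, hx1, g, hx⟩
      rw [supportR_indep hG hpl (hco g) hx (hg₀ x') hx1 (g := g₀ x' * g⁻¹) (by rw [cj_mul, cj_inv_cj])] at hr
      exact ⟨⟨x', r, hr⟩, rfl⟩
  let w : (G ⧸ M) × A → P := fun z => ⟨(cj z.1.out M, z.1.out * z.2 * z.1.out⁻¹), ⟨z.1.out, rfl⟩,
    cj_sigmaCore hG hM z.1.out ▸ conj_mem_cj_of_mem z.2.2.1, fun e => z.2.2.2 (conj_eq_one_iff.mp e)⟩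
  have hw : Function.Bijective w := by
    constructor
    · rintro ⟨q, a⟩ ⟨q', a'⟩ e
      have e1 : cj q.out M = cj q'.out M := congrArg (fun p : P => (p : Subgroup G × G).1) e
      have e2 : q.out * a * q.out⁻¹ = q'.out * a' * q'.out⁻¹ := congrArg (fun p : P => (p : Subgroup G × G).2) e
      have hqq : q = q' := by
        rw [← q.out_eq, ← q'.out_eq]
        refine QuotientGroup.eq.mpr (mem_of_cj_eq hG hM ?_)
        rw [cj_mul, ← e1, cj_inv_cj]
      subst hqq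
      exact Prod.ext rfl (Subtype.ext (mul_left_cancel (mul_right_cancel e2)))
    · intro p
      obtain ⟨⟨L, x⟩, hL', hx, hx1⟩ := p
      obtain ⟨g, hg⟩ := id hL'
      change L = cj g M at hg
      subst hg
      set q : G ⧸ M := QuotientGroup.mk g
      obtain ⟨m, hm⟩ := QuotientGroup.mk_out_eq_mul M g
      have hL : cj q.out M = cj g M := by
        rw [hm, cj_mul, cj_eq_iff.mpr (Subgroup.le_normalizer m.2)]
      have hx' : x ∈ cj q.out (sigmaCore M) := by rw [cj_sigmaCore hG hM, hL]; exact hx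
      obtain ⟨a, ha, hax⟩ := hx'
      simp only [MulEquiv.coe_toMonoidHom, MulAut.conj_apply] at hax
      refine ⟨⟨q, a, ha, fun e => hx1 ?_⟩, Subtype.ext (Prod.ext hL hax)⟩
      show x = 1
      rw [← hax, e, mul_one, mul_inv_cancel]
  have hA : Nat.card A = Nat.card (sigmaCore M) - 1 := by
    have h1 : Nat.card A = Set.ncard ((sigmaCore M : Set G) \ {1}) := rfl
    rw [h1, Set.ncard_sdiff_singleton_of_mem (one_mem (sigmaCore M))]
    rfl
  rw [← Nat.card_coe_set_eq, ← Nat.card_eq_of_bijective v hv, Nat.card_eq_of_bijective f hf,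
    ← Nat.card_eq_of_bijective w hw, Nat.card_prod, hA, Subgroup.index, mul_comm]

end

end Cfsg.Agent.OddLocal.Sigma
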