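import Cfsg.Agent.OddLocal.Sigma.SupplementH
import Cfsg.Agent.OddLocal.Sigma.Tilde

/-! The complement of `H_σ` in `H ⊇ N(R)` is `H ∩ M*` (BG 15.8). -/

set_option autoImplicit false
set_option linter.style.haveILetI false
set_option linter.unusedSectionVars false

namespace Cfsg.Agent.OddLocal.Sigma

open Cfsg
open scoped commutatorElement

variable {G : Type*} [Group G] [Finite G]

theorem prime_inf_eq_bot_or_le {X B : Subgroup G} {q : ℕ} [hq : Fact q.Prime] (hX : Nat.card X = q) :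
    X ⊓ B = ⊥ ∨ X ≤ B := by
  rcases hq.out.eq_one_or_self_of_dvd _ (hX ▸ Subgroup.card_dvd_of_le (inf_le_left : X ⊓ B ≤ X)) with h | h
  · exact Or.inl (Subgroup.eq_bot_of_card_eq _ h)
  · exact Or.inr (inf_eq_left.mp (Subgroup.eq_of_le_of_card_ge inf_le_left (by rw [h, hX])))

section
variable (hG : IsMinSimpleOddOrder G)
include hG
variable (hpl : ∀ (p : ℕ) [Fact p.Prime] (H : Subgroup G), H ≠ ⊤ → PLengthLE p 1 H)
include hpl

namespace P2Ctx

variable {M K U L : Subgroup G} {p : ℕ} [hp : Fact p.Prime]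

theorem normalizer_K_le (c : P2Ctx M K U L p) : Subgroup.normalizer (K : Set G) ≤ L := fun _ hg =>
  mem_of_cj_eq hG c.partner.coatom (c.eq_of_conj hG hpl
    ((cj_eq_iff.mpr hg).ge.trans (cj_mono (c.partner.le_sigma.trans (sigmaCore_le L)))))

theorem ne_L (c : P2Ctx M K U L p) {H : Subgroup G} (hpH : p ∉ sigma H) (g : G) : H ≠ cj g L := fun e =>
  hpH (by rw [e, sigma_eq_of_cj]; exact c.mem_sigma hG hpl)

/-- No element of `τ₂(H) = ∅` case moves `K`. -/
theorem compl_le_normalizer_K (c : P2Ctx M K U L p) {H E : Subgroup G} (hH : IsCoatom H) (hκ : kappa H = ∅)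
    (hpH : p ∉ sigma H) (hE : IsComplIn E (sigmaCore H) H) (hKE : K ≤ E) (hτ : tau2 H = ∅) :
    E ≤ Subgroup.normalizer (K : Set G) := by
  have hKH : K ≤ H := hKE.trans hE.1
  have hC := c.fixed_eq_bot hG hpl hH hκ hKH hpH
  rcases mem_classes hG hH hp.out (c.card ▸ Subgroup.card_dvd_of_le hKH) with h | h | h | h
  · exact absurd h hpH
  swap
  · exact absurd h (by rw [hτ]; exact id)
  swap
  · exact tau3_normal hG hH hE h c.card hKE
  have hD : ⁅E, E⁆ ≤ ⁅H, H⁆ := Subgroup.commutator_mono hE.1 hE.1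
  have hDE : ⁅E, E⁆ ≤ E := Subgroup.commutator_le.mpr fun a ha b hb =>
    mul_mem (mul_mem (mul_mem ha hb) (inv_mem ha)) (inv_mem hb)
  have hpD : ¬ p ∣ Nat.card ↥⁅E, E⁆ := fun hd => h.2.2.2.1 (hd.trans (Subgroup.card_dvd_of_le hD))
  have hcen := le_centralizer_derived hG hH hE hKE (c.card.symm ▸ hp.out.coprime_iff_not_dvd.mpr hpD)
    fun q hq u hu huq x hx => by
      haveI := Fact.mk hq
      have hX : Nat.card (Subgroup.zpowers u) = q := by rw [Nat.card_zpowers, huq]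
      have hXE : Subgroup.zpowers u ≤ E := Subgroup.zpowers_le.mpr (hDE hu)
      have hqd : q ∣ Nat.card ↥⁅E, E⁆ := huq ▸ Subgroup.orderOf_dvd_natCard _ hu
      have hqH : q ∉ sigma H := fun hσ => by
        have h1 := le_sigmaCore hG hH (hXE.trans hE.1) (mem_of_pGroup (isPGroup_of_card_prime hX) hσ)
        exact ne_bot_of_card_prime hX (le_bot_iff.mp (hE.2.2.1 ▸ le_inf hXE h1))
      rcases mem_classes hG hH hq (huq ▸ Subgroup.orderOf_dvd_natCard _ (hE.1 (hDE hu))) with h' | h' | h' | h'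
      · exact absurd h' hqH
      · exact absurd (hqd.trans (Subgroup.card_dvd_of_le hD)) h'.2.2.2.1
      · exact absurd h' (by rw [hτ]; exact id)
      by_contra hne
      have hfpf : Subgroup.zpowers u ⊓ Subgroup.centralizer (K : Set G) = ⊥ :=
        (prime_inf_eq_bot_or_le hX (B := Subgroup.centralizer (K : Set G))).resolve_right fun hle =>
          hne (Subgroup.mem_centralizer_iff.mp (hle (Subgroup.mem_zpowers u)) x hx)
      exact fixed_of_pair hG hpl hH hX c.card (hXE.trans hE.1) hKH hqH hpH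
        (hKE.trans (tau3_normal hG hH hE h' hX hXE)) hfpf hC
        (regular_line hG hpl hH hκ hX (hXE.trans hE.1) (Or.inr h'))
  intro e he
  refine Coprime.mem_normalizer_of_conj_mem fun k hk => ?_
  have hd : e * k * e⁻¹ * k⁻¹ ∈ ⁅E, E⁆ := Subgroup.commutator_mem_commutator he (hKE hk)
  have hcomm : Commute (e * k * e⁻¹ * k⁻¹) k := Subgroup.mem_centralizer_iff.mp (hcen hk) _ hd
  have hkp : k ^ p = 1 := orderOf_dvd_iff_pow_eq_one.mp (c.card ▸ Subgroup.orderOf_dvd_natCard K hk)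
  have h1 : (e * k * e⁻¹ * k⁻¹) ^ p = 1 := by
    have := hcomm.mul_pow p
    rwa [inv_mul_cancel_right, conj_pow, hkp, mul_one, mul_inv_cancel, mul_one, eq_comm] at this
  have h2 : e * k * e⁻¹ * k⁻¹ = 1 := orderOf_eq_one_iff.mp (Nat.eq_one_of_dvd_coprimes
    (hp.out.coprime_iff_not_dvd.mpr hpD) (orderOf_dvd_of_pow_eq_one h1) (Subgroup.orderOf_dvd_natCard _ hd))
  rw [mul_inv_eq_one] at h2
  rwa [h2]

/-- `K` fixes a non-trivial element of the normal `s`-subgroup `B` of a complement. -/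
theorem exists_fixed_tau2 (c : P2Ctx M K U L p) {H E : Subgroup G} (hH : IsCoatom H) (hκ : kappa H = ∅)
    (hpH : p ∉ sigma H) (hE : IsComplIn E (sigmaCore H) H) (hKE : K ≤ E) {s : ℕ} [hs : Fact s.Prime]
    (hsτ : s ∈ tau2 H) (hsp : p ∈ tau2 H → s = p) {B : Subgroup G} (hBE : B ≤ E) (hBe : IsElementaryAbelian s B)
    (hB2 : Nat.card B = s ^ 2) {b : G} (hb : b ∈ B) (hb1 : b ≠ 1) (hbH : b ∈ sigmaHat H) :
    ∃ a ∈ B, a ≠ 1 ∧ a ∈ Subgroup.centralizer (K : Set G) := by
  obtain ⟨⟨hEB, hall⟩, -, -⟩ := tau2_compl_facts hG hpl hH hE hsτ ⟨hBE, hBe, hB2⟩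
  obtain ⟨k, hk, hk1⟩ := K.bot_or_exists_ne_one.resolve_left c.K_ne
  by_cases hsp' : s = p
  · subst hsp'
    have hKB : K ≤ B := hall K hKE c.card
    exact ⟨k, hKB hk, hk1, Subgroup.mem_centralizer_iff.mpr fun y hy => PLocal.comm_of_EA hBe (hKB hy) (hKB hk)⟩
  have hpτ : p ∉ tau2 H := fun h => hsp' (hsp h)
  have hKH : K ≤ H := hKE.trans hE.1
  have hd : IsSigmaDecomposition H ⊥ E := ⟨inferInstance, ⟨bot_le, fun q hq hd => by
      rw [Subgroup.card_bot] at hd; exact absurd hd hq.not_dvd_one,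
      fun q _ h => absurd h (by rw [hκ]; exact id)⟩, by rw [bot_sup_eq]; exact hE, bot_le⟩
  obtain ⟨E0, hE0, hexp, hfree⟩ := decomp_free hG hpl hH hd
  have hord : ∀ q : ℕ, ∀ _ : Fact q.Prime, ∀ e : G, e ∈ E → orderOf e = q → ∃ z ∈ E0, orderOf z = q := by
    intro q hq e he heq
    have h1 : q ∣ Nat.card E0 := by
      refine dvd_trans ?_ Group.exponent_dvd_nat_card
      rw [hexp, ← heq, ← Subgroup.orderOf_mk e he]
      exact Monoid.order_dvd_exponent _
    obtain ⟨z, hz⟩ := exists_prime_orderOf_dvd_card' q h1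
    exact ⟨z, z.2, by rw [Subgroup.orderOf_coe, hz]⟩
  obtain ⟨z, hz, hzs⟩ := hord s hs b (hBE hb) (orderOf_eq_prime (hBe.2 b hb) hb1)
  obtain ⟨k', hk', hk'p⟩ := hord p hp k (hKE hk) (orderOf_eq_prime
    (orderOf_dvd_iff_pow_eq_one.mp (c.card ▸ Subgroup.orderOf_dvd_natCard K hk)) hk1)
  set Z := Subgroup.zpowers z with hZdef
  set P := Subgroup.zpowers k' with hPdef
  have hZ : Nat.card Z = s := by rw [Nat.card_zpowers, hzs]
  have hP : Nat.card P = p := by rw [Nat.card_zpowers, hk'p]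
  have hZE : Z ≤ E := Subgroup.zpowers_le.mpr (hE0 hz)
  have hPE : P ≤ E := Subgroup.zpowers_le.mpr (hE0 hk')
  have hfz : ∀ x ∈ E0, x ≠ 1 → sigmaCore H ⊓ Subgroup.centralizer ({x} : Set G) = ⊥ := fun x hx hx1 => by
    refine le_bot_iff.mp fun y hy => Subgroup.mem_bot.mpr (by_contra fun hy1 => hx1 (hfree x hx
      ⟨hE.1 (hE0 hx), y, hy.1, hy1, (Subgroup.mem_centralizer_singleton_iff.mp hy.2).symm⟩))
  have hZ1 : z ≠ 1 := fun e => hs.out.one_lt.ne (by rw [← hzs, e, orderOf_one])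
  have hP1 : k' ≠ 1 := fun e => hp.out.one_lt.ne (by rw [← hk'p, e, orderOf_one])
  -- the free line of `B`
  have hWeq : E0 ⊓ B = Z := by
    have hlt : E0 ⊓ B < B := lt_of_le_of_ne inf_le_right fun e => hb1 (hfree b (e.ge hb).1 hbH)
    refine (Subgroup.eq_of_le_of_card_ge (le_inf (Subgroup.zpowers_le.mpr hz) (hall Z hZE hZ)) ?_).symm
    rw [hZ]
    exact card_le_of_lt_sq hB2 hlt
  have hPZ : P ≤ Subgroup.normalizer (Z : Set G) := by
    rw [← hWeq, Subgroup.zpowers_le]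
    exact mem_normalizer_inf (Subgroup.le_normalizer hk') (hEB (hE0 hk'))
  have hcen : Z ≤ Subgroup.centralizer (P : Set G) := (prime_inf_eq_bot_or_le hZ).resolve_left fun hfpf => by
    refine fixed_of_pair hG hpl hH hZ hP (hZE.trans hE.1) (hPE.trans hE.1) hsτ.2.1 hpH hPZ hfpf ?_ ?_
    · rw [← centralizer_eq_of_card_prime hP (Subgroup.mem_zpowers k') hP1]; exact hfz k' hk' hP1
    · rw [← centralizer_eq_of_card_prime hZ (Subgroup.mem_zpowers z) hZ1]; exact hfz z hz hZ1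
  -- conjugate `P` to `K` in `E`
  have hr1 : PRankLE p 1 H := by
    rcases mem_classes hG hH hp.out (c.card ▸ Subgroup.card_dvd_of_le hKH) with h | h | h | h
    exacts [absurd h hpH, h.2.2.2.2, absurd h hpτ, h.2.2.2]
  obtain ⟨S, hS⟩ := exists_sylow_map_ge (isPGroup_of_card_prime c.card) hKE
  obtain ⟨S', hS'⟩ := exists_sylow_map_ge (isPGroup_of_card_prime hP) hPE
  obtain ⟨m, hm⟩ := MulAction.exists_smul_eq E S' S
  have hle : cj (m : G) P ≤ (S : Subgroup E).map E.subtype := by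
    rw [← hm, Sylow.coe_subgroup_smul, Core.conj_smul_eq_map]
    rintro _ ⟨x, hx, rfl⟩
    obtain ⟨y, hy, rfl⟩ := hS' hx
    exact ⟨m * y * m⁻¹, ⟨y, hy, rfl⟩, rfl⟩
  haveI := sylow_isCyclic_of_rankOne hG hr1 hE.1 S
  have hSc : IsCyclic ((S : Subgroup E).map E.subtype) := isCyclic_of_surjective _
    ((S : Subgroup E).equivMapOfInjective _ E.subtype_injective).surjective
  have hPK : cj (m : G) P = K := OddLocal.eq_of_card_eq_of_isCyclic hSc hle hS (by rw [card_cj, hP, c.card])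
  refine ⟨m * z * (m : G)⁻¹, (Subgroup.mem_normalizer_iff.mp (hEB m.2) z).mp
    (hall Z hZE hZ (Subgroup.mem_zpowers z)), fun e => hZ1 (by simpa using e), ?_⟩
  rw [← hPK, ← cj_centralizer]
  exact ⟨z, hcen (Subgroup.mem_zpowers z), rfl⟩

/-- A complement of `H_σ` containing `K` lies in `L`. -/
theorem compl_le_L (c : P2Ctx M K U L p) {H E : Subgroup G} (hH : IsCoatom H) (hκ : kappa H = ∅)
    (hnM : ∀ g : G, H ≠ cj g M)
    (hpH : p ∉ sigma H) (hE : IsComplIn E (sigmaCore H) H) (hKE : K ≤ E) : E ≤ L := by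
  classical
  by_cases hτ : tau2 H = ∅
  · exact (c.compl_le_normalizer_K hG hpl hH hκ hpH hE hKE hτ).trans (c.normalizer_K_le hG hpl)
  obtain ⟨s, hsτ, hsp⟩ : ∃ s, s ∈ tau2 H ∧ (p ∈ tau2 H → s = p) := by
    by_cases h : p ∈ tau2 H
    · exact ⟨p, h, fun _ => rfl⟩
    · obtain ⟨s, hs⟩ := Set.nonempty_iff_ne_empty.mpr hτ
      exact ⟨s, hs, fun h' => absurd h' h⟩
  haveI := Fact.mk hsτ.1
  obtain ⟨B, hBE, hBe, hB2⟩ := exists_ea_le_compl hG hE hsτ
  obtain ⟨⟨hEB, -⟩, -, hlines⟩ := tau2_compl_facts hG hpl hH hE hsτ ⟨hBE, hBe, hB2⟩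
  obtain ⟨B0, hexc⟩ := exists_exc hG hpl hH hsτ.2.1 (hBE.trans hE.1) hBe hB2
  have hBp := Components.ea_isPGroup hBe
  have hBnc := not_isCyclic_ea_sq hBe hB2
  have hB1 : B ≠ ⊥ := fun e => hBnc (by subst e; infer_instance)
  -- a line with fixed points
  obtain ⟨b, hb, hb1, hne⟩ : ∃ b ∈ B, b ≠ 1 ∧ sigmaCore H ⊓ Subgroup.centralizer ({b} : Set G) ≠ ⊥ := by
    by_contra! hall
    haveI : IsMulCommutative B := hBe.1
    have h1 := Coprime.eq_centralizerJoin (N := sigmaCore H) hBnc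
      ((hBE.trans hE.1).trans (le_normalizer_sigmaCore H))
      (Components.ea_coprime hBe hexc.not_dvd_sigmaCore)
    refine sigmaCore_ne_bot hG hH (le_bot_iff.mp (h1 ▸ iSup_le fun e => ?_))
    exact (hall e e.2.1 e.2.2).le
  obtain ⟨y, hy, hy1⟩ := (Subgroup.bot_or_exists_ne_one _).resolve_left hne
  have hbH : b ∈ sigmaHat H := ⟨hE.1 (hBE hb), y, hy.1, hy1, (Subgroup.mem_centralizer_singleton_iff.mp hy.2).symm⟩
  have hbs : orderOf b = s := orderOf_eq_prime (hBe.2 b hb) hb1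
  have hsM : s ∉ sigma M := fun hσ => by
    obtain ⟨g, hg⟩ := exists_cj_le hσ hBp
    have hM' := isCoatom_cj c.coatom g
    have hb' : b ∈ cj g (sigmaCore M) := by
      rw [cj_sigmaCore hG c.coatom]
      exact le_sigmaCore hG hM' hg (mem_of_pGroup hBp (by rw [sigma_eq_of_cj]; exact hσ)) hb
    obtain ⟨x, hx, hxb⟩ := hb'
    have hxb' : MulAut.conj g x = b := hxb
    have hx1 : x ≠ 1 := fun e => hb1 (by rw [← hxb', e]; exact map_one _)
    have hle : Subgroup.centralizer ({b} : Set G) ≤ cj g M := by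
      rw [← hxb']
      exact (cj_centralizer_singleton g x).ge.trans (cj_mono (c.centralizer_le hG hpl hx hx1))
    have hC : Subgroup.centralizer ((Subgroup.zpowers b : Subgroup G) : Set G) = Subgroup.centralizer ({b} : Set G) :=
      (centralizer_singleton_eq rfl).symm
    refine hnM g ((hlines _ (Subgroup.zpowers_le.mpr hb) (by rw [Nat.card_zpowers, hbs])
      (by rw [hC]; exact hne)).2 _ hM' ?_).symm
    rw [hC]; exact hle
  obtain ⟨a, ha, ha1, haK⟩ := c.exists_fixed_tau2 hG hpl hH hκ hpH hE hKE hsτ hsp hBE hBe hB2 hb hb1 hbH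
  have haL : a ∈ L := (c.only hG hpl).1 haK
  have hao : orderOf a = s := orderOf_eq_prime (hBe.2 a ha) ha1
  have hKB : K ≤ Subgroup.normalizer (B : Set G) := hKE.trans hEB
  by_cases hsL : s ∈ sigma L
  · have hBL := c.le_of_noncyclic hG hpl hsL hBp hBnc hKB
    exact hEB.trans (normalizer_le_of_noncyclic hG hpl c.partner.coatom hsL hBp hBL hBnc)
  exfalso
  rcases c.classes_fixed hG hpl haL haK hsτ.1 (hao ▸ dvd_rfl) hsL with h | h
  · exact hsM h
  obtain ⟨k, hk, hk1⟩ := K.bot_or_exists_ne_one.resolve_left c.K_ne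
  obtain ⟨EL, hEL, -⟩ := exists_compl_ge hG c.partner.coatom (bot_le : (⊥ : Subgroup G) ≤ L) (fun q hq hd => by
    rw [Subgroup.card_bot] at hd; exact absurd hd hq.not_dvd_one)
  have hBL : B ≤ L := le_trans (fun x hx => Subgroup.mem_centralizer_singleton_iff.mpr (PLocal.comm_of_EA hBe hx ha))
    (only_centralizer_of_tau2 hG hpl c.partner.coatom hEL haL ha1
      (fun q hq hd => (Nat.prime_dvd_prime_iff_eq hq hsτ.1).mp (hao ▸ hd) ▸ h)
      ⟨haL, k, c.partner.le_sigma hk, hk1, (Subgroup.mem_centralizer_iff.mp haK k hk).symm⟩).1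
  obtain ⟨B1, hexcL⟩ := exists_exc hG hpl c.partner.coatom hsL hBL hBe hB2
  have hbot := hexcL.inf_other_eq_bot hG hpl hH (fun e => c.ne_L hG hpl hpH 1 (by rw [cj_one]; exact e))
    (hBE.trans hE.1)
  exact hk1 (Subgroup.mem_bot.mp (hbot.le ⟨c.partner.le_sigma hk, hE.1 (hKE hk)⟩))

/-- BG 15.8. -/
theorem supplement (c : P2Ctx M K U L p) {r : ℕ} [hr : Fact r.Prime] (hd : r ∣ Nat.card U) (R : Sylow r U)
    {H : Subgroup G} (hH : IsCoatom H)
    (hNR : Subgroup.normalizer (((R : Subgroup U).map U.subtype : Subgroup G) : Set G) ≤ H) :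
    kappa H = ∅ ∧ U ≤ sigmaCore H ∧ M ⊓ H = U ⊔ K ∧ ¬ H ⊓ Subgroup.normalizer (U : Set G) ≤ M ∧
      K ≤ fittingOf (H ⊓ L) ∧ IsComplIn (H ⊓ L) (sigmaCore H) H := by
  obtain ⟨hrH, hκ, hpH, hUK⟩ := c.step_one hG hpl hd R hH hNR
  obtain ⟨hE, hUp, hKU⟩ := decomp_facts hG hpl c.coatom c.decomp
  have hrM : r ∉ sigma M := (hUp r hr.out hd).1
  have hnM : ∀ g : G, H ≠ cj g M := fun g e => hrM (by rwa [e, sigma_eq_of_cj] at hrH)
  have hHM : H ≠ M := fun e => hnM 1 (by rw [cj_one]; exact e)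
  have hKH : K ≤ H := le_sup_right.trans hUK
  have hUH : U ≤ H := le_sup_left.trans hUK
  set R' := (R : Subgroup U).map U.subtype with hR'
  have hR'U : R' ≤ U := Subgroup.map_subtype_le _
  have hR'M : R' ≤ M := hR'U.trans c.decomp.compl.1
  have hR'1 : R' ≠ ⊥ := fun e => hr.out.not_dvd_one (by
    have h1 : r ∣ Nat.card R' := by rw [hR', Core.card_map_subtype]; exact R.dvd_card_of_dvd_card hd
    rwa [e, Subgroup.card_bot] at h1)
  -- `U ≤ H_σ`
  have hUσ : U ≤ sigmaCore H := le_sigmaCore hG hH hUH fun q hq hqd => by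
    haveI := Fact.mk hq
    by_contra hqH
    obtain ⟨Q⟩ := (inferInstance : Nonempty (Sylow q U))
    set Q' := (Q : Subgroup U).map U.subtype with hQ'
    have hQp : IsPGroup q Q' := Q.isPGroup'.map _
    have hQU : Q' ≤ U := Subgroup.map_subtype_le _
    have hqM : q ∉ sigma M := (hUp q hq hqd).1
    obtain ⟨S, hS⟩ := exists_sylow_map_ge hQp (hQU.trans c.decomp.compl.1)
    by_cases hq1 : PRankLE q 1 M
    · obtain ⟨x, hx⟩ := exists_prime_orderOf_dvd_card' q
        (by rw [hQ', Core.card_map_subtype]; exact Q.dvd_card_of_dvd_card hqd : q ∣ Nat.card Q')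
      set X := Subgroup.zpowers (x : G) with hXdef
      have hX : Nat.card X = q := by rw [Nat.card_zpowers, Subgroup.orderOf_coe, hx]
      have hXQ : X ≤ Q' := Subgroup.zpowers_le.mpr x.2
      haveI := sylow_isCyclic_of_rankOne hG hq1 le_rfl S
      haveI : IsCyclic ((S : Subgroup M).map M.subtype) := isCyclic_of_surjective _
        ((S : Subgroup M).equivMapOfInjective _ M.subtype_injective).surjective
      have hQc : IsCyclic Q' := isCyclic_of_injective (Subgroup.inclusion hS) (Subgroup.inclusion_injective _)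
      have hKX : K ≤ Subgroup.normalizer (X : Set G) := fun k hk => mem_normalizer_of_isCyclic hQc hXQ
        ((cj_mono hXQ).trans (cj_eq_iff.mpr (c.sylow_norm hG hpl Q (Subgroup.mem_sup_right hk))).le)
      have hfpf : X ⊓ Subgroup.centralizer (K : Set G) = ⊥ := by
        obtain ⟨k, hk, hk1⟩ := K.bot_or_exists_ne_one.resolve_left c.K_ne
        refine le_bot_iff.mp fun a ha => ?_
        rw [← decomp_regular hG hpl c.coatom c.decomp hk hk1]
        exact ⟨hQU (hXQ ha.1), Subgroup.centralizer_le (Set.singleton_subset_iff.mpr hk) ha.2⟩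
      exact hqH (c.mem_sigma_line hG hpl hH hκ hKH hpH hX ((hXQ.trans hQU).trans hUH) hKX hfpf hqM
        (fun hXL => ne_bot_of_card_prime hX (le_bot_iff.mp ((c.inf_L hG hpl) ▸ le_inf (hXQ.trans hQU) hXL))))
    obtain ⟨B, hBM, hBe, hB2⟩ := exists_ea_sq_of_rank (pRankLE_two_of_notMem_sigma hG c.coatom hq hqM) hq1
    have hSQ : (S : Subgroup M).map M.subtype = Q' := by
      refine (Subgroup.eq_of_le_of_card_ge hS ?_).symm
      obtain ⟨j, hj⟩ := IsPGroup.iff_card.mp (S.isPGroup'.map M.subtype)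
      have h2 : q ^ j ∣ Nat.card Q' * Q'.relIndex M := by
        rw [Core.card_mul_relIndex (hQU.trans c.decomp.compl.1), ← hj]
        exact Subgroup.card_dvd_of_le (Subgroup.map_subtype_le _)
      rw [hj]
      exact Nat.le_of_dvd Nat.card_pos
        (((hq.coprime_iff_not_dvd.mpr (c.sylow_relIndex hG hpl Q hqd)).pow_left j).dvd_of_dvd_mul_right h2)
    obtain ⟨B', hB'e, hB'2, hB'S⟩ := exists_ea_le_sylow hG hpl S hBe hBM
    rw [hB2] at hB'2
    rw [hSQ] at hB'S
    have hB'U : B' ≤ U := hB'S.trans hQU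
    obtain ⟨A0, hexc⟩ := exists_exc hG hpl hH hqH (hB'U.trans hUH) hB'e hB'2
    have hbot := hexc.inf_other_eq_bot hG hpl c.coatom hHM.symm (hB'U.trans c.decomp.compl.1)
    exact hR'1 (le_bot_iff.mp (hbot ▸ le_inf (le_sigmaCore hG hH (hR'U.trans hUH)
      (mem_of_pGroup (R.isPGroup'.map _) hrH)) hR'M))
  -- `M ∩ H = UK`
  have hMH : sigmaCore M ⊓ sigmaCore H = ⊥ :=
    Coprime.inf_eq_bot_of_coprime (Nat.coprime_of_dvd fun q hq h1 h2 => by
      haveI := Fact.mk hq
      exact sigma_disjoint hG hpl c.coatom hH hnM (mem_sigma_of_dvd hq h2) (mem_sigma_of_dvd hq h1))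
  have hD : sigmaCore M ⊓ H = ⊥ := by
    obtain ⟨U0, hU0, hexp, hfree⟩ := decomp_free hG hpl c.coatom c.decomp
    refine le_bot_iff.mp fun d hd' => Subgroup.mem_bot.mpr (by_contra fun hd1 => ?_)
    obtain ⟨x, hx⟩ := exists_prime_orderOf_dvd_card' r hd
    have h1 : r ∣ Nat.card U0 := by
      refine dvd_trans ?_ Group.exponent_dvd_nat_card
      rw [hexp, ← hx]
      exact Monoid.order_dvd_exponent _
    obtain ⟨u, hu⟩ := exists_prime_orderOf_dvd_card' r h1
    have hu1 : (u : G) ≠ 1 := fun e => hr.out.one_lt.ne (by rw [← hu, ← Subgroup.orderOf_coe, e, orderOf_one])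
    have hcomm : ⁅(u : G), d⁆ = 1 := Subgroup.mem_bot.mp (hMH.le ⟨
      by rw [commutatorElement_def]
         exact (sigmaCore M).mul_mem ((Subgroup.mem_normalizer_iff.mp
           (le_normalizer_sigmaCore M (c.decomp.compl.1 (hU0 u.2))) d).mp hd'.1) ((sigmaCore M).inv_mem hd'.1),
      by rw [commutatorElement_def, mul_assoc, mul_assoc, ← mul_assoc (d : G)]
         exact (sigmaCore H).mul_mem (hUσ (hU0 u.2)) ((Subgroup.mem_normalizer_iff.mp
           (le_normalizer_sigmaCore H hd'.2) _).mp ((sigmaCore H).inv_mem (hUσ (hU0 u.2))))⟩)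
    exact hu1 (hfree u u.2 ⟨c.decomp.compl.1 (hU0 u.2), d, hd'.1, hd1, commutatorElement_eq_one_iff_mul_comm.mp hcomm⟩)
  have hinter : M ⊓ H = U ⊔ K := by
    refine le_antisymm (fun g hg => ?_) (le_inf hE.1 hUK)
    obtain ⟨a, ha, b, hb, rfl⟩ := hE.2.2.2 g hg.1
    have hbH : b ∈ H := by
      have := H.mul_mem (H.inv_mem (hUK ha)) hg.2
      rwa [inv_mul_cancel_left] at this
    rw [Subgroup.mem_bot.mp (hD.le ⟨hb, hbH⟩), mul_one]
    exact ha
  have hKσ : K ⊓ sigmaCore H = ⊥ := inf_sigmaCore_eq_bot (notMem_sigma_of_pGroup (isPGroup_of_card_prime c.card) hpH)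
  obtain ⟨E, hEH, hKE⟩ := exists_compl_ge hG hH hKH (fun q hq hqd =>
    (Nat.prime_dvd_prime_iff_eq hq hp.out).mp (c.card ▸ hqd) ▸ hpH)
  have hE1 : E ≠ ⊥ := fun e => c.K_ne (le_bot_iff.mp (e ▸ hKE))
  have hdH : IsSigmaDecomposition H ⊥ E := ⟨inferInstance, ⟨bot_le, fun q hq hd => by
      rw [Subgroup.card_bot] at hd; exact absurd hd hq.not_dvd_one,
      fun q _ h => absurd h (by rw [hκ]; exact id)⟩, by rw [bot_sup_eq]; exact hEH, bot_le⟩
  haveI hnil := isNilpotent_sigmaCore_of_ne_bot hG hpl hH hdH hE1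
  have hnN : ¬ H ⊓ Subgroup.normalizer (U : Set G) ≤ M := by
    intro hle
    have hmeet : M ⊓ sigmaCore H ≤ U := fun g hg => by
      have h1 : g ∈ U ⊔ K := hinter.le ⟨hg.1, sigmaCore_le H hg.2⟩
      obtain ⟨u, hu, k, hk, rfl⟩ := Coprime.exists_mul_of_mem_sup c.decomp.normal h1
      have hk' : k ∈ sigmaCore H := by
        have := (sigmaCore H).mul_mem ((sigmaCore H).inv_mem (hUσ hu)) hg.2
        rwa [inv_mul_cancel_left] at this
      rw [Subgroup.mem_bot.mp (hKσ.le ⟨hk, hk'⟩), mul_one]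
      exact hu
    rcases eq_or_lt_of_le hUσ with hUeq | hlt
    · exact hHM (le_antisymm_iff.mpr ⟨le_trans (le_inf le_rfl (hUeq ▸ le_normalizer_sigmaCore H)) hle,
        (hH.le_iff.mp (le_trans (le_inf le_rfl (hUeq ▸ le_normalizer_sigmaCore H)) hle)).resolve_left c.coatom.1 ▸ le_rfl⟩)
    have hlt' : U.subgroupOf (sigmaCore H) < ⊤ := lt_top_iff_ne_top.mpr fun e =>
      hlt.not_ge (Subgroup.subgroupOf_eq_top.mp e)
    obtain ⟨n, hn, hnU⟩ := SetLike.exists_of_lt (Group.normalizerCondition_of_isNilpotent _ hlt')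
    refine hnU (Subgroup.mem_subgroupOf.mpr (hmeet ⟨hle ⟨sigmaCore_le H n.2, ?_⟩, n.2⟩))
    refine Coprime.mem_normalizer_of_conj_mem fun u hu => ?_
    exact Subgroup.mem_subgroupOf.mp ((Subgroup.mem_normalizer_iff.mp hn ⟨u, hUσ hu⟩).mp
      (Subgroup.mem_subgroupOf.mpr hu))
  have hHL : sigmaCore H ⊓ L = ⊥ := by
    refine le_bot_iff.mp fun x hx => ?_
    rw [← c.fixed_eq_bot hG hpl hH hκ hKH hpH]
    refine Subgroup.mem_inf.mpr ⟨hx.1, Subgroup.mem_centralizer_iff.mpr fun k hk => ?_⟩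
    have hdisj : sigmaCore H ⊓ sigmaCore L = ⊥ :=
      Coprime.inf_eq_bot_of_coprime (Nat.coprime_of_dvd fun q hq h1 h2 => by
        haveI := Fact.mk hq
        exact sigma_disjoint hG hpl c.partner.coatom hH (c.ne_L hG hpl hpH) (mem_sigma_of_dvd hq h1)
          (mem_sigma_of_dvd hq h2))
    have hcomm : ⁅x, k⁆ = 1 := Subgroup.mem_bot.mp (hdisj.le ⟨
      by rw [commutatorElement_def, mul_assoc, mul_assoc, ← mul_assoc k]
         exact (sigmaCore H).mul_mem hx.1 ((Subgroup.mem_normalizer_iff.mp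
           (le_normalizer_sigmaCore H (hKH hk)) _).mp ((sigmaCore H).inv_mem hx.1)),
      by rw [commutatorElement_def]
         exact (sigmaCore L).mul_mem ((Subgroup.mem_normalizer_iff.mp (le_normalizer_sigmaCore L hx.2) k).mp
           (c.partner.le_sigma hk)) ((sigmaCore L).inv_mem (c.partner.le_sigma hk))⟩)
    exact (commutatorElement_eq_one_iff_mul_comm.mp hcomm).symm
  have hEL := c.compl_le_L hG hpl hH hκ hnM hpH hEH hKE
  have hEeq : H ⊓ L = E := by
    refine le_antisymm (fun g hg => ?_) (le_inf hEH.1 hEL)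
    obtain ⟨a, ha, b, hb, rfl⟩ := hEH.2.2.2 g hg.1
    have hbL : b ∈ L := by
      have := L.mul_mem (L.inv_mem (hEL ha)) hg.2
      rwa [inv_mul_cancel_left] at this
    rw [Subgroup.mem_bot.mp (hHL.le ⟨hb, hbL⟩), mul_one]
    exact ha
  refine ⟨hκ, hUσ, hinter, hnN, ?_, hEeq ▸ hEH⟩
  rw [hEeq]
  -- `K` lies in the normal nilpotent subgroup `E ∩ L_F`
  have hKF : K ≤ fittingHallOf L := by
    by_cases hn : Group.IsNilpotent (sigmaCore L)
    · exact c.partner.le_sigma.trans (sigmaCore_le_fittingHallOf hG hpl c.partner.coatom hn)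
    obtain ⟨W, hW⟩ := exists_decomp hG hpl c.partner.coatom
      ((kappa_hall hG hpl c.partner.coatom).2 _ c.partner.hall) c.partner.hall
    obtain ⟨Q, hQ⟩ := exists_qData hG hpl c.partner.coatom hW hn
    exact (c.partner.eq_K.le.trans hQ.fixed_le).trans (qData_le_fittingHallOf hG hpl c.partner.coatom hQ)
  haveI := fittingHall_normal L
  set N := (fittingHallOf L).subgroupOf E with hNdef
  haveI : N.Normal := by
    refine Subgroup.Normal.mk fun n hn e => Subgroup.mem_subgroupOf.mpr ?_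
    obtain ⟨m, hm, hmn⟩ := Subgroup.mem_subgroupOf.mp hn
    refine ⟨⟨e, hEL e.2⟩ * m * ⟨e, hEL e.2⟩⁻¹, (inferInstance : (fittingHall L).Normal).conj_mem m hm _, ?_⟩
    simp [← hmn]
  have hLn : Group.IsNilpotent (fittingHallOf L) := Core.isNilpotent_map (fittingHall_props L).1 _
  have hN : Group.IsNilpotent N := by
    have h1 : Group.IsNilpotent ↥(fittingHallOf L ⊓ E) := Core.isNilpotent_of_le inf_le_left hLn
    have h2 : N = (fittingHallOf L ⊓ E).subgroupOf E := (Subgroup.inf_subgroupOf_right _ _).symm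
    rw [h2]
    exact Core.isNilpotent_congr (Subgroup.subgroupOfEquivOfLe inf_le_right).symm h1
  exact fun k hk => ⟨⟨k, hKE hk⟩, Core.le_fittingSubgroup inferInstance hN (Subgroup.mem_subgroupOf.mpr (hKF hk)), rfl⟩

end P2Ctx

end

end Cfsg.Agent.OddLocal.Sigma
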