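import Cfsg.Agent.OddLocal.Sigma.SupportSmall
import Cfsg.Agent.OddLocal.Sigma.SupplementL
import Cfsg.Agent.OddLocal.Sigma.QStructure

/-! The support of an element of `M_σ` with non-empty `κ` (BG 15.9). -/

set_option autoImplicit false
set_option linter.style.haveILetI false
set_option linter.unusedSectionVars false

namespace Cfsg.Agent.OddLocal.Sigma

open Cfsg
open scoped commutatorElement

variable {G : Type*} [Group G] [Finite G]

theorem piHallOf_cj {π : Set ℕ} {K M : Subgroup G} (hK : IsPiHallOf π K M) {m : G} (hm : m ∈ M) :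
    IsPiHallOf π (cj m K) M := by
  have hle : cj m K ≤ M := (cj_mono hK.1).trans (cj_eq_iff.mpr (Subgroup.le_normalizer hm)).le
  refine ⟨hle, fun q hq hd => hK.2.1 q hq (by rwa [card_cj] at hd), fun q hq hqπ hd => hK.2.2 q hq hqπ ?_⟩
  have h1 := Core.card_mul_relIndex hle
  rw [← Core.card_mul_relIndex hK.1, card_cj] at h1
  rwa [Nat.eq_of_mul_eq_mul_left Nat.card_pos h1] at hd

/-- A nilpotent group centralizes its `s`-subgroups when the Sylow `s`-subgroups of `G` are abelian. -/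
theorem le_centralizer_of_abelian_sylow {s : ℕ} [hs : Fact s.Prime]
    (hab : ∀ S : Sylow s G, IsMulCommutative (S : Subgroup G)) {F B : Subgroup G} (hF : Group.IsNilpotent F)
    (hBF : B ≤ F) (hB : IsPGroup s B) : F ≤ Subgroup.centralizer (B : Set G) := by
  refine Core.le_of_forall_exists_sylow_le fun t ht => ?_
  haveI := Fact.mk ht
  obtain ⟨T⟩ := (inferInstance : Nonempty (Sylow t F))
  refine ⟨T, fun a ha => Subgroup.mem_centralizer_iff.mpr fun b hb => ?_⟩
  have haF : a ∈ F := Subgroup.map_subtype_le _ ha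
  by_cases hts : t = s
  · subst hts
    haveI := hF
    haveI : (T : Subgroup F).Normal := inferInstance
    obtain ⟨T', hT'⟩ := exists_sylow_map_ge hB hBF
    obtain ⟨m, hm⟩ := MulAction.exists_smul_eq F T' T
    have hbT : b ∈ (T : Subgroup F).map F.subtype := by
      have h1 : T' = T := by
        haveI : (T' : Subgroup F).Normal := inferInstance
        haveI := Sylow.unique_of_normal T' this
        exact Subsingleton.elim _ _
      exact h1 ▸ hT' hb
    obtain ⟨S, hS⟩ := (T.isPGroup'.map F.subtype).exists_le_sylow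
    exact (congrArg Subtype.val ((hab S).is_comm.comm ⟨b, hS hbT⟩ ⟨a, hS ha⟩) :)
  · refine (commute_of_mem_nilpotent hF (hBF hb) haF ?_).eq
    obtain ⟨i, hi⟩ := IsPGroup.iff_card.mp hB
    obtain ⟨j, hj⟩ := IsPGroup.iff_card.mp (T.isPGroup'.map F.subtype)
    exact ((Nat.coprime_primes hs.out ht).mpr (Ne.symm hts) |>.pow i j).coprime_dvd_left
      (hi ▸ Subgroup.orderOf_dvd_natCard B hb) |>.coprime_dvd_right (hj ▸ Subgroup.orderOf_dvd_natCard _ ha)

section
variable (hG : IsMinSimpleOddOrder G)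
include hG
variable (hpl : ∀ (p : ℕ) [Fact p.Prime] (H : Subgroup G), H ≠ ⊤ → PLengthLE p 1 H)
include hpl

/-- A decomposition inside a given complement. -/
theorem exists_decomp_in {M K E : Subgroup G} (hM : IsCoatom M) (hKc : IsCyclic K) (hK : IsPiHallOf (kappa M) K M)
    (hK1 : K ≠ ⊥) (hE : IsComplIn E (sigmaCore M) M) (hKE : K ≤ E) :
    ∃ U : Subgroup G, IsSigmaDecomposition M K U ∧ U ≤ E ∧ E ≤ U ⊔ K := by
  obtain ⟨U, hUE, hEU, -, hUH, hKU, hprod, -⟩ := exists_normal_kappa_compl hG hpl hM hK hK1 hE hKE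
  refine ⟨U, ⟨hKc, hK, ⟨hUE.trans hE.1, sup_le hK.1 (sigmaCore_le M), ?_, fun m hm => ?_⟩, hKE.trans hEU⟩, hUE,
    fun e he => ?_⟩
  · refine Coprime.inf_eq_bot_of_coprime (Nat.coprime_of_dvd fun q hq h1 h2 => ?_)
    obtain ⟨-, hκ, hσ⟩ := hUH.2.1 q hq h2
    have hd : q ∣ Nat.card (sigmaCore M) * Nat.card K := by
      refine h1.trans (dvd_of_eq ?_)
      rw [sup_comm, Coprime.card_sup (hK.1.trans (le_normalizer_sigmaCore M))]
      exact Coprime.inf_eq_bot_of_coprime (Nat.coprime_of_dvd fun t ht t1 t2 =>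
        (hK.2.1 t ht t1).2.2.1 (mem_sigma_of_dvd ht t2))
    rcases hq.dvd_mul.mp hd with h3 | h3
    exacts [hσ (mem_sigma_of_dvd hq h3), hκ (hK.2.1 q hq h3)]
  · obtain ⟨e, he, d, hd, rfl⟩ := hE.2.2.2 m hm
    obtain ⟨a, ha, b, hb, rfl⟩ := hprod e he
    exact ⟨a, ha, b * d, mul_mem (Subgroup.mem_sup_left hb) (Subgroup.mem_sup_right hd), mul_assoc _ _ _⟩
  · obtain ⟨a, ha, b, hb, rfl⟩ := hprod e he
    exact mul_mem (Subgroup.mem_sup_left ha) (Subgroup.mem_sup_right hb)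

omit hpl in
/-- The Sylow subgroup of a central element in a normal abelian Sylow subgroup. -/
theorem eq_bot_of_central_abelian_sylow (hpl : ∀ (p : ℕ) [Fact p.Prime] (H : Subgroup G), H ≠ ⊤ → PLengthLE p 1 H)
    {p : ℕ} [hp : Fact p.Prime] (X : Sylow p G) (hX : IsMulCommutative (X : Subgroup G)) {K : Subgroup G}
    (hKX : K ≤ (X : Subgroup G))
    (hcen : Subgroup.normalizer ((X : Subgroup G) : Set G) ≤ Subgroup.centralizer (K : Set G)) : K = ⊥ := by
  set N := Subgroup.normalizer ((X : Subgroup G) : Set G) with hN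
  have hXN : (X : Subgroup G) ≤ N := Subgroup.le_normalizer
  haveI : ((X : Subgroup G).subgroupOf N).Normal := Subgroup.normal_subgroupOf_of_le_normalizer le_rfl
  have hco : (Nat.card ((X : Subgroup G).subgroupOf N)).Coprime ((X : Subgroup G).subgroupOf N).index := by
    obtain ⟨j, hj⟩ := IsPGroup.iff_card.mp X.isPGroup'
    rw [Core.card_subgroupOf hXN, hj]
    refine ((hp.out.coprime_iff_not_dvd).mpr fun hd => X.not_dvd_index ?_).pow_left j
    exact hd.trans (Subgroup.relIndex_dvd_index_of_le hXN)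
  obtain ⟨V, hV⟩ := Subgroup.exists_right_complement'_of_coprime hco
  set V' := V.map N.subtype
  have hVN : V' ≤ N := Subgroup.map_subtype_le _
  have hc : IsComplIn (X : Subgroup G) V' N := by
    refine ⟨hXN, hVN, le_bot_iff.mp fun a ha => ?_, fun n hn => ?_⟩
    · obtain ⟨v, hv, rfl⟩ := ha.2
      have h1 : v ∈ (X : Subgroup G).subgroupOf N ⊓ V := ⟨Subgroup.mem_subgroupOf.mpr ha.1, hv⟩
      rw [hV.disjoint.eq_bot, Subgroup.mem_bot] at h1
      rw [h1]; exact one_mem _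
    · obtain ⟨⟨a, b⟩, e⟩ := hV.2 ⟨n, hn⟩
      exact ⟨a.1, Subgroup.mem_subgroupOf.mp a.2, b.1, Subgroup.mem_map_of_mem _ b.2, congrArg Subtype.val e.symm⟩
  have hXV := (sylow_eq_commutator hG hpl X V' hc).1
  have hcopV : (Nat.card V').Coprime (Nat.card (X : Subgroup G)) := by
    rw [Core.card_map_subtype, ← hV.symm.index_eq_card, ← Core.card_subgroupOf hXN]
    exact hco.symm
  rw [eq_bot_iff, ← Coprime.commutator_inf_centralizer_eq_bot (A := V') (hVN.trans le_rfl) hX hcopV, ← hXV]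
  exact le_inf hKX (Subgroup.le_centralizer_iff.mp (hVN.trans hcen))

namespace IsSupport

variable {M N : Subgroup G} {x : G}

/-- BG 15.9: if `κ(N) ≠ ∅` then `κ(M) = τ₂(M) = ∅` and the complements are abelian. -/
theorem kappa_facts (h : IsSupport M N x) (hM : IsCoatom M) (hx1 : x ≠ 1) (hκ : (kappa N).Nonempty) :
    kappa M = ∅ ∧ tau2 M = ∅ ∧
      ∃ E : Subgroup G, IsComplIn E (sigmaCore M) M ∧ E ≠ ⊥ ∧ IsMulCommutative E := by
  obtain ⟨⟨K0, hK0⟩, hc0⟩ := kappa_hall hG hpl h.coatom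
  obtain ⟨m, hm, hmK⟩ := exists_cj_le_compl hG h.coatom h.compl hK0.1 (fun q hq hd => (hK0.2.1 q hq hd).2.2.1)
  set K := cj m K0 with hKdef
  have hK : IsPiHallOf (kappa N) K N := piHallOf_cj hK0 hm
  have hK1 : K ≠ ⊥ := fun e => by
    obtain ⟨q, hq⟩ := hκ
    have h1 : q ∣ Nat.card K * K.relIndex N := by rw [Core.card_mul_relIndex hK.1]; exact hq.2.1
    rw [e, Subgroup.card_bot, one_mul, ← e] at h1
    exact hK.2.2 q hq.1 hq h1
  obtain ⟨U, hd, hUE, hEU⟩ := exists_decomp_in hG hpl h.coatom (hc0 K0 hK0 |> fun _ => (kappa_hall hG hpl h.coatom).2 K hK)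
    hK hK1 h.compl hmK
  have hU1 : U ≠ ⊥ := (h.decomp hG hpl hx1 hd).1
  have hk := card_kappa_prime hG hpl h.coatom hd hK1 hU1
  haveI := Fact.mk hk
  obtain ⟨L, hL⟩ := exists_partner hG hpl h.coatom hd.hall hK1
  have c : P2Ctx N K U L (Nat.card K) := ⟨h.coatom, hd, hL, rfl, hU1⟩
  obtain ⟨hE₀, hUp, hKU⟩ := decomp_facts hG hpl h.coatom hd
  obtain ⟨q, hq, hqd⟩ := Nat.exists_prime_and_dvd (show orderOf x ≠ 1 by rwa [ne_eq, orderOf_eq_one_iff])
  haveI := Fact.mk hq
  obtain ⟨hqτ, hqσ⟩ := h.tau2_primes q hq hqd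
  obtain ⟨A1, hA1E, hA1e, hA12⟩ := exists_ea_le_compl hG h.compl hqτ
  have hqU : q ∣ Nat.card U := by
    have h1 : q ∣ Nat.card ↥(U ⊔ K) := (dvd_card_of_ne_bot (Components.ea_isPGroup hA1e) (fun e => by
      rw [e, Subgroup.card_bot] at hA12; exact (Nat.one_lt_pow two_ne_zero hq.one_lt).ne hA12)).trans
      (Subgroup.card_dvd_of_le (hA1E.trans hEU))
    rw [c.card_sup_K hKU] at h1
    refine (hq.dvd_mul.mp h1).resolve_right fun hd' => hqτ.2.2.2 ?_
    rw [(Nat.prime_dvd_prime_iff_eq hq hk).mp hd']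
    exact (kappa_subset_tau1 hG hpl h.coatom (hK.2.1 _ hk dvd_rfl)).2.2.2.2
  obtain ⟨R⟩ := (inferInstance : Nonempty (Sylow q U))
  set R' := (R : Subgroup U).map U.subtype with hR'
  have hR'U : R' ≤ U := Subgroup.map_subtype_le _
  have hR'p : IsPGroup q R' := R.isPGroup'.map _
  have hR'N : R' ≤ N := hR'U.trans hd.compl.1
  obtain ⟨S, hS⟩ := exists_sylow_map_ge hR'p hR'N
  have hSR : (S : Subgroup N).map N.subtype = R' := by
    refine (Subgroup.eq_of_le_of_card_ge hS ?_).symm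
    obtain ⟨j, hj⟩ := IsPGroup.iff_card.mp (S.isPGroup'.map N.subtype)
    have h2 : q ^ j ∣ Nat.card R' * R'.relIndex N := by
      rw [Core.card_mul_relIndex hR'N, ← hj]
      exact Subgroup.card_dvd_of_le (Subgroup.map_subtype_le _)
    rw [hj]
    exact Nat.le_of_dvd Nat.card_pos
      (((hq.coprime_iff_not_dvd.mpr (c.sylow_relIndex hG hpl R hqU)).pow_left j).dvd_of_dvd_mul_right h2)
  obtain ⟨A, hAe, hA2, hAS⟩ := exists_ea_le_sylow hG hpl S hA1e (hA1E.trans h.compl.1)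
  rw [hA12] at hA2
  rw [hSR] at hAS
  have hAU : A ≤ U := hAS.trans hR'U
  have hR'M : R' ≤ M := (hR'U.trans hUE).trans inf_le_left
  have hnc : ¬ IsCyclic R' := fun hcy => not_isCyclic_ea_sq hAe hA2
    (haveI := hcy; isCyclic_of_injective (Subgroup.inclusion hAS) (Subgroup.inclusion_injective _))
  obtain ⟨hκM, hUσ, hinter, -, hKF, hE⟩ :=
    c.supplement hG hpl hqU R hM (normalizer_le_of_noncyclic hG hpl hM hqσ hR'p hR'M hnc)
  set E := M ⊓ L with hEdef
  have hKM : K ≤ M := le_sup_right.trans (hinter.ge.trans inf_le_right)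
  have hKE : K ≤ E := le_inf hKM (hL.le_sigma.trans (sigmaCore_le L))
  have hE1 : E ≠ ⊥ := fun e => hK1 (le_bot_iff.mp (e ▸ hKE))
  have hdM : IsSigmaDecomposition M ⊥ E := ⟨inferInstance, ⟨bot_le, fun t ht hdt => by
      rw [Subgroup.card_bot] at hdt; exact absurd hdt ht.not_dvd_one,
      fun t _ ht => absurd ht (by rw [hκM]; exact id)⟩, by rw [bot_sup_eq]; exact hE, bot_le⟩
  have hn := isNilpotent_sigmaCore_of_ne_bot hG hpl hM hdM hE1
  haveI := hn
  obtain ⟨A0, hexc⟩ := exists_exc hG hpl h.coatom hqτ.2.1 (hAU.trans hd.compl.1) hAe hA2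
  obtain ⟨T, hTσ, hMT⟩ := le_normalizer_sylow_of_nilpotent' hG hM hqσ
  have hAM : A ≤ M := (hAU.trans hUE).trans inf_le_left
  have hAT := le_sylow_of_le_normalizer hexc.maxEA.isPGroup T (hAM.trans hMT)
  have hTs := hexc.oddAutSmall hG hpl T hAT
  have hCA := centralizer_ea_sq_le hG hpl h.coatom (hAU.trans hd.compl.1) hAe hA2
  -- no element of the complement centralizes `A`
  have hEA : E ⊓ Subgroup.centralizer (A : Set G) = ⊥ := by
    refine le_bot_iff.mp fun g hg => ?_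
    have h1 : g ∈ U ⊔ K := hinter.le ⟨hCA hg.2, hg.1.1⟩
    obtain ⟨u, hu, k, hk', rfl⟩ := Coprime.exists_mul_of_mem_sup hd.normal h1
    by_cases hk1 : k = 1
    · subst hk1
      rw [mul_one] at hg ⊢
      exact hE.2.2.1.le ⟨hg.1, hUσ hu⟩
    exfalso
    obtain ⟨a, ha, ha1⟩ := A.bot_or_exists_ne_one.resolve_left (fun e => by
      rw [e, Subgroup.card_bot] at hA2; exact (Nat.one_lt_pow two_ne_zero hq.one_lt).ne hA2)
    have hUc := c.commU hG hpl
    have hua : Commute u a := congrArg Subtype.val (hUc.is_comm.comm ⟨u, hu⟩ ⟨a, hAU ha⟩)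
    have hga : Commute (u * k) a := (Subgroup.mem_centralizer_iff.mp hg.2 a ha).symm
    have hka : Commute k a := by
      have h2 := (hua.inv_left).mul_left hga
      rwa [inv_mul_cancel_left] at h2
    have h3 : a ∈ U ⊓ Subgroup.centralizer ({k} : Set G) :=
      ⟨hAU ha, Subgroup.mem_centralizer_singleton_iff.mpr hka.eq.symm⟩
    rw [decomp_regular hG hpl h.coatom hd hk' hk1, Subgroup.mem_bot] at h3
    exact ha1 h3
  have hEtop : E ≠ ⊤ := fun e => hM.1 (top_le_iff.mp (e ▸ hE.1))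
  have hDbot : ⁅E, E⁆ = ⊥ := le_bot_iff.mp (hEA ▸ le_inf
    (Subgroup.commutator_le.mpr fun a ha b hb => mul_mem (mul_mem (mul_mem ha hb) (inv_mem ha)) (inv_mem hb))
    ((derived_le_centralizer hG hEtop (hE.1.trans hMT)
      (fun hdq => complIn_notMem_sigma hG hM hE hq hdq hqσ) hTs).trans (Subgroup.centralizer_le hAT)))
  have hEc : IsMulCommutative E := ⟨⟨fun a b => Subtype.ext (commutatorElement_eq_one_iff_mul_comm.mp
    (Subgroup.mem_bot.mp (hDbot.le (Subgroup.commutator_mem_commutator a.2 b.2))))⟩⟩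
  refine ⟨hκM, Set.eq_empty_iff_forall_notMem.mpr fun s hsτ => ?_, E, hE, hE1, hEc⟩
  haveI := Fact.mk hsτ.1
  obtain ⟨B, hBE, hBe, hB2⟩ := exists_ea_le_compl hG hE hsτ
  obtain ⟨⟨-, -⟩, ⟨hCB, hNB, -⟩, hlines⟩ := tau2_compl_facts hG hpl hM hE hsτ ⟨hBE, hBe, hB2⟩
  have hCBE : Subgroup.centralizer (B : Set G) ≤ E := hCB.trans hNB.le
  obtain ⟨B0, hexcB⟩ := exists_exc hG hpl hM hsτ.2.1 (hBE.trans hE.1) hBe hB2
  have hBp := Components.ea_isPGroup hBe
  have hAσ : A ≤ sigmaCore M := hAT.trans hTσ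
  have hab : ∀ S : Sylow s G, IsMulCommutative (S : Subgroup G) := by
    by_contra hna
    obtain ⟨hB0, -, -⟩ := hexcB.fpf_lines hG hpl (sylow_all_nonabelian hna) hE hsτ hBE
    have h1 : B0 = ⊥ := le_bot_iff.mp (hEA ▸ le_inf (hexcB.le0.trans hBE)
      (Subgroup.le_centralizer_iff.mp (hAσ.trans hB0)))
    exact ne_bot_of_card_prime hexcB.card0 h1
  obtain ⟨b, hb, hb1, hne⟩ : ∃ b ∈ B, b ≠ 1 ∧ sigmaCore M ⊓ Subgroup.centralizer ({b} : Set G) ≠ ⊥ := by
    by_contra! hall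
    haveI : IsMulCommutative B := hBe.1
    have h1 := Coprime.eq_centralizerJoin (N := sigmaCore M) (not_isCyclic_ea_sq hBe hB2)
      ((hBE.trans hE.1).trans (le_normalizer_sigmaCore M)) (Components.ea_coprime hBe hexcB.not_dvd_sigmaCore)
    refine sigmaCore_ne_bot hG hM (le_bot_iff.mp (h1 ▸ iSup_le fun e => ?_))
    exact (hall e e.2.1 e.2.2).le
  have hbo : orderOf b = s := orderOf_eq_prime (hBe.2 b hb) hb1
  have hEK : E ≤ Subgroup.centralizer (K : Set G) := fun e he => Subgroup.mem_centralizer_iff.mpr fun k hk' =>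
    congrArg Subtype.val (hEc.is_comm.comm ⟨k, hKE hk'⟩ ⟨e, he⟩)
  have hBL : B ≤ L := hBE.trans inf_le_right
  obtain ⟨k0, hk0, hk01⟩ := K.bot_or_exists_ne_one.resolve_left hK1
  have hLM : ∀ g : G, L ≠ cj g M := fun g e => complIn_notMem_sigma hG hM hE hk (Subgroup.card_dvd_of_le hKE)
    (by have := c.mem_sigma hG hpl; rwa [e, sigma_eq_of_cj] at this)
  have hLM1 : L ≠ M := fun e => hLM 1 (by rw [cj_one]; exact e)
  have hsL : s ∈ sigma L := by
    by_contra hsL
    rcases c.classes_fixed hG hpl (hBL hb) (hEK (hBE hb)) hsτ.1 (hbo.symm ▸ dvd_rfl) hsL with h' | h'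
    · obtain ⟨W, hW⟩ := exists_small_of_tau2 hG hpl hM hsτ
      exact h.not_small hG hpl hM hx1 hn h' (hbo ▸ Subgroup.orderOf_dvd_natCard _ (hE.1 (hBE hb))) W hW
    obtain ⟨B1, hexcL⟩ := exists_exc hG hpl hL.coatom hsL hBL hBe hB2
    exact hk01 (Subgroup.mem_bot.mp ((hexcL.inf_other_eq_bot hG hpl hM hLM1.symm (hBE.trans hE.1)).le
      ⟨hL.le_sigma hk0, hKM hk0⟩))
  have hBσ : B ≤ sigmaCore L := le_sigmaCore hG hL.coatom hBL (mem_of_pGroup hBp hsL)
  -- `L` has trivial complement part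
  set Y := sigmaCore N ⊓ Subgroup.centralizer (K : Set G) with hYdef
  have hY1 : Y ≠ ⊥ := IsPartner.kst_ne hG hpl h.coatom hd.hall hK1
  obtain ⟨W, hdL⟩ := exists_decomp hG hpl hL.coatom ((kappa_hall hG hpl hL.coatom).2 _ hL.hall) hL.hall
  have hW : W = ⊥ := by
    by_contra hW
    haveI := Fact.mk (card_kappa_prime hG hpl hL.coatom hdL hY1 hW)
    have cL : P2Ctx L Y W N (Nat.card Y) := ⟨hL.coatom, hdL, hL.symm hG hpl hd.hall h.coatom, rfl, hW⟩
    have h1 := cL.centralizer_le hG hpl (hBσ hb) hb1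
    have hZ : Nat.card (Subgroup.zpowers b) = s := by rw [Nat.card_zpowers, hbo]
    have hC : Subgroup.centralizer ((Subgroup.zpowers b : Subgroup G) : Set G) =
        Subgroup.centralizer ({b} : Set G) := (centralizer_singleton_eq rfl).symm
    refine hLM1 ((hlines _ (Subgroup.zpowers_le.mpr hb) hZ (by rw [hC]; exact hne)).2 _ hL.coatom ?_)
    rw [hC]; exact h1
  have hfix : sigmaCore L ⊓ Subgroup.centralizer (Y : Set G) = K := (hL.eq_K' hG hpl).symm
  by_cases hnL : Group.IsNilpotent (sigmaCore L)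
  · have hLσE : sigmaCore L ≤ E := (le_centralizer_of_abelian_sylow hab hnL hBσ hBp).trans hCBE
    have hLC : L ≤ Subgroup.centralizer (K : Set G) := fun g hg => by
      obtain ⟨w, hw, r, hr, rfl⟩ := hdL.compl.2.2.2 g hg
      rw [hW, Subgroup.mem_bot] at hw
      rw [hw, one_mul]
      refine (sup_le (fun y hy => ?_) (hLσE.trans hEK)) hr
      exact Subgroup.mem_centralizer_iff.mpr fun k hk' =>
        (Subgroup.mem_centralizer_iff.mp (hfix.ge hk').2 y hy).symm
    haveI := hnL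
    obtain ⟨X, hXσ, hLX⟩ := le_normalizer_sylow_of_nilpotent' hG hL.coatom (c.mem_sigma hG hpl)
    have hKX := le_sylow_of_le_normalizer (isPGroup_of_card_prime c.card) X
      ((hL.le_sigma.trans (sigmaCore_le L)).trans hLX)
    have hXc : IsMulCommutative (X : Subgroup G) := ⟨⟨fun a b' => Subtype.ext (congrArg Subtype.val
      (hEc.is_comm.comm ⟨a, hLσE (hXσ a.2)⟩ ⟨b', hLσE (hXσ b'.2)⟩) :)⟩⟩
    have hNX : Subgroup.normalizer ((X : Subgroup G) : Set G) = L :=
      (hL.coatom.le_iff.mp hLX).resolve_left (Core.BG.normalizer_ne_top_of_isPGroup hG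
        (fun e => hK1 (le_bot_iff.mp (e ▸ hKX))) X.isPGroup')
    exact hK1 (eq_bot_of_central_abelian_sylow hG hpl X hXc hKX (hNX.le.trans hLC))
  obtain ⟨Q, hQ⟩ := exists_qData hG hpl hL.coatom hdL hnL
  rw [hfix] at hQ
  set k := Nat.card K
  obtain ⟨T0, hT0L, -⟩ := exists_sylow_le (c.mem_sigma hG hpl)
  have hT0σ : (T0 : Subgroup G) ≤ sigmaCore L :=
    le_sigmaCore hG hL.coatom hT0L (mem_of_pGroup T0.isPGroup' (c.mem_sigma hG hpl))
  have hQL : Q ≤ L := hQ.le.trans (sigmaCore_le L)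
  have hQT : Q = T0 := by
    have h1 : Q ≤ (T0 : Subgroup G) := le_sup_right.trans (T0.is_maximal'
      (T0.isPGroup'.to_sup_of_normal_right' hQ.pgroup (hT0L.trans hQ.normal)) le_sup_left).le
    refine Subgroup.eq_of_le_of_card_ge h1 ?_
    obtain ⟨j, hj⟩ := IsPGroup.iff_card.mp T0.isPGroup'
    have h2 : k ^ j ∣ Nat.card Q * Q.relIndex (sigmaCore L) := by
      rw [Core.card_mul_relIndex hQ.le, ← hj]
      exact Subgroup.card_dvd_of_le hT0σ
    rw [hj]
    exact Nat.le_of_dvd Nat.card_pos (((hk.coprime_iff_not_dvd.mpr hQ.sylow).pow_left j).dvd_of_dvd_mul_right h2)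
  haveI : Group.IsSolvable (sigmaCore L) :=
    Core.BG.isSolvable_proper hG fun e => hL.coatom.1 (top_le_iff.mp (e.ge.trans (sigmaCore_le L)))
  have hcompl : ∀ F : Subgroup G, F ≤ sigmaCore L → ¬ k ∣ Nat.card F →
      ∃ D : Subgroup G, IsComplIn Q D (sigmaCore L) ∧ F ≤ D := by
    intro F hF hkF
    obtain ⟨H, hH, hFH⟩ := Core.exists_isPiHall_ge (π := {r | r.Prime ∧ r ≠ k}) Core.isPiSeparable_of_isSolvable
      Core.hallSolvable_of_isSolvable (K := F.subgroupOf (sigmaCore L)) (fun r hr hd' => ⟨hr, fun e => hkF (by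
        rw [← e]; rwa [Core.card_subgroupOf hF] at hd')⟩)
    refine ⟨H.map (sigmaCore L).subtype, ?_, fun f hf => ⟨⟨f, hF hf⟩, hFH (Subgroup.mem_subgroupOf.mpr hf), rfl⟩⟩
    obtain ⟨j, hj⟩ := IsPGroup.iff_card.mp hQ.pgroup
    have hkH : ¬ k ∣ Nat.card H := fun hd' => (hH.1 k hk hd').2 rfl
    have hco : (Nat.card (Q.subgroupOf (sigmaCore L))).Coprime (Nat.card H) := by
      rw [Core.card_subgroupOf hQ.le, hj]; exact (hk.coprime_iff_not_dvd.mpr hkH).pow_left j
    have hmul : Nat.card (Q.subgroupOf (sigmaCore L)) * Nat.card H = Nat.card (sigmaCore L) := by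
      refine Nat.dvd_antisymm (hco.mul_dvd_of_dvd_of_dvd (Subgroup.card_subgroup_dvd_card _)
        (Subgroup.card_subgroup_dvd_card _)) ?_
      have h3 : (Q.subgroupOf (sigmaCore L)).index.Coprime H.index := Nat.coprime_of_dvd fun r hr h1 h2 =>
        hH.2 r hr ⟨hr, fun e => hQ.sylow (e ▸ h1)⟩ h2
      have h4 : (Q.subgroupOf (sigmaCore L)).index ∣ Nat.card H * H.index := by
        rw [Subgroup.card_mul_index]; exact Subgroup.index_dvd_card _
      rw [← Subgroup.card_mul_index (Q.subgroupOf (sigmaCore L))]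
      exact mul_dvd_mul_left _ (h3.dvd_of_dvd_mul_right h4)
    have hcp := Subgroup.isComplement'_of_coprime hmul hco
    refine ⟨hQ.le, Subgroup.map_subtype_le _, le_bot_iff.mp fun a ha => ?_, fun a ha => ?_⟩
    · obtain ⟨a', ha', rfl⟩ := ha.2
      have h1 : a' ∈ Q.subgroupOf (sigmaCore L) ⊓ H := ⟨Subgroup.mem_subgroupOf.mpr ha.1, ha'⟩
      rw [hcp.disjoint.eq_bot, Subgroup.mem_bot] at h1
      rw [h1]; exact one_mem _
    · obtain ⟨⟨u, v⟩, e⟩ := hcp.2 ⟨a, ha⟩
      exact ⟨u.1, Subgroup.mem_subgroupOf.mp u.2, v.1, Subgroup.mem_map_of_mem _ v.2, congrArg Subtype.val e.symm⟩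
  by_cases hsk : s = k
  · -- `Q` is small, so `D` centralizes it
    have hBQ : B ≤ Q := by
      subst hsk
      exact hQT ▸ le_sylow_of_le_normalizer hBp T0 (hQT ▸ hBL.trans hQ.normal)
    obtain ⟨D, hD, -⟩ := hcompl ⊥ bot_le (fun hd' => hk.not_dvd_one (by rwa [Subgroup.card_bot] at hd'))
    have hsmall : RankTwo.OddAutSmall k Q := by
      subst hsk
      rw [hQT]
      exact hexcB.oddAutSmall hG hpl T0 (hQT ▸ hBQ)
    have hDQ : D ≤ Subgroup.centralizer (Q : Set G) := Core.le_of_forall_exists_sylow_le fun r hr => by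
      haveI := Fact.mk hr
      obtain ⟨R⟩ := (inferInstance : Nonempty (Sylow r D))
      refine ⟨R, ?_⟩
      by_cases hrd : r ∣ Nat.card D
      · exact Core.BG.le_centralizer_of_oddAutSmall ((qData_hall hG hpl hQ hD).2.1 r hr hrd).2
          (odd_of_dvd hG (Subgroup.card_subgroup_dvd_card L)) (Core.BG.isSolvable_proper hG hL.coatom.1)
          (R.isPGroup'.map _)
          (((Subgroup.map_subtype_le _).trans hD.2.1).trans (sigmaCore_le_derived hG hL.coatom))
          hQ.normal hsmall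
      · have : (R : Subgroup D) = ⊥ := Subgroup.eq_bot_of_card_eq _ (by
          rw [Sylow.card_eq_multiplicity, Nat.factorization_eq_zero_of_not_dvd hrd, pow_zero])
        rw [this, Subgroup.map_bot]
        exact bot_le
    exact (qStructure hG hpl hL.coatom hdL hnL hQ hD).lt.ne
      (inf_eq_left.mpr (Subgroup.le_centralizer_iff.mp hDQ))
  · have hkB : ¬ k ∣ Nat.card B := fun hd' => hsk (by
      rw [hB2] at hd'
      exact ((Nat.prime_dvd_prime_iff_eq hk hsτ.1).mp (hk.dvd_of_dvd_pow hd')).symm)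
    obtain ⟨D, hD, hBD⟩ := hcompl B hBσ hkB
    have hs := qStructure hG hpl hL.coatom hdL hnL hQ hD
    refine hs.fixed_not_le (hfix.le.trans (Subgroup.le_centralizer_iff.mp ?_))
    exact ((le_centralizer_of_abelian_sylow hab hs.nilpotent hBD hBp).trans hCBE).trans hEK

end IsSupport

end

end Cfsg.Agent.OddLocal.Sigma
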