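import Cfsg.Agent.OddLocal.Sigma.InvariantCyclic
import Cfsg.Agent.LocalEven.Gaschutz

/-! The criterion for `M` to be of Frobenius type (BG 12.12). -/

set_option autoImplicit false
set_option linter.style.haveILetI false
set_option linter.unusedSectionVars false

namespace Cfsg.Agent.OddLocal.Sigma

open Cfsg
open Cfsg.Agent.Core (IsPiNat)
open scoped commutatorElement

variable {G : Type*} [Group G] [Finite G]

theorem isPGroup_zpowers {p k : ℕ} {x : G} (h : x ^ p ^ k = 1) : IsPGroup p (Subgroup.zpowers x) := by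
  rintro ⟨_, i, rfl⟩
  refine ⟨k, Subtype.ext ?_⟩
  show (x ^ i) ^ p ^ k = 1
  rw [← zpow_natCast (x ^ i), ← zpow_mul, mul_comm, zpow_mul, zpow_natCast, h, one_zpow]

variable (hG : IsMinSimpleOddOrder G)
include hG

/-- If `e` has fixed points then the primes dividing its order are in `τ₂(M)`. -/
theorem mem_tau2_of_fixed {M E : Subgroup G} (hM : IsCoatom M) (hE : IsComplIn E (sigmaCore M) M)
    (hfix : ∀ e ∈ E, e ≠ 1 → (∀ p : ℕ, p.Prime → p ∣ orderOf e → p ∈ tau1 M ∪ tau3 M) →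
      sigmaCore M ⊓ Subgroup.centralizer ({e} : Set G) = ⊥)
    {e x : G} (he : e ∈ E) (hx : x ∈ sigmaCore M) (hx1 : x ≠ 1) (hex : e * x = x * e) {q : ℕ} (hq : q.Prime)
    (hd : q ∣ orderOf e) : q ∈ tau2 M := by
  haveI := Fact.mk hq
  have hqE : q ∣ Nat.card E := hd.trans (Subgroup.orderOf_dvd_natCard E he)
  have hσ := complIn_notMem_sigma hG hM hE hq hqE
  refine ⟨hq, hσ, pRankLE_two_of_notMem_sigma hG hM hq hσ, fun h1 => ?_⟩
  set z := e ^ (orderOf e / q)
  have hz : orderOf z = q := by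
    rw [orderOf_pow_orderOf_div (orderOf_pos e).ne' hd]
  have hz1 : z ≠ 1 := fun h => hq.one_lt.ne (by rw [← hz, h, orderOf_one])
  have hq13 : q ∈ tau1 M ∪ tau3 M := by
    by_cases hd' : q ∣ Nat.card ↥⁅M, M⁆
    · exact Or.inr ⟨hq, hσ, hd', h1⟩
    · exact Or.inl ⟨hq, hσ, hqE.trans (Subgroup.card_dvd_of_le hE.1), hd', h1⟩
  have hmem : x ∈ sigmaCore M ⊓ Subgroup.centralizer ({z} : Set G) :=
    ⟨hx, Subgroup.mem_centralizer_singleton_iff.mpr ((show Commute e x from hex).pow_left _).eq.symm⟩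
  rw [hfix z (pow_mem he _) hz1 (fun r hr hrd => by
    rw [hz] at hrd; rwa [(Nat.prime_dvd_prime_iff_eq hr hq).mp hrd]), Subgroup.mem_bot] at hmem
  exact hx1 hmem

variable (hpl : ∀ (p : ℕ) [Fact p.Prime] (H : Subgroup G), H ≠ ⊤ → PLengthLE p 1 H)
include hpl

namespace Exc

variable {p : ℕ} [hp : Fact p.Prime] {M E A A0 : Subgroup G} (h : Exc M p A A0)
  (hS : ∀ S : Sylow p G, ¬ IsMulCommutative (S : Subgroup G))
include h hS

/-- No element of order `p ^ 2` of `C_M(A)` has its `p`-th power in `A₀`. -/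
theorem no_root {x : G} (hxM : x ∈ M) (hxC : x ∈ Subgroup.centralizer (A : Set G)) (hxp : x ^ p ∈ A0) :
    x ^ p = 1 := by
  by_contra ha1
  have hx2 : x ^ p ^ 2 = 1 := by rw [pow_two, pow_mul]; exact h.maxEA.ea.2 _ (h.le0 hxp)
  obtain ⟨P, S, u, hQP, hPS, hle, huS, huN, huA, huM, -⟩ := h.exists_mover_over hG hpl hS
    (IsPGroup.to_sup_of_normal_left' h.maxEA.isPGroup (isPGroup_zpowers hx2)
      (Subgroup.zpowers_le.mpr (Subgroup.centralizer_le_normalizer _ hxC)))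
    le_sup_left (sup_le h.le (Subgroup.zpowers_le.mpr hxM))
  set P' := (P : Subgroup M).map M.subtype with hP'def
  have hxP : x ∈ P' := hQP (Subgroup.mem_sup_right (Subgroup.mem_zpowers x))
  have hAP : A ≤ P' := le_sup_left.trans hQP
  obtain ⟨hPc⟩ := h.sylow_abelian_of_le hG hpl P hAP
  have hcomm : ∀ {a b : G}, a ∈ P' → b ∈ P' → Commute a b := fun {a b} ha hb =>
    congrArg Subtype.val (hPc.comm ⟨a, ha⟩ ⟨b, hb⟩)
  set a := x ^ p with hadef
  have hA0a := zpowers_eq_of_card_prime h.card0 hxp ha1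
  set y := u * x * u⁻¹
  have hy : y ∈ P' := (Subgroup.mem_normalizer_iff.mp huN x).mp hxP
  have hne' : cj u A0 ≠ A0 := fun e => huM (h.norm (cj_eq_iff.mp e))
  have hu0 : cj u A0 = Subgroup.zpowers (y ^ p) := by
    refine (zpowers_eq_of_card_prime (X := cj u A0) (x := y ^ p) (by rw [card_cj, h.card0]) ⟨a, hxp, ?_⟩ ?_).symm
    · simp [y, conj_pow, hadef]
    · rw [conj_pow]; exact fun e => ha1 (conj_eq_one_iff.mp e)
  have huA0 : cj u A0 ≤ A := (cj_mono h.le0).trans (cj_eq_iff.mpr huA).le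
  have hsup : A0 ⊔ cj u A0 = A := sup_eq_of_ne h.maxEA.card h.card0 (by rw [card_cj, h.card0]) h.le0
    huA0 (Ne.symm hne')
  obtain ⟨e, he, hpow⟩ := h.maxEA.exists_not_pow hG hpl S (hAP.trans hPS) (hS S)
  obtain ⟨v, hv, w, hw, hvw⟩ := Coprime.exists_mul_of_mem_sup (N := A0) (A := cj u A0)
    ((huA0.trans (h.maxEA.le_centralizer.trans (Subgroup.centralizer_le h.le0))).trans
      (Subgroup.centralizer_le_normalizer _)) (hsup.ge he)
  rw [← hA0a] at hv
  rw [hu0] at hw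
  obtain ⟨i, rfl⟩ := hv
  obtain ⟨j, rfl⟩ := hw
  have hxy : x ^ i * y ^ j ∈ P' := mul_mem (zpow_mem hxP i) (zpow_mem hy j)
  refine hpow _ ⟨hPS hxy, Subgroup.mem_centralizer_iff.mpr fun b hb => hcomm (hAP hb) hxy⟩ ?_
  simp only at hvw
  rw [((hcomm hxP hy).zpow_zpow i j).mul_pow, ← hvw, hadef, ← zpow_natCast (x ^ i) p,
    ← zpow_natCast (y ^ j) p, ← zpow_natCast x p, ← zpow_natCast y p, ← zpow_mul, ← zpow_mul, ← zpow_mul,
    ← zpow_mul, mul_comm i, mul_comm j]

theorem nonabelian_criterion (hE : IsComplIn E (sigmaCore M) M) (hpτ : p ∈ tau2 M) (hAE : A ≤ E)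
    (hfix : ∀ e ∈ E, e ≠ 1 → (∀ p : ℕ, p.Prime → p ∣ orderOf e → p ∈ tau1 M ∪ tau3 M) →
      sigmaCore M ⊓ Subgroup.centralizer ({e} : Set G) = ⊥) :
    (∃ A₀ : Subgroup G, A₀ ≤ E ∧ E ≤ Subgroup.normalizer (A₀ : Set G) ∧ IsMulCommutative A₀ ∧
        ∀ x ∈ sigmaCore M, x ≠ 1 → E ⊓ Subgroup.centralizer ({x} : Set G) ≤ A₀) ∧
      ∃ E₀ : Subgroup G, E₀ ≤ E ∧ Monoid.exponent E₀ = Monoid.exponent E ∧
        ∀ e ∈ E₀, e ≠ 1 → sigmaCore M ⊓ Subgroup.centralizer ({e} : Set G) = ⊥ := by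
  obtain ⟨hMA0, hinf, hlines⟩ := h.fpf_lines hG hpl hS hE hpτ hAE
  have hτ := h.tau2_eq hG hpl hS hE hpτ hAE
  have hEA := h.le_normalizer_of_compl hG hpl hE hAE
  have hEA0 : E ≤ Subgroup.normalizer (A0 : Set G) := fun e he =>
    Coprime.mem_normalizer_of_conj_mem fun a ha => by
      rw [← hinf] at ha ⊢
      exact ⟨(Subgroup.mem_normalizer_iff.mp (hEA he) a).mp ha.1,
        conj_mem_centralizer (le_normalizer_sigmaCore M (hE.1 he)) ha.2⟩
  haveI hAc : IsMulCommutative A := h.maxEA.ea.1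
  haveI hA0c : IsMulCommutative A0 := isMulCommutative_of_le h.le0
  have hpC : ∀ e ∈ E, ∀ k : ℕ, e ^ p ^ k = 1 → e ∈ Subgroup.centralizer (A : Set G) := fun e he k hk => by
    obtain ⟨hc⟩ := h.isMulCommutative_of_pGroup hG hpl (IsPGroup.to_sup_of_normal_left' h.maxEA.isPGroup
      (isPGroup_zpowers hk) ((Subgroup.zpowers_le.mpr he).trans hEA))
      (sup_le h.le (Subgroup.zpowers_le.mpr (hE.1 he)))
    exact Subgroup.mem_centralizer_iff.mpr fun a ha => congrArg Subtype.val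
      (hc.comm ⟨a, Subgroup.mem_sup_left ha⟩ ⟨e, Subgroup.mem_sup_right (Subgroup.mem_zpowers e)⟩)
  have hfixA0 : ∀ x ∈ sigmaCore M, x ≠ 1 → E ⊓ Subgroup.centralizer ({x} : Set G) ≤ A0 := by
    intro x hx hx1 e he
    have hex : e * x = x * e := Subgroup.mem_centralizer_singleton_iff.mp he.2
    obtain ⟨k, hk⟩ : ∃ k, e ^ p ^ k = 1 := by
      refine ⟨_, orderOf_dvd_iff_pow_eq_one.mp (Nat.eq_prime_pow_of_unique_prime_dvd (orderOf_pos e).ne' (p := p)
        fun {q} hq hd => ?_).dvd⟩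
      have hmem := mem_tau2_of_fixed hG h.coatom hE hfix he.1 hx hx1 hex hq hd
      rw [hτ] at hmem
      exact hmem
    induction k generalizing e with
    | zero => rw [pow_zero, pow_one] at hk; rw [hk]; exact one_mem _
    | succ k ih =>
      have hepA : e ^ p ∈ A0 := ih
        ⟨pow_mem he.1 p, pow_mem he.2 p⟩ ((show Commute e x from hex).pow_left p).eq
        (by rw [← pow_mul, ← pow_succ']; exact hk)
      have hep1 := h.no_root hG hpl hS (hE.1 he.1) (hpC e he.1 _ hk) hepA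
      by_contra he0
      have he1 : e ≠ 1 := fun h' => he0 (h' ▸ one_mem _)
      have heA : e ∈ A := h.maxEA.full e (hpC e he.1 _ hk) hep1
      have hb := (hlines (Subgroup.zpowers e) (Subgroup.zpowers_le.mpr heA) (h.maxEA.card_zpowers heA he1)
        fun h' => he0 (h' ▸ Subgroup.mem_zpowers e)).1
      rw [← centralizer_singleton_eq (a := e) rfl] at hb
      exact hx1 (Subgroup.mem_bot.mp (hb.le ⟨hx, Subgroup.mem_centralizer_singleton_iff.mpr hex.symm⟩))
  refine ⟨⟨A0, h.le0.trans hAE, hEA0, hA0c, hfixA0⟩, ?_⟩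
  -- the complement
  obtain ⟨P, hAP, hPE⟩ := exists_sylow_le_compl hG hE h.notMem h.maxEA.isPGroup hAE
  set P' := (P : Subgroup M).map M.subtype with hP'def
  have hP' : IsPGroup p P' := P.isPGroup'.map _
  have hPc : IsMulCommutative P' := h.sylow_abelian_of_le hG hpl P hAP
  have hcomm : ∀ {a b : G}, a ∈ P' → b ∈ P' → Commute a b := fun {a b} ha hb =>
    congrArg Subtype.val (hPc.is_comm.comm ⟨a, ha⟩ ⟨b, hb⟩)
  have hPC : P' ≤ Subgroup.centralizer (A : Set G) := fun x hx =>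
    Subgroup.mem_centralizer_iff.mpr fun a ha => hcomm (hAP ha) hx
  have hPM : P' ≤ M := Subgroup.map_subtype_le _
  obtain ⟨y, hy, hy0, hgen⟩ : ∃ y ∈ P', A0 ⊓ Subgroup.zpowers y = ⊥ ∧ ∀ x ∈ P', x ∈ A0 ⊔ Subgroup.zpowers y := by
    letI : CommGroup P' := { (inferInstance : Group P') with mul_comm := hPc.is_comm.comm }
    obtain ⟨g₀, hg₀⟩ := Monoid.exists_orderOf_eq_exponent (Monoid.ExponentExists.of_finite : Monoid.ExponentExists P')
    have hexp : ∀ x ∈ P', x ^ orderOf (g₀ : G) = 1 := fun x hx => by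
      have := Monoid.pow_exponent_eq_one (⟨x, hx⟩ : P')
      rw [← hg₀, ← Subgroup.orderOf_coe] at this
      exact congrArg Subtype.val this
    by_cases hsmall : orderOf (g₀ : G) ∣ p
    · obtain ⟨y, hy, hy0⟩ := SetLike.exists_of_lt (lt_of_le_of_ne h.le0 fun e => by
        have := h.card0
        rw [e, h.maxEA.card] at this
        exact absurd (Nat.pow_right_injective hp.out.two_le (this.trans (pow_one p).symm)) (by norm_num))
      have hy1 : y ≠ 1 := fun e => hy0 (e ▸ one_mem _)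
      have hne : A0 ≠ Subgroup.zpowers y := fun e => hy0 (e ▸ Subgroup.mem_zpowers y)
      refine ⟨y, hAP hy, ?_, fun x hx => ?_⟩
      · refine (Subgroup.eq_bot_iff_forall _).mpr fun z hz => by_contra fun hz1 => hne ?_
        exact eq_of_card_prime h.card0 (h.maxEA.card_zpowers hy hy1) hz.1 hz.2 hz1
      · rw [sup_eq_of_ne h.maxEA.card h.card0 (h.maxEA.card_zpowers hy hy1) h.le0 (Subgroup.zpowers_le.mpr hy) hne]
        exact h.maxEA.full x (hPC hx) (orderOf_dvd_iff_pow_eq_one.mp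
          ((orderOf_dvd_of_pow_eq_one (hexp x hx)).trans hsmall))
    obtain ⟨n, hn⟩ := hP' g₀
    obtain ⟨n', -, hn'⟩ := (Nat.dvd_prime_pow hp.out).mp (orderOf_dvd_of_pow_eq_one hn)
    rw [← Subgroup.orderOf_coe] at hn'
    obtain ⟨e, rfl⟩ : ∃ e, n' = e + 2 := ⟨n' - 2, by
      by_contra hlt
      exact hsmall (hn' ▸ (pow_dvd_pow p (show n' ≤ 1 by omega)).trans (pow_one p).dvd)⟩
    set g := (g₀ : G)
    have hgP : g ∈ P' := g₀.2
    have hroot : ∀ z ∈ A0, ∀ x ∈ P', x ^ p = z → z = 1 := fun z hz x hx hxz =>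
      hxz ▸ h.no_root hG hpl hS (hPM hx) (hPC hx) (hxz ▸ hz)
    have hdis : A0 ⊓ Subgroup.zpowers g = ⊥ := by
      refine (Subgroup.eq_bot_iff_forall _).mpr ?_
      rintro z ⟨hz, i, rfl⟩
      simp only at hz ⊢
      have h1 : (g ^ i) ^ p = 1 := h.maxEA.ea.2 _ (h.le0 hz)
      rw [← zpow_natCast (g ^ i), ← zpow_mul, ← orderOf_dvd_iff_zpow_eq_one, hn'] at h1
      have hpi : (p : ℤ) ∣ i := by
        have h2 : ((p : ℤ) ^ (e + 1)) * p ∣ i * p := by
          refine dvd_trans (dvd_of_eq ?_) h1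
          push_cast; ring
        exact (dvd_pow_self _ e.succ_ne_zero).trans
          ((mul_dvd_mul_iff_right (by exact_mod_cast hp.out.ne_zero)).mp h2)
      obtain ⟨j, rfl⟩ := hpi
      exact hroot _ hz (g ^ j) (zpow_mem hgP j) (by rw [← zpow_natCast (g ^ j), ← zpow_mul, mul_comm])
    refine ⟨g, hgP, hdis, fun x hx => ?_⟩
    obtain ⟨k, hk⟩ := hP' ⟨x, hx⟩
    have hxk : x ^ p ^ k = 1 := congrArg Subtype.val hk
    clear hk
    induction k generalizing x with
    | zero => rw [pow_zero, pow_one] at hxk; rw [hxk]; exact one_mem _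
    | succ k ih =>
      obtain ⟨a, ha, w, hw, haw⟩ := Coprime.exists_mul_of_mem_sup (N := A0) (A := Subgroup.zpowers g)
        ((Subgroup.zpowers_le.mpr (hPC hgP)).trans ((Subgroup.centralizer_le h.le0).trans
          (Subgroup.centralizer_le_normalizer _))) (ih (x ^ p) (pow_mem hx p) (by rw [← pow_mul, ← pow_succ']; exact hxk))
      obtain ⟨i, rfl⟩ := hw
      simp only at haw
      have hai : Commute a (g ^ i) := hcomm (hAP (h.le0 ha)) (zpow_mem hgP i)
      have hpi : (p : ℤ) ∣ i := by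
        have h0 : (a * g ^ i) ^ p ^ (e + 1) = 1 := by
          rw [haw, ← pow_mul, ← pow_succ']
          have h' := hexp x hx
          rwa [hn'] at h'
        rw [hai.mul_pow, show a ^ p ^ (e + 1) = 1 by
          rw [pow_succ', pow_mul, h.maxEA.ea.2 a (h.le0 ha), one_pow], one_mul, ← zpow_natCast (g ^ i),
          ← zpow_mul, ← orderOf_dvd_iff_zpow_eq_one, hn'] at h0
        have h2 : (p : ℤ) * (p : ℤ) ^ (e + 1) ∣ i * (p : ℤ) ^ (e + 1) := by
          refine dvd_trans (dvd_of_eq ?_) (dvd_trans h0 (dvd_of_eq ?_)) <;> push_cast <;> ring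
        exact (mul_dvd_mul_iff_right (pow_ne_zero _ (by exact_mod_cast hp.out.ne_zero))).mp h2
      obtain ⟨j, rfl⟩ := hpi
      have hgj : g ^ j ∈ P' := zpow_mem hgP j
      have hxj : x * (g ^ j)⁻¹ ∈ P' := mul_mem hx (inv_mem hgj)
      have hpow : (x * (g ^ j)⁻¹) ^ p = a := by
        rw [(hcomm hx (inv_mem hgj)).mul_pow, ← haw, inv_pow, ← zpow_natCast (g ^ j) p, ← zpow_mul, mul_comm j,
          mul_inv_cancel_right]
      have ha1 : a = 1 := hroot a ha _ hxj hpow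
      have hA : x * (g ^ j)⁻¹ ∈ A := h.maxEA.full _ (hPC hxj) (hpow.trans ha1)
      have hAle : A ≤ A0 ⊔ Subgroup.zpowers g := by
        have hg1 : g ^ p ^ (e + 1) ≠ 1 := fun h1 => by
          have := orderOf_dvd_of_pow_eq_one h1
          rw [hn'] at this
          have := (Nat.pow_dvd_pow_iff_le_right hp.out.one_lt).mp this
          omega
        have hgA : g ^ p ^ (e + 1) ∈ A := h.maxEA.full _ (hPC (pow_mem hgP _)) (by
          rw [← pow_mul, ← pow_succ, ← hn', pow_orderOf_eq_one])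
        rw [← sup_eq_of_ne h.maxEA.card h.card0 (h.maxEA.card_zpowers hgA hg1) h.le0 (Subgroup.zpowers_le.mpr hgA)
          (fun e' => hg1 (Subgroup.mem_bot.mp (hdis.le
            ⟨e'.ge (Subgroup.mem_zpowers _), pow_mem (Subgroup.mem_zpowers g) _⟩)))]
        exact sup_le_sup_left (Subgroup.zpowers_le.mpr (pow_mem (Subgroup.mem_zpowers g) _)) _
      rw [← inv_mul_cancel_right x (g ^ j)]
      exact mul_mem (hAle hA) (Subgroup.mem_sup_right (zpow_mem (Subgroup.mem_zpowers g) j))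
  set K := A0.subgroupOf E
  haveI hKn : K.Normal := Subgroup.normal_subgroupOf_of_le_normalizer hEA0
  haveI hKc : IsMulCommutative K := ⟨⟨fun a b => Subtype.ext (Subtype.ext
    (show ((a : E) : G) * (b : E) = (b : E) * (a : E) from congrArg Subtype.val
    (hA0c.is_comm.comm ⟨(a : E), Subgroup.mem_subgroupOf.mp a.2⟩ ⟨(b : E), Subgroup.mem_subgroupOf.mp b.2⟩)))⟩⟩
  have hKcard : Nat.card K = p := by rw [Core.card_subgroupOf (h.le0.trans hAE), h.card0]
  have hidx : (Nat.card K).Coprime (P'.subgroupOf E).index := by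
    rw [hKcard]
    refine hp.out.coprime_iff_not_dvd.mpr fun hd => P.not_dvd_index (hd.trans ?_)
    have e1 : P'.relIndex M = (P : Subgroup M).index := by
      rw [← Subgroup.relIndex_top_right, ← Subgroup.relIndex_map_map_of_injective (P : Subgroup M) ⊤
        M.subtype_injective, ← MonoidHom.range_eq_map, Subgroup.range_subtype]
    rw [← e1, ← Subgroup.relIndex_mul_relIndex P' E M hPE hE.1]
    exact dvd_mul_right _ _
  obtain ⟨H, hH⟩ := LocalEven.gaschutz_exists K (P'.subgroupOf E)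
    (fun a ha => Subgroup.mem_subgroupOf.mpr (hAP (h.le0 (Subgroup.mem_subgroupOf.mp ha)))) hidx
    ((Subgroup.zpowers y).subgroupOf E)
    (fun a ha => Subgroup.mem_subgroupOf.mpr (Subgroup.zpowers_le.mpr hy (Subgroup.mem_subgroupOf.mp ha)))
    (eq_bot_iff.mpr fun a ha => Subgroup.mem_bot.mpr (Subtype.ext (Subgroup.mem_bot.mp
      (hy0.le ⟨Subgroup.mem_subgroupOf.mp ha.2, Subgroup.mem_subgroupOf.mp ha.1⟩))))
    (le_antisymm (sup_le (fun a ha => Subgroup.mem_subgroupOf.mpr (hAP (h.le0 (Subgroup.mem_subgroupOf.mp ha))))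
      (fun a ha => Subgroup.mem_subgroupOf.mpr (Subgroup.zpowers_le.mpr hy (Subgroup.mem_subgroupOf.mp ha))))
      fun a ha => by
        obtain ⟨b, hb, c, hc, hbc⟩ := Coprime.exists_mul_of_mem_sup
          ((Subgroup.zpowers_le.mpr (hPE hy)).trans hEA0) (hgen a (Subgroup.mem_subgroupOf.mp ha))
        rw [show a = ⟨b, hAE (h.le0 hb)⟩ * ⟨c, Subgroup.zpowers_le.mpr (hPE hy) hc⟩ from Subtype.ext hbc.symm]
        exact Subgroup.mul_mem_sup (Subgroup.mem_subgroupOf.mpr hb) (Subgroup.mem_subgroupOf.mpr hc))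
  have hEp : p ^ 2 ∣ Nat.card E := h.maxEA.card ▸ Subgroup.card_dvd_of_le hAE
  have hHp : p ∣ Nat.card H := by
    rw [← hH.card_mul_card, hKcard, pow_two] at hEp
    exact Nat.dvd_of_mul_dvd_mul_left hp.out.pos hEp
  have hexpH : Monoid.exponent H = Monoid.exponent E := by
    refine Nat.dvd_antisymm (Monoid.exponent_dvd_of_monoidHom H.subtype H.subtype_injective)
      (Monoid.exponent_dvd_of_forall_pow_eq_one fun e => ?_)
    set n := Monoid.exponent H
    obtain ⟨⟨⟨k, hk⟩, ⟨c, hc⟩⟩, hkc⟩ := hH.2 e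
    have hmem : e ^ n ∈ K := by
      refine (QuotientGroup.eq_one_iff _).mp ?_
      have hcn : c ^ n = 1 := congrArg Subtype.val (Monoid.pow_exponent_eq_one (⟨c, hc⟩ : H))
      simp only at hkc
      rw [← hkc, QuotientGroup.mk_pow, QuotientGroup.mk_mul, (QuotientGroup.eq_one_iff k).mpr hk, one_mul,
        ← QuotientGroup.mk_pow, hcn, QuotientGroup.mk_one]
    obtain ⟨z, hz⟩ := exists_prime_orderOf_dvd_card' (G := H) p hHp
    obtain ⟨m, hm⟩ : p ∣ n := hz ▸ Monoid.order_dvd_exponent z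
    have hA0mem : ((e : G) ^ m) ^ p ∈ A0 := by
      rw [← pow_mul, mul_comm, ← hm]
      exact Subgroup.mem_subgroupOf.mp hmem
    have hmp : ((e : G) ^ m) ^ p ^ 2 = 1 := by rw [pow_two, pow_mul]; exact h.maxEA.ea.2 _ (h.le0 hA0mem)
    have h1 := h.no_root hG hpl hS (pow_mem (hE.1 e.2) m) (hpC _ (pow_mem e.2 m) _ hmp) hA0mem
    rw [← pow_mul, mul_comm, ← hm] at h1
    exact Subtype.ext (by simpa using h1)
  refine ⟨H.map E.subtype, Subgroup.map_subtype_le _, ?_, ?_⟩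
  · rw [← hexpH]
    exact (Monoid.exponent_eq_of_mulEquiv (H.equivMapOfInjective E.subtype E.subtype_injective)).symm
  · rintro _ ⟨e, he, rfl⟩ he1
    by_contra hne
    obtain ⟨x, hx, hx1⟩ := Subgroup.bot_or_exists_ne_one _ |>.resolve_left hne
    have heA0 : (e : G) ∈ A0 := hfixA0 x hx.1 hx1 ⟨e.2, Subgroup.mem_centralizer_singleton_iff.mpr
      (Subgroup.mem_centralizer_singleton_iff.mp hx.2).symm⟩
    exact he1 (by simpa using hH.disjoint.le_bot ⟨Subgroup.mem_subgroupOf.mpr heA0, he⟩)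

end Exc

/-- The criterion. -/
theorem frobenius_type_criterion {M E : Subgroup G} (hM : IsCoatom M) (hE : IsComplIn E (sigmaCore M) M)
    (hfix : ∀ e ∈ E, e ≠ 1 → (∀ p : ℕ, p.Prime → p ∣ orderOf e → p ∈ tau1 M ∪ tau3 M) →
      sigmaCore M ⊓ Subgroup.centralizer ({e} : Set G) = ⊥) :
    (∃ A₀ : Subgroup G, A₀ ≤ E ∧ E ≤ Subgroup.normalizer (A₀ : Set G) ∧ IsMulCommutative A₀ ∧
        ∀ x ∈ sigmaCore M, x ≠ 1 → E ⊓ Subgroup.centralizer ({x} : Set G) ≤ A₀) ∧
      ∃ E₀ : Subgroup G, E₀ ≤ E ∧ Monoid.exponent E₀ = Monoid.exponent E ∧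
        ∀ e ∈ E₀, e ≠ 1 → sigmaCore M ⊓ Subgroup.centralizer ({e} : Set G) = ⊥ := by
  classical
  by_cases hnab : ∃ p ∈ tau2 M, ∃ S : Sylow p G, ¬ IsMulCommutative (S : Subgroup G)
  · obtain ⟨p, hpτ, S, hS⟩ := hnab
    haveI := Fact.mk hpτ.1
    obtain ⟨A, hAE, hAe, hA2⟩ := exists_ea_le_compl hG hE hpτ
    obtain ⟨A0, h⟩ := exists_exc hG hpl hM hpτ.2.1 (hAE.trans hE.1) hAe hA2
    exact h.nonabelian_criterion hG hpl (fun S' hc => hS
      ⟨⟨fun a b => (Sylow.equiv S S').injective (by rw [map_mul, map_mul]; exact hc.is_comm.comm _ _)⟩⟩)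
      hE hpτ hAE hfix
  push Not at hnab
  haveI := Core.BG.isSolvable_proper hG (fun e => hM.1 (top_le_iff.mp (e ▸ hE.1)) : E ≠ ⊤)
  set τ := tau2 M
  obtain ⟨Kc₀, hKc₀⟩ := Core.exists_isPiHall_of_isSolvable (G := E) τᶜ
  set Kc := Kc₀.map E.subtype with hKcdef
  have hKcE : Kc ≤ E := Subgroup.map_subtype_le _
  have hKcτ : ∀ q : ℕ, q.Prime → q ∣ Nat.card Kc → q ∉ τ := fun q hq hd =>
    hKc₀.1 q hq (by rwa [hKcdef, Core.card_map_subtype] at hd)
  have hdata : ∀ p, p ∈ τ → ∃ (S : Subgroup G) (y : G), IsPGroup p S ∧ S ≤ E ∧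
      E ≤ Subgroup.normalizer (S : Set G) ∧ (∀ Q : Subgroup G, IsPGroup p Q → Q ≤ E → Q ≤ S) ∧ y ∈ S ∧
      Kc ≤ Subgroup.normalizer (Subgroup.zpowers y : Set G) ∧ (∀ x ∈ S, orderOf x ∣ orderOf y) ∧
      ∀ x ∈ Subgroup.zpowers y, orderOf x = p → sigmaCore M ⊓ Subgroup.centralizer ({x} : Set G) = ⊥ := by
    intro p hpτ
    haveI := Fact.mk hpτ.1
    obtain ⟨A, hAE, hAe, hA2⟩ := exists_ea_le_compl hG hE hpτ
    obtain ⟨A0, h⟩ := exists_exc hG hpl hM hpτ.2.1 (hAE.trans hE.1) hAe hA2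
    obtain ⟨S, y, hSE, hES, hyS, hKy, hord, hfp⟩ := h.exists_invariant_cyclic hG hpl hE hpτ hAE (hnab p hpτ) hfix
      hKcE (fun hd => hKcτ p hpτ.1 hd hpτ)
    exact ⟨S, y, S.isPGroup', hSE, hES, fun Q hQ hQE => le_sup_right.trans
      (S.3 (IsPGroup.to_sup_of_normal_left' S.isPGroup' hQ (hQE.trans hES)) le_sup_left).le, hyS, hKy, hord, hfp⟩
  choose S y hSp hSE hES hSmax hyS hKy hord hfp using hdata
  set KA := (piCore τ E).map E.subtype with hKAdef
  have hKAE : KA ≤ E := Subgroup.map_subtype_le _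
  have hEKA : E ≤ Subgroup.normalizer (KA : Set G) := le_normalizer_map_of_normal _
  have hKAτ : ∀ q : ℕ, q.Prime → q ∣ Nat.card KA → q ∈ τ := fun q hq hd =>
    Core.isPiNat_card_piCore τ E q hq (by rwa [hKAdef, Core.card_map_subtype] at hd)
  have hSKA : ∀ p hp', S p hp' ≤ KA := fun p hp' => by
    haveI := Fact.mk hp'.1
    have hle : (S p hp').subgroupOf E ≤ piCore τ E := Core.le_piCore
      (Subgroup.normal_subgroupOf_of_le_normalizer (hES p hp')) fun q hq hd => by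
        rw [Core.card_subgroupOf (hSE p hp')] at hd
        exact mem_of_pGroup (hSp p hp') hp' q hq hd
    exact fun x hx => ⟨⟨x, hSE p hp' hx⟩, hle (Subgroup.mem_subgroupOf.mpr hx), rfl⟩
  haveI hKAnil : Group.IsNilpotent KA := by
    refine ((Group.isNilpotent_of_finite_tfae (G := KA)).out 0 3).mpr fun q hq P => ?_
    haveI := hq
    by_cases hd : q ∣ Nat.card KA
    swap
    · rw [show (P : Subgroup KA) = ⊥ from Subgroup.card_eq_one.mp (by
        rw [P.card_eq_multiplicity, Nat.factorization_eq_zero_of_not_dvd hd, pow_zero])]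
      infer_instance
    have hqτ := hKAτ q hq.out hd
    have hle : (P : Subgroup KA) ≤ (S q hqτ).subgroupOf KA := fun x hx =>
      Subgroup.mem_subgroupOf.mpr (hSmax q hqτ ((P : Subgroup KA).map KA.subtype) (P.isPGroup'.map _)
        ((Subgroup.map_subtype_le _).trans hKAE) ⟨x, hx, rfl⟩)
    rw [← P.3 (hSp q hqτ).comap_subtype hle]
    exact Subgroup.normal_subgroupOf_of_le_normalizer (hKAE.trans (hES q hqτ))
  have hKAc : IsMulCommutative KA := isMulCommutative_of_nilpotent_le hG hpl hM (hKAE.trans hE.1)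
    fun q hq hd => (hKAτ q hq hd).2.1
  -- elements with fixed points
  have hroot : ∀ e ∈ E, ∀ q : ℕ, q.Prime → ∀ k, q ^ k ∣ orderOf e →
      orderOf (e ^ (orderOf e / q ^ k)) = q ^ k := fun e _ q _ k hd =>
    orderOf_pow_orderOf_div (orderOf_pos e).ne' hd
  refine ⟨⟨KA, hKAE, hEKA, hKAc, fun x hx hx1 e he => ?_⟩, ?_⟩
  · have hex : e * x = x * e := Subgroup.mem_centralizer_singleton_iff.mp he.2
    suffices hz : Subgroup.zpowers e ≤ KA from hz (Subgroup.mem_zpowers e)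
    refine Core.le_of_forall_exists_sylow_le fun q hq => ?_
    haveI := Fact.mk hq
    obtain ⟨Q⟩ := (inferInstance : Nonempty (Sylow q (Subgroup.zpowers e)))
    refine ⟨Q, ?_⟩
    by_cases hd : q ∣ Nat.card (Subgroup.zpowers e)
    · have hqτ := mem_tau2_of_fixed hG hM hE hfix he.1 hx hx1 hex hq (by rwa [Nat.card_zpowers] at hd)
      exact (hSmax q hqτ _ (Q.isPGroup'.map _)
        ((Subgroup.map_subtype_le _).trans (Subgroup.zpowers_le.mpr he.1))).trans (hSKA q hqτ)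
    · rw [show (Q : Subgroup (Subgroup.zpowers e)) = ⊥ from Subgroup.card_eq_one.mp (by
        rw [Q.card_eq_multiplicity, Nat.factorization_eq_zero_of_not_dvd hd, pow_zero]), Subgroup.map_bot]
      exact bot_le
  have hcomm : ∀ {a b : G}, a ∈ KA → b ∈ KA → Commute a b := fun {a b} ha hb =>
    congrArg Subtype.val (hKAc.is_comm.comm ⟨a, ha⟩ ⟨b, hb⟩)
  let D : Subgroup G :=
    { carrier := {x | x ∈ KA ∧ ∀ p (hp' : p ∈ τ), x ^ ordCompl[p] (Nat.card KA) ∈ Subgroup.zpowers (y p hp')}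
      one_mem' := ⟨one_mem _, fun p hp' => by rw [one_pow]; exact one_mem _⟩
      mul_mem' := fun {a b} ha hb => ⟨mul_mem ha.1 hb.1, fun p hp' => by
        rw [(hcomm ha.1 hb.1).mul_pow]; exact mul_mem (ha.2 p hp') (hb.2 p hp')⟩
      inv_mem' := fun {a} ha => ⟨inv_mem ha.1, fun p hp' => by rw [inv_pow]; exact inv_mem (ha.2 p hp')⟩ }
  have hDE : D ≤ E := fun x hx => hKAE hx.1
  have hKD : Kc ≤ Subgroup.normalizer (D : Set G) := fun k hk => Coprime.mem_normalizer_of_conj_mem fun x hx =>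
    ⟨(Subgroup.mem_normalizer_iff.mp (hEKA (hKcE hk)) x).mp hx.1, fun p hp' => by
      rw [conj_pow]
      exact (Subgroup.mem_normalizer_iff.mp (hKy p hp' hk) _).mp (hx.2 p hp')⟩
  have hyD : ∀ p hp', y p hp' ∈ D := fun p hp' => by
    haveI := Fact.mk hp'.1
    refine ⟨hSKA p hp' (hyS p hp'), fun q hq' => ?_⟩
    by_cases hqp : q = p
    · subst hqp; exact pow_mem (Subgroup.mem_zpowers _) _
    rw [orderOf_dvd_iff_pow_eq_one.mp ?_]
    · exact one_mem _
    obtain ⟨k, hk⟩ := IsPGroup.iff_card.mp (hSp p hp')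
    have h1 : orderOf (y p hp') ∣ p ^ k := hk ▸ Subgroup.orderOf_dvd_natCard _ (hyS p hp')
    have h2 : orderOf (y p hp') ∣ Nat.card KA := Subgroup.orderOf_dvd_natCard _ (hSKA p hp' (hyS p hp'))
    refine Nat.Coprime.dvd_of_dvd_mul_left (Nat.Coprime.coprime_dvd_left h1 ?_)
      (h2.trans (Nat.ordProj_mul_ordCompl_eq_self (Nat.card KA) q).symm.dvd)
    exact Nat.Coprime.pow _ _ ((Nat.coprime_primes hp'.1 hq'.1).mpr (Ne.symm hqp))
  set E0 := D ⊔ Kc
  have hE0E : E0 ≤ E := sup_le hDE hKcE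
  have hdisj : KA ⊓ Kc = ⊥ := Subgroup.inf_eq_bot_of_coprime
    (Nat.coprime_of_dvd fun q hq h1 h2 => hKcτ q hq h2 (hKAτ q hq h1))
  have hpart : ∀ p hp', ∀ z ∈ E0, (∃ k, z ^ p ^ k = 1) → z ∈ Subgroup.zpowers (y p hp') := by
    intro p hp' z hz ⟨k, hk⟩
    haveI := Fact.mk hp'.1
    have hzS : z ∈ KA := hSKA p hp' (hSmax p hp' _ (isPGroup_zpowers hk) (Subgroup.zpowers_le.mpr (hE0E hz))
      (Subgroup.mem_zpowers z))
    obtain ⟨d, hd, c, hc, hdc⟩ := Coprime.exists_mul_of_mem_sup hKD hz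
    have hc1 : c = 1 := Subgroup.mem_bot.mp (hdisj.le ⟨by
      rw [show c = d⁻¹ * z by rw [← hdc, inv_mul_cancel_left]]
      exact KA.mul_mem (KA.inv_mem hd.1) hzS, hc⟩)
    rw [hc1, mul_one] at hdc
    subst hdc
    obtain ⟨j, hj⟩ := exists_pow_eq_self_of_coprime (x := d) (n := ordCompl[p] (Nat.card KA))
      ((Nat.Coprime.coprime_dvd_left (orderOf_dvd_of_pow_eq_one hk)
        ((hp'.1.coprime_iff_not_dvd.mpr (Nat.not_dvd_ordCompl hp'.1 Nat.card_pos.ne')).pow_left k)).symm)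
    rw [← hj]
    exact pow_mem (hd.2 p hp') j
  refine ⟨E0, hE0E, Nat.dvd_antisymm (Monoid.exponent_dvd_of_monoidHom (Subgroup.inclusion hE0E)
    (Subgroup.inclusion_injective _)) (Monoid.exponent_dvd_of_forall_pow_eq_one fun e => ?_), fun e he he1 => ?_⟩
  · refine orderOf_dvd_iff_pow_eq_one.mp ?_
    rw [← Subgroup.orderOf_coe]
    refine (Nat.dvd_iff_prime_pow_dvd_dvd _ _).mpr fun q k hq hd => ?_
    have hz : orderOf ((e : G) ^ (orderOf (e : G) / q ^ k)) = q ^ k := hroot e e.2 q hq k hd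
    set z := (e : G) ^ (orderOf (e : G) / q ^ k)
    have hzE : z ∈ E := pow_mem e.2 _
    have hmem : ∀ w ∈ E0, orderOf w ∣ Monoid.exponent E0 := fun w hw => by
      rw [← Subgroup.orderOf_mk (ha := hw)]; exact Monoid.order_dvd_exponent _
    rcases Nat.eq_zero_or_pos k with rfl | hk
    · rw [pow_zero]; exact one_dvd _
    rw [← hz]
    by_cases hqτ : q ∈ τ
    · haveI := Fact.mk hq
      exact (hord q hqτ z (hSmax q hqτ _ (isPGroup_zpowers (hz ▸ pow_orderOf_eq_one z))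
        (Subgroup.zpowers_le.mpr hzE) (Subgroup.mem_zpowers z))).trans
        (hmem _ (Subgroup.mem_sup_left (hyD q hqτ)))
    · obtain ⟨g, hg⟩ := Core.exists_le_conj_smul_of_isPiHall Core.isPiSeparable_of_isSolvable
        Core.hallSolvable_of_isSolvable hKc₀ (K := Subgroup.zpowers (⟨z, hzE⟩ : E)) (fun r hr hrd => by
          rw [Nat.card_zpowers, Subgroup.orderOf_mk, hz] at hrd
          rwa [(Nat.prime_dvd_prime_iff_eq hr hq).mp (hr.dvd_of_dvd_pow hrd)])
      have h1 := hg (Subgroup.mem_zpowers _)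
      rw [Core.conj_smul_eq_map] at h1
      obtain ⟨w, hw, hwz⟩ := h1
      refine dvd_trans (dvd_of_eq ?_) (hmem (w : G) (Subgroup.mem_sup_right ⟨w, hw, rfl⟩))
      have := congrArg (fun v : E => orderOf v) hwz
      simp only [MulEquiv.coe_toMonoidHom, MulEquiv.orderOf_eq, Subgroup.orderOf_mk] at this
      rw [Subgroup.orderOf_coe, this]
  · by_contra hne
    obtain ⟨x, hx, hx1⟩ := Subgroup.bot_or_exists_ne_one _ |>.resolve_left hne
    obtain ⟨q, hq, hqd⟩ := Nat.exists_prime_and_dvd (fun h1 => he1 (orderOf_eq_one_iff.mp h1))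
    have hcx : Commute e x := (Subgroup.mem_centralizer_singleton_iff.mp hx.2).symm
    have hqτ := mem_tau2_of_fixed hG hM hE hfix (hE0E he) hx.1 hx1 hcx.eq hq hqd
    have hz := hroot e (hE0E he) q hq 1 (by rwa [pow_one])
    rw [pow_one] at hz
    set z := e ^ (orderOf e / q)
    have hzy := hpart q hqτ z (pow_mem he _) ⟨1, by rw [pow_one, ← hz, pow_orderOf_eq_one]⟩
    exact hx1 (Subgroup.mem_bot.mp ((hfp q hqτ z hzy hz).le
      ⟨hx.1, Subgroup.mem_centralizer_singleton_iff.mpr ((hcx.pow_left _).eq).symm⟩))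

end Cfsg.Agent.OddLocal.Sigma
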