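import Cfsg.Agent.OddLocal.Sigma.CentTau1
import Cfsg.Agent.OddLocal.Sigma.FrobeniusType

/-! Fixed points of `τ₁(M)`-elements in `M_σ` (BG 13.5, 13.6, 13.12). -/

set_option autoImplicit false
set_option linter.style.haveILetI false
set_option linter.unusedSectionVars false

namespace Cfsg.Agent.OddLocal.Sigma

open Cfsg
open scoped commutatorElement

variable {G : Type*} [Group G] [Finite G]

theorem sylow_all_nonabelian {s : ℕ} [Fact s.Prime] (h : ¬ ∀ S : Sylow s G, IsMulCommutative (S : Subgroup G)) :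
    ∀ S : Sylow s G, ¬ IsMulCommutative (S : Subgroup G) := fun S hc => h fun S' =>
  ⟨⟨fun a b => (Sylow.equiv S' S).injective (by rw [map_mul, map_mul]; exact hc.is_comm.comm _ _)⟩⟩

theorem dvd_card_of_ne_bot {p : ℕ} [hp : Fact p.Prime] {P : Subgroup G} (hP : IsPGroup p P) (h1 : P ≠ ⊥) :
    p ∣ Nat.card P := by
  obtain ⟨k, hk⟩ := IsPGroup.iff_card.mp hP
  rw [hk]
  exact dvd_pow_self p fun e => h1 (Subgroup.eq_bot_of_card_eq _ (by rw [hk, e, pow_zero]))

theorem eq_prime_of_dvd_card {p : ℕ} [hp : Fact p.Prime] {P : Subgroup G} (hP : Nat.card P = p) {q : ℕ}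
    (hq : q.Prime) (hd : q ∣ Nat.card P) : q = p :=
  (Nat.prime_dvd_prime_iff_eq hq hp.out).mp (hP ▸ hd)

variable (hG : IsMinSimpleOddOrder G)
  (hpl : ∀ (p : ℕ) [Fact p.Prime] (H : Subgroup G), H ≠ ⊤ → PLengthLE p 1 H)
include hG hpl

/-- For an abelian Sylow `s`-subgroup, `s ∈ τ₂(M)`, a `τ₁(M)`-subgroup centralizing a line has no fixed
points. -/
theorem tau12_regular_abelian {M E : Subgroup G} (hM : IsCoatom M) (hE : IsComplIn E (sigmaCore M) M) {p s : ℕ}
    [hp : Fact p.Prime] [hs : Fact s.Prime] (hpt : p ∈ tau1 M) {P : Subgroup G} (hP : Nat.card P = p) (hPE : P ≤ E)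
    (hst : s ∈ tau2 M) (hab : ∀ S : Sylow s G, IsMulCommutative (S : Subgroup G))
    {Z : Subgroup G} (hZE : Z ≤ E) (hZ : Nat.card Z = s) (hZP : Z ≤ Subgroup.centralizer (P : Set G)) :
    sigmaCore M ⊓ Subgroup.centralizer (P : Set G) = ⊥ := by
  by_contra hC
  obtain ⟨A, hAE, hAe, hA2⟩ := exists_ea_le_compl hG hE hst
  obtain ⟨A0, h⟩ := exists_exc hG hpl hM hst.2.1 (hAE.trans hE.1) hAe hA2
  obtain ⟨⟨hEA, hmem⟩, ⟨-, -, hnot⟩, hline⟩ := tau2_compl_facts hG hpl hM hE hst ⟨hAE, hAe, hA2⟩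
  have hZA : Z ≤ A := hmem Z hZE hZ
  have hPM : P ≤ M := hPE.trans hE.1
  have hfix : ∀ R : Subgroup G, R ≤ A → Nat.card R = s → R ≤ Subgroup.centralizer (P : Set G) →
      sigmaCore M ⊓ Subgroup.centralizer (P : Set G) ≤ sigmaCore M ⊓ Subgroup.centralizer (R : Set G) :=
    fun R hRA hR hRP => cent_tau1_le hG hpl hM hpt hP hPM hR ((hRA.trans hAE).trans hE.1) hst.2.1 hRP
  have hPA : ¬ P ≤ Subgroup.centralizer (A : Set G) := fun hPA => by
    refine hC (le_bot_iff.mp (h.inf_centralizer_eq_bot hG hpl ▸ le_inf inf_le_left ?_))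
    refine Subgroup.le_centralizer_iff.mp fun a ha => ?_
    by_cases ha1 : a = 1
    · exact ha1 ▸ one_mem _
    exact Subgroup.le_centralizer_iff.mp ((hfix _ (Subgroup.zpowers_le.mpr ha) (h.maxEA.card_zpowers ha ha1)
      ((Subgroup.zpowers_le.mpr ha).trans (Subgroup.le_centralizer_iff.mp hPA))).trans inf_le_right)
      (Subgroup.mem_zpowers a)
  have hlt : A ⊓ Subgroup.centralizer (P : Set G) < A := lt_of_le_of_ne inf_le_left fun e =>
    hPA (Subgroup.le_centralizer_iff.mp (e ▸ inf_le_right))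
  have hZeq : Z = A ⊓ Subgroup.centralizer (P : Set G) :=
    Subgroup.eq_of_le_of_card_ge (le_inf hZA hZP) ((card_le_of_lt_sq hA2 hlt).trans hZ.ge)
  have hNZ : Subgroup.normalizer (A : Set G) ≤ Subgroup.normalizer (Z : Set G) := fun g hg => by
    refine Coprime.mem_normalizer_of_conj_mem fun z hz => ?_
    rw [hZeq] at hz ⊢
    have hgz : g * z * g⁻¹ ∈ A := (Subgroup.mem_normalizer_iff.mp hg z).mp hz.1
    refine ⟨hgz, Subgroup.mem_centralizer_iff.mpr fun x hx => ?_⟩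
    have hc := h.derived_normalizer_le hG hpl hE hst hAE hab
      (Subgroup.commutator_mem_commutator (hEA (hPE hx)) hg)
    have h1 : x * z = z * x := Subgroup.mem_centralizer_iff.mp hz.2 x hx
    have h2 : (g * z * g⁻¹) * ⁅x, g⁆ = ⁅x, g⁆ * (g * z * g⁻¹) := Subgroup.mem_centralizer_iff.mp hc _ hgz
    calc x * (g * z * g⁻¹) = ⁅x, g⁆ * g * (x * z) * g⁻¹ := by simp only [commutatorElement_def]; group
      _ = ⁅x, g⁆ * g * (z * x) * g⁻¹ := by rw [h1]
      _ = (⁅x, g⁆ * (g * z * g⁻¹)) * (g * x * g⁻¹) := by group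
      _ = (g * z * g⁻¹) * ⁅x, g⁆ * (g * x * g⁻¹) := by rw [h2]
      _ = g * z * g⁻¹ * x := by simp only [commutatorElement_def]; group
  have hne : sigmaCore M ⊓ Subgroup.centralizer (Z : Set G) ≠ ⊥ := fun e =>
    hC (le_bot_iff.mp (e ▸ hfix Z hZA hZ hZP))
  exact hnot (hNZ.trans (Only.le (Only.mono (hline Z hZA hZ hne).2 (Subgroup.centralizer_le_normalizer _))
    (Core.BG.normalizer_ne_top_of_isPGroup hG (ne_bot_of_card_prime hZ) (IsPGroup.of_card (by rw [hZ, pow_one])))))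

/-- `σ(M)'`-subgroups of prime power order of `C_M(P)` centralize `C_{M_σ}(P)`, `p ∈ τ₁(M)`. -/
theorem cent_tau1_pGroup {M P Q : Subgroup G} (hM : IsCoatom M) {p r : ℕ} [hp : Fact p.Prime] [hr : Fact r.Prime]
    (hpt : p ∈ tau1 M) (hP : Nat.card P = p) (hPM : P ≤ M) (hrσ : r ∉ sigma M) (hQ : IsPGroup r Q) (hQM : Q ≤ M)
    (hQP : Q ≤ Subgroup.centralizer (P : Set G)) :
    Q ≤ Subgroup.centralizer ((sigmaCore M ⊓ Subgroup.centralizer (P : Set G) : Subgroup G) : Set G) := by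
  set C := sigmaCore M ⊓ Subgroup.centralizer (P : Set G) with hCdef
  intro x hx
  by_cases hx1 : x = 1
  · exact hx1 ▸ one_mem _
  by_cases hC : C = ⊥
  · refine Subgroup.mem_centralizer_iff.mpr fun c hc => ?_
    rw [SetLike.mem_coe, hC, Subgroup.mem_bot] at hc
    rw [hc, one_mul, mul_one]
  obtain ⟨k, hk⟩ := IsPGroup.iff_card.mp (hQ.to_le (Subgroup.zpowers_le.mpr hx))
  rw [Nat.card_zpowers] at hk
  obtain ⟨k, rfl⟩ : ∃ j, k = j + 1 := ⟨k - 1, by
    rcases Nat.eq_zero_or_pos k with rfl | h0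
    · exact absurd (orderOf_eq_one_iff.mp (by rw [hk, pow_zero])) hx1
    · omega⟩
  set z := x ^ r ^ k with hzdef
  have hz : orderOf z = r := by
    rw [hzdef, orderOf_pow_of_dvd (pow_ne_zero _ hr.out.ne_zero) (hk ▸ pow_dvd_pow r k.le_succ), hk,
      pow_succ, Nat.mul_div_cancel_left r (pow_pos hr.out.pos k)]
  set Z := Subgroup.zpowers z with hZdef
  have hZc : Nat.card Z = r := by rw [Nat.card_zpowers, hz]
  have hzx : Z ≤ Subgroup.zpowers x := Subgroup.zpowers_le.mpr (pow_mem (Subgroup.mem_zpowers x) _)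
  have hxQ : Subgroup.zpowers x ≤ Q := Subgroup.zpowers_le.mpr hx
  have hCZ : C ≤ sigmaCore M ⊓ Subgroup.centralizer (Z : Set G) :=
    cent_tau1_le hG hpl hM hpt hP hPM hZc ((hzx.trans hxQ).trans hQM) hrσ ((hzx.trans hxQ).trans hQP)
  by_cases hr13 : r ∈ tau1 M ∪ tau3 M
  · obtain ⟨H, hH, hNH⟩ := (eq_top_or_exists_le_coatom (Subgroup.normalizer (Z : Set G))).resolve_left
      (Core.BG.normalizer_ne_top_of_isPGroup hG (ne_bot_of_card_prime hZc) (IsPGroup.of_card (by rw [hZc, pow_one])))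
    obtain ⟨hnc, -, hrH, -⟩ := normalizer_tau13 hG hpl hM hH hr13 hZc hNH
    have hCH : Subgroup.centralizer (Z : Set G) ≤ H := (Subgroup.centralizer_le_normalizer _).trans hNH
    have hxH : Subgroup.zpowers x ≤ H := by
      refine le_trans ?_ hCH
      exact Subgroup.le_centralizer_iff.mp (hzx.trans (Subgroup.le_centralizer_iff_isMulCommutative.mpr
        inferInstance))
    exact Subgroup.centralizer_le (hCZ.trans (inf_le_inf_left _ hCH))
      (le_centralizer_sigmaCore_inf hG hpl hM hH hnc hrσ hrH (hQ.to_le hxQ) (le_inf (hxQ.trans hQM) hxH)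
        (Subgroup.mem_zpowers x))
  have hrd : r ∣ Nat.card M := hz ▸ Subgroup.orderOf_dvd_natCard M (hQM (hxQ (hzx (Subgroup.mem_zpowers z))))
  have hrτ : r ∈ tau2 M := by
    rcases mem_classes hG hM hr.out hrd with h | h | h | h
    · exact absurd h hrσ
    · exact absurd (Or.inl h) hr13
    · exact h
    · exact absurd (Or.inr h) hr13
  have hpr : p ≠ r := fun e => hrτ.2.2.2 (e ▸ hpt.2.2.2.2)
  have hxP : Subgroup.zpowers x ≤ Subgroup.normalizer (P : Set G) :=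
    (hxQ.trans hQP).trans (Subgroup.centralizer_le_normalizer _)
  have hPp : IsPGroup p P := IsPGroup.of_card (by rw [hP, pow_one])
  have hcardK : Nat.card ↥(P ⊔ Subgroup.zpowers x) = Nat.card P * Nat.card (Subgroup.zpowers x) :=
    Coprime.card_sup hxP (Coprime.inf_eq_bot_of_coprime (coprime_of_pGroups hpr.symm (hQ.to_le hxQ) hPp))
  obtain ⟨E, hE, hKE⟩ := exists_compl_ge hG hM (sup_le hPM (hxQ.trans hQM)) (fun q hq hd => by
    rw [hcardK] at hd
    rcases hq.dvd_mul.mp hd with h | h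
    · exact (eq_prime_of_dvd_card hP hq h) ▸ hpt.2.1
    · exact mem_of_pGroup (π := {t | t ∉ sigma M}) (hQ.to_le hxQ) hrσ q hq h)
  have hxE : Subgroup.zpowers x ≤ E := le_sup_right.trans hKE
  by_cases hab : ∀ S : Sylow r G, IsMulCommutative (S : Subgroup G)
  · exact absurd (tau12_regular_abelian hG hpl hM hE hpt hP (le_sup_left.trans hKE) hrτ hab (hzx.trans hxE) hZc
      ((hzx.trans hxQ).trans hQP)) hC
  obtain ⟨A, hAE, hAe, hA2⟩ := exists_ea_le_compl hG hE hrτ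
  obtain ⟨A0, h⟩ := exists_exc hG hpl hM hrτ.2.1 (hAE.trans hE.1) hAe hA2
  obtain ⟨-, -, hfl⟩ := h.fpf_lines hG hpl (sylow_all_nonabelian hab) hE hrτ hAE
  have hZA : Z ≤ A := (tau2_compl_facts hG hpl hM hE hrτ ⟨hAE, hAe, hA2⟩).1.2 Z (hzx.trans hxE) hZc
  have hZ0 : Z = A0 := by
    by_contra hne
    exact hC (le_bot_iff.mp ((hfl Z hZA hZc hne).1 ▸ hCZ))
  rcases Nat.eq_zero_or_pos k with rfl | hk0
  · have e : z = x := by rw [hzdef, pow_zero, pow_one]
    exact e ▸ Subgroup.le_centralizer_iff.mp (hCZ.trans inf_le_right) (Subgroup.mem_zpowers z)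
  obtain ⟨j, rfl⟩ : ∃ j, k = j + 1 := ⟨k - 1, by omega⟩
  set y := x ^ r ^ j with hydef
  have hy : y ^ r = z := by rw [hydef, hzdef, ← pow_mul, ← pow_succ]
  have hxA : Subgroup.zpowers x ≤ Subgroup.centralizer (A : Set G) :=
    le_centralizer_of_tau2 hG hpl hM hE hrτ ⟨hAE, hAe, hA2⟩ hxE fun q hq hd =>
      (mem_of_pGroup (π := {t | t = r}) (hQ.to_le hxQ) rfl q hq hd) ▸ hrτ
  have := h.no_root hG hpl (sylow_all_nonabelian hab) (M.pow_mem (hQM hx) (r ^ j))
    (hxA (pow_mem (Subgroup.mem_zpowers x) _)) (by rw [← hydef, hy, ← hZ0]; exact Subgroup.mem_zpowers z)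
  rw [← hydef, hy] at this
  exact absurd (hz ▸ (orderOf_eq_one_iff.mpr this)) hr.out.ne_one

/-- A `σ(M)'`-subgroup of `C_M(P)` centralizes `C_{M_σ}(P)`. -/
theorem cent_tau1_le_centralizer {M P K : Subgroup G} (hM : IsCoatom M) {p : ℕ} [hp : Fact p.Prime]
    (hpt : p ∈ tau1 M) (hP : Nat.card P = p) (hPM : P ≤ M) (hKM : K ≤ M)
    (hK : ∀ q : ℕ, q.Prime → q ∣ Nat.card K → q ∉ sigma M) (hKP : K ≤ Subgroup.centralizer (P : Set G)) :
    K ≤ Subgroup.centralizer ((sigmaCore M ⊓ Subgroup.centralizer (P : Set G) : Subgroup G) : Set G) := by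
  refine Core.le_of_forall_exists_sylow_le fun q hq => ?_
  haveI := Fact.mk hq
  obtain ⟨S⟩ := (inferInstance : Nonempty (Sylow q K))
  refine ⟨S, ?_⟩
  by_cases hd : q ∣ Nat.card K
  · exact cent_tau1_pGroup hG hpl hM hpt hP hPM (hK q hq hd) (S.isPGroup'.map _)
      ((Subgroup.map_subtype_le _).trans hKM) ((Subgroup.map_subtype_le _).trans hKP)
  · rw [show (S : Subgroup K) = ⊥ from Subgroup.card_eq_one.mp (by
      rw [S.card_eq_multiplicity, Nat.factorization_eq_zero_of_not_dvd hd, pow_zero]), Subgroup.map_bot]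
    exact bot_le

omit hpl in
/-- `E = E' C_E(P)` for `P ≤ E` of order `p ∈ τ₁(M)`. -/
theorem compl_eq_derived_mul_centralizer {M E P : Subgroup G} (hM : IsCoatom M)
    (hE : IsComplIn E (sigmaCore M) M) {p : ℕ} [hp : Fact p.Prime] (hpt : p ∈ tau1 M) (hP : Nat.card P = p)
    (hPE : P ≤ E) {e : G} (he : e ∈ E) : ∃ a ∈ ⁅E, E⁆, ∃ c ∈ E ⊓ Subgroup.centralizer (P : Set G), e = a * c := by
  set D := ⁅E, E⁆
  have hDE : D ≤ E := Subgroup.commutator_le.mpr fun a ha b hb =>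
    E.mul_mem (E.mul_mem (E.mul_mem ha hb) (E.inv_mem ha)) (E.inv_mem hb)
  have hnorm : ∀ n ∈ E, ∀ d ∈ D, n * d * n⁻¹ ∈ D := fun n hn d hd => by
    rw [show n * d * n⁻¹ = ⁅n, d⁆ * d by rw [commutatorElement_def]; group]
    exact mul_mem (Subgroup.commutator_mem_commutator hn (hDE hd)) hd
  have hPD : P ≤ Subgroup.normalizer (D : Set G) := fun x hx =>
    Coprime.mem_normalizer_of_conj_mem (hnorm x (hPE hx))
  have hpD : ¬ p ∣ Nat.card D := fun hd =>
    hpt.2.2.2.1 (hd.trans (Subgroup.card_dvd_of_le (Subgroup.commutator_mono hE.1 hE.1)))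
  have hPp : IsPGroup p P := IsPGroup.of_card (by rw [hP, pow_one])
  have hinf : D ⊓ P = ⊥ := Subgroup.inf_eq_bot_of_coprime
    ((hP.symm ▸ (hp.out.coprime_iff_not_dvd.mpr hpD).symm : (Nat.card D).Coprime (Nat.card P)))
  have hPi : ¬ p ∣ P.relIndex (D ⊔ P) := fun hd => hpD (by
    have hmul := Subgroup.relIndex_mul_index (H := P) (K := D ⊔ P) le_sup_right
    have hc : Nat.card P * P.relIndex (D ⊔ P) = Nat.card ↥(D ⊔ P) := by
      have := Subgroup.relIndex_mul_relIndex ⊥ P (D ⊔ P) bot_le le_sup_right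
      rwa [Subgroup.relIndex_bot_left, Subgroup.relIndex_bot_left] at this
    rw [Coprime.card_sup hPD hinf, mul_comm (Nat.card D), Nat.mul_left_cancel_iff Nat.card_pos] at hc
    rwa [hc] at hd)
  have hle : cj e P ≤ D ⊔ P := by
    rintro _ ⟨x, hx, rfl⟩
    show e * x * e⁻¹ ∈ D ⊔ P
    rw [show e * x * e⁻¹ = ⁅e, x⁆ * x by rw [commutatorElement_def]; group]
    exact Subgroup.mul_mem_sup (Subgroup.commutator_mem_commutator he (hPE hx)) hx
  obtain ⟨n, hn, hne⟩ := exists_cj_le_of_not_dvd_relIndex le_sup_right hPp hPi hle (hPp.map _)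
  have hnN : n * e ∈ Subgroup.normalizer (P : Set G) := cj_eq_iff.mp (Subgroup.eq_of_le_of_card_ge
    (by rw [cj_mul]; exact hne) (card_cj _ _).ge)
  have hnE : n * e ∈ E := E.mul_mem ((sup_le hDE hPE) hn) he
  have hnC : n * e ∈ Subgroup.centralizer (P : Set G) := Subgroup.mem_centralizer_iff.mpr fun y hy => by
    have h1 : ⁅n * e, y⁆ ∈ D ⊓ P := ⟨Subgroup.commutator_mem_commutator hnE (hPE hy), by
      rw [commutatorElement_def]
      exact P.mul_mem ((Subgroup.mem_normalizer_iff.mp hnN y).mp hy) (P.inv_mem hy)⟩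
    rw [hinf, Subgroup.mem_bot] at h1
    exact (commutatorElement_eq_one_iff_mul_comm.mp h1).symm
  obtain ⟨a, ha, b, hb, hab⟩ := Coprime.exists_mul_of_mem_sup hPD ((D ⊔ P).inv_mem hn)
  haveI : IsCyclic P := isCyclic_of_prime_card hP
  refine ⟨a, ha, b * (n * e), ⟨E.mul_mem (hPE hb) hnE,
    mul_mem ((Subgroup.le_centralizer_iff_isMulCommutative.mpr inferInstance) hb) hnC⟩, ?_⟩
  rw [← mul_assoc, hab, inv_mul_cancel_left]

/-- `X` of order `q` in `C_{M_σ}(P)` has `q ∈ β(M)` or `X ≤ M_σ'`. -/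
theorem beta_or_derived {M P : Subgroup G} (hM : IsCoatom M) {p : ℕ} [hp : Fact p.Prime] (hpt : p ∈ tau1 M)
    (hP : Nat.card P = p) (hPM : P ≤ M) {q : ℕ} [hq : Fact q.Prime] {X : Subgroup G} (hX : Nat.card X = q)
    (hXC : X ≤ sigmaCore M ⊓ Subgroup.centralizer (P : Set G)) :
    q ∈ beta M ∨ X ≤ ⁅sigmaCore M, sigmaCore M⁆ := by
  refine Classical.or_iff_not_imp_left.mpr fun hqβ => ?_
  have hqσ : q ∈ sigma M := mem_sigma_of_dvd hq.out (hX ▸ Subgroup.card_dvd_of_le (hXC.trans inf_le_left))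
  obtain ⟨E, hE, hPE⟩ := exists_compl_ge hG hM hPM (fun t ht hd => eq_prime_of_dvd_card hP ht hd ▸ hpt.2.1)
  have hXσ : X ≤ sigmaCore M := hXC.trans inf_le_left
  have hXM : X ≤ M := hXσ.trans (sigmaCore_le M)
  have hqE : ¬ q ∣ Nat.card E := fun hd => complIn_notMem_sigma hG hM hE hq.out hd hqσ
  have hDE : ⁅E, E⁆ ≤ E := Subgroup.commutator_le.mpr fun a ha b hb =>
    E.mul_mem (E.mul_mem (E.mul_mem ha hb) (E.inv_mem ha)) (E.inv_mem hb)
  have hcore : ∀ a ∈ ⁅E, E⁆, ∀ x ∈ X, ⁅a, x⁆ ∈ piCoreOf (beta M) M := fun a ha x hx =>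
    commutator_le_betaCore hG hpl hM (Subgroup.commutator_mono hE.1 hE.1)
      (fun hd => hqE (hd.trans (Subgroup.card_dvd_of_le hDE))) (hXσ.trans (sigmaCore_le_derived hG hM))
      (IsPGroup.of_card (by rw [hX, pow_one]) : IsPGroup q X) (Subgroup.commutator_mem_commutator ha hx)
  have hCX : ∀ c ∈ E ⊓ Subgroup.centralizer (P : Set G), ∀ x ∈ X, x * c = c * x := fun c hc x hx =>
    Subgroup.mem_centralizer_iff.mp (cent_tau1_le_centralizer hG hpl hM hpt hP hPM (inf_le_left.trans hE.1)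
      (fun t ht hd => complIn_notMem_sigma hG hM hE ht (hd.trans (Subgroup.card_dvd_of_le inf_le_left)))
      inf_le_right hc) x (hXC hx)
  have hcomm : ∀ e ∈ E, ∀ x ∈ X, ⁅e, x⁆ ∈ piCoreOf (beta M) M := fun e he x hx => by
    obtain ⟨a, ha, c, hc, rfl⟩ := compl_eq_derived_mul_centralizer hG hM hE hpt hP hPE he
    rw [show ⁅a * c, x⁆ = ⁅a, x⁆ from ?_]
    · exact hcore a ha x hx
    · simp only [commutatorElement_def, mul_inv_rev]
      rw [show a * c * x * (c⁻¹ * a⁻¹) = a * (c * x * c⁻¹) * a⁻¹ by group, ← hCX c hc x hx,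
        mul_inv_cancel_right]
  -- pass to the quotient of `M` by `M_β`
  set N := piCore (sigma M) M with hNdef
  set B := piCore (beta M) M with hBdef
  set E' := E.subgroupOf M with hE'def
  have hNE : ⁅N, E'⁆ = N := Subgroup.map_injective M.subtype_injective (by
    rw [Subgroup.map_commutator, Subgroup.map_subgroupOf_eq_of_le hE.1]
    exact (commutator_compl hG hpl hM hE).1)
  set φ := QuotientGroup.mk' B
  haveI : (N.map φ).Normal := (inferInstance : N.Normal).map φ (QuotientGroup.mk'_surjective _)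
  have hcop : (Nat.card E').Coprime (Nat.card N) := Nat.coprime_of_dvd fun t ht h1 h2 =>
    complIn_notMem_sigma hG hM hE ht (by rwa [Core.card_subgroupOf hE.1] at h1)
      (Core.isPiNat_card_piCore _ M t ht h2)
  intro x hx
  have hxN : (⟨x, hXM hx⟩ : M) ∈ N := by
    obtain ⟨y, hy, hye⟩ := hXσ hx
    rwa [← show y = ⟨x, hXM hx⟩ from Subtype.ext hye]
  set x' : M := ⟨x, hXM hx⟩
  have h1 : φ x' ∈ ⁅N.map φ, N.map φ⁆ := inf_centralizer_le_commutator (E := E'.map φ)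
    ((hcop.coprime_dvd_left (Subgroup.card_map_dvd E' φ)).coprime_dvd_right (Subgroup.card_map_dvd N φ))
    (by rw [← Subgroup.map_commutator, hNE]) ⟨⟨x', hxN, rfl⟩, Subgroup.mem_centralizer_iff.mpr (by
      rintro _ ⟨e, he, rfl⟩
      refine commutatorElement_eq_one_iff_mul_comm.mp ?_
      rw [← map_commutatorElement]
      refine (QuotientGroup.eq_one_iff _).mpr ?_
      obtain ⟨y, hy, hye⟩ := hcomm _ (Subgroup.mem_subgroupOf.mp he) x hx
      rwa [← show y = ⁅e, x'⁆ from Subtype.ext hye])⟩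
  rw [← Subgroup.map_commutator] at h1
  obtain ⟨d, hd, hdx⟩ := h1
  have hb : d⁻¹ * x' ∈ B := QuotientGroup.eq.mp hdx
  set ψ := QuotientGroup.mk' ⁅N, N⁆
  have hψ : ψ x' = ψ (d⁻¹ * x') := by
    rw [map_mul, map_inv, show ψ d = 1 from (QuotientGroup.eq_one_iff d).mpr hd, inv_one, one_mul]
  have hx'q : orderOf x' ∣ q := by
    rw [← Subgroup.orderOf_coe]
    exact hX ▸ Subgroup.orderOf_dvd_natCard X hx
  have h2 : ψ x' = 1 := orderOf_eq_one_iff.mp (Nat.eq_one_of_dvd_coprimes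
    (hq.out.coprime_iff_not_dvd.mpr fun hd' => hqβ (Core.isPiNat_card_piCore _ M q hq.out hd'))
    ((orderOf_map_dvd ψ x').trans hx'q)
    (hψ ▸ (orderOf_map_dvd ψ _).trans (Subgroup.orderOf_dvd_natCard B hb)))
  have h3 : x' ∈ ⁅N, N⁆ := (QuotientGroup.eq_one_iff x').mp h2
  rw [show sigmaCore M = N.map M.subtype from rfl, ← Subgroup.map_commutator]
  exact ⟨x', h3, rfl⟩

/-- The centralizer of such an `X` is in `M` only. -/
theorem only_centralizer_tau1_fixed {M P : Subgroup G} (hM : IsCoatom M) {p : ℕ} [hp : Fact p.Prime]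
    (hpt : p ∈ tau1 M) (hP : Nat.card P = p) (hPM : P ≤ M) {q : ℕ} [hq : Fact q.Prime] {X : Subgroup G}
    (hX : Nat.card X = q) (hXC : X ≤ sigmaCore M ⊓ Subgroup.centralizer (P : Set G)) :
    Subgroup.centralizer (X : Set G) ≤ M ∧ Only M (Subgroup.centralizer (X : Set G)) :=
  (sigma_order_p hG hpl hM (mem_sigma_of_dvd hq.out (hX ▸ Subgroup.card_dvd_of_le (hXC.trans inf_le_left)))
    (hXC.trans (inf_le_left.trans (sigmaCore_le M))) hX (beta_or_derived hG hpl hM hpt hP hPM hX hXC)).1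

/-- A `τ₁(M)`-subgroup centralizing an element of order `s ∈ τ₂(M)` has no fixed points in `M_σ`. -/
theorem tau12_regular {M : Subgroup G} (hM : IsCoatom M) {p s : ℕ} [hp : Fact p.Prime] [hs : Fact s.Prime]
    (hpt : p ∈ tau1 M) {P : Subgroup G} (hP : Nat.card P = p) (hPM : P ≤ M) (hst : s ∈ tau2 M) {Z : Subgroup G}
    (hZM : Z ≤ M) (hZ : Nat.card Z = s) (hZP : Z ≤ Subgroup.centralizer (P : Set G)) :
    sigmaCore M ⊓ Subgroup.centralizer (P : Set G) = ⊥ := by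
  have hps : p ≠ s := fun e => hst.2.2.2 (e ▸ hpt.2.2.2.2)
  have hPp : IsPGroup p P := IsPGroup.of_card (by rw [hP, pow_one])
  have hZs : IsPGroup s Z := IsPGroup.of_card (by rw [hZ, pow_one])
  have hcardK : Nat.card ↥(P ⊔ Z) = Nat.card P * Nat.card Z :=
    Coprime.card_sup (hZP.trans (Subgroup.centralizer_le_normalizer _))
      (Coprime.inf_eq_bot_of_coprime (coprime_of_pGroups hps.symm hZs hPp))
  obtain ⟨E, hE, hKE⟩ := exists_compl_ge hG hM (sup_le hPM hZM) (fun q hq hd => by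
    rw [hcardK] at hd
    rcases hq.dvd_mul.mp hd with h | h
    · exact eq_prime_of_dvd_card hP hq h ▸ hpt.2.1
    · exact eq_prime_of_dvd_card hZ hq h ▸ hst.2.1)
  have hPE : P ≤ E := le_sup_left.trans hKE
  by_cases hab : ∀ S : Sylow s G, IsMulCommutative (S : Subgroup G)
  · exact tau12_regular_abelian hG hpl hM hE hpt hP hPE hst hab (le_sup_right.trans hKE) hZ hZP
  by_contra hC
  have hS := sylow_all_nonabelian hab
  obtain ⟨A, hAE, hAe, hA2⟩ := exists_ea_le_compl hG hE hst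
  obtain ⟨A0, h⟩ := exists_exc hG hpl hM hst.2.1 (hAE.trans hE.1) hAe hA2
  obtain ⟨⟨hEA, hmem⟩, ⟨-, -, hnot⟩, hline⟩ := tau2_compl_facts hG hpl hM hE hst ⟨hAE, hAe, hA2⟩
  obtain ⟨-, -, hfl⟩ := h.fpf_lines hG hpl hS hE hst hAE
  have hZA : Z ≤ A := hmem Z (le_sup_right.trans hKE) hZ
  have hCle := cent_tau1_le hG hpl hM hpt hP hPM hZ hZM hst.2.1 hZP
  have hne : sigmaCore M ⊓ Subgroup.centralizer (Z : Set G) ≠ ⊥ := fun e => hC (le_bot_iff.mp (e ▸ hCle))
  obtain ⟨-, honly⟩ := hline Z hZA hZ hne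
  -- the maximal subgroup over a non-abelian Sylow subgroup
  obtain ⟨S, hAS⟩ := h.maxEA.isPGroup.exists_le_sylow
  obtain ⟨L, ⟨hL, hSL⟩, -⟩ := inUniqueMaximal_of_nonabelian hG hpl S.isPGroup' (hS S)
  have hAL : A ≤ L := hAS.trans hSL
  have hsL : s ∈ sigma L := mem_sigma_of_nonabelian hG hpl hL S.isPGroup' hSL (hS S)
  have hNA : Subgroup.normalizer (A : Set G) ≤ L :=
    normalizer_le_of_noncyclic hG hpl hL hsL h.maxEA.isPGroup hAL (not_isCyclic_ea_sq hAe hA2)
  have hLM : L ≠ M := fun e => hnot (e ▸ hNA)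
  have hPN : P ≤ Subgroup.normalizer (A : Set G) := hPE.trans hEA
  have hPL : P ≤ L := hPN.trans hNA
  have hZL : Z ≤ sigmaCore L := le_sigmaCore hG hL (hZA.trans hAL) (mem_of_pGroup hZs hsL)
  obtain ⟨z, hz, hz1⟩ := Z.bot_or_exists_ne_one.resolve_left (ne_bot_of_card_prime hZ)
  obtain ⟨x, hx, hx1⟩ := P.bot_or_exists_ne_one.resolve_left (ne_bot_of_card_prime hP)
  have hPx := zpowers_eq_of_card_prime hP hx hx1
  rcases mem_classes hG hL hp.out (hP ▸ Subgroup.card_dvd_of_le hPL) with hc | hc | hc | hc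
  rotate_left
  · -- `p ∈ τ₁(L)`
    exact hLM (honly L hL (only_centralizer_tau1_fixed hG hpl hL hc hP hPL hZ (le_inf hZL hZP)).1)
  · -- `p ∈ τ₂(L)`
    obtain ⟨E₂, hE₂, -⟩ := exists_compl_ge hG hL hPL (fun q hq hd => eq_prime_of_dvd_card hP hq hd ▸ hc.2.1)
    have hxz : x * z = z * x := Subgroup.mem_centralizer_iff.mp (hZP hz) x hx
    obtain ⟨hCx, -⟩ := only_centralizer_of_tau2 hG hpl hL hE₂ (hPL hx) hx1 (fun q hq hd =>
      eq_prime_of_dvd_card hP hq (hd.trans (Subgroup.orderOf_dvd_natCard P hx)) ▸ hc)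
      ⟨hPL hx, z, hZL hz, hz1, hxz⟩
    rw [centralizer_singleton_eq hPx] at hCx
    exact hC (le_bot_iff.mp (h.inf_other_eq_bot hG hpl hL hLM hAL ▸ inf_le_inf_left _ hCx))
  all_goals
    have hPD : P ≤ ⁅L, L⁆ := le_derived_of_pGroup hG hL (by first | exact Or.inl hc | exact Or.inr hc) hPp hPL
    haveI : Group.IsSolvable P := Coprime.isSolvable_of_isPGroup hPp
    have hA1 : ⁅A, P⁆ ≤ A := Coprime.commutator_le_of_le_normalizer hPN
    have hA1' : ⁅⁅A, P⁆, P⁆ = ⁅A, P⁆ :=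
      Coprime.commutator_commutator_eq hPN (coprime_of_pGroups hps hPp h.maxEA.isPGroup)
    have hA11 : ⁅A, P⁆ ≠ ⊥ := fun e => by
      refine hC (le_bot_iff.mp (h.inf_centralizer_eq_bot hG hpl ▸ le_inf inf_le_left ?_))
      refine Subgroup.le_centralizer_iff.mp fun a ha => ?_
      by_cases ha1 : a = 1
      · exact ha1 ▸ one_mem _
      exact Subgroup.le_centralizer_iff.mp ((cent_tau1_le hG hpl hM hpt hP hPM (R := Subgroup.zpowers a)
        (h.maxEA.card_zpowers ha ha1) (Subgroup.zpowers_le.mpr (hE.1 (hAE ha))) hst.2.1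
        ((Subgroup.zpowers_le.mpr ha).trans (Subgroup.commutator_eq_bot_iff_le_centralizer.mp e))).trans inf_le_right)
        (Subgroup.mem_zpowers a)
    have hle : ⁅A, P⁆ ≤ piCoreOf (beta L) L := by
      rw [← hA1', Subgroup.commutator_comm]
      exact commutator_le_betaCore hG hpl hL hPD (not_dvd_of_pGroup hps.symm hPp)
        (Subgroup.commutator_mono hAL hPL) (h.maxEA.isPGroup.to_le hA1)
    exact h.maxEA.notMem_beta L (Core.BG.isPiNat_piCoreOf (beta L) L s hs.out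
      ((dvd_card_of_ne_bot (h.maxEA.isPGroup.to_le hA1) hA11).trans (Subgroup.card_dvd_of_le hle)))

/-- The subgroups of prime order of a commutative `τ₁(M)`-subgroup have the same fixed points. -/
theorem inf_centralizer_eq_of_tau1 {M K : Subgroup G} (hM : IsCoatom M) (hKM : K ≤ M) [IsMulCommutative K]
    (hK : ∀ q : ℕ, q.Prime → q ∣ Nat.card K → q ∈ tau1 M) {p : ℕ} [hp : Fact p.Prime] {P : Subgroup G}
    (hP : Nat.card P = p) (hPK : P ≤ K) :
    sigmaCore M ⊓ Subgroup.centralizer (P : Set G) = sigmaCore M ⊓ Subgroup.centralizer (K : Set G) :=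
  le_antisymm (le_inf inf_le_left (Subgroup.le_centralizer_iff.mp (cent_tau1_le_centralizer hG hpl hM
    (hK p hp.out (hP ▸ Subgroup.card_dvd_of_le hPK)) hP (hPK.trans hKM) hKM (fun q hq hd => (hK q hq hd).2.1)
    ((Subgroup.le_centralizer_iff_isMulCommutative.mpr inferInstance).trans (Subgroup.centralizer_le hPK)))))
    (inf_le_inf_left _ (Subgroup.centralizer_le hPK))

end Cfsg.Agent.OddLocal.Sigma
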