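import Cfsg.Agent.OddLocal.Sigma.PartnerCount

/-! Statement-shaped consequences of the partner theorem (BG 14.7, 15.1). -/

set_option autoImplicit false
set_option linter.style.haveILetI false
set_option linter.unusedSectionVars false

namespace Cfsg.Agent.OddLocal.Sigma

open Cfsg
open scoped commutatorElement

variable {G : Type*} [Group G] [Finite G]

theorem decomp_le_normalizer {M K U : Subgroup G} (h : IsSigmaDecomposition M K U) :
    M ≤ Subgroup.normalizer ((U ⊔ sigmaCore M : Subgroup G) : Set G) := by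
  have hMσ : sigmaCore M ≤ Subgroup.normalizer ((U ⊔ sigmaCore M : Subgroup G) : Set G) :=
    le_sup_right.trans Subgroup.le_normalizer
  have hK : K ≤ Subgroup.normalizer ((U ⊔ sigmaCore M : Subgroup G) : Set G) := fun k hk =>
    cj_eq_iff.mp (by
      rw [cj, Subgroup.map_sup, ← cj, ← cj, cj_eq_iff.mpr (h.normal hk),
        cj_eq_iff.mpr (le_normalizer_sigmaCore M (h.hall.1 hk))])
  intro m hm
  obtain ⟨a, ha, b, hb, rfl⟩ := h.compl.2.2.2 m hm
  exact mul_mem (Subgroup.le_normalizer (Subgroup.mem_sup_left ha)) (sup_le hK hMσ hb)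

theorem exists_kappa_mul {M K U : Subgroup G} (h : IsSigmaDecomposition M K U) {a : G} (ha : a ∈ M) :
    ∃ k ∈ K, ∃ n ∈ U ⊔ sigmaCore M, a = k * n := by
  obtain ⟨u, hu, b, hb, rfl⟩ := h.compl.2.2.2 a ha
  obtain ⟨s, hs, k, hk, rfl⟩ := Coprime.exists_mul_of_mem_sup (h.hall.1.trans (le_normalizer_sigmaCore M))
    (show b ∈ sigmaCore M ⊔ K by rwa [sup_comm])
  refine ⟨k, hk, k⁻¹ * (u * s) * k, ?_, by group⟩
  have := (Subgroup.mem_set_normalizer_iff''.mp (decomp_le_normalizer h (h.hall.1 hk)) (u * s)).mp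
    (mul_mem (Subgroup.mem_sup_left hu) (Subgroup.mem_sup_right hs))
  exact this

/-- Hall conjugacy inside a solvable subgroup of `G`. -/
theorem exists_conj_le_hallOf {M K Q : Subgroup G} [Group.IsSolvable M] {π : Set ℕ} (hK : IsPiHallOf π K M)
    (hQM : Q ≤ M) (hQ : ∀ q : ℕ, q.Prime → q ∣ Nat.card Q → q ∈ π) : ∃ m ∈ M, cj m Q ≤ K := by
  have hH : IsPiHall π (K.subgroupOf M) :=
    ⟨fun q hq hd => hK.2.1 q hq (by rwa [Core.card_subgroupOf hK.1] at hd), fun q hq hqπ hd => hK.2.2 q hq hqπ hd⟩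
  obtain ⟨g, hg⟩ := Core.exists_le_conj_smul_of_isPiHall Core.isPiSeparable_of_isSolvable
    Core.hallSolvable_of_isSolvable hH (K := Q.subgroupOf M) (fun q hq hd => hQ q hq
      (by rwa [Core.card_subgroupOf hQM] at hd))
  refine ⟨((g⁻¹ : M) : G), (g⁻¹).2, ?_⟩
  rintro _ ⟨k, hk, rfl⟩
  have h1 := hg (Subgroup.mem_subgroupOf.mpr hk : (⟨k, hQM hk⟩ : M) ∈ Q.subgroupOf M)
  rw [Core.conj_smul_eq_map] at h1
  obtain ⟨e, he, hek⟩ := h1
  simp only [MulEquiv.coe_toMonoidHom, MulAut.conj_apply] at hek ⊢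
  have h2 : (g : G) * e * (g : G)⁻¹ = k := congrArg Subtype.val hek
  rw [← h2]
  simpa [mul_assoc] using Subgroup.mem_subgroupOf.mp he

variable (hG : IsMinSimpleOddOrder G)
include hG
variable (hpl : ∀ (p : ℕ) [Fact p.Prime] (H : Subgroup G), H ≠ ⊤ → PLengthLE p 1 H)
include hpl

/-- The primes of `U M_σ` are not in `κ(M)`. -/
theorem decomp_primes {M K U : Subgroup G} (hM : IsCoatom M) (h : IsSigmaDecomposition M K U) :
    ∀ q : ℕ, q.Prime → q ∣ Nat.card ↥(U ⊔ sigmaCore M) → q ∉ kappa M := by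
  obtain ⟨-, hU, -⟩ := decomp_facts hG hpl hM h
  intro q hq hd hκ
  have hUσ : sigmaCore M ⊓ U = ⊥ := Coprime.inf_eq_bot_of_coprime (Nat.coprime_of_dvd
    fun r hr h1 h2 => (hU r hr h1).1 (mem_sigma_of_dvd hr h2))
  rw [sup_comm, Coprime.card_sup (h.compl.1.trans (le_normalizer_sigmaCore M)) hUσ] at hd
  rcases hq.dvd_mul.mp hd with hd | hd
  · exact hκ.2.2.1 (mem_sigma_of_dvd hq hd)
  · exact (hU q hq hd).2 hκ

namespace IsPartner

variable {M K L U : Subgroup G}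

theorem le_sup_of_bot (h : IsSigmaDecomposition M K U) (hU : U = ⊥) :
    M ≤ sigmaCore M ⊔ (K ⊔ (sigmaCore M ⊓ Subgroup.centralizer (K : Set G))) := by
  intro g hg
  obtain ⟨a, ha, b, hb, rfl⟩ := h.compl.2.2.2 g hg
  rw [hU, Subgroup.mem_bot] at ha
  rw [ha, one_mul]
  exact (sup_le (le_sup_left.trans le_sup_right) le_sup_left :
    K ⊔ sigmaCore M ≤ sigmaCore M ⊔ (K ⊔ (sigmaCore M ⊓ Subgroup.centralizer (K : Set G)))) hb

/-- One of the two complements `U`, `U*` is not trivial. -/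
theorem partner_compl_ne_bot (hM : IsCoatom M) (hd : IsSigmaDecomposition M K U) (h : IsPartner M K L) (hU : U = ⊥)
    {U' : Subgroup G} (hd' : IsSigmaDecomposition L (sigmaCore M ⊓ Subgroup.centralizer (K : Set G)) U') : U' ≠ ⊥ := by
  intro hU'
  refine h.not_both_trivial hG hpl hM hd.hall (le_sup_of_bot hG hpl hd hU) ((le_sup_of_bot hG hpl hd' hU').trans ?_)
  rw [← h.eq_K' hG hpl, sup_comm (sigmaCore M ⊓ Subgroup.centralizer (K : Set G)) K]

theorem card_fixed_prime (hM : IsCoatom M) (hd : IsSigmaDecomposition M K U) (hK1 : K ≠ ⊥) (hU : U = ⊥) :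
    (Nat.card ↥(sigmaCore M ⊓ Subgroup.centralizer (K : Set G))).Prime := by
  obtain ⟨L, h⟩ := exists_partner hG hpl hM hd.hall hK1
  obtain ⟨U', hd'⟩ := exists_decomp hG hpl h.coatom ((kappa_hall hG hpl h.coatom).2 _ h.hall) h.hall
  exact card_kappa_prime hG hpl h.coatom hd' (kst_ne hG hpl hM hd.hall hK1)
    (h.partner_compl_ne_bot hG hpl hM hd hU hd')

/-- `C_{M_σ}(K)` is a Hall `σ(M)`-subgroup of `M*`. -/
theorem hall_sigma (hM : IsCoatom M) (hK : IsPiHallOf (kappa M) K M) (hK1 : K ≠ ⊥) (h : IsPartner M K L) :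
    IsPiHallOf (sigma M) (sigmaCore M ⊓ Subgroup.centralizer (K : Set G)) L := by
  have hs := h.split hG hpl hK
  set Y := sigmaCore M ⊓ Subgroup.centralizer (K : Set G) with hY
  haveI := Core.BG.isSolvable_proper hG h.coatom.1
  refine ⟨h.hall.1, hs.right, fun q hq hqσ hqd => ?_⟩
  obtain ⟨H, hH, hYH⟩ := Core.exists_isPiHall_ge (π := sigma M) Core.isPiSeparable_of_isSolvable
    Core.hallSolvable_of_isSolvable (K := Y.subgroupOf L) (fun r hr hd => hs.right r hr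
      (by rwa [Core.card_subgroupOf h.hall.1] at hd))
  set H' := H.map L.subtype
  have hH'L : H' ≤ L := Subgroup.map_subtype_le H
  have hYH' : Y ≤ H' := fun y hy => ⟨⟨y, h.hall.1 hy⟩, hYH (Subgroup.mem_subgroupOf.mpr hy), rfl⟩
  have hY1 : Y ≠ ⊥ := kst_ne hG hpl hM hK hK1
  have hH'σ : ∀ r : ℕ, r.Prime → r ∣ Nat.card H' → r ∈ sigma M := fun r hr hd =>
    hH.1 r hr (by rwa [Core.card_map_subtype] at hd)
  obtain ⟨g, hg⟩ := exists_cj_le_of_sigma hG hpl hM (fun e => hY1 (le_bot_iff.mp (hYH'.trans e.le))) hH'σ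
  obtain ⟨y, hy, hy1⟩ := Y.bot_or_exists_ne_one.resolve_left hY1
  obtain ⟨t, ht, -, X, hX, hXy⟩ := exists_prime_le_zpowers hy1
  haveI := Fact.mk ht
  have hXY : X ≤ Y := hXy.trans (Subgroup.zpowers_le.mpr hy)
  have hgM : g⁻¹ ∈ M := mem_of_fixed_le_cj hG hpl hM hX (hXY.trans inf_le_left) (h.onlyX t X hX hXY).1
    ((hXY.trans hYH').trans (cj_le_iff.mp hg))
  have hH'M : H' ≤ M := by
    refine (cj_le_iff.mp hg).trans ?_
    rw [cj_eq_iff.mpr (Subgroup.le_normalizer hgM)]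
  have hH'Y : H' ≤ Y := by
    intro a ha
    obtain ⟨k, hk, b, hb, rfl⟩ := hs.exists_mul (h.inter.le (Subgroup.mem_inf.mpr ⟨hH'M ha, hH'L ha⟩))
    have hkH : k ∈ H' := by
      have := H'.mul_mem ha (H'.inv_mem (hYH' hb))
      rwa [mul_inv_cancel_right] at this
    suffices hk1 : k = 1 by rw [hk1, one_mul]; exact hb
    by_contra hk1
    obtain ⟨w, hw, hwd⟩ := Nat.exists_prime_and_dvd (show orderOf k ≠ 1 by rwa [ne_eq, orderOf_eq_one_iff])
    exact hs.part_left hk w hw hwd (hH'σ w hw (hwd.trans (Subgroup.orderOf_dvd_natCard H' hkH)))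
  have hHY : H ≤ Y.subgroupOf L := fun a ha => Subgroup.mem_subgroupOf.mpr (hH'Y ⟨a, ha, rfl⟩)
  rw [le_antisymm hHY hYH] at hH
  exact hH.2 q hq hqσ hqd

theorem inter_centralizer_partner (hM : IsCoatom M) (hK : IsPiHallOf (kappa M) K M) (h : IsPartner M K L) {y : G}
    (hy : y ∈ sigmaCore M ⊓ Subgroup.centralizer (K : Set G)) (hy1 : y ≠ 1) :
    L ⊓ Subgroup.centralizer ({y} : Set G) = K ⊔ (sigmaCore M ⊓ Subgroup.centralizer (K : Set G)) := by
  rw [inf_centralizer_kappa hG hpl h.coatom h.hall hy hy1, ← h.eq_K' hG hpl, sup_comm]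

/-- The `M`-conjugates of `Ẑ`. -/
theorem conj_zHat_eq (hM : IsCoatom M) (hd : IsSigmaDecomposition M K U) (h : IsPartner M K L) :
    {a : G | ∃ m ∈ M, ∃ z ∈ zHat K (sigmaCore M ⊓ Subgroup.centralizer (K : Set G)), a = m * z * m⁻¹} =
      sigmaA0 M K \ sigmaA M U := by
  have hs := h.split hG hpl hd.hall
  set Y := sigmaCore M ⊓ Subgroup.centralizer (K : Set G) with hY
  set N := U ⊔ sigmaCore M with hN
  have hNM : M ≤ Subgroup.normalizer (N : Set G) := decomp_le_normalizer hd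
  have hdisj : K ⊓ N = ⊥ := Coprime.inf_eq_bot_of_coprime (Nat.coprime_of_dvd fun r hr h1 h2 => by
    first
      | exact decomp_primes hG hpl hM hd r hr h1 (hd.hall.2.1 r hr h2)
      | exact decomp_primes hG hpl hM hd r hr h2 (hd.hall.2.1 r hr h1))
  ext a
  constructor
  · rintro ⟨m, hm, z, hz, rfl⟩
    obtain ⟨k, hk, hk1, y, hy, hy1, rfl⟩ := hs.mem_zHat.mp hz
    have hky : Commute k y := hs.comm k hk y hy
    refine ⟨⟨⟨mul_mem (mul_mem hm (mul_mem (hd.hall.1 hk) (sigmaCore_le M hy.1))) (inv_mem hm), m * y * m⁻¹,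
      (Subgroup.mem_normalizer_iff.mp (le_normalizer_sigmaCore M hm) y).mp hy.1, fun e => hy1 ?_, ?_⟩, ?_⟩, ?_⟩
    · rw [← show m⁻¹ * (m * y * m⁻¹) * m = y by group, e]; group
    · exact (((hky.mul_left (Commute.refl y)).map (MulAut.conj m)) : _).eq
    · rintro ⟨k', hk', -, m', -, e⟩
      have h1 : orderOf (k * y) = orderOf k' := by rw [← orderOf_conj_eq m (k * y), e, orderOf_conj_eq]
      obtain ⟨q, hq, hqd⟩ := Nat.exists_prime_and_dvd (show orderOf y ≠ 1 by rwa [ne_eq, orderOf_eq_one_iff])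
      refine hs.part_left hk' q hq ?_ (hs.part_right hy q hq hqd)
      rw [← h1, hky.orderOf_mul_eq_mul_orderOf_of_coprime (hs.coprime_orderOf hk hy)]
      exact hqd.trans (dvd_mul_left _ _)
    · rintro ⟨-, hN'⟩
      have h2 : k * y ∈ N := (Subgroup.mem_normalizer_iff.mp (hNM hm) _).mpr hN'
      have h3 : k ∈ N := by
        have := N.mul_mem h2 (N.inv_mem (Subgroup.mem_sup_right (Subgroup.mem_inf.mp hy).1))
        rwa [mul_inv_cancel_right] at this
      exact hk1 (Subgroup.mem_bot.mp (hdisj.le (Subgroup.mem_inf.mpr ⟨hk, h3⟩)))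
  · rintro ⟨⟨⟨haM, y, hyσ, hy1, hay⟩, hnot⟩, hnA⟩
    have haN : a ∉ N := fun e => hnA ⟨⟨haM, y, hyσ, hy1, hay⟩, e⟩
    -- a prime of `κ(M)` divides the order of `a`
    obtain ⟨k₀, hk₀, n₀, hn₀, ea⟩ := exists_kappa_mul hd haM
    have hndvd : ¬ (orderOf a).Coprime (Nat.card K) := by
      intro hco
      haveI : (N.subgroupOf M).Normal := Subgroup.normal_subgroupOf_iff_le_normalizer
        (sup_le hd.compl.1 (sigmaCore_le M)) |>.mpr hNM
      have h1 : (QuotientGroup.mk' (N.subgroupOf M)) ⟨a, haM⟩ = QuotientGroup.mk' (N.subgroupOf M) ⟨k₀, hd.hall.1 hk₀⟩ := by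
        refine (QuotientGroup.eq.mpr ?_)
        rw [Subgroup.mem_subgroupOf]
        show a⁻¹ * k₀ ∈ N
        rw [ea, show (k₀ * n₀)⁻¹ * k₀ = n₀⁻¹ by group]
        exact inv_mem hn₀
      have h2 : orderOf (QuotientGroup.mk' (N.subgroupOf M) ⟨a, haM⟩) ∣ orderOf a := by
        rw [← Subgroup.orderOf_mk a haM]; exact orderOf_map_dvd _ _
      have h3 : orderOf (QuotientGroup.mk' (N.subgroupOf M) ⟨a, haM⟩) ∣ Nat.card K := by
        rw [h1]
        exact (orderOf_map_dvd _ _).trans (by rw [Subgroup.orderOf_mk]; exact Subgroup.orderOf_dvd_natCard K hk₀)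
      have h4 := orderOf_eq_one_iff.mp (Nat.eq_one_of_dvd_coprimes hco h2 h3)
      exact haN (Subgroup.mem_subgroupOf.mp ((QuotientGroup.eq_one_iff (⟨a, haM⟩ : M)).mp h4))
    obtain ⟨p, hp, hpa, hpK⟩ := Nat.Prime.not_coprime_iff_dvd.mp hndvd
    haveI := Fact.mk hp
    set u := a ^ (orderOf a / p)
    have hu : orderOf u = p := orderOf_pow_orderOf_div (orderOf_pos a).ne' hpa
    haveI := Core.BG.isSolvable_proper hG hM.1
    obtain ⟨m, hm, hmu⟩ := exists_conj_le_hallOf hd.hall (Q := Subgroup.zpowers u)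
      (Subgroup.zpowers_le.mpr (pow_mem haM _))
      (fun q hq hqd => by
        rw [Nat.card_zpowers, hu] at hqd
        rw [(Nat.prime_dvd_prime_iff_eq hq hp).mp hqd]
        exact hd.hall.2.1 p hp hpK)
    refine ⟨m⁻¹, inv_mem hm, m * a * m⁻¹, ?_, by group⟩
    have hku : m * u * m⁻¹ ∈ K := hmu (Subgroup.mem_map_of_mem _ (Subgroup.mem_zpowers u))
    have hku1 : m * u * m⁻¹ ≠ 1 := fun e => by
      have : u = 1 := by rw [← show m⁻¹ * (m * u * m⁻¹) * m = u by group, e]; group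
      rw [this, orderOf_one] at hu
      exact hp.one_lt.ne hu
    have hmem : m * a * m⁻¹ ∈ K ⊔ Y := (inf_centralizer_kappa hG hpl hM hd.hall hku hku1).le
      (Subgroup.mem_inf.mpr ⟨mul_mem (mul_mem hm haM) (inv_mem hm), Subgroup.mem_centralizer_singleton_iff.mpr
        ((Commute.self_pow a (orderOf a / p)).map (MulAut.conj m)).eq⟩)
    refine ⟨hmem, ?_⟩
    rintro (hc | hc)
    · refine hnot ⟨m * a * m⁻¹, hc, fun e => haN ?_, m⁻¹, inv_mem hm, by group⟩
      rw [show a = m⁻¹ * (m * a * m⁻¹) * m by group, e, mul_one, inv_mul_cancel]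
      exact N.one_mem
    · exact haN ((Subgroup.mem_normalizer_iff.mp (hNM hm) a).mpr (Subgroup.mem_sup_right (Subgroup.mem_inf.mp hc).1))

theorem conj_zHat_ti (hK : IsPiHallOf (kappa M) K M) (h : IsPartner M K L) :
    IsTISubset {a : G | ∃ m ∈ M, ∃ z ∈ zHat K (sigmaCore M ⊓ Subgroup.centralizer (K : Set G)),
      a = m * z * m⁻¹} := by
  intro g hg x hx hgx
  exfalso
  obtain ⟨m, hm, z, hz, rfl⟩ := hx
  obtain ⟨m', hm', z', hz', e⟩ := hgx
  have h1 : (m'⁻¹ * g * m) * z * (m'⁻¹ * g * m)⁻¹ = z' := by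
    rw [show (m'⁻¹ * g * m) * z * (m'⁻¹ * g * m)⁻¹ = m'⁻¹ * (g * (m * z * m⁻¹) * g⁻¹) * m' by group, e]
    group
  have h2 : m'⁻¹ * g * m ∈ M := (h.inter.ge.trans inf_le_left) (h.zHat_conj hG hpl hK hz (h1 ▸ hz'))
  have hgM : g ∈ M := by
    have := mul_mem (mul_mem hm' h2) (inv_mem hm)
    rwa [show m' * (m'⁻¹ * g * m) * m⁻¹ = g by group] at this
  refine hg (Subgroup.mem_set_normalizer_iff.mpr fun a => ⟨?_, ?_⟩)
  · rintro ⟨n, hn, w, hw, rfl⟩
    exact ⟨g * n, mul_mem hgM hn, w, hw, by group⟩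
  · rintro ⟨n, hn, w, hw, ew⟩
    refine ⟨g⁻¹ * n, mul_mem (inv_mem hgM) hn, w, hw, ?_⟩
    rw [show a = g⁻¹ * (g * a * g⁻¹) * g by group, ew]
    group

theorem inf_conj_kappa (hM : IsCoatom M) (hK : IsPiHallOf (kappa M) K M) {g : G} (hg : g ∈ M)
    (hgZ : g ∉ K ⊔ (sigmaCore M ⊓ Subgroup.centralizer (K : Set G))) : K ⊓ cj g K = ⊥ := by
  by_contra hne
  obtain ⟨x, hx, hx1⟩ := (Subgroup.bot_or_exists_ne_one _).resolve_left hne
  obtain ⟨p, hp, -, P, hP, hPx⟩ := exists_prime_le_zpowers hx1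
  haveI := Fact.mk hp
  have hPK : P ≤ K := hPx.trans (Subgroup.zpowers_le.mpr (Subgroup.mem_inf.mp hx).1)
  have hPg : cj g⁻¹ P ≤ K := cj_le_iff.mpr (by rw [inv_inv]; exact hPx.trans (Subgroup.zpowers_le.mpr (Subgroup.mem_inf.mp hx).2))
  have hgN : g⁻¹ ∈ Subgroup.normalizer (P : Set G) :=
    mem_normalizer_of_isCyclic ((kappa_hall hG hpl hM).2 K hK) hPK hPg
  have hpt : p ∈ tau1 M := kappa_subset_tau1 hG hpl hM (hK.2.1 p hp (hP ▸ Subgroup.card_dvd_of_le hPK))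
  exact hgZ ((inf_centralizer_prime_kappa hG hpl hM hK hP hPK).le ⟨hg,
    inf_normalizer_le_centralizer hG hpl hpt hP (hPK.trans hK.1) (Subgroup.mem_inf.mpr ⟨hg, (Subgroup.inv_mem_iff _).mp hgN⟩)⟩)

/-- No Sylow subgroup of `G` lies in `C_{M_σ}(K)`. -/
theorem sylow_not_le (hM : IsCoatom M) (hK : IsPiHallOf (kappa M) K M) (hK1 : K ≠ ⊥) (h : IsPartner M K L)
    {t : ℕ} [ht : Fact t.Prime] (S : Sylow t G) (htd : t ∣ Nat.card ↥(sigmaCore M ⊓ Subgroup.centralizer (K : Set G))) :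
    ¬ (S : Subgroup G) ≤ sigmaCore M ⊓ Subgroup.centralizer (K : Set G) := by
  intro hle
  set Y := sigmaCore M ⊓ Subgroup.centralizer (K : Set G) with hY
  have htG : t ∣ Nat.card G := htd.trans (Subgroup.card_subgroup_dvd_card Y)
  refine normalizer_sylow_not_le_centralizer hG S htG fun n hn => ?_
  obtain ⟨x, hx⟩ := exists_prime_orderOf_dvd_card' t (S.dvd_card_of_dvd_card htG)
  set X := Subgroup.zpowers (x : G)
  have hX : Nat.card X = t := by rw [Nat.card_zpowers, Subgroup.orderOf_coe, hx]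
  have hXS : X ≤ (S : Subgroup G) := Subgroup.zpowers_le.mpr x.2
  have hcyc : IsCyclic (S : Subgroup G) := by
    haveI := h.cyclic
    exact isCyclic_of_injective (Subgroup.inclusion (hle.trans (le_sup_right : Y ≤ K ⊔ Y))) (Subgroup.inclusion_injective _)
  have hnX : n ∈ Subgroup.normalizer (X : Set G) :=
    mem_normalizer_of_isCyclic hcyc hXS ((cj_mono hXS).trans (cj_eq_iff.mpr hn).le)
  have hnM : n ∈ M := ((h.onlyX t X hX (hXS.trans hle)).2.mono (Subgroup.centralizer_le_normalizer _)).le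
    (Core.BG.normalizer_ne_top_of_isPGroup hG (ne_bot_of_card_prime hX) (isPGroup_of_card_prime hX)) hnX
  obtain ⟨p, hp, hpK⟩ := Nat.exists_prime_and_dvd fun e => hK1 (Subgroup.eq_bot_of_card_eq _ e)
  haveI := Fact.mk hp
  obtain ⟨π₀, hπ₀⟩ := exists_prime_orderOf_dvd_card' p hpK
  set P := Subgroup.zpowers (π₀ : G)
  have hP : Nat.card P = p := by rw [Nat.card_zpowers, Subgroup.orderOf_coe, hπ₀]
  have hPK : P ≤ K := Subgroup.zpowers_le.mpr π₀.2
  have hpt : p ∈ tau1 M := kappa_subset_tau1 hG hpl hM (hK.2.1 p hp hpK)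
  set W := M ⊓ Subgroup.centralizer ((S : Subgroup G) : Set G) with hW
  have hPW : P ≤ W := le_inf (hPK.trans hK.1) (Subgroup.le_centralizer_iff.mp
    ((hle.trans inf_le_right).trans (Subgroup.centralizer_le hPK)))
  have hnW : cj n P ≤ W := by
    intro a ha
    rw [mem_cj] at ha
    obtain ⟨hb, hbC⟩ := Subgroup.mem_inf.mp (hPW ha)
    refine Subgroup.mem_inf.mpr ⟨?_, Subgroup.mem_centralizer_iff.mpr fun s hs => ?_⟩
    · have := mul_mem (mul_mem hnM hb) (inv_mem hnM)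
      rwa [show n * (n⁻¹ * a * n) * n⁻¹ = a by group] at this
    · have := Subgroup.mem_centralizer_iff.mp hbC (n⁻¹ * s * n)
        ((Subgroup.mem_set_normalizer_iff''.mp hn s).mp hs)
      calc s * a = n * ((n⁻¹ * s * n) * (n⁻¹ * a * n)) * n⁻¹ := by group
        _ = n * ((n⁻¹ * a * n) * (n⁻¹ * s * n)) * n⁻¹ := by rw [this]
        _ = a * s := by group
  -- the two subgroups of order `p` are conjugate in `W`
  obtain ⟨Q, hQ⟩ := exists_sylow_map_ge (isPGroup_of_card_prime hP) hPW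
  obtain ⟨Q', hQ'⟩ := exists_sylow_map_ge ((isPGroup_of_card_prime hP).map (MulAut.conj n).toMonoidHom) hnW
  obtain ⟨c, hc⟩ := MulAction.exists_smul_eq W Q' Q
  have hQc : IsCyclic ↥((Q : Subgroup W).map W.subtype) := by
    refine isCyclic_of_tau1 hG hpl hM ((Subgroup.map_subtype_le _).trans inf_le_left) fun q hq hd => ?_
    exact mem_of_pGroup (Q.isPGroup'.map W.subtype) hpt q hq hd
  have hmove : cj (c : G) (cj n P) ≤ (Q : Subgroup W).map W.subtype := by
    refine (cj_mono hQ').trans ?_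
    rw [← hc, Sylow.coe_subgroup_smul, Core.conj_smul_eq_map]
    rintro _ ⟨_, ⟨w, hw, rfl⟩, rfl⟩
    exact ⟨c * w * c⁻¹, ⟨w, hw, rfl⟩, rfl⟩
  have heq : cj ((c : G) * n) P = P := by
    rw [cj_mul]
    exact OddLocal.eq_of_card_eq_of_isCyclic hQc hmove hQ (by rw [card_cj, card_cj])
  obtain ⟨hcM, hcS⟩ := Subgroup.mem_inf.mp c.2
  have hcn : (c : G) * n ∈ Subgroup.centralizer ((S : Subgroup G) : Set G) := by
    have h1 : (c : G) * n ∈ K ⊔ Y := (inf_centralizer_prime_kappa hG hpl hM hK hP hPK).le ⟨mul_mem hcM hnM,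
      inf_normalizer_le_centralizer hG hpl hpt hP (hPK.trans hK.1) ⟨mul_mem hcM hnM, cj_eq_iff.mp heq⟩⟩
    exact Subgroup.mem_centralizer_iff.mpr fun s hs =>
      h.mem_comm hG hpl (Subgroup.mem_sup_right (hle hs)) h1
  have := mul_mem (inv_mem hcS) hcn
  rwa [inv_mul_cancel_left] at this

end IsPartner

end Cfsg.Agent.OddLocal.Sigma
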