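import Cfsg.Agent.OddLocal.Sigma.Tilde
import Cfsg.Agent.OddLocal.Sigma.HallFusion
import Cfsg.Agent.OddLocal.Sigma.PartnerRows

/-! The covering of `G` by the sets `M̃_σ` and the conjugates of `Ẑ` (BG 14.9). -/

set_option autoImplicit false
set_option linter.style.haveILetI false
set_option linter.unusedSectionVars false

namespace Cfsg.Agent.OddLocal.Sigma

open Cfsg

variable {G : Type*} [Group G] [Finite G]

theorem exists_split_nat (π : Set ℕ) (n : ℕ) :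
    0 < n → ∃ a b : ℕ, n = a * b ∧ a.Coprime b ∧ (∀ q : ℕ, q.Prime → q ∣ a → q ∈ π) ∧
      ∀ q : ℕ, q.Prime → q ∣ b → q ∉ π := by
  induction n using Nat.recOnPrimeCoprime with
  | zero => intro h; exact absurd h (lt_irrefl 0)
  | prime_pow p k hp =>
    intro _
    by_cases h : p ∈ π
    · exact ⟨p ^ k, 1, (mul_one _).symm, Nat.coprime_one_right _,
        fun q hq hd => (Nat.prime_dvd_prime_iff_eq hq hp).mp (hq.dvd_of_dvd_pow hd) ▸ h,
        fun q hq hd => absurd hd hq.not_dvd_one⟩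
    · exact ⟨1, p ^ k, (one_mul _).symm, Nat.coprime_one_left _, fun q hq hd => absurd hd hq.not_dvd_one,
        fun q hq hd => (Nat.prime_dvd_prime_iff_eq hq hp).mp (hq.dvd_of_dvd_pow hd) ▸ h⟩
  | coprime m n hm hn _ ihm ihn =>
    intro _
    obtain ⟨a, b, rfl, hab, ha, hb⟩ := ihm (Nat.lt_of_lt_of_le Nat.zero_lt_one hm.le)
    obtain ⟨c, d, rfl, hcd, hc, hd⟩ := ihn (Nat.lt_of_lt_of_le Nat.zero_lt_one hn.le)
    refine ⟨a * c, b * d, by ring, Nat.coprime_of_dvd fun q hq h1 h2 => ?_, fun q hq h => ?_, fun q hq h => ?_⟩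
    · have h1' : q ∈ π := (hq.dvd_mul.mp h1).elim (ha q hq) (hc q hq)
      exact (hq.dvd_mul.mp h2).elim (fun h => hb q hq h h1') (fun h => hd q hq h h1')
    · exact (hq.dvd_mul.mp h).elim (ha q hq) (hc q hq)
    · exact (hq.dvd_mul.mp h).elim (hb q hq) (hd q hq)

/-- The `π`-part and the `π'`-part of an element, as powers of it. -/
theorem exists_split_elt (π : Set ℕ) (g : G) :
    ∃ i j : ℕ, g = g ^ i * g ^ j ∧ (∀ q : ℕ, q.Prime → q ∣ orderOf (g ^ i) → q ∈ π) ∧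
      ∀ q : ℕ, q.Prime → q ∣ orderOf (g ^ j) → q ∉ π := by
  obtain ⟨a, b, hab, hco, ha, hb⟩ := exists_split_nat π (orderOf g) (orderOf_pos g)
  obtain ⟨i, hi1, hi0⟩ := Nat.chineseRemainder hco 1 0
  obtain ⟨j, hj0, hj1⟩ := Nat.chineseRemainder hco 0 1
  refine ⟨i, j, ?_, fun q hq hd => ha q hq (hd.trans (orderOf_dvd_of_pow_eq_one ?_)),
    fun q hq hd => hb q hq (hd.trans (orderOf_dvd_of_pow_eq_one ?_))⟩
  · rw [← pow_add]
    conv_lhs => rw [← pow_one g]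
    refine pow_eq_pow_iff_modEq.mpr ?_
    rw [hab]
    refine ((Nat.modEq_and_modEq_iff_modEq_mul hco).mp ⟨?_, ?_⟩).symm
    · simpa using hi1.add hj0
    · simpa using hi0.add hj1
  · rw [← pow_mul, orderOf_dvd_iff_pow_eq_one.mp]
    rw [hab]
    exact mul_comm a b ▸ Nat.mul_dvd_mul_right (Nat.modEq_zero_iff_dvd.mp hi0) a
  · rw [← pow_mul, orderOf_dvd_iff_pow_eq_one.mp]
    rw [hab]
    exact Nat.mul_dvd_mul_right (Nat.modEq_zero_iff_dvd.mp hj0) b

theorem tildeOf_conj {M : Subgroup G} {A : Set G} {u : G} (c : G) (h : u ∈ tildeOf M A) :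
    c * u * c⁻¹ ∈ tildeOf M A := by
  obtain ⟨a, ha, r, hr, y, rfl⟩ := h
  exact ⟨a, ha, r, hr, c * y, by group⟩

theorem zClass_conj {K Y : Subgroup G} {u : G} (c : G) (h : u ∈ zClass K Y) : c * u * c⁻¹ ∈ zClass K Y := by
  obtain ⟨g, z, hz, rfl⟩ := h
  exact ⟨c * g, z, hz, by group⟩

theorem zHat_comm (K Y : Subgroup G) : zHat K Y = zHat Y K := by
  unfold zHat
  rw [sup_comm K Y, Set.union_comm]

section
variable (hG : IsMinSimpleOddOrder G)
include hG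

theorem exists_mem_sigma {p : ℕ} [hp : Fact p.Prime] (hd : p ∣ Nat.card G) :
    ∃ M : Subgroup G, IsCoatom M ∧ p ∈ sigma M := by
  obtain ⟨S⟩ := (inferInstance : Nonempty (Sylow p G))
  have hpS : p ∣ Nat.card (S : Subgroup G) := S.dvd_card_of_dvd_card hd
  have hS1 : (S : Subgroup G) ≠ ⊥ := fun e => hp.out.not_dvd_one (by rwa [e, Subgroup.card_bot] at hpS)
  obtain ⟨M, hM, hSM⟩ := (eq_top_or_exists_le_coatom (Subgroup.normalizer ((S : Subgroup G) : Set G))).resolve_left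
    (Core.BG.normalizer_ne_top_of_isPGroup hG hS1 S.isPGroup')
  have hle : (S : Subgroup G) ≤ M := Subgroup.le_normalizer.trans hSM
  exact ⟨M, hM, hp.out, hpS.trans (Subgroup.card_dvd_of_le hle), S.subtype hle, by
    rwa [Sylow.coe_subtype, Subgroup.subgroupOf_map_subtype, inf_eq_left.mpr hle]⟩

variable (hpl : ∀ (p : ℕ) [Fact p.Prime] (H : Subgroup G), H ≠ ⊤ → PLengthLE p 1 H)
include hpl

theorem cover_step {H : Subgroup G} (hH : IsCoatom H) {x u : G} (hx : x ∈ sigmaCore H) (hx1 : x ≠ 1) (hu : u ∈ H)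
    (hc : u * x = x * u) (hσ : ∀ q : ℕ, q.Prime → q ∣ orderOf u → q ∉ sigma H) :
    (∃ N : Subgroup G, IsCoatom N ∧ x * u ∈ tildeOf N ((sigmaCore N : Set G) \ {1})) ∨
      ((kappa H).Nonempty ∧ ∀ K : Subgroup G, IsPiHallOf (kappa H) K H →
        x * u ∈ zClass K (sigmaCore H ⊓ Subgroup.centralizer (K : Set G))) := by
  by_cases hu1 : u = 1
  · exact Or.inl ⟨H, hH, x, ⟨hx, hx1⟩, 1, one_mem _, 1, by rw [hu1]; group⟩
  have hcl : ∀ q : ℕ, q.Prime → q ∣ orderOf u → q ∈ kappa H ∨ q ∈ tau2 H := fun q hq hd =>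
    fixed_elt_classes hG hpl hH hu hx hx1 hc hq hd (hσ q hq hd)
  by_cases hall : ∃ p : ℕ, p.Prime ∧ p ∣ orderOf u ∧ p ∈ kappa H
  · obtain ⟨p, hp, hd, hpκ⟩ := hall
    haveI := Fact.mk hp
    have hκ : ∀ q : ℕ, q.Prime → q ∣ orderOf u → q ∈ kappa H := by
      refine fun q hq hqd => (hcl q hq hqd).resolve_right fun hqτ => hx1 ?_
      haveI := Fact.mk hq
      set z := u ^ (orderOf u / p)
      have hz : orderOf z = p := orderOf_pow_orderOf_div (orderOf_pos u).ne' hd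
      have hw : orderOf (u ^ (orderOf u / q)) = q := orderOf_pow_orderOf_div (orderOf_pos u).ne' hqd
      have hxP : x ∈ Subgroup.centralizer (Subgroup.zpowers z : Set G) := by
        rw [← centralizer_singleton_eq rfl, Subgroup.mem_centralizer_singleton_iff]
        exact ((show Commute u x from hc).pow_left _).eq.symm
      refine Subgroup.mem_bot.mp ((tau12_regular hG hpl hH (kappa_subset_tau1 hG hpl hH hpκ)
        (P := Subgroup.zpowers z) (by rw [Nat.card_zpowers, hz]) (Subgroup.zpowers_le.mpr (pow_mem hu _)) hqτ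
        (Z := Subgroup.zpowers (u ^ (orderOf u / q))) (Subgroup.zpowers_le.mpr (pow_mem hu _))
        (by rw [Nat.card_zpowers, hw]) (Subgroup.zpowers_le.mpr ?_)).le (Subgroup.mem_inf.mpr ⟨hx, hxP⟩))
      rw [← centralizer_singleton_eq rfl, Subgroup.mem_centralizer_singleton_iff]
      exact ((Commute.refl u).pow_pow _ _).eq
    refine Or.inr ⟨⟨p, hpκ⟩, fun K hK => ?_⟩
    haveI := Core.BG.isSolvable_proper hG hH.1
    obtain ⟨m, hm, hmu⟩ := exists_conj_le_hallOf hK (Q := Subgroup.zpowers u) (Subgroup.zpowers_le.mpr hu)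
      (fun q hq hqd => hκ q hq (by rwa [Nat.card_zpowers] at hqd))
    have hmK : m * u * m⁻¹ ∈ K := hmu (Subgroup.mem_map_of_mem _ (Subgroup.mem_zpowers u))
    have hmu1 : m * u * m⁻¹ ≠ 1 := fun e => hu1 (conj_eq_one_iff.mp e)
    have hK1 : K ≠ ⊥ := fun e => hmu1 (Subgroup.mem_bot.mp (e ▸ hmK))
    obtain ⟨L, hp'⟩ := exists_partner hG hpl hH hK hK1
    have hmx : m * x * m⁻¹ ∈ sigmaCore H ⊓ Subgroup.centralizer (K : Set G) := by
      rw [← (kappa_hall_facts hG hpl hH hK hK1).2.2.2 _ hmK hmu1]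
      refine ⟨(Subgroup.mem_normalizer_iff.mp (le_normalizer_sigmaCore H hm) x).mp hx,
        Subgroup.mem_centralizer_singleton_iff.mpr ?_⟩
      rw [show m * x * m⁻¹ * (m * u * m⁻¹) = m * (x * u) * m⁻¹ by group, ← hc]
      group
    refine ⟨m⁻¹, m * u * m⁻¹ * (m * x * m⁻¹), (hp'.split hG hpl hK).mem_zHat.mpr
      ⟨_, hmK, hmu1, _, hmx, fun e => hx1 (conj_eq_one_iff.mp e), rfl⟩, ?_⟩
    rw [← hc]
    group
  push Not at hall
  have hτ : ∀ q : ℕ, q.Prime → q ∣ orderOf u → q ∈ tau2 H := fun q hq hd =>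
    (hcl q hq hd).resolve_left (hall q hq hd)
  obtain ⟨L, hL, hLσ⟩ := exists_sigma_tau2 hG hpl hH
  have hU : Subgroup.zpowers u ≠ ⊥ := fun e => hu1 (Subgroup.zpowers_eq_bot.mp e)
  obtain ⟨g, hg⟩ := exists_cj_le_of_sigma hG hpl hL hU
    (fun q hq hd => hLσ (hτ q hq (by rwa [Nat.card_zpowers] at hd)))
  have hg' : u ∈ cj g⁻¹ L := mem_cj.mpr (by
    rw [inv_inv]
    exact hg ⟨u, Subgroup.mem_zpowers u, rfl⟩)
  have hL' := isCoatom_cj hL g⁻¹
  have huσ : u ∈ sigmaCore (cj g⁻¹ L) := le_sigmaCore hG hL' (Subgroup.zpowers_le.mpr hg') (fun q hq hd => by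
    rw [sigma_eq_of_cj]
    exact hLσ (hτ q hq (by rwa [Nat.card_zpowers] at hd))) (Subgroup.mem_zpowers u)
  obtain ⟨E, hE, -⟩ := exists_compl_ge hG hH (bot_le : (⊥ : Subgroup G) ≤ H) (fun q hq hd => by
    rw [Subgroup.card_bot] at hd; exact absurd hd hq.not_dvd_one)
  obtain ⟨hCu, honly⟩ := only_centralizer_of_tau2 hG hpl hH hE hu hu1 hτ ⟨hu, x, hx, hx1, hc⟩
  refine Or.inl ⟨cj g⁻¹ L, hL', ?_⟩
  have hnot : ¬ Subgroup.centralizer ({u} : Set G) ≤ cj g⁻¹ L := fun hle => by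
    obtain ⟨q, hq, hd⟩ := Nat.exists_prime_and_dvd (show orderOf u ≠ 1 by rwa [ne_eq, orderOf_eq_one_iff])
    refine hσ q hq hd ?_
    rw [← honly _ hL' hle, sigma_eq_of_cj]
    exact hLσ (hτ q hq hd)
  obtain ⟨N, hN⟩ := exists_support hG hpl hL' huσ hu1 hnot
  have hNH : H = N := hN.only H hH hCu
  refine ⟨u, ⟨huσ, hu1⟩, x, ?_, 1, by rw [← hc]; group⟩
  rw [hN.supportR_eq hG hpl, ← hNH]
  exact ⟨hx, Subgroup.mem_centralizer_singleton_iff.mpr hc.symm⟩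

/-- Every non-identity element has a conjugate `x u` with `x ∈ H_σ#` and `u ∈ H` a `σ(H)'`-element. -/
theorem exists_step {g : G} (hg : g ≠ 1) :
    ∃ (H : Subgroup G) (x u c : G), IsCoatom H ∧ x ∈ sigmaCore H ∧ x ≠ 1 ∧ u ∈ H ∧ u * x = x * u ∧
      (∀ q : ℕ, q.Prime → q ∣ orderOf u → q ∉ sigma H) ∧ g = c * (x * u) * c⁻¹ := by
  obtain ⟨p, hp, hd⟩ := Nat.exists_prime_and_dvd (show orderOf g ≠ 1 by rwa [ne_eq, orderOf_eq_one_iff])
  haveI := Fact.mk hp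
  obtain ⟨M, hM, hpM⟩ := exists_mem_sigma hG (p := p) (hd.trans (orderOf_dvd_natCard g))
  obtain ⟨i, j, hij, hi, hj⟩ := exists_split_elt (sigma M) g
  have hgi : g ^ i ≠ 1 := fun e => by
    rw [e, one_mul] at hij
    exact hj p hp (hij ▸ hd) hpM
  obtain ⟨c, hc⟩ := exists_cj_le_of_sigma hG hpl hM
    (show Subgroup.zpowers (g ^ i) ≠ ⊥ from fun e => hgi (Subgroup.zpowers_eq_bot.mp e))
    (fun q hq hd => hi q hq (by rwa [Nat.card_zpowers] at hd))
  have hxM : c * g ^ i * c⁻¹ ∈ M := hc ⟨g ^ i, Subgroup.mem_zpowers _, rfl⟩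
  set g' := c * g * c⁻¹ with hg'def
  have hg'i : g' ^ i = c * g ^ i * c⁻¹ := conj_pow
  have hg'j : g' ^ j = c * g ^ j * c⁻¹ := conj_pow
  have hσmem : ∀ {H : Subgroup G}, IsCoatom H → ∀ {a : G}, a ∈ H →
      (∀ q : ℕ, q.Prime → q ∣ orderOf a → q ∈ sigma H) → a ∈ sigmaCore H := fun {H} hH {a} haH ha =>
    le_sigmaCore hG hH (Subgroup.zpowers_le.mpr haH) (fun q hq hd => ha q hq (by rwa [Nat.card_zpowers] at hd))
      (Subgroup.mem_zpowers a)
  -- it suffices to treat a conjugate of `g'` lying in a maximal subgroup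
  suffices h : ∃ (H : Subgroup G) (c' : G) (a b : ℕ), IsCoatom H ∧ c' * g' * c'⁻¹ ∈ H ∧ g' = g' ^ a * g' ^ b ∧
      (∀ q : ℕ, q.Prime → q ∣ orderOf (g' ^ a) → q ∈ sigma H) ∧
      (∀ q : ℕ, q.Prime → q ∣ orderOf (g' ^ b) → q ∉ sigma H) ∧ g' ^ a ≠ 1 by
    obtain ⟨H, c', a, b, hH, hmem, hab, ha, hb, ha1⟩ := h
    set g'' := c' * g' * c'⁻¹ with hg''def
    have hga : g'' ^ a = c' * g' ^ a * c'⁻¹ := conj_pow
    have hgb : g'' ^ b = c' * g' ^ b * c'⁻¹ := conj_pow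
    refine ⟨H, g'' ^ a, g'' ^ b, (c' * c)⁻¹, hH, hσmem hH (pow_mem hmem a) (fun q hq hqd => ?_), ?_,
      pow_mem hmem b, ((Commute.refl g'').pow_pow b a).eq, fun q hq hqd => ?_, ?_⟩
    · rw [hga, orderOf_conj_eq] at hqd; exact ha q hq hqd
    · rw [hga]; exact fun e => ha1 (conj_eq_one_iff.mp e)
    · rw [hgb, orderOf_conj_eq] at hqd; exact hb q hq hqd
    · rw [hga, hgb, show c' * g' ^ a * c'⁻¹ * (c' * g' ^ b * c'⁻¹) = c' * (g' ^ a * g' ^ b) * c'⁻¹ by group, ← hab,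
        hg'def]
      group
  have hsplit : g' = g' ^ i * g' ^ j := by
    rw [hg'i, hg'j, show c * g ^ i * c⁻¹ * (c * g ^ j * c⁻¹) = c * (g ^ i * g ^ j) * c⁻¹ by group, ← hij]
  have hio : ∀ q : ℕ, q.Prime → q ∣ orderOf (g' ^ i) → q ∈ sigma M := fun q hq hd => by
    rw [hg'i, orderOf_conj_eq] at hd; exact hi q hq hd
  have hjo : ∀ q : ℕ, q.Prime → q ∣ orderOf (g' ^ j) → q ∉ sigma M := fun q hq hd => by
    rw [hg'j, orderOf_conj_eq] at hd; exact hj q hq hd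
  have hi1 : g' ^ i ≠ 1 := by rw [hg'i]; exact fun e => hgi (conj_eq_one_iff.mp e)
  by_cases hgM : g' ∈ M
  · exact ⟨M, 1, i, j, hM, by simpa using hgM, hsplit, hio, hjo, hi1⟩
  set x := g' ^ i
  have hxσ : x ∈ sigmaCore M := hσmem hM (hg'i ▸ hxM) hio
  have hgC : g' ∈ Subgroup.centralizer ({x} : Set G) :=
    Subgroup.mem_centralizer_singleton_iff.mpr ((Commute.refl g').pow_right i).eq
  obtain ⟨N, hN⟩ := exists_support hG hpl hM hxσ hi1 fun h => hgM (h hgC)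
  have hgN : g' ∈ N := hN.le hgC
  obtain ⟨a, b, hab, ha, hb⟩ := exists_split_elt (sigma N) g'
  by_cases ha1 : g' ^ a = 1
  · -- `g'` is a `σ(N)'`-element: conjugate it into `M ∩ N`
    obtain ⟨n, -, hnE⟩ := exists_cj_le_compl hG hN.coatom hN.compl (Subgroup.zpowers_le.mpr hgN)
      (fun q hq hd => by
        rw [Nat.card_zpowers] at hd
        rw [ha1, one_mul] at hab
        rw [hab] at hd
        exact hb q hq hd)
    exact ⟨M, n, i, j, hM, (hnE ⟨g', Subgroup.mem_zpowers _, rfl⟩).1, hsplit, hio, hjo, hi1⟩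
  exact ⟨N, 1, a, b, hN.coatom, by simpa using hgN, hab, ha, hb, ha1⟩

theorem cover_of_kappa_empty (hκ : ∀ M : Subgroup G, IsCoatom M → kappa M = ∅) {g : G} (hg : g ≠ 1) :
    ∃ M : Subgroup G, IsCoatom M ∧ g ∈ tildeOf M ((sigmaCore M : Set G) \ {1}) := by
  obtain ⟨H, x, u, c, hH, hx, hx1, hu, hc, hσ, rfl⟩ := exists_step hG hpl hg
  rcases cover_step hG hpl hH hx hx1 hu hc hσ with ⟨N, hN, h⟩ | ⟨h, -⟩
  · exact ⟨N, hN, tildeOf_conj c h⟩
  · exact absurd (hκ H hH) h.ne_empty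

theorem cover {M K L : Subgroup G} (hM : IsCoatom M) (hK : IsPiHallOf (kappa M) K M) (hK1 : K ≠ ⊥)
    (h : IsPartner M K L) {g : G} (hg : g ≠ 1) :
    (∃ N : Subgroup G, IsCoatom N ∧ g ∈ tildeOf N ((sigmaCore N : Set G) \ {1})) ∨
      g ∈ zClass K (sigmaCore M ⊓ Subgroup.centralizer (K : Set G)) := by
  obtain ⟨H, x, u, c, hH, hx, hx1, hu, hc, hσ, rfl⟩ := exists_step hG hpl hg
  rcases cover_step hG hpl hH hx hx1 hu hc hσ with ⟨N, hN, h'⟩ | ⟨hne, -⟩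
  · exact Or.inl ⟨N, hN, tildeOf_conj c h'⟩
  -- move `H` to `M` or `L`
  have hmove : ∀ {A K' : Subgroup G}, IsCoatom A → IsPiHallOf (kappa A) K' A → (∃ d : G, H = cj d A) →
      (∃ N : Subgroup G, IsCoatom N ∧ c * (x * u) * c⁻¹ ∈ tildeOf N ((sigmaCore N : Set G) \ {1})) ∨
        c * (x * u) * c⁻¹ ∈ zClass K' (sigmaCore A ⊓ Subgroup.centralizer (K' : Set G)) := by
    rintro A K' hA hK' ⟨d, rfl⟩
    rw [← cj_sigmaCore hG hA] at hx
    obtain ⟨x', hx', rfl⟩ := hx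
    obtain ⟨u', hu', rfl⟩ := hu
    simp only [MulEquiv.coe_toMonoidHom, MulAut.conj_apply] at hx1 hc hσ ⊢
    have hc' : u' * x' = x' * u' := by
      refine (MulAut.conj d).injective ?_
      simp only [map_mul, MulAut.conj_apply]
      exact hc
    have hx'1 : x' ≠ 1 := fun e => hx1 (by rw [e, mul_one, mul_inv_cancel])
    have hσ' : ∀ q : ℕ, q.Prime → q ∣ orderOf u' → q ∉ sigma A := fun q hq hd => by
      rw [← sigma_eq_of_cj d]
      exact hσ q hq (by rwa [orderOf_conj_eq])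
    have e : c * (d * x' * d⁻¹ * (d * u' * d⁻¹)) * c⁻¹ = c * d * (x' * u') * (c * d)⁻¹ := by group
    rw [e]
    rcases cover_step hG hpl hA hx' hx'1 hu' hc' hσ' with ⟨N, hN, h'⟩ | ⟨-, h'⟩
    · exact Or.inl ⟨N, hN, tildeOf_conj (c * d) h'⟩
    · exact Or.inr (zClass_conj (c * d) (h' K' hK'))
  obtain ⟨d, hd | hd⟩ := h.classes hG hpl hM hK hK1 hH hne
  · exact hmove hM hK ⟨d, hd⟩
  · refine (hmove h.coatom h.hall ⟨d, hd⟩).imp id fun hz => ?_
    rw [← h.eq_K' hG hpl] at hz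
    unfold zClass at hz ⊢
    rwa [zHat_comm] at hz

/-- No conjugate of `Ẑ` meets any `M̃_σ`. -/
theorem zHat_notMem_tildeOf {M K L : Subgroup G} (hM : IsCoatom M) (hK : IsPiHallOf (kappa M) K M) (hK1 : K ≠ ⊥)
    (h : IsPartner M K L) {z : G} (hz : z ∈ zHat K (sigmaCore M ⊓ Subgroup.centralizer (K : Set G)))
    {N : Subgroup G} (hN : IsCoatom N) : z ∉ tildeOf N ((sigmaCore N : Set G) \ {1}) := by
  intro hmem
  obtain ⟨g, x, hx, hx1, r, hr, he⟩ := (mem_tildeOf_iff hG hpl hN).mp hmem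
  have hN' := isCoatom_cj hN g
  obtain ⟨-, hcx, -, -, hrσ, -⟩ := supportR_facts hG hpl hN' hx hx1
  have hxr : Commute x r := (Subgroup.mem_centralizer_singleton_iff.mp (hcx.2.1 hr)).symm
  obtain ⟨k, hk, hk1, w, hw, hw1, rfl⟩ := (h.split hG hpl hK).mem_zHat.mp hz
  have hkw : Commute k w := ((h.split hG hpl hK).comm k hk w hw)
  have hxσ : ∀ q : ℕ, q.Prime → q ∣ orderOf x → q ∈ sigma (cj g N) := fun q hq hd =>
    mem_sigma_of_dvd hq (hd.trans (Subgroup.orderOf_dvd_natCard _ hx))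
  have hwσ : ∀ q : ℕ, q.Prime → q ∣ orderOf w → q ∈ sigma M := fun q hq hd =>
    mem_sigma_of_dvd hq (hd.trans (Subgroup.orderOf_dvd_natCard _ hw.1))
  have hkσ : ∀ q : ℕ, q.Prime → q ∣ orderOf k → q ∈ sigma L := fun q hq hd =>
    mem_sigma_of_dvd hq (hd.trans (Subgroup.orderOf_dvd_natCard _ (h.le_sigma hk)))
  have hdisj : ∀ q : ℕ, q.Prime → q ∈ sigma M → q ∉ sigma L := fun q hq hqM => by
    haveI := Fact.mk hq
    exact sigma_disjoint hG hpl hM h.coatom h.nc hqM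
  -- `x` is one of the two parts
  have hpart : ∀ {A : Subgroup G} {a b : G}, IsCoatom A → a ∈ sigmaCore A → Commute a b → a * b = k * w → b ≠ 1 →
      (∀ q : ℕ, q.Prime → q ∣ orderOf b → q ∉ sigma A) → Subgroup.centralizer ({a} : Set G) ≤ A →
      ∀ q : ℕ, q.Prime → q ∈ sigma (cj g N) → q ∉ sigma A := by
    intro A a b hA ha hab hprod hb1 hb hCa
    intro q hq hqN hqA
    haveI := Fact.mk hq
    obtain ⟨d, hd⟩ : ∃ d : G, cj g N = cj d A := by
      by_contra hcon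
      push Not at hcon
      exact sigma_disjoint hG hpl hA hN' hcon hqA hqN
    have hσeq : sigma (cj g N) = sigma A := by rw [hd, sigma_eq_of_cj]
    have hxa : x = a := part_unique (π := sigma A) hxr hab (he.symm.trans hprod.symm)
      (fun t ht htd => hσeq ▸ hxσ t ht htd) (fun t ht htd => hσeq ▸ hrσ r hr t ht htd)
      (fun t ht htd => mem_sigma_of_dvd ht (htd.trans (Subgroup.orderOf_dvd_natCard _ ha))) hb
    subst hxa
    have hrb : r = b := mul_left_cancel (he.symm.trans hprod.symm)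
    rw [← supportR_indep hG hpl hA ha hx hx1 hd, supportR_eq_bot hCa, Subgroup.mem_bot] at hr
    exact hb1 (hrb ▸ hr)
  have hCw : Subgroup.centralizer ({w} : Set G) ≤ M := by
    obtain ⟨t, ht, -, X, hX, hXw⟩ := exists_prime_le_zpowers hw1
    haveI := Fact.mk ht
    refine le_trans ?_ (h.onlyX t X hX (hXw.trans (Subgroup.zpowers_le.mpr hw))).1
    rw [centralizer_singleton_eq rfl]
    exact Subgroup.centralizer_le hXw
  have hCk : Subgroup.centralizer ({k} : Set G) ≤ L := by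
    obtain ⟨t, ht, -, X, hX, hXk⟩ := exists_prime_le_zpowers hk1
    haveI := Fact.mk ht
    refine le_trans ?_ (h.onlyP t X hX (hXk.trans (Subgroup.zpowers_le.mpr hk))).1
    rw [centralizer_singleton_eq rfl]
    exact Subgroup.centralizer_le hXk
  have h1 := hpart hM hw.1 hkw.symm hkw.eq.symm hk1
    (fun q hq hd hqM => hdisj q hq hqM (hkσ q hq hd)) hCw
  have h2 := hpart h.coatom (h.le_sigma hk) hkw rfl hw1
    (fun q hq hd hqL => hdisj q hq (hwσ q hq hd) hqL) hCk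
  -- the primes of `x` divide `k w`
  obtain ⟨q, hq, hqd⟩ := Nat.exists_prime_and_dvd (show orderOf x ≠ 1 by rwa [ne_eq, orderOf_eq_one_iff])
  obtain ⟨i, hi⟩ := exists_pow_part hxr
    (Nat.coprime_of_dvd fun t ht ht1 ht2 => hrσ r hr t ht ht2 (hxσ t ht ht1))
  rw [← he] at hi
  have hdk : q ∣ orderOf k * orderOf w :=
    (hqd.trans (hi ▸ orderOf_pow_dvd i)).trans (hkw.orderOf_mul_dvd_mul_orderOf)
  rcases hq.dvd_mul.mp hdk with hd | hd
  · exact h2 q hq (hxσ q hq hqd) (hkσ q hq hd)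
  · exact h1 q hq (hxσ q hq hqd) (hwσ q hq hd)

theorem tildeOf_disjoint {M N : Subgroup G} (hM : IsCoatom M) (hN : IsCoatom N) (hnc : ∀ g : G, N ≠ cj g M) :
    tildeOf M ((sigmaCore M : Set G) \ {1}) ∩ tildeOf N ((sigmaCore N : Set G) \ {1}) = ∅ := by
  refine Set.eq_empty_iff_forall_notMem.mpr fun u hu => ?_
  obtain ⟨g, x, hx, hx1, r, hr, rfl⟩ := (mem_tildeOf_iff hG hpl hM).mp hu.1
  obtain ⟨g', y, hy, hy1, s, hs, e⟩ := (mem_tildeOf_iff hG hpl hN).mp hu.2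
  have hxy := supportR_disjoint hG hpl (isCoatom_cj hM g) (isCoatom_cj hN g') hx hy hx1 hy1 hr hs e
  subst hxy
  obtain ⟨q, hq, hqd⟩ := Nat.exists_prime_and_dvd (show orderOf x ≠ 1 by rwa [ne_eq, orderOf_eq_one_iff])
  haveI := Fact.mk hq
  refine sigma_disjoint hG hpl hM hN hnc (sigma_eq_of_cj g ▸ mem_sigma_of_dvd hq
    (hqd.trans (Subgroup.orderOf_dvd_natCard _ hx))) (sigma_eq_of_cj g' ▸ mem_sigma_of_dvd hq
    (hqd.trans (Subgroup.orderOf_dvd_natCard _ hy)))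

end

end Cfsg.Agent.OddLocal.Sigma
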