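import Cfsg.Agent.OddLocal.Sigma.NonTI
import Cfsg.Agent.OddLocal.Sigma.Tilde

/-! Primes of `π(M) ∩ σ(N)` for the support `N` of an element of `M_σ` (BG 14.4, 15.9). -/

set_option autoImplicit false
set_option linter.style.haveILetI false
set_option linter.unusedSectionVars false

namespace Cfsg.Agent.OddLocal.Sigma

open Cfsg
open scoped commutatorElement

variable {G : Type*} [Group G] [Finite G]

/-- A `p`-subgroup normalizing a Sylow `p`-subgroup lies in it. -/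
theorem le_sylow_of_le_normalizer {p : ℕ} [Fact p.Prime] {P : Subgroup G} (hP : IsPGroup p P) (T : Sylow p G)
    (h : P ≤ Subgroup.normalizer ((T : Subgroup G) : Set G)) : P ≤ (T : Subgroup G) :=
  le_sup_left.trans (T.is_maximal' (hP.to_sup_of_normal_right' T.isPGroup' h) le_sup_right).le

theorem oddAutSmall_sylow_congr {p : ℕ} [Fact p.Prime] {S T : Sylow p G}
    (h : RankTwo.OddAutSmall p (S : Subgroup G)) : RankTwo.OddAutSmall p (T : Subgroup G) :=
  RankTwo.OddAutSmall.of_hom (MulAut.congr (Sylow.equiv T S)).toMonoidHom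
    (fun a _ ha => (MulAut.congr (Sylow.equiv T S)).injective (by rw [map_one]; exact ha)) h

/-- A prime element acting non-trivially on a small group has smaller order. -/
theorem lt_of_small (hG : IsMinSimpleOddOrder G) {q r : ℕ} [hq : Fact q.Prime] [hr : Fact r.Prime] (hrq : r ≠ q)
    {T : Subgroup G} (h : RankTwo.OddAutSmall q T) (hT : IsPGroup q T) (hT1 : T ≠ ⊥) {a : G} (ha : orderOf a = r)
    (haN : a ∈ Subgroup.normalizer (T : Set G)) (hne : ¬ a ∈ Subgroup.centralizer (T : Set G)) : r < q := by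
  set f := T.normalizerMonoidHom ⟨a, haN⟩ with hf
  have hd : orderOf f ∣ r := by
    refine (orderOf_map_dvd T.normalizerMonoidHom _).trans ?_
    rw [Subgroup.orderOf_mk, ha]
  have hf1 : f ≠ 1 := fun e => hne (Subgroup.mem_centralizer_iff.mpr fun t ht => by
    have h1 := congrArg Subtype.val (DFunLike.congr_fun e ⟨t, ht⟩)
    have h2 : a * t * a⁻¹ = t := h1
    exact (mul_inv_eq_iff_eq_mul.mp h2).symm)
  have ho : orderOf f = r := ((hr.out.eq_one_or_self_of_dvd _ hd).resolve_left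
    fun e => hf1 (orderOf_eq_one_iff.mp e))
  have hq2 := ne_two_of_dvd hG ((dvd_card_of_ne_bot hT hT1).trans (Subgroup.card_subgroup_dvd_card T))
  have hr2 := ne_two_of_dvd hG (ha ▸ orderOf_dvd_natCard a)
  exact ho ▸ h.lt hq2 (ho.symm ▸ hr.out) (ho.symm ▸ hr2) (ho.symm ▸ hrq)

section
variable (hG : IsMinSimpleOddOrder G)
include hG
variable (hpl : ∀ (p : ℕ) [Fact p.Prime] (H : Subgroup G), H ≠ ⊤ → PLengthLE p 1 H)
include hpl

omit hpl in
/-- A group of odd order prime to `q` acting on a small `q`-group has derived group acting trivially. -/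
theorem derived_le_centralizer {q : ℕ} [hq : Fact q.Prime] {E T : Subgroup G} (hE : E ≠ ⊤)
    (hET : E ≤ Subgroup.normalizer (T : Set G)) (hqE : ¬ q ∣ Nat.card E) (h : RankTwo.OddAutSmall q T) :
    ⁅E, E⁆ ≤ Subgroup.centralizer (T : Set G) := by
  haveI := Core.BG.isSolvable_proper hG hE
  have hDE : ⁅E, E⁆ ≤ E := Subgroup.commutator_le.mpr fun a ha b hb =>
    mul_mem (mul_mem (mul_mem ha hb) (inv_mem ha)) (inv_mem hb)
  refine Core.le_of_forall_exists_sylow_le fun r hr => ?_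
  haveI := Fact.mk hr
  obtain ⟨R⟩ := (inferInstance : Nonempty (Sylow r ↥⁅E, E⁆))
  refine ⟨R, ?_⟩
  by_cases hd : r ∣ Nat.card ↥⁅E, E⁆
  · exact Core.BG.le_centralizer_of_oddAutSmall (fun e : r = q => hqE (e ▸ hd.trans (Subgroup.card_dvd_of_le hDE)))
      (odd_of_dvd hG (Subgroup.card_subgroup_dvd_card E)) inferInstance (R.isPGroup'.map _)
      (Subgroup.map_subtype_le _) hET h
  · have : (R : Subgroup ↥⁅E, E⁆) = ⊥ := Subgroup.eq_bot_of_card_eq _ (by
      rw [Sylow.card_eq_multiplicity, Nat.factorization_eq_zero_of_not_dvd hd, pow_zero])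
    rw [this, Subgroup.map_bot]
    exact bot_le

/-- A Sylow subgroup containing an exceptional `A` is small. -/
theorem Exc.oddAutSmall {N A A0 : Subgroup G} {q : ℕ} [hq : Fact q.Prime] (h : Exc N q A A0) (T : Sylow q G)
    (hAT : A ≤ (T : Subgroup G)) : RankTwo.OddAutSmall q (T : Subgroup G) := by
  have hA1 : A ≠ ⊥ := fun e => by
    have := h.maxEA.card; rw [e, Subgroup.card_bot] at this
    exact (Nat.one_lt_pow two_ne_zero hq.out.one_lt).ne this
  have hq2 := ne_two_of_dvd hG ((dvd_card_of_ne_bot h.maxEA.isPGroup hA1).trans (Subgroup.card_subgroup_dvd_card A))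
  by_cases hr : PRankLE q 2 (T : Subgroup G)
  · exact RankTwo.oddAutSmall_of_rankLE_two hq2 T.isPGroup' hr
  · have hmax := h.maxEA.subgroupOf hAT
    exact RankTwo.oddAutSmall_of_maxEASq hq2 T.isPGroup' hr (E := A.subgroupOf (T : Subgroup G))
      ⟨hmax.ea, hmax.card, fun B hB hle =>
        le_antisymm (fun b hb => hmax.full b (Subgroup.centralizer_le hle
          (Subgroup.le_centralizer_iff_isMulCommutative.mpr hB.1 hb)) (hB.2 b hb)) hle⟩

/-- `τ₂`-primes give small Sylow subgroups. -/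
theorem exists_small_of_tau2 {M : Subgroup G} (hM : IsCoatom M) {p : ℕ} [hp : Fact p.Prime] (hpτ : p ∈ tau2 M) :
    ∃ W : Sylow p G, RankTwo.OddAutSmall p (W : Subgroup G) := by
  obtain ⟨E, hE, -⟩ := exists_compl_ge hG hM (bot_le : (⊥ : Subgroup G) ≤ M) (fun r hr hd => by
    rw [Subgroup.card_bot] at hd; exact absurd hd hr.not_dvd_one)
  obtain ⟨B, hBE, hBe, hB2⟩ := exists_ea_le_compl hG hE hpτ
  obtain ⟨B0, hexc⟩ := exists_exc hG hpl hM hpτ.2.1 (hBE.trans hE.1) hBe hB2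
  obtain ⟨W, hW⟩ := hexc.maxEA.isPGroup.exists_le_sylow
  exact ⟨W, hexc.oddAutSmall hG hpl W hW⟩

omit hpl in
theorem kappa_cj {M : Subgroup G} (hM : IsCoatom M) {p : ℕ} (hp : p ∈ kappa M) (g : G) : p ∈ kappa (cj g M) := by
  obtain ⟨hpp, hd, hσ, hP⟩ := hp
  haveI := Fact.mk hpp
  refine ⟨hpp, by rwa [card_cj], by rwa [sigma_eq_of_cj], fun P' => ?_⟩
  set e : M ≃* ↥(cj g M) := M.equivMapOfInjective _ (MulAut.conj g).injective
  obtain ⟨hc, x, hx, hx1, y, hy, hy1, hxy⟩ := hP (P'.mapSurjective (f := e.symm.toMonoidHom) e.symm.surjective)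
  obtain ⟨x', hx', rfl⟩ : x ∈ (P' : Subgroup ↥(cj g M)).map e.symm.toMonoidHom := hx
  refine ⟨?_, x', hx', fun e1 => hx1 (by rw [e1, map_one]), MulAut.conj g y, ?_,
    fun e1 => hy1 ((MulAut.conj g).map_eq_one_iff.mp e1), ?_⟩
  · haveI : IsCyclic ((P' : Subgroup ↥(cj g M)).map e.symm.toMonoidHom) := hc
    exact isCyclic_of_injective
      ((e.symm.toMonoidHom.comp (P' : Subgroup ↥(cj g M)).subtype).codRestrict _ fun a =>
          Subgroup.mem_map_of_mem e.symm.toMonoidHom a.2)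
      (fun a b hab => Subtype.ext (e.symm.injective (congrArg Subtype.val hab)))
  · rw [← cj_sigmaCore hG hM]; exact Subgroup.mem_map_of_mem _ hy
  · have h1 : MulAut.conj g ((e.symm x' : M) : G) = (x' : G) := congrArg Subtype.val (e.apply_symm_apply x')
    rw [← h1, ← map_mul, ← map_mul]
    exact congrArg _ hxy

omit hpl in
theorem kappa_ne_of_cj {M : Subgroup G} (hM : IsCoatom M) (g : G) (h : (kappa (cj g M)).Nonempty) :
    (kappa M).Nonempty := by
  obtain ⟨p, hp⟩ := h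
  refine ⟨p, ?_⟩
  have := kappa_cj hG (isCoatom_cj hM g) hp g⁻¹
  rwa [← cj_mul, inv_mul_cancel, cj_one] at this

namespace IsSupport

variable {M N : Subgroup G} {x : G}

/-- The exceptional pair and the normal Sylow subgroup attached to a support. -/
theorem frame (h : IsSupport M N x) (hM : IsCoatom M) (hx1 : x ≠ 1) (hn : Group.IsNilpotent (sigmaCore M)) :
    ∃ (q : ℕ) (A A0 : Subgroup G), q.Prime ∧ q ∈ tau2 N ∧ q ∈ sigma M ∧ A ≤ M ⊓ N ∧ Exc N q A A0 ∧
      ∀ _ : Fact q.Prime, ∃ T : Sylow q G, (T : Subgroup G) ≤ sigmaCore M ∧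
        M ≤ Subgroup.normalizer ((T : Subgroup G) : Set G) ∧ A ≤ (T : Subgroup G) ∧
        RankTwo.OddAutSmall q (T : Subgroup G) ∧ Subgroup.centralizer (A : Set G) ≤ N := by
  obtain ⟨q, hq, hd⟩ := Nat.exists_prime_and_dvd (show orderOf x ≠ 1 by rwa [ne_eq, orderOf_eq_one_iff])
  haveI := Fact.mk hq
  obtain ⟨hqτ, hqσ⟩ := h.tau2_primes q hq hd
  obtain ⟨A, hAE, hAe, hA2⟩ := exists_ea_le_compl hG h.compl hqτ
  obtain ⟨A0, hexc⟩ := exists_exc hG hpl h.coatom hqτ.2.1 (hAE.trans h.compl.1) hAe hA2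
  refine ⟨q, A, A0, hq, hqτ, hqσ, hAE, hexc, fun _ => ?_⟩
  haveI := hn
  obtain ⟨T, hT, hMT⟩ := le_normalizer_sylow_of_nilpotent' hG hM hqσ
  have hAT := le_sylow_of_le_normalizer hexc.maxEA.isPGroup T ((hAE.trans inf_le_left).trans hMT)
  exact ⟨T, hT, hMT, hAT, hexc.oddAutSmall hG hpl T hAT,
    centralizer_ea_sq_le hG hpl h.coatom (hAE.trans h.compl.1) hAe hA2⟩

/-- A prime of `π(M) ∩ σ(N)` has no small Sylow subgroup. -/
theorem not_small (h : IsSupport M N x) (hM : IsCoatom M) (hx1 : x ≠ 1) (hn : Group.IsNilpotent (sigmaCore M))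
    {p : ℕ} [hp : Fact p.Prime] (hpN : p ∈ sigma N) (hpM : p ∣ Nat.card M) (W : Sylow p G) :
    ¬ RankTwo.OddAutSmall p (W : Subgroup G) := by
  intro hW
  obtain ⟨q, A, A0, hq, hqτ, -, hAE, hexc, hT⟩ := h.frame hG hpl hM hx1 hn
  haveI := Fact.mk hq
  obtain ⟨T, -, hMT, hAT, hTs, hCA⟩ := hT ⟨hq⟩
  have hpq : p ≠ q := fun e => hqτ.2.1 (e ▸ hpN)
  obtain ⟨a, ha⟩ := exists_prime_orderOf_dvd_card' p hpM
  have hao : orderOf (a : G) = p := by rw [Subgroup.orderOf_coe, ha]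
  have hlt : p < q := by
    refine lt_of_small hG hpq hTs T.isPGroup' (fun e => ?_) hao (hMT a.2) fun hC => ?_
    · have hA1 := hexc.maxEA.card
      have hbot : A = ⊥ := le_bot_iff.mp (hAT.trans e.le)
      rw [hbot, Subgroup.card_bot] at hA1
      exact (Nat.one_lt_pow two_ne_zero hq.one_lt).ne hA1
    · exact complIn_notMem_sigma hG h.coatom h.compl hp.out (hao ▸ Subgroup.orderOf_dvd_natCard _
        ⟨a.2, hCA (Subgroup.centralizer_le hAT hC)⟩) hpN
  haveI := h.nilpotent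
  obtain ⟨S, hSσ, hNS⟩ := le_normalizer_sylow_of_nilpotent' hG h.coatom hpN
  have hS1 : (S : Subgroup G) ≠ ⊥ := S.ne_bot_of_dvd_card (hpM.trans (Subgroup.card_subgroup_dvd_card M))
  obtain ⟨b, hbA, hbC⟩ : ∃ b ∈ A, b ∉ Subgroup.centralizer ((S : Subgroup G) : Set G) := by
    by_contra! hall
    exact hS1 (le_bot_iff.mp (hexc.inf_centralizer_eq_bot hG hpl ▸ le_inf hSσ
      (Subgroup.le_centralizer_iff.mp hall)))
  have hbo : orderOf b = q := orderOf_eq_prime (hexc.maxEA.ea.2 b hbA) fun e => hbC (e ▸ one_mem _)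
  exact lt_asymm hlt (lt_of_small hG hpq.symm (oddAutSmall_sylow_congr (S := W) hW) S.isPGroup' hS1 hbo
    (hNS (hexc.le hbA)) hbC)

/-- If a prime of `σ(N)` divides `|M|` and `κ(N) = ∅` then `τ₂(M) = ∅`. -/
theorem tau2_eq_empty (h : IsSupport M N x) (hM : IsCoatom M) (hx1 : x ≠ 1) (hκ : kappa N = ∅)
    {p : ℕ} [hp : Fact p.Prime] (hpN : p ∈ sigma N) (hpM : p ∣ Nat.card M) : tau2 M = ∅ := by
  refine Set.eq_empty_iff_forall_notMem.mpr fun s hsτ => ?_
  haveI := Fact.mk hsτ.1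
  obtain ⟨E₁, hE₁, -⟩ := exists_compl_ge hG hM (bot_le : (⊥ : Subgroup G) ≤ M) (fun r hr hd => by
    rw [Subgroup.card_bot] at hd; exact absurd hd hr.not_dvd_one)
  obtain ⟨B₁, hB₁E, hB₁e, hB₁2⟩ := exists_ea_le_compl hG hE₁ hsτ
  obtain ⟨C₁, hexc₁⟩ := exists_exc hG hpl hM hsτ.2.1 (hB₁E.trans hE₁.1) hB₁e hB₁2
  have hn := hexc₁.isNilpotent hG hpl
  have hns : ∀ {r : ℕ} [Fact r.Prime], r ∈ sigma N → r ∣ Nat.card M → r ∉ tau2 M := fun {r} _ hr hd hτ => by
    obtain ⟨W, hW⟩ := exists_small_of_tau2 hG hpl hM hτ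
    exact h.not_small hG hpl hM hx1 hn hr hd W hW
  obtain ⟨q, A, A0, hq, -, hqσ, hAE, hexcN, hT⟩ := h.frame hG hpl hM hx1 hn
  haveI := Fact.mk hq
  obtain ⟨T, hTσ, hMT, hAT, hTs, hCA⟩ := hT ⟨hq⟩
  have hpσ : p ∉ sigma M := fun hσ => sigma_disjoint hG hpl hM h.coatom h.nc hσ hpN
  obtain ⟨a, ha⟩ := exists_prime_orderOf_dvd_card' p hpM
  have hao : orderOf (a : G) = p := by rw [Subgroup.orderOf_coe, ha]
  set P := Subgroup.zpowers (a : G) with hPdef
  have hP : Nat.card P = p := by rw [Nat.card_zpowers, hao]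
  have hPM : P ≤ M := Subgroup.zpowers_le.mpr a.2
  obtain ⟨E, hE, hPE⟩ := exists_compl_ge hG hM hPM (fun r hr hd =>
    (Nat.prime_dvd_prime_iff_eq hr hp.out).mp (hP ▸ hd) ▸ hpσ)
  obtain ⟨B, hBE, hBe, hB2⟩ := exists_ea_le_compl hG hE hsτ
  obtain ⟨B0, hexc⟩ := exists_exc hG hpl hM hsτ.2.1 (hBE.trans hE.1) hBe hB2
  obtain ⟨⟨hEB, -⟩, -, -⟩ := tau2_compl_facts hG hpl hM hE hsτ ⟨hBE, hBe, hB2⟩
  have hsp : s ≠ p := fun e => hns hpN hpM (e ▸ hsτ)
  have hB1 : B ≠ ⊥ := fun e => by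
    rw [e, Subgroup.card_bot] at hB2
    exact (Nat.one_lt_pow two_ne_zero hsτ.1.one_lt).ne hB2
  have hPB : P ≤ Subgroup.normalizer (B : Set G) := hPE.trans hEB
  have hcop : (Nat.card P).Coprime (Nat.card B) := by
    rw [hP, hB2]; exact ((Nat.coprime_primes hp.out hsτ.1).mpr hsp.symm).pow_right 2
  -- `P` fixes an element of `B`
  obtain ⟨b, hb, hb1⟩ : ∃ b ∈ B ⊓ Subgroup.centralizer (P : Set G), b ≠ 1 := by
    refine (Subgroup.bot_or_exists_ne_one _).resolve_left fun h0 => ?_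
    haveI : IsMulCommutative P := ⟨⟨fun u v => by
      haveI := isCyclic_of_prime_card hP
      letI := IsCyclic.commGroup (α := P); exact mul_comm _ _⟩⟩
    haveI : Group.IsSolvable P := Core.BG.isSolvable_proper hG fun e => hM.1 (top_le_iff.mp (e ▸ hPM))
    have hBP : B ≤ ⁅E, E⁆ := by
      rw [Coprime.eq_commutator_sup_centralizer hPB hcop, h0, sup_bot_eq]
      exact Subgroup.commutator_mono hBE hPE
    have hBT := hBP.trans (derived_le_centralizer hG (fun e => hM.1 (top_le_iff.mp (e ▸ hE.1)))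
      (hE.1.trans hMT) (fun hd => complIn_notMem_sigma hG hM hE hq hd hqσ) hTs)
    have hA1 : A ≤ sigmaCore M ⊓ Subgroup.centralizer (B : Set G) :=
      le_inf (hAT.trans hTσ) (hAT.trans (Subgroup.le_centralizer_iff.mp hBT))
    rw [hexc.inf_centralizer_eq_bot hG hpl, le_bot_iff] at hA1
    have := hexcN.maxEA.card
    rw [hA1, Subgroup.card_bot] at this
    exact (Nat.one_lt_pow two_ne_zero hq.one_lt).ne this
  obtain ⟨g, hg⟩ := exists_cj_le hpN (isPGroup_of_card_prime hP)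
  set N' := cj g N with hN'def
  have hN' : IsCoatom N' := isCoatom_cj h.coatom g
  have hpN' : p ∈ sigma N' := by rw [hN'def, sigma_eq_of_cj]; exact hpN
  have hPσ : P ≤ sigmaCore N' := le_sigmaCore hG hN' hg (mem_of_pGroup (isPGroup_of_card_prime hP) hpN')
  have ha1 : (a : G) ≠ 1 := fun e => hp.out.one_lt.ne (by rw [← hao, e, orderOf_one])
  have haσ : (a : G) ∈ sigmaCore N' := hPσ (Subgroup.mem_zpowers _)
  have hC : Subgroup.centralizer ({(a : G)} : Set G) ≤ N' := by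
    by_contra hC
    obtain ⟨N'', hN''⟩ := exists_support hG hpl hN' haσ ha1 hC
    obtain ⟨W, hW⟩ := exists_small_of_tau2 hG hpl hN''.coatom (hN''.tau2_primes p hp.out (hao.symm ▸ dvd_rfl)).1
    exact h.not_small hG hpl hM hx1 hn hpN hpM W hW
  have hba : b * (a : G) = a * b := (Subgroup.mem_centralizer_iff.mp hb.2 a (Subgroup.mem_zpowers _)).symm
  have hbN : b ∈ N' := hC (Subgroup.mem_centralizer_singleton_iff.mpr hba)
  have hbo : orderOf b = s := orderOf_eq_prime (hBe.2 b hb.1) hb1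
  have hsN : s ∉ sigma N' := by
    rw [hN'def, sigma_eq_of_cj]
    exact fun hσ => hns hσ ((hbo ▸ Subgroup.orderOf_dvd_natCard _ (hE.1 (hBE hb.1)))) hsτ
  rcases fixed_elt_classes hG hpl hN' hbN haσ ha1 hba hsτ.1 (hbo.symm ▸ dvd_rfl) hsN with h' | h'
  · exact (Set.nonempty_iff_ne_empty.mp (kappa_ne_of_cj hG h.coatom g ⟨s, h'⟩)) hκ
  obtain ⟨E', hE', -⟩ := exists_compl_ge hG hN' (bot_le : (⊥ : Subgroup G) ≤ N') (fun r hr hd => by
    rw [Subgroup.card_bot] at hd; exact absurd hd hr.not_dvd_one)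
  have hBN : B ≤ N' := le_trans
    (fun y hy => Subgroup.mem_centralizer_singleton_iff.mpr (PLocal.comm_of_EA hBe hy hb.1))
    (only_centralizer_of_tau2 hG hpl hN' hE' hbN hb1
      (fun r hr hd => (Nat.prime_dvd_prime_iff_eq hr hsτ.1).mp (hbo ▸ hd) ▸ h') ⟨hbN, a, haσ, ha1, hba⟩).1
  obtain ⟨B0', hexc'⟩ := exists_exc hG hpl hN' hsN hBN hBe hB2
  exact ha1 (Subgroup.mem_bot.mp ((hexc'.inf_other_eq_bot hG hpl hM (fun e => h.nc g⁻¹ (by
    rw [e, hN'def, ← cj_mul, inv_mul_cancel, cj_one])) (hBE.trans hE.1)).le ⟨haσ, a.2⟩))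

end IsSupport

end

end Cfsg.Agent.OddLocal.Sigma
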