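import Cfsg.Agent.OddLocal.Sigma.SupplementL
import Cfsg.Agent.OddLocal.Sigma.NonTI
import Cfsg.Agent.OddLocal.Sigma.FittingM
import Cfsg.Agent.OddLocal.Sigma.QStructure
import Cfsg.Agent.OddLocal.TypeP

/-! Maximal subgroups with `K ≠ 1` have type P data (BG 16.1). -/

set_option autoImplicit false
set_option linter.style.haveILetI false
set_option linter.unusedSectionVars false

namespace Cfsg.Agent.OddLocal.Sigma

open Cfsg
open scoped commutatorElement

variable {G : Type*} [Group G] [Finite G]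

/-- Invariant complements of a normal Hall subgroup. -/
theorem exists_invariant_compl {N H K : Subgroup G} [Group.IsSolvable N] [Group.IsSolvable K] (hHN : H ≤ N)
    (hNH : N ≤ Subgroup.normalizer (H : Set G)) (hKN : K ≤ Subgroup.normalizer (N : Set G))
    (hKH : K ≤ Subgroup.normalizer (H : Set G)) (hco : (Nat.card H).Coprime (H.relIndex N))
    (hKco : (Nat.card K).Coprime (Nat.card H)) :
    ∃ V : Subgroup G, IsComplIn H V N ∧ K ≤ Subgroup.normalizer (V : Set G) := by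
  haveI : (H.subgroupOf N).Normal := Subgroup.normal_subgroupOf_of_le_normalizer hNH
  obtain ⟨W, hW⟩ := Subgroup.exists_right_complement'_of_coprime (N := H.subgroupOf N)
    (by rw [Core.card_subgroupOf hHN]; exact hco)
  set V := W.map N.subtype with hVdef
  have hVN : V ≤ N := Subgroup.map_subtype_le _
  have hcompl : IsComplIn H V N := by
    refine ⟨hHN, hVN, le_bot_iff.mp fun a ha => ?_, fun n hn => ?_⟩
    · obtain ⟨v, hv, rfl⟩ := ha.2
      have h1 : v ∈ H.subgroupOf N ⊓ W := ⟨Subgroup.mem_subgroupOf.mpr ha.1, hv⟩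
      rw [hW.disjoint.eq_bot, Subgroup.mem_bot] at h1
      rw [h1]; exact one_mem _
    · obtain ⟨⟨a, b⟩, e⟩ := hW.2 ⟨n, hn⟩
      exact ⟨a.1, Subgroup.mem_subgroupOf.mp a.2, b.1, Subgroup.mem_map_of_mem _ b.2, congrArg Subtype.val e.symm⟩
  have hVc : Nat.card V = H.relIndex N := (IsComplIn.relIndex_left hcompl).symm
  have hall : IsPiHallOf {q | q.Prime ∧ q ∣ H.relIndex N} V N := by
    refine ⟨hVN, fun q hq hd => ⟨hq, hVc ▸ hd⟩, fun q hq hqπ hd => ?_⟩
    rw [IsComplIn.relIndex_right hcompl] at hd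
    exact hq.not_dvd_one (hco.gcd_eq_one ▸ Nat.dvd_gcd hd hqπ.2)
  have hstep : ∀ k ∈ K, ∃ n ∈ H, n * k ∈ Subgroup.normalizer (V : Set G) := by
    intro k hk
    obtain ⟨m, hm, hmV⟩ := exists_conj_le_hallOf hall (Q := cj k V)
      ((cj_mono hVN).trans (cj_eq_iff.mpr (hKN hk)).le) (fun q hq hd => hall.2.1 q hq (by rwa [card_cj] at hd))
    have heq : cj m (cj k V) = V := Subgroup.eq_of_le_of_card_ge hmV (by rw [card_cj, card_cj])
    obtain ⟨a, ha, d, hd, rfl⟩ := hcompl.2.2.2 m hm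
    refine ⟨d⁻¹ * a * d, (Subgroup.mem_set_normalizer_iff''.mp (hNH (hVN hd)) a).mp ha, ?_⟩
    rw [show d⁻¹ * a * d * k = d⁻¹ * ((a * d) * k) by group]
    exact mul_mem (inv_mem (Subgroup.le_normalizer hd)) (cj_eq_iff.mp (by rw [cj_mul, heq]))
  obtain ⟨x, hx, hxK⟩ := Coprime.exists_conj_le hKH hKco hstep
  refine ⟨cj x⁻¹ V, ⟨hHN, (cj_mono hVN).trans (cj_eq_iff.mpr (Subgroup.le_normalizer (inv_mem (hHN hx)))).le,
    ?_, fun n hn => ?_⟩, fun k hk => cj_eq_iff.mp ?_⟩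
  · have hHx : cj x⁻¹ H = H := cj_eq_iff.mpr (Subgroup.le_normalizer (inv_mem hx))
    rw [← hHx, ← cj_inf, hcompl.2.2.1]
    exact Subgroup.map_bot _
  · obtain ⟨a, ha, v, hv, e⟩ := hcompl.2.2.2 (x * n * x⁻¹) (mul_mem (mul_mem (hHN hx) hn) (inv_mem (hHN hx)))
    refine ⟨x⁻¹ * a * x, mul_mem (mul_mem (inv_mem hx) ha) hx, x⁻¹ * v * x, mem_cj.mpr ?_, ?_⟩
    · rwa [show x⁻¹⁻¹ * (x⁻¹ * v * x) * x⁻¹ = v by group]
    · rw [show n = x⁻¹ * (x * n * x⁻¹) * x by group, e]; group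
  · rw [← cj_mul, show k * x⁻¹ = x⁻¹ * (x * k * x⁻¹) by group, cj_mul, cj_eq_iff.mpr (hxK k hk)]

section
variable (hG : IsMinSimpleOddOrder G)
include hG
variable (hpl : ∀ (p : ℕ) [Fact p.Prime] (H : Subgroup G), H ≠ ⊤ → PLengthLE p 1 H)
include hpl

omit hpl in
/-- A nilpotent Hall subgroup of `M_σ` has its normalizer in `M`. -/
theorem normalizer_le_of_nilpotent_hall {M V : Subgroup G} (hM : IsCoatom M) (hV : V ≤ sigmaCore M)
    (hVn : Group.IsNilpotent V) (hV1 : V ≠ ⊥) (hco : (Nat.card V).Coprime (V.relIndex (sigmaCore M))) :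
    Subgroup.normalizer (V : Set G) ≤ M := by
  obtain ⟨t, ht, htd⟩ := Nat.exists_prime_and_dvd fun e => hV1 (Subgroup.eq_bot_of_card_eq _ e)
  haveI := Fact.mk ht
  have htσ : t ∈ sigma M := mem_sigma_of_dvd ht (htd.trans (Subgroup.card_dvd_of_le hV))
  obtain ⟨P⟩ := (inferInstance : Nonempty (Sylow t V))
  set P' := (P : Subgroup V).map V.subtype with hP'
  obtain ⟨S, hS⟩ := (P.isPGroup'.map V.subtype).exists_le_sylow
  obtain ⟨T, hTM, -⟩ := exists_sylow_le htσ
  have hTσ : (T : Subgroup G) ≤ sigmaCore M := le_sigmaCore hG hM hTM (mem_of_pGroup T.isPGroup' htσ)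
  have hPS : P' = S := by
    refine Subgroup.eq_of_le_of_card_ge hS ?_
    obtain ⟨j, hj⟩ := IsPGroup.iff_card.mp S.isPGroup'
    have h1 : t ^ j ∣ Nat.card V * V.relIndex (sigmaCore M) := by
      rw [Core.card_mul_relIndex hV, ← hj, Nat.card_congr (Sylow.equiv S T).toEquiv]
      exact Subgroup.card_dvd_of_le hTσ
    have h2 : t ^ j ∣ Nat.card (P : Subgroup V) * (P : Subgroup V).index := by
      rw [Subgroup.card_mul_index]
      exact ((ht.coprime_iff_not_dvd.mpr fun h => ht.not_dvd_one (hco.gcd_eq_one ▸ Nat.dvd_gcd htd h)).pow_left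
        j).dvd_of_dvd_mul_right h1
    rw [hj, hP', Core.card_map_subtype]
    exact Nat.le_of_dvd Nat.card_pos (((ht.coprime_iff_not_dvd.mpr P.not_dvd_index).pow_left j).dvd_of_dvd_mul_right h2)
  have hSM : (S : Subgroup G) ≤ M := hPS ▸ (Subgroup.map_subtype_le _).trans (hV.trans (sigmaCore_le M))
  refine le_trans (fun n hn => ?_) (normalizer_sylow_le' hG htσ S hSM)
  rw [← hPS]
  haveI := hVn
  haveI := Sylow.unique_of_normal P inferInstance
  refine Coprime.mem_normalizer_of_conj_mem fun a ha => ?_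
  obtain ⟨Q, hQ⟩ := exists_sylow_map_ge (M := V) (A := cj n P') ((P.isPGroup'.map _).map _)
    ((cj_mono (Subgroup.map_subtype_le _)).trans (cj_eq_iff.mpr hn).le)
  have h3 := hQ (Subgroup.mem_map_of_mem _ ha : MulAut.conj n a ∈ cj n P')
  rwa [Subsingleton.elim Q P] at h3

omit hpl in
/-- A complement of `M_F` in `M_σ` has its normalizer in `M`. -/
theorem normalizer_compl_le {M V : Subgroup G} (hM : IsCoatom M) (hV : IsComplIn (fittingHallOf M) V (sigmaCore M))
    (hVn : Group.IsNilpotent V) (hV1 : V ≠ ⊥) : Subgroup.normalizer (V : Set G) ≤ M := by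
  refine normalizer_le_of_nilpotent_hall hG hM hV.2.1 hVn hV1 ?_
  rw [IsComplIn.relIndex_right hV, ← IsComplIn.relIndex_left hV]
  exact ((coprime_fittingHallOf M).coprime_dvd_right
    (Dvd.intro _ (Subgroup.relIndex_mul_relIndex _ _ _ hV.1 (sigmaCore_le M)))).symm

/-- Type P data give a non-empty `κ`. -/
theorem kappa_ne_of_typeP {M W₁ U W₂ : Subgroup G} (hM : IsCoatom M) (hP : IsTypePWith M W₁ U W₂) :
    (kappa M).Nonempty := by
  obtain ⟨w, hw, hw1⟩ := W₁.bot_or_exists_ne_one.resolve_left hP.W₁_ne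
  obtain ⟨q, hq, -, X, hX, hXw⟩ := exists_prime_le_zpowers hw1
  haveI := Fact.mk hq
  have hXW : X ≤ W₁ := hXw.trans (Subgroup.zpowers_le.mpr hw)
  have hqW : q ∣ Nat.card W₁ := hX ▸ Subgroup.card_dvd_of_le hXW
  have hW₁M : W₁ ≤ M := hP.W₁_compl.2.1
  have hidx : W₁.relIndex M = Nat.card ↥⁅M, M⁆ := IsComplIn.relIndex_right hP.W₁_compl
  have hqD : ¬ q ∣ Nat.card ↥⁅M, M⁆ := fun h => hq.not_dvd_one (hP.W₁_hall.gcd_eq_one ▸ Nat.dvd_gcd hqW (hidx ▸ h))
  have hXM : X ≤ M := hXW.trans hW₁M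
  have hqσ : q ∉ sigma M := fun hσ => hqD (dvd_trans (hX ▸ Subgroup.card_dvd_of_le (le_sigmaCore hG hM hXM
    (mem_of_pGroup (isPGroup_of_card_prime hX) hσ))) (Subgroup.card_dvd_of_le (sigmaCore_le_derived hG hM)))
  have hqτ : q ∈ tau1 M := by
    rcases mem_classes hG hM hq (hX ▸ Subgroup.card_dvd_of_le hXM) with h | h | h | h
    · exact absurd h hqσ
    · exact h
    · refine absurd h fun h => h.2.2.2 fun E hEc hEe => ?_
      have hEM : E.map M.subtype ≤ M := Subgroup.map_subtype_le _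
      have hEp : IsPGroup q (E.map M.subtype) := (IsPGroup.map (fun x => ⟨1, by
        rw [pow_one]; exact Subtype.ext (hEe x x.2)⟩) _)
      haveI := Core.BG.isSolvable_proper hG hM.1
      have hall : IsPiHallOf {r | r.Prime ∧ r ∣ Nat.card W₁} W₁ M := ⟨hW₁M, fun r hr hd => ⟨hr, hd⟩,
        fun r hr hrπ hd => hr.not_dvd_one (hP.W₁_hall.gcd_eq_one ▸ Nat.dvd_gcd hrπ.2 hd)⟩
      obtain ⟨m, -, hmE⟩ := exists_conj_le_hallOf hall hEM (mem_of_pGroup hEp ⟨hq, hqW⟩)
      haveI := hP.W₁_cyclic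
      haveI : IsCyclic (cj m (E.map M.subtype)) :=
        isCyclic_of_injective (Subgroup.inclusion hmE) (Subgroup.inclusion_injective _)
      have h1 : Monoid.exponent (cj m (E.map M.subtype)) ∣ q := by
        refine Monoid.exponent_dvd_of_forall_pow_eq_one fun a => Subtype.ext ?_
        obtain ⟨b, hb, hab⟩ := a.2
        obtain ⟨c, hc, rfl⟩ := hb
        show (a : G) ^ q = 1
        rw [← hab, ← map_pow, ← map_pow, hEe c hc, map_one, map_one]
      rw [IsCyclic.exponent_eq_card, card_cj, Core.card_map_subtype] at h1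
      exact (Nat.le_of_dvd hq.pos h1).trans_eq (pow_one q).symm
    · exact absurd h.2.2.1 hqD
  refine ⟨q, mem_kappa_of_tau1 hG hpl hM hqτ hX hXM fun h0 => ?_⟩
  obtain ⟨x, hx, hx1⟩ := X.bot_or_exists_ne_one.resolve_left (ne_bot_of_card_prime hX)
  have hne : W₂ ≠ ⊥ := hP.selfNormalizing.2.1
  refine hne (le_bot_iff.mp ?_)
  rw [← h0, ← centralizer_eq_of_card_prime hX hx hx1]
  exact le_inf ((hP.W₂_le.trans inf_le_left).trans (fittingHallOf_le_sigmaCore hG hpl hM))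
    ((hP.W₂_centralizer x (hXW hx) hx1).ge.trans inf_le_right)

omit hpl in
theorem kappa_hall_ne {M K : Subgroup G} (hK : IsPiHallOf (kappa M) K M) (h : (kappa M).Nonempty) : K ≠ ⊥ := by
  intro e
  obtain ⟨q, hq⟩ := h
  have h1 : q ∣ Nat.card K * K.relIndex M := by rw [Core.card_mul_relIndex hK.1]; exact hq.2.1
  rw [e, Subgroup.card_bot, one_mul, ← e] at h1
  exact hK.2.2 q hq.1 hq h1

/-- Type P data from a standard factorisation. -/
theorem isTypePWith_of {M K U V : Subgroup G} (hM : IsCoatom M) (h : IsSigmaDecomposition M K U) (hK1 : K ≠ ⊥)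
    (hVn : Group.IsNilpotent V) (hKV : K ≤ Subgroup.normalizer (V : Set G))
    (hV : IsComplIn (fittingHallOf M) V ⁅M, M⁆) :
    IsTypePWith M K V (sigmaCore M ⊓ Subgroup.centralizer (K : Set G)) := by
  obtain ⟨L, hL⟩ := exists_partner hG hpl hM h.hall hK1
  have hs := hL.split hG hpl h.hall
  obtain ⟨hD, hY⟩ := derived_eq_and_fixed_le hG hpl hM h hK1
  set Y := sigmaCore M ⊓ Subgroup.centralizer (K : Set G) with hYdef
  have hκ := IsPartner.kappa_ne hG hpl h.hall hK1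
  have hKD : K ⊓ ⁅M, M⁆ = ⊥ := Coprime.inf_eq_bot_of_coprime (Nat.coprime_of_dvd fun q hq h1 h2 =>
    decomp_primes hG hpl hM h q hq (by rwa [hD] at h1) (h.hall.2.1 q hq h2))
  have hYD : Y ≤ ⁅M, M⁆ := inf_le_left.trans (sigmaCore_le_derived hG hM)
  refine ⟨hK1, h.cyclic, Nat.coprime_of_dvd fun q hq h1 h2 => h.hall.2.2 q hq (h.hall.2.1 q hq h1) h2,
    ⟨OddLocal.derived_le M, h.hall.1, by rw [inf_comm]; exact hKD, fun m hm => ?_⟩, hVn, hKV, hV,
    (fixed_le_fittingHallOf hG hpl hM h hK1).2, ?_, ?_, fittingOf_le_derived hG hpl hM hκ, ?_, fun x hx hx1 => ?_, ?_⟩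
  · obtain ⟨k, hk, n, hn, e⟩ := exists_kappa_mul h (M.inv_mem hm)
    exact ⟨n⁻¹, inv_mem (hD.ge hn), k⁻¹, inv_mem hk, by rw [← mul_inv_rev, ← e, inv_inv]⟩
  · rw [sup_comm, ← fittingOf_eq hG hpl hM]
    exact second_derived_le_fittingOf hG hpl hM
  · rw [sup_comm]
    exact (fittingOf_eq hG hpl hM).symm
  · exact le_inf (fixed_le_fittingHallOf hG hpl hM h hK1).1 hY
  · refine le_antisymm (fun a ha => ?_) (le_inf hYD (inf_le_right.trans
      (Subgroup.centralizer_le (Set.singleton_subset_iff.mpr hx))))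
    have h1 : a ∈ K ⊔ Y := by
      rw [hYdef, ← inf_centralizer_kappa hG hpl hM h.hall hx hx1]
      exact ⟨OddLocal.derived_le M ha.1, ha.2⟩
    obtain ⟨k, hk, y, hy, rfl⟩ := hs.exists_mul h1
    have h2 : k ∈ K ⊓ ⁅M, M⁆ := ⟨hk, by
      have := (⁅M, M⁆).mul_mem ha.1 ((⁅M, M⁆).inv_mem (hYD hy))
      rwa [mul_inv_cancel_right] at this⟩
    rw [hKD, Subgroup.mem_bot] at h2
    rwa [h2, one_mul]
  · refine ⟨hK1, IsPartner.kst_ne hG hpl hM h.hall hK1, hs.inf_eq_bot, hs.comm, hL.cyclic, fun X hX hne => ?_⟩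
    obtain ⟨z, hz⟩ := hne
    refine le_antisymm (fun g hg => ?_) (fun g hg => ?_)
    · exact hL.zHat_conj hG hpl h.hall (hX hz) (hX ((Subgroup.mem_set_normalizer_iff.mp hg z).mp hz))
    · refine Subgroup.mem_set_normalizer_iff.mpr fun v => ⟨fun hv => ?_, fun hv => ?_⟩
      · rwa [hL.zHat_conj_self hG hpl (hX hv) hg]
      · have h1 := hL.zHat_conj_self hG hpl (hX hv) (inv_mem hg)
        rw [show g⁻¹ * (g * v * g⁻¹) * g⁻¹⁻¹ = v by group] at h1
        rwa [h1]

/-- The complement data when `M_σ` is not nilpotent. -/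
theorem exists_typeP_compl {M K U : Subgroup G} (hM : IsCoatom M) (h : IsSigmaDecomposition M K U)
    (hne : ¬ Group.IsNilpotent (sigmaCore M)) :
    ∃ V : Subgroup G, Group.IsNilpotent V ∧ K ≤ Subgroup.normalizer (V : Set G) ∧
      IsComplIn (fittingHallOf M) V (sigmaCore M) ∧ V ≠ ⊥ := by
  set H := fittingHallOf M with hH
  have hHσ : H ≤ sigmaCore M := fittingHallOf_le_sigmaCore hG hpl hM
  haveI : Group.IsSolvable (sigmaCore M) :=
    Core.BG.isSolvable_proper hG fun e => hM.1 (top_le_iff.mp (e.ge.trans (sigmaCore_le M)))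
  haveI : Group.IsSolvable K := Core.BG.isSolvable_proper hG fun e => hM.1 (top_le_iff.mp (e.ge.trans h.hall.1))
  have hMH := le_normalizer_fittingHallOf hG hpl M
  obtain ⟨V, hV, hKV⟩ := exists_invariant_compl hHσ ((sigmaCore_le M).trans hMH)
    (h.hall.1.trans (le_normalizer_sigmaCore M)) (h.hall.1.trans hMH)
    ((coprime_fittingHallOf M).coprime_dvd_right (Dvd.intro _ (Subgroup.relIndex_mul_relIndex _ _ _ hHσ (sigmaCore_le M))))
    (Nat.coprime_of_dvd fun r hr h1 h2 =>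
      (h.hall.2.1 r hr h1).2.2.1 (mem_sigma_of_dvd hr (h2.trans (Subgroup.card_dvd_of_le hHσ))))
  have hV1 : V ≠ ⊥ := fun e => hne (Core.isNilpotent_of_le (fun m hm => by
    obtain ⟨a, ha, v, hv, rfl⟩ := hV.2.2.2 m hm
    rw [e, Subgroup.mem_bot] at hv
    rw [hv, mul_one]
    exact ha) (isNilpotent_fittingHallOf M))
  refine ⟨V, ?_, hKV, hV, hV1⟩
  obtain ⟨Q, hQ⟩ := exists_qData hG hpl hM h hne
  set q := Nat.card ↥(sigmaCore M ⊓ Subgroup.centralizer (K : Set G))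
  haveI := Fact.mk hQ.prime
  haveI : (Q.subgroupOf (sigmaCore M)).Normal :=
    Subgroup.normal_subgroupOf_of_le_normalizer ((sigmaCore_le M).trans hQ.normal)
  obtain ⟨j, hj⟩ := IsPGroup.iff_card.mp hQ.pgroup
  obtain ⟨W, hW⟩ := Subgroup.exists_right_complement'_of_coprime (N := Q.subgroupOf (sigmaCore M)) (by
    rw [Core.card_subgroupOf hQ.le, hj]
    exact (hQ.prime.coprime_iff_not_dvd.mpr hQ.sylow).pow_left j)
  set D := W.map (sigmaCore M).subtype with hDdef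
  have hD : IsComplIn Q D (sigmaCore M) := by
    refine ⟨hQ.le, Subgroup.map_subtype_le _, le_bot_iff.mp fun a ha => ?_, fun n hn => ?_⟩
    · obtain ⟨v, hv, rfl⟩ := ha.2
      have h1 : v ∈ Q.subgroupOf (sigmaCore M) ⊓ W := ⟨Subgroup.mem_subgroupOf.mpr ha.1, hv⟩
      rw [hW.disjoint.eq_bot, Subgroup.mem_bot] at h1
      rw [h1]; exact one_mem _
    · obtain ⟨⟨a, b⟩, e⟩ := hW.2 ⟨n, hn⟩
      exact ⟨a.1, Subgroup.mem_subgroupOf.mp a.2, b.1, Subgroup.mem_map_of_mem _ b.2, congrArg Subtype.val e.symm⟩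
  have hDall := qData_hall hG hpl hQ hD
  have hQH : Q ≤ H := qData_le_fittingHallOf hG hpl hM hQ
  have hqH : q ∣ Nat.card H := (dvd_of_eq hQ.card.symm).trans (Subgroup.card_dvd_of_le (hQ.fixed_le.trans hQH))
  obtain ⟨m, -, hm⟩ := exists_conj_le_hallOf hDall hV.2.1 (fun r hr hd => ⟨hr, fun e => by
    subst e
    exact hr.not_dvd_one (((coprime_fittingHallOf M).coprime_dvd_right (Dvd.intro _
      (Subgroup.relIndex_mul_relIndex _ _ _ hHσ (sigmaCore_le M)))).gcd_eq_one ▸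
      Nat.dvd_gcd hqH ((IsComplIn.relIndex_left hV).symm ▸ hd))⟩)
  have hcn : Group.IsNilpotent (cj m V) := Core.isNilpotent_of_le hm (qStructure hG hpl hM h hne hQ hD).nilpotent
  have hVe : cj m⁻¹ (cj m V) = V := by rw [← cj_mul, inv_mul_cancel, cj_one]
  rw [← hVe]
  exact Core.isNilpotent_map hcn _

/-- In type `P₂` the derived group is of Frobenius type. -/
theorem derived_typeF {M K U : Subgroup G} (hM : IsCoatom M) (h : IsSigmaDecomposition M K U) (hK1 : K ≠ ⊥)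
    (hU1 : U ≠ ⊥) :
    IsOfTypeF ↥⁅M, M⁆ ∧ fittingHallOf ⁅M, M⁆ = fittingHallOf M := by
  obtain ⟨hD, -⟩ := derived_eq_and_fixed_le hG hpl hM h hK1
  obtain ⟨hE, hUp, hKU⟩ := decomp_facts hG hpl hM h
  obtain ⟨U₀, hU₀, hexp, hfree⟩ := decomp_free hG hpl hM h
  have hn := isNilpotent_sigmaCore_of_ne_bot hG hpl hM h hU1
  have hF : fittingHallOf M = sigmaCore M := le_antisymm (fittingHallOf_le_sigmaCore hG hpl hM)
    (sigmaCore_le_fittingHallOf hG hpl hM hn)
  set D := ⁅M, M⁆ with hDdef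
  have hDM : D ≤ M := OddLocal.derived_le M
  have hσD : sigmaCore M ≤ D := sigmaCore_le_derived hG hM
  have hUD : U ≤ D := hD ▸ le_sup_left
  have hUσ : U ⊓ sigmaCore M = ⊥ := inf_sigmaCore_eq_bot fun q hq hd => (hUp q hq hd).1
  have hUN : U ≤ Subgroup.normalizer (sigmaCore M : Set G) := h.compl.1.trans (le_normalizer_sigmaCore M)
  have hDS : IsComplIn (sigmaCore M) U D := by
    refine ⟨hσD, hUD, by rw [inf_comm]; exact hUσ, fun d hd => ?_⟩
    obtain ⟨s, hs, u, hu, e⟩ := Coprime.exists_mul_of_mem_sup hUN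
      (show d ∈ sigmaCore M ⊔ U by rw [sup_comm]; exact hD.le hd)
    exact ⟨s, hs, u, hu, e.symm⟩
  have hco : (Nat.card (sigmaCore M)).Coprime ((sigmaCore M).relIndex D) := by
    rw [IsComplIn.relIndex_left hDS]
    exact Nat.coprime_of_dvd fun q hq h1 h2 => (hUp q hq h2).1 (mem_sigma_of_dvd hq h1)
  haveI hσn : ((sigmaCore M).subgroupOf D).Normal :=
    Subgroup.normal_subgroupOf_of_le_normalizer (hDM.trans (le_normalizer_sigmaCore M))
  have hle : (sigmaCore M).subgroupOf D ≤ fittingHall D := le_fittingHall inferInstance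
    (Core.isNilpotent_congr (Subgroup.subgroupOfEquivOfLe hσD).symm hn)
    (by rw [Core.card_subgroupOf hσD]; exact hco)
  -- nothing of `U` lies in `(M')_F`
  have heq : fittingHallOf D = sigmaCore M := by
    refine le_antisymm ?_ (fun a ha => ⟨⟨a, hσD ha⟩, hle (Subgroup.mem_subgroupOf.mpr ha), rfl⟩)
    by_contra hnle
    obtain ⟨hFn, hFco⟩ := fittingHall_props D
    have hσF : sigmaCore M ≤ fittingHallOf D := fun a ha => ⟨⟨a, hσD ha⟩, hle (Subgroup.mem_subgroupOf.mpr ha), rfl⟩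
    obtain ⟨f, hf, hfσ⟩ := SetLike.not_le_iff_exists.mp hnle
    obtain ⟨t, ht, htd, htσ⟩ : ∃ t : ℕ, t.Prime ∧ t ∣ orderOf f ∧ t ∉ sigma M := by
      by_contra! hall
      exact hfσ (le_sigmaCore hG hM (Subgroup.zpowers_le.mpr (hDM (fittingHallOf_le D hf)))
        (fun q hq hd => hall q hq (by rwa [Nat.card_zpowers] at hd)) (Subgroup.mem_zpowers f))
    haveI := Fact.mk ht
    have htF : t ∣ Nat.card (fittingHall D) := by
      rw [← Core.card_map_subtype]; exact htd.trans (Subgroup.orderOf_dvd_natCard _ hf)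
    have htU : t ∣ Nat.card U := by
      have h1 : t ∣ Nat.card (sigmaCore M) * Nat.card U := by
        rw [← IsComplIn.relIndex_left hDS, Core.card_mul_relIndex hσD]
        exact htF.trans (Subgroup.card_subgroup_dvd_card _)
      exact (ht.dvd_mul.mp h1).resolve_left fun hd => htσ (mem_sigma_of_dvd ht hd)
    have htE : t ∣ Nat.card U₀ := by
      refine dvd_trans ?_ Group.exponent_dvd_nat_card
      obtain ⟨u, hu⟩ := exists_prime_orderOf_dvd_card' t htU
      rw [hexp, ← hu]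
      exact Monoid.order_dvd_exponent _
    obtain ⟨v, hv⟩ := exists_prime_orderOf_dvd_card' t htE
    have hvo : orderOf (v : G) = t := by rw [Subgroup.orderOf_coe, hv]
    have hv1 : (v : G) ≠ 1 := fun e => ht.one_lt.ne (by rw [← hvo, e, orderOf_one])
    have hvF : (v : G) ∈ fittingHallOf D := by
      haveI := fittingHall_normal D
      have h1 : Subgroup.zpowers (⟨v, hUD (hU₀ v.2)⟩ : D) ≤ fittingHall D := by
        refine Core.le_of_coprime_index ?_
        rw [Nat.card_zpowers, Subgroup.orderOf_mk, hvo]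
        exact hFco.coprime_dvd_left htF
      exact ⟨_, h1 (Subgroup.mem_zpowers _), rfl⟩
    obtain ⟨y, hy, hy1⟩ := (sigmaCore M).bot_or_exists_ne_one.resolve_left (sigmaCore_ne_bot hG hM)
    refine hv1 (hfree v v.2 ⟨h.compl.1 (hU₀ v.2), y, hy, hy1, ?_⟩)
    refine (commute_of_mem_nilpotent (isNilpotent_fittingHallOf D) hvF (hσF hy) ?_).eq
    rw [hvo]
    exact ht.coprime_iff_not_dvd.mpr fun hd => htσ (mem_sigma_of_dvd ht (hd.trans (Subgroup.orderOf_dvd_natCard _ hy)))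
  have hmap : ∀ a : D, (a : G) ∈ sigmaCore M ↔ a ∈ fittingHall D := by
    intro a
    rw [← heq]
    exact ⟨fun ⟨b, hb, e⟩ => (Subtype.ext e : b = a) ▸ hb, fun ha => ⟨a, ha, rfl⟩⟩
  refine ⟨⟨Core.BG.isSolvable_proper hG fun e => hM.1 (top_le_iff.mp (e ▸ hDM)),
    odd_of_dvd hG (Subgroup.card_subgroup_dvd_card D), ?_, ?_, U.subgroupOf D, ?_, ?_, ⟨U.subgroupOf D, le_rfl,
      Subgroup.le_normalizer, ?_, fun x _ _ => inf_le_left⟩, U₀.subgroupOf D, ?_, ?_, ?_⟩, heq.trans hF.symm⟩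
  · intro e
    exact sigmaCore_ne_bot hG hM (le_bot_iff.mp fun a ha => by
      have := (hmap ⟨a, hσD ha⟩).mp ha
      rw [e, Subgroup.mem_bot] at this
      exact congrArg Subtype.val this)
  · intro e
    refine hU1 (le_bot_iff.mp ?_)
    rw [← hUσ]
    exact le_inf le_rfl fun u hu => (hmap ⟨u, hUD hu⟩).mpr (e ▸ Subgroup.mem_top _)
  · rw [ne_eq, Subgroup.subgroupOf_eq_bot, disjoint_iff, inf_eq_left.mpr hUD]
    exact hU1
  · refine Subgroup.isComplement'_of_disjoint_and_mul_eq_univ ?_ ?_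
    · rw [disjoint_iff, eq_bot_iff]
      intro a ha
      have h1 : (a : G) ∈ U ⊓ sigmaCore M := ⟨Subgroup.mem_subgroupOf.mp ha.2, (hmap a).mpr ha.1⟩
      rw [hUσ, Subgroup.mem_bot] at h1
      exact Subgroup.mem_bot.mpr (Subtype.ext h1)
    · refine Set.eq_univ_of_forall fun a => ?_
      obtain ⟨s, hs, u, hu, e⟩ := hDS.2.2.2 a a.2
      exact ⟨⟨s, hσD hs⟩, (hmap _).mp hs, ⟨u, hUD hu⟩, Subgroup.mem_subgroupOf.mpr hu, Subtype.ext e.symm⟩
  · haveI := decomp_abelian hG hpl hM h hK1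
    exact ⟨⟨fun a b => Subtype.ext (Subtype.ext (congrArg Subtype.val
      (mul_comm' (⟨_, Subgroup.mem_subgroupOf.mp a.2⟩ : U) ⟨_, Subgroup.mem_subgroupOf.mp b.2⟩) :))⟩⟩
  · exact fun a ha => Subgroup.mem_subgroupOf.mpr (hU₀ (Subgroup.mem_subgroupOf.mp ha))
  · rw [Monoid.exponent_eq_of_mulEquiv (Subgroup.subgroupOfEquivOfLe (hU₀.trans hUD)),
      Monoid.exponent_eq_of_mulEquiv (Subgroup.subgroupOfEquivOfLe hUD), hexp]
  · intro u hu hu1 x hx hux
    by_contra hx1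
    exact hu1 (Subtype.ext (hfree u (Subgroup.mem_subgroupOf.mp hu)
      ⟨hDM u.2, x, (hmap x).mpr hx, fun e => hx1 (Subtype.ext e), congrArg Subtype.val hux⟩))

end

end Cfsg.Agent.OddLocal.Sigma

namespace Cfsg.Agent.OddLocal.Sigma

open Cfsg
open scoped commutatorElement

variable {G : Type*} [Group G] [Finite G]

/-- Type P data determine `K` and, up to conjugacy, `U`. -/
theorem typeP_cases (hG : IsMinSimpleOddOrder G)
    (hpl : ∀ (p : ℕ) [Fact p.Prime] (H : Subgroup G), H ≠ ⊤ → PLengthLE p 1 H)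
    {M K U W₁ V W₂ : Subgroup G} (hM : IsCoatom M) (h : IsSigmaDecomposition M K U)
    (hP : IsTypePWith M W₁ V W₂) :
    K ≠ ⊥ ∧
      (U = ⊥ → fittingHallOf M = sigmaCore M → V = ⊥) ∧
      (U = ⊥ → fittingHallOf M ≠ sigmaCore M → Subgroup.normalizer (V : Set G) ≤ M) ∧
      (U ≠ ⊥ → fittingHallOf M = sigmaCore M ∧ (Subgroup.normalizer (V : Set G) ≤ M → Subgroup.normalizer (U : Set G) ≤ M)) ∧
      (V = ⊥ → U = ⊥ ∧ fittingHallOf M = sigmaCore M) := by
  have hK1 := kappa_hall_ne hG h.hall (kappa_ne_of_typeP hG hpl hM hP)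
  obtain ⟨hD, -⟩ := derived_eq_and_fixed_le hG hpl hM h hK1
  have hσD : sigmaCore M ≤ ⁅M, M⁆ := sigmaCore_le_derived hG hM
  have hUσ : U ⊓ sigmaCore M = ⊥ :=
    inf_sigmaCore_eq_bot fun q hq hd => ((decomp_facts hG hpl hM h).2.1 q hq hd).1
  refine ⟨hK1, fun hU hF => ?_, fun hU hF => ?_, fun hU => ?_, fun hV => ?_⟩
  · rw [eq_bot_iff, ← hP.U_compl.2.2.1]
    refine le_inf ?_ le_rfl
    rw [hF]
    exact hP.U_compl.2.1.trans (hD.le.trans (by rw [hU, bot_sup_eq]))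
  · have hD' : ⁅M, M⁆ = sigmaCore M := by rw [hD, hU, bot_sup_eq]
    have hV := hP.U_compl
    rw [hD'] at hV
    refine normalizer_compl_le hG hM hV hP.U_nilpotent fun e => hF ?_
    refine le_antisymm (fittingHallOf_le_sigmaCore hG hpl hM) fun m hm => ?_
    obtain ⟨a, ha, v, hv, rfl⟩ := hV.2.2.2 m hm
    rw [e, Subgroup.mem_bot] at hv
    rwa [hv, mul_one]
  · have hF : fittingHallOf M = sigmaCore M := le_antisymm (fittingHallOf_le_sigmaCore hG hpl hM)
      (sigmaCore_le_fittingHallOf hG hpl hM (isNilpotent_sigmaCore_of_ne_bot hG hpl hM h hU))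
    refine ⟨hF, fun hle => ?_⟩
    haveI : Group.IsSolvable ↥⁅M, M⁆ :=
      Core.BG.isSolvable_proper hG fun e => hM.1 (top_le_iff.mp (e ▸ OddLocal.derived_le M))
    have hVc := hP.U_compl
    rw [hF] at hVc
    have hUN : U ≤ Subgroup.normalizer (sigmaCore M : Set G) := h.compl.1.trans (le_normalizer_sigmaCore M)
    have hUc : IsComplIn (sigmaCore M) U ⁅M, M⁆ := by
      refine ⟨hσD, hD ▸ le_sup_left, by rw [inf_comm]; exact hUσ, fun d hd => ?_⟩
      obtain ⟨s, hs, u, hu, e⟩ := Coprime.exists_mul_of_mem_sup hUN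
        (show d ∈ sigmaCore M ⊔ U by rw [sup_comm]; exact hD.le hd)
      exact ⟨s, hs, u, hu, e.symm⟩
    have hcard : Nat.card U = Nat.card V := by
      rw [← IsComplIn.relIndex_left hUc, IsComplIn.relIndex_left hVc]
    have hall : IsPiHallOf {q | q.Prime ∧ q ∉ sigma M} V ⁅M, M⁆ := by
      refine ⟨hVc.2.1, fun q hq hd => ⟨hq, ((decomp_facts hG hpl hM h).2.1 q hq (hcard ▸ hd)).1⟩,
        fun q hq hqπ hd => hqπ.2 ?_⟩
      rw [IsComplIn.relIndex_right hVc] at hd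
      exact mem_sigma_of_dvd hq hd
    obtain ⟨m, hm, hmU⟩ := exists_conj_le_hallOf hall hUc.2.1
      (fun q hq hd => ⟨hq, ((decomp_facts hG hpl hM h).2.1 q hq hd).1⟩)
    have he : cj m U = V := Subgroup.eq_of_le_of_card_ge hmU (by rw [card_cj, hcard])
    have hmM : m ∈ M := OddLocal.derived_le M hm
    intro g hg
    have h1 : m * g * m⁻¹ ∈ Subgroup.normalizer (V : Set G) := by
      rw [← cj_eq_iff, ← he, ← cj_mul, show m * g * m⁻¹ * m = m * g by group, cj_mul, cj_eq_iff.mpr hg]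
    have h2 := M.mul_mem (M.mul_mem (M.inv_mem hmM) (hle h1)) hmM
    rwa [show m⁻¹ * (m * g * m⁻¹) * m = g by group] at h2
  · have hD' : ⁅M, M⁆ ≤ fittingHallOf M := fun m hm => by
      obtain ⟨a, ha, v, hv, rfl⟩ := hP.U_compl.2.2.2 m hm
      rw [hV, Subgroup.mem_bot] at hv
      rwa [hv, mul_one]
    have hF := fittingHallOf_le_sigmaCore hG hpl hM
    refine ⟨?_, le_antisymm hF (hσD.trans hD')⟩
    rw [eq_bot_iff, ← hUσ]
    exact le_inf le_rfl ((hD ▸ le_sup_left : U ≤ ⁅M, M⁆).trans (hD'.trans hF))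

end Cfsg.Agent.OddLocal.Sigma
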