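import Cfsg.Agent.OddLocal.Sigma.TauTwoElements
import Cfsg.Agent.OddLocal.Sigma.TypesP

/-! Maximal subgroups of Type I, and complements of `M_σ`. -/

set_option autoImplicit false
set_option linter.style.haveILetI false
set_option linter.unusedSectionVars false

namespace Cfsg.Agent.OddLocal.Sigma

open Cfsg
open scoped commutatorElement

variable {G : Type*} [Group G] [Finite G] (hG : IsMinSimpleOddOrder G)
include hG
variable (hpl : ∀ (p : ℕ) [Fact p.Prime] (H : Subgroup G), H ≠ ⊤ → PLengthLE p 1 H)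
include hpl

/-- A `τ₂(M)`-subgroup fixing an element of `M_σ` has its centralizer in `M` only. -/
theorem only_centralizer_of_tau2_subgroup {M E Y : Subgroup G} (hM : IsCoatom M)
    (hE : IsComplIn E (sigmaCore M) M) (hYM : Y ≤ M) (hY1 : Y ≠ ⊥)
    (hY : ∀ p : ℕ, p.Prime → p ∣ Nat.card Y → p ∈ tau2 M)
    (hy : sigmaCore M ⊓ Subgroup.centralizer (Y : Set G) ≠ ⊥) :
    Subgroup.centralizer (Y : Set G) ≤ M ∧ Only M (Subgroup.centralizer (Y : Set G)) := by
  have hall : Only M (Subgroup.centralizer (Y : Set G)) := by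
    obtain ⟨m, hm, hmE⟩ := exists_cj_le_compl hG hM hE hYM (fun q hq hd => (hY q hq hd).2.1)
    intro L hL hle
    by_contra hLM
    obtain ⟨p, hp, hpd⟩ := Nat.exists_prime_and_dvd fun e => hY1 (Subgroup.eq_bot_of_card_eq _ e)
    haveI := Fact.mk hp
    obtain ⟨A, hAE, hAe, hA2⟩ := exists_ea_le_compl hG hE (hY p hp hpd)
    obtain ⟨A0, h⟩ := exists_exc hG hpl hM (hY p hp hpd).2.1 (hAE.trans hE.1) hAe hA2
    have hc : cj m Y ≤ Subgroup.centralizer (A : Set G) :=
      le_centralizer_of_tau2 hG hpl hM hE (hY p hp hpd) ⟨hAE, hAe, hA2⟩ hmE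
        fun q hq hd => hY q hq (by rwa [card_cj] at hd)
    have hL' : cj m L ≠ M := fun e => hLM (by
      rw [← cj_one L, ← inv_mul_cancel m, cj_mul, e]
      exact cj_eq_iff.mpr (Subgroup.le_normalizer (inv_mem hm)))
    have hAL : A ≤ cj m L := by
      refine le_trans (Subgroup.le_centralizer_iff.mp hc) ?_
      rw [← cj_centralizer]
      exact cj_mono hle
    refine hy (Subgroup.map_eq_bot_iff_of_injective _ (f := (MulAut.conj m).toMonoidHom)
      (MulAut.conj m).injective |>.mp (le_bot_iff.mp ?_))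
    change cj m _ ≤ ⊥
    rw [← h.inf_other_eq_bot hG hpl (isCoatom_cj hL m) hL' hAL, cj_inf,
      cj_eq_iff.mpr (le_normalizer_sigmaCore M hm)]
    exact inf_le_inf_left _ (cj_mono hle)
  refine ⟨Only.le hall fun e => ?_, hall⟩
  obtain ⟨x, hx, hx1⟩ := (Subgroup.ne_bot_iff_exists_ne_one.mp hY1 |> fun ⟨a, ha⟩ =>
    (⟨a, a.2, fun e => ha (Subtype.ext e)⟩ : ∃ x ∈ Y, x ≠ 1))
  exact Core.BG.centralizer_singleton_ne_top hG hx1 (top_le_iff.mp
    (e.ge.trans (Subgroup.centralizer_le (Set.singleton_subset_iff.mpr hx))))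

/-- A `σ(M)'`-subgroup of `M` has abelian Sylow subgroups of rank at most two. -/
theorem sylow_props_of_compl {M U : Subgroup G} (hM : IsCoatom M) (hUM : U ≤ M)
    (hU : ∀ q : ℕ, q.Prime → q ∣ Nat.card U → q ∉ sigma M) (p : ℕ) (hp : p.Prime) (P : Sylow p U) :
    IsMulCommutative (P : Subgroup U) ∧ PRankLE p 2 (P : Subgroup U) := by
  haveI := Fact.mk hp
  by_cases hd : p ∣ Nat.card U
  swap
  · have e : (P : Subgroup U) = ⊥ := Subgroup.card_eq_one.mp (by
      rw [P.card_eq_multiplicity, Nat.factorization_eq_zero_of_not_dvd hd, pow_zero])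
    rw [e]
    refine ⟨⟨⟨fun a b => Subsingleton.elim _ _⟩⟩, fun A _ _ => ?_⟩
    exact (Nat.le_of_dvd (by norm_num) ((Subgroup.card_subgroup_dvd_card A).trans
      (by rw [Subgroup.card_bot]))).trans (Nat.one_le_pow _ _ hp.pos)
  have hσ := hU p hp hd
  have h2 := pRankLE_two_of_notMem_sigma hG hM hp hσ
  set P' := (P : Subgroup U).map U.subtype
  have hP' : P' ≤ M := (Subgroup.map_subtype_le _).trans hUM
  let φ : ↥(P : Subgroup U) →* M :=
    (Subgroup.inclusion hUM).comp (P : Subgroup U).subtype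
  have hφ : Function.Injective φ :=
    (Subgroup.inclusion_injective hUM).comp (P : Subgroup U).subtype_injective
  refine ⟨?_, fun A hAc hAe => ?_⟩
  · obtain ⟨S, hS⟩ := exists_sylow_map_ge (P.isPGroup'.map U.subtype) hP'
    have hSc : IsMulCommutative (S : Subgroup M) := by
      by_cases h1 : PRankLE p 1 M
      · haveI := sylow_isCyclic_of_rankOne hG h1 le_rfl S
        infer_instance
      · obtain ⟨E, hE, -⟩ := exists_compl_ge hG hM (bot_le : (⊥ : Subgroup G) ≤ M) (fun q hq hd => by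
          rw [Subgroup.card_bot] at hd; exact absurd hd hq.not_dvd_one)
        have hτ : p ∈ tau2 M := ⟨hp, hσ, h2, h1⟩
        obtain ⟨A, hAE, hAe, hA2⟩ := exists_ea_le_compl hG hE hτ
        obtain ⟨A0, h⟩ := exists_exc hG hpl hM hτ.2.1 (hAE.trans hE.1) hAe hA2
        exact h.sylow_abelian hG hpl S
    haveI : IsMulCommutative ((S : Subgroup M).map M.subtype) := ⟨⟨fun a b => by
      obtain ⟨a', ha', ha⟩ := a.2
      obtain ⟨b', hb', hb⟩ := b.2
      apply Subtype.ext
      push_cast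
      rw [← ha, ← hb, ← map_mul, ← map_mul]
      exact congrArg _ (congrArg Subtype.val (hSc.is_comm.comm ⟨a', ha'⟩ ⟨b', hb'⟩))⟩⟩
    haveI : IsMulCommutative P' := isMulCommutative_of_le hS
    refine ⟨⟨fun a b => ?_⟩⟩
    have := congrArg Subtype.val (mul_comm' (⟨_, Subgroup.mem_map_of_mem U.subtype a.2⟩ : P')
      ⟨_, Subgroup.mem_map_of_mem U.subtype b.2⟩)
    exact Subtype.ext (Subtype.ext this)
  · haveI := hAc
    have := h2 (A.map φ) (Subgroup.map_isMulCommutative A φ) (by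
      rintro _ ⟨a, ha, rfl⟩
      rw [← map_pow, hAe a ha, map_one])
    rwa [Subgroup.card_map_of_injective hφ] at this

/-- A subgroup of Type I has `K = 1` and `U ≠ 1`. -/
theorem typeI_cases {M K U : Subgroup G} (hM : IsCoatom M) (h : IsSigmaDecomposition M K U)
    (hI : IsOfTypeI M) : K = ⊥ ∧ U ≠ ⊥ := by
  have hK : K = ⊥ := by
    by_contra hK1
    obtain ⟨⟨-, -, -, -, V, -, hV, -, U₀, hU₀, hexp, hfree⟩, -⟩ := hI
    obtain ⟨p, hp, hpd⟩ := Nat.exists_prime_and_dvd fun e => hK1 (Subgroup.eq_bot_of_card_eq _ e)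
    haveI := Fact.mk hp
    have hκ := h.hall.2.1 p hp hpd
    have hpM : p ∣ Nat.card (fittingHall M) * Nat.card V := hV.card_mul.symm ▸ hκ.2.1
    rcases hp.dvd_mul.mp hpM with h1 | h1
    · exact hκ.2.2.1 (mem_sigma_of_dvd hp (h1.trans (by
        rw [← Core.card_map_subtype]
        exact Subgroup.card_dvd_of_le (fittingHallOf_le_sigmaCore hG hpl hM))))
    obtain ⟨v, hv⟩ := exists_prime_orderOf_dvd_card' (G := V) p h1
    have h2 : p ∣ Nat.card U₀ :=
      (hv ▸ hexp ▸ Monoid.order_dvd_exponent v).trans Group.exponent_dvd_nat_card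
    obtain ⟨u, hu⟩ := exists_prime_orderOf_dvd_card' (G := U₀) p h2
    haveI := Core.BG.isSolvable_proper hG hM.1
    obtain ⟨m, hm, hmK⟩ := exists_conj_le_hallOf h.hall
      (Q := Subgroup.zpowers (((u : M) : G))) (Subgroup.zpowers_le.mpr (u : M).2) (fun q hq hd => by
        rw [Nat.card_zpowers, Subgroup.orderOf_coe, Subgroup.orderOf_coe, hu] at hd
        rwa [(Nat.prime_dvd_prime_iff_eq hq hp).mp hd])
    set k := m * ((u : M) : G) * m⁻¹ with hk
    have hkK : k ∈ K := hmK ⟨_, Subgroup.mem_zpowers _, rfl⟩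
    obtain ⟨y, hy, hy1⟩ : ∃ y ∈ sigmaCore M ⊓ Subgroup.centralizer (K : Set G), y ≠ 1 := by
      obtain ⟨a, ha⟩ := Subgroup.ne_bot_iff_exists_ne_one.mp (kappa_hall_facts hG hpl hM h.hall hK1).2.1
      exact ⟨a, a.2, fun e => ha (Subtype.ext e)⟩
    obtain ⟨x, hx, hxy⟩ := (fixed_le_fittingHallOf hG hpl hM h hK1).1 hy
    have hc : k * y = y * k := Subgroup.mem_centralizer_iff.mp hy.2 k hkK
    set m' : M := ⟨m, hm⟩
    have hx' := (fittingHall_normal M).conj_mem x hx m'⁻¹
    have := hfree (u : M) u.2 (fun e => by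
      rw [← Subgroup.orderOf_coe, e, orderOf_one] at hu; exact hp.one_lt.ne hu) _ hx' (Subtype.ext (by
      show ((u : M) : G) * (m⁻¹ * x * m⁻¹⁻¹) = m⁻¹ * x * m⁻¹⁻¹ * ((u : M) : G)
      rw [show (x : G) = y from hxy, show ((u : M) : G) * (m⁻¹ * y * m⁻¹⁻¹) = m⁻¹ * (k * y) * m by rw [hk]; group,
        hc, hk]
      group))
    rw [conj_eq_one_iff] at this
    exact hy1 (by rw [← hxy, this]; exact map_one _)
  refine ⟨hK, fun hU => ?_⟩
  subst hK hU
  have hMσ : M ≤ sigmaCore M := fun m hm => by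
    obtain ⟨a, ha, b, hb, rfl⟩ := h.compl.2.2.2 m hm
    rw [Subgroup.mem_bot] at ha
    rw [bot_sup_eq] at hb
    rwa [ha, one_mul]
  have := derived_lt hG hpl hM
  exact this.not_ge (hMσ.trans (sigmaCore_le_derived hG hM))

end Cfsg.Agent.OddLocal.Sigma
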