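import Cfsg.Agent.OddLocal.Sigma.PartnerRows
import Cfsg.Agent.OddLocal.TypeP

/-! Tools for the TI sets of a maximal subgroup of type P. -/

set_option autoImplicit false
set_option linter.style.haveILetI false
set_option linter.unusedSectionVars false

namespace Cfsg.Agent.OddLocal.Sigma

open Cfsg
open scoped commutatorElement

variable {G : Type*} [Group G] [Finite G]

/-- The set normalizer of an `M`-invariant subset of `M` is `M`. -/
theorem normalizer_eq_of_invariant (hG : IsMinSimpleOddOrder G) {M : Subgroup G} (hM : IsCoatom M) {X : Set G}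
    (hXM : X ⊆ M) {x : G} (hx : x ∈ X) (hx1 : x ≠ 1) (hinv : ∀ m ∈ M, ∀ v ∈ X, m * v * m⁻¹ ∈ X) :
    Subgroup.normalizer X = M := by
  have hle : M ≤ Subgroup.normalizer X := fun m hm => Subgroup.mem_set_normalizer_iff.mpr fun v =>
    ⟨fun hv => hinv m hm v hv, fun hv => by
      have := hinv m⁻¹ (M.inv_mem hm) _ hv
      rwa [show m⁻¹ * (m * v * m⁻¹) * m⁻¹⁻¹ = v by group] at this⟩
  refine (hM.le_iff.mp hle).resolve_left fun e => ?_
  have hcl : Subgroup.closure X ≤ M := (Subgroup.closure_le M).mpr hXM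
  refine Core.BG.normalizer_ne_top hG (fun h => hx1 (Subgroup.mem_bot.mp (h ▸ Subgroup.subset_closure hx)))
    (fun h => hM.1 (top_le_iff.mp (h.ge.trans hcl))) (top_le_iff.mp fun g _ => ?_)
  have key : ∀ g : G, ∀ y ∈ Subgroup.closure X, g * y * g⁻¹ ∈ Subgroup.closure X := by
    intro g y hy
    have h1 : (MulAut.conj g).toMonoidHom y ∈ (Subgroup.closure X).map (MulAut.conj g).toMonoidHom :=
      Subgroup.mem_map_of_mem _ hy
    rw [MonoidHom.map_closure] at h1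
    refine Subgroup.closure_mono ?_ h1
    rintro _ ⟨v, hv, rfl⟩
    exact (Subgroup.mem_set_normalizer_iff.mp (e.ge (Subgroup.mem_top g)) v).mp hv
  exact Coprime.mem_normalizer_of_conj_mem (key g)

/-- An element of `M` of order dividing `|M_F|` lies in `M_F`. -/
theorem mem_fittingHallOf {M : Subgroup G} {y : G} (hy : y ∈ M) (hd : orderOf y ∣ Nat.card (fittingHallOf M)) :
    y ∈ fittingHallOf M := by
  haveI := fittingHall_normal M
  have h1 : Subgroup.zpowers (⟨y, hy⟩ : M) ≤ fittingHall M := Core.le_of_coprime_index (by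
    rw [Nat.card_zpowers, Subgroup.orderOf_mk]
    refine Nat.Coprime.coprime_dvd_left ?_ (fittingHall_props M).2
    rwa [fittingHallOf, Core.card_map_subtype] at hd)
  exact ⟨⟨y, hy⟩, h1 (Subgroup.mem_zpowers _), rfl⟩

/-- The set `W ∖ (W₁ ∪ W₂)`. -/
def zSet (W₁ W₂ : Subgroup G) : Set G := {w | w ∈ W₁ ⊔ W₂ ∧ w ∉ W₁ ∧ w ∉ W₂}

/-- The centralizer of an element of `W ∖ (W₁ ∪ W₂)`. -/
theorem centralizer_zSet {W₁ W₂ : Subgroup G} (h : IsSelfNormalizingCyclic W₁ W₂) {w : G} (hw : w ∈ zSet W₁ W₂) :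
    Subgroup.centralizer ({w} : Set G) = W₁ ⊔ W₂ := by
  refine le_antisymm ?_ fun a ha => Subgroup.mem_centralizer_singleton_iff.mpr ?_
  · have h1 := h.2.2.2.2.2 {w} (Set.singleton_subset_iff.mpr ⟨hw.1, fun e => e.elim hw.2.1 hw.2.2⟩)
      (Set.singleton_nonempty w)
    exact (Subgroup.centralizer_le_normalizer _).trans h1.le
  · haveI := h.2.2.2.2.1
    exact congrArg Subtype.val ((IsCyclic.commGroup (α := ↥(W₁ ⊔ W₂))).mul_comm ⟨a, ha⟩ ⟨w, hw.1⟩)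

/-- Conjugation inside `W ∖ (W₁ ∪ W₂)` is by elements of `W`. -/
theorem mem_of_conj_zSet {W₁ W₂ : Subgroup G} (h : IsSelfNormalizingCyclic W₁ W₂) {w g : G}
    (hw : w ∈ zSet W₁ W₂) (hgw : g * w * g⁻¹ ∈ zSet W₁ W₂) : g ∈ W₁ ⊔ W₂ := by
  have hW : cj g (W₁ ⊔ W₂) = W₁ ⊔ W₂ := by
    conv_rhs => rw [← centralizer_zSet h hgw]
    rw [← centralizer_zSet h hw]
    ext c
    rw [mem_cj, Subgroup.mem_centralizer_singleton_iff, Subgroup.mem_centralizer_singleton_iff]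
    constructor <;> intro e
    · calc c * (g * w * g⁻¹) = g * (g⁻¹ * c * g * w) * g⁻¹ := by group
        _ = g * (w * (g⁻¹ * c * g)) * g⁻¹ := by rw [e]
        _ = g * w * g⁻¹ * c := by group
    · calc g⁻¹ * c * g * w = g⁻¹ * (c * (g * w * g⁻¹)) * g := by group
        _ = g⁻¹ * (g * w * g⁻¹ * c) * g := by rw [e]
        _ = w * (g⁻¹ * c * g) := by group
  have hsub : ∀ S : Subgroup G, S ≤ W₁ ⊔ W₂ → cj g S = S := fun S hS =>
    OddLocal.eq_of_card_eq_of_isCyclic h.2.2.2.2.1 (hW ▸ cj_mono hS) hS (card_cj g S)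
  have hX : g ∈ Subgroup.normalizer (zSet W₁ W₂) := Subgroup.mem_set_normalizer_iff.mpr fun v => by
    have hm : ∀ S : Subgroup G, S ≤ W₁ ⊔ W₂ → (v ∈ S ↔ g * v * g⁻¹ ∈ S) := fun S hS =>
      Subgroup.mem_normalizer_iff.mp (cj_eq_iff.mp (hsub S hS)) v
    show v ∈ W₁ ⊔ W₂ ∧ v ∉ W₁ ∧ v ∉ W₂ ↔ g * v * g⁻¹ ∈ W₁ ⊔ W₂ ∧ g * v * g⁻¹ ∉ W₁ ∧ g * v * g⁻¹ ∉ W₂
    rw [← hm _ le_rfl, ← hm _ le_sup_left, ← hm _ le_sup_right]
  rwa [h.2.2.2.2.2 (zSet W₁ W₂) (fun v hv => ⟨hv.1, fun e => e.elim hv.2.1 hv.2.2⟩) ⟨w, hw⟩] at hX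

section

variable (hG : IsMinSimpleOddOrder G)
include hG

/-- Any two type P data of `M` have conjugate sets `W ∖ (W₁ ∪ W₂)`. -/
theorem zSet_conj {M W₁ U W₂ W₁' U' W₂' : Subgroup G} (hM : IsCoatom M) (hP : IsTypePWith M W₁ U W₂)
    (hP' : IsTypePWith M W₁' U' W₂') {w : G} (hw : w ∈ zSet W₁' W₂') :
    ∃ m ∈ M, m * w * m⁻¹ ∈ zSet W₁ W₂ := by
  haveI := Core.BG.isSolvable_proper hG hM.1
  have hc : ∀ {A B V : Subgroup G}, IsTypePWith M A V B → Nat.card A = (⁅M, M⁆).relIndex M := fun h =>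
    (IsComplIn.relIndex_left h.W₁_compl).symm
  have hall : IsPiHallOf {q | q.Prime ∧ q ∣ Nat.card W₁} W₁ M := ⟨hP.W₁_compl.2.1, fun q hq hd => ⟨hq, hd⟩,
    fun q hq hqπ hd => hq.not_dvd_one (hP.W₁_hall.gcd_eq_one ▸ Nat.dvd_gcd hqπ.2 hd)⟩
  obtain ⟨m, hm, hmW⟩ := exists_conj_le_hallOf hall hP'.W₁_compl.2.1
    (fun q hq hd => ⟨hq, by rwa [hc hP, ← hc hP']⟩)
  have h1 : cj m W₁' = W₁ := Subgroup.eq_of_le_of_card_ge hmW (by rw [card_cj, hc hP, hc hP'])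
  obtain ⟨x, hx, hx1⟩ := (Subgroup.bot_or_exists_ne_one W₁').resolve_left hP'.W₁_ne
  have hx' : m * x * m⁻¹ ∈ W₁ := h1 ▸ ⟨x, hx, rfl⟩
  have h2 : cj m W₂' = W₂ := by
    rw [← hP'.W₂_centralizer x hx hx1, ← hP.W₂_centralizer _ hx' (fun e => hx1 (conj_eq_one_iff.mp e))]
    ext c
    rw [mem_cj, Subgroup.mem_inf, Subgroup.mem_inf, Subgroup.mem_centralizer_singleton_iff,
      Subgroup.mem_centralizer_singleton_iff]
    refine and_congr ?_ ⟨fun e => ?_, fun e => ?_⟩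
    · have hnorm : ∀ n ∈ M, ∀ d ∈ ⁅M, M⁆, n * d * n⁻¹ ∈ ⁅M, M⁆ := fun n hn d hd => by
        rw [show n * d * n⁻¹ = ⁅n, d⁆ * d by rw [commutatorElement_def]; group]
        exact mul_mem (Subgroup.commutator_mem_commutator hn (OddLocal.derived_le M hd)) hd
      refine ⟨fun hd => ?_, fun hd => ?_⟩
      · have := hnorm m hm _ hd
        rwa [show m * (m⁻¹ * c * m) * m⁻¹ = c by group] at this
      · have := hnorm m⁻¹ (M.inv_mem hm) _ hd
        rwa [inv_inv] at this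
    · calc c * (m * x * m⁻¹) = m * (m⁻¹ * c * m * x) * m⁻¹ := by group
        _ = m * (x * (m⁻¹ * c * m)) * m⁻¹ := by rw [e]
        _ = m * x * m⁻¹ * c := by group
    · calc m⁻¹ * c * m * x = m⁻¹ * (c * (m * x * m⁻¹)) * m := by group
        _ = m⁻¹ * (m * x * m⁻¹ * c) * m := by rw [e]
        _ = x * (m⁻¹ * c * m) := by group
  refine ⟨m, hm, ?_, fun e => hw.2.1 ?_, fun e => hw.2.2 ?_⟩
  · rw [← h1, ← h2, cj, cj, ← Subgroup.map_sup]
    exact Subgroup.mem_map_of_mem _ hw.1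
  · rw [← h1] at e
    have := mem_cj.mp e
    rwa [show m⁻¹ * (m * w * m⁻¹) * m = w by group] at this
  · rw [← h2] at e
    have := mem_cj.mp e
    rwa [show m⁻¹ * (m * w * m⁻¹) * m = w by group] at this

omit hG in
/-- The order of an element of `W ∖ (W₁ ∪ W₂)` does not divide `|M'|`. -/
theorem zSet_order {M W₁ U W₂ : Subgroup G} (hP : IsTypePWith M W₁ U W₂) {w : G} (hw : w ∈ zSet W₁ W₂) :
    ¬ orderOf w ∣ Nat.card ↥⁅M, M⁆ := by
  intro hd
  have hcomm := hP.selfNormalizing.2.2.2.1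
  obtain ⟨b, hb, a, ha, e⟩ := Coprime.exists_mul_of_mem_sup (N := W₂) (A := W₁) (fun a ha =>
    Subgroup.centralizer_le_normalizer _ (Subgroup.mem_centralizer_iff.mpr fun b hb => (hcomm a ha b hb).symm))
    (show w ∈ W₂ ⊔ W₁ by rw [sup_comm]; exact hw.1)
  have h1 : w ^ Nat.card ↥⁅M, M⁆ = 1 := orderOf_dvd_iff_pow_eq_one.mp hd
  have hbD : b ∈ ⁅M, M⁆ := OddLocal.derived_le _ (hP.W₂_le hb).2
  rw [← e, (show Commute b a from (hcomm a ha b hb).symm).mul_pow, orderOf_dvd_iff_pow_eq_one.mp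
    (Subgroup.orderOf_dvd_natCard _ hbD), one_mul] at h1
  have hco : (Nat.card W₁).Coprime (Nat.card ↥⁅M, M⁆) := by
    have := hP.W₁_hall
    rwa [IsComplIn.relIndex_right hP.W₁_compl] at this
  have ha1 : a = 1 := orderOf_eq_one_iff.mp (Nat.eq_one_of_dvd_coprimes hco
    (Subgroup.orderOf_dvd_natCard _ ha) (orderOf_dvd_of_pow_eq_one h1))
  exact hw.2.2 (by rw [← e, ha1, mul_one]; exact hb)

end

end Cfsg.Agent.OddLocal.Sigma
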