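import Cfsg.Agent.OddLocal.Sigma.PLength
import Cfsg.Agent.Core.BG.ZGroupFixed

/-! Proper subgroups of a minimal simple group of odd order have `p`-length at most one. -/

set_option autoImplicit false

namespace Cfsg.Agent.OddLocal.Sigma

open Cfsg

universe u

theorem pLengthLE_proper {G : Type u} [Group G] [Finite G] (hG : IsMinSimpleOddOrder G) (p : ℕ) [Fact p.Prime]
    (H : Subgroup G) (hH : H ≠ ⊤) : PLengthLE p 1 H :=
  pLengthLE_one_proper hG (fun X _ _ _ hodd H R R0 _ h1 h2 h3 h4 h5 q _ =>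
    Core.BG.pLengthLE_commutator_of_zgroup hodd H R R0 h1 h2 h3 h4 h5 q) p H hH

end Cfsg.Agent.OddLocal.Sigma
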