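import Cfsg.Agent.OddLocal.Sigma.CountPartition
import Cfsg.Agent.OddLocal.Sigma.FittingM

/-! The supporting maximal subgroup and `R(x)` for `x` in `M_σ` (BG 14.4, 14.5). -/

set_option autoImplicit false
set_option linter.style.haveILetI false
set_option linter.unusedSectionVars false

namespace Cfsg.Agent.OddLocal.Sigma

open Cfsg

variable {G : Type*} [Group G] [Finite G]

theorem sigma_eq_of_cj {M : Subgroup G} (g : G) : sigma (cj g M) = sigma M := by
  ext q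
  refine ⟨fun h => ?_, fun h => ?_⟩
  · haveI := Fact.mk h.1
    have := mem_sigma_cj h g⁻¹
    rwa [← cj_mul, inv_mul_cancel, cj_one] at this
  · haveI := Fact.mk h.1
    exact mem_sigma_cj h g

/-- `N` is the supporting maximal subgroup of `x ∈ M_σ` (BG 14.4). -/
structure IsSupport (M N : Subgroup G) (x : G) : Prop where
  coatom : IsCoatom N
  le : Subgroup.centralizer ({x} : Set G) ≤ N
  only : ∀ L : Subgroup G, IsCoatom L → Subgroup.centralizer ({x} : Set G) ≤ L → L = N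
  nilpotent : Group.IsNilpotent (sigmaCore N)
  tau2_primes : ∀ q : ℕ, q.Prime → q ∣ orderOf x → q ∈ tau2 N ∧ q ∈ sigma M
  mem : x ∈ M ⊓ N
  hat : x ∈ sigmaHat N
  compl : IsComplIn (M ⊓ N) (sigmaCore N) N
  nc : ∀ g : G, N ≠ cj g M
  notLe : ¬ Subgroup.centralizer ({x} : Set G) ≤ M

section
variable (hG : IsMinSimpleOddOrder G)
include hG
variable (hpl : ∀ (p : ℕ) [Fact p.Prime] (H : Subgroup G), H ≠ ⊤ → PLengthLE p 1 H)
include hpl

theorem exists_support {M : Subgroup G} (hM : IsCoatom M) {x : G} (hx : x ∈ sigmaCore M) (hx1 : x ≠ 1)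
    (hC : ¬ Subgroup.centralizer ({x} : Set G) ≤ M) : ∃ N : Subgroup G, IsSupport M N x := by
  obtain ⟨q, hq, hd⟩ := Nat.exists_prime_and_dvd (show orderOf x ≠ 1 by rwa [ne_eq, orderOf_eq_one_iff])
  haveI := Fact.mk hq
  set u := x ^ (orderOf x / q) with hu'
  have hu : orderOf u = q := orderOf_pow_orderOf_div (orderOf_pos x).ne' hd
  have hxM : x ∈ M := sigmaCore_le M hx
  set X := Subgroup.zpowers u with hXdef
  have hX : Nat.card X = q := by rw [Nat.card_zpowers, hu]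
  have hXM : X ≤ M := Subgroup.zpowers_le.mpr (pow_mem hxM _)
  have hσ : ∀ r : ℕ, r.Prime → r ∣ orderOf x → r ∈ sigma M := fun r hr hrd =>
    mem_sigma_of_dvd hr (hrd.trans (Subgroup.orderOf_dvd_natCard _ hx))
  have hCX : Subgroup.centralizer ({x} : Set G) ≤ Subgroup.centralizer (X : Set G) := fun c hc => by
    rw [← centralizer_singleton_eq rfl, Subgroup.mem_centralizer_singleton_iff]
    exact ((show Commute c x from Subgroup.mem_centralizer_singleton_iff.mp hc).pow_right _).eq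
  obtain ⟨N, E, hN, hnc, hNX, hE, hXE, hEM, hNM⟩ := exists_bad_normalizer hG hpl hM (hσ q hq hd) hX hXM
    fun h => hC (hCX.trans h)
  have hCN : Subgroup.centralizer ({x} : Set G) ≤ N :=
    hCX.trans ((Subgroup.centralizer_le_normalizer _).trans hNX)
  have hxx : x ∈ Subgroup.centralizer ({x} : Set G) := Subgroup.mem_centralizer_singleton_iff.mpr rfl
  have hxN : x ∈ N := hCN hxx
  have hEeq : M ⊓ N = E := by
    refine le_antisymm (fun m hm => ?_) (le_inf hEM hE.1)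
    obtain ⟨e, he, s, hs, rfl⟩ := hE.2.2.2 m hm.2
    have h1 : s ∈ sigmaCore N ⊓ M := by
      refine ⟨hs, ?_⟩
      have := M.mul_mem (M.inv_mem (hEM he)) hm.1
      rwa [inv_mul_cancel_left] at this
    rw [hNM, Subgroup.mem_bot] at h1
    rwa [h1, mul_one]
  have hE' : IsComplIn (M ⊓ N) (sigmaCore N) N := hEeq.symm ▸ hE
  have hxE : x ∈ E := hEeq ▸ ⟨hxM, hxN⟩
  -- `x` centralizes a non-identity element of `N_σ`
  have hfix : ∃ y ∈ sigmaCore N, y ≠ 1 ∧ x * y = y * x := by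
    obtain ⟨c, hc, hcM⟩ := SetLike.not_le_iff_exists.mp hC
    obtain ⟨e, he, s, hs, rfl⟩ := hE.2.2.2 c (hCN hc)
    have hcomm : x * (e * s) = (e * s) * x := (Subgroup.mem_centralizer_singleton_iff.mp hc).symm
    have h0 : x * s * x⁻¹ ∈ sigmaCore N :=
      (Subgroup.mem_normalizer_iff.mp (le_normalizer_sigmaCore N hxN) s).mp hs
    have h1 : e⁻¹ * (x * e * x⁻¹) = s * (x * s * x⁻¹)⁻¹ := by
      have h2 : x * e * x⁻¹ * (x * s * x⁻¹) = e * s := by
        rw [show x * e * x⁻¹ * (x * s * x⁻¹) = x * (e * s) * x⁻¹ by group, hcomm, mul_inv_cancel_right]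
      rw [eq_mul_inv_iff_mul_eq, mul_assoc, h2, inv_mul_cancel_left]
    have h3 : s * (x * s * x⁻¹)⁻¹ ∈ E ⊓ sigmaCore N :=
      ⟨h1 ▸ E.mul_mem (E.inv_mem he) (E.mul_mem (E.mul_mem hxE he) (E.inv_mem hxE)),
        (sigmaCore N).mul_mem hs ((sigmaCore N).inv_mem h0)⟩
    rw [hE.2.2.1, Subgroup.mem_bot, mul_inv_eq_one] at h3
    refine ⟨s, hs, fun e1 => hcM ?_, ?_⟩
    · rw [e1, mul_one]
      exact hEM he
    · exact (eq_mul_inv_iff_mul_eq.mp h3).symm
  obtain ⟨y, hy, hy1, hxy⟩ := hfix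
  have hσN : ∀ r : ℕ, r.Prime → r ∣ orderOf x → r ∉ sigma N := fun r hr hrd => by
    haveI := Fact.mk hr
    exact sigma_disjoint hG hpl hM hN hnc (hσ r hr hrd)
  have hqτ : q ∈ tau2 N := by
    have hqN : q ∉ sigma N := hσN q hq hd
    have hXN : X ≤ N := Subgroup.le_normalizer.trans hNX
    rcases mem_classes hG hN hq (hX ▸ Subgroup.card_dvd_of_le hXN) with h | h | h | h
    · exact absurd h hqN
    · exact absurd (cj_one N).symm ((normalizer_tau13 hG hpl hN hN (Or.inl h) hX hNX).1 1)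
    · exact h
    · exact absurd (cj_one N).symm ((normalizer_tau13 hG hpl hN hN (Or.inr h) hX hNX).1 1)
  have hτ : ∀ r : ℕ, r.Prime → r ∣ orderOf x → r ∈ tau2 N := by
    intro r hr hrd
    refine (fixed_elt_classes hG hpl hN hxN hy hy1 hxy hr hrd (hσN r hr hrd)).resolve_left fun hrκ => hy1 ?_
    haveI := Fact.mk hr
    have hpt := kappa_subset_tau1 hG hpl hN hrκ
    set z := x ^ (orderOf x / r)
    have hz : orderOf z = r := orderOf_pow_orderOf_div (orderOf_pos x).ne' hrd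
    have hyP : y ∈ Subgroup.centralizer (Subgroup.zpowers z : Set G) := by
      rw [← centralizer_singleton_eq rfl, Subgroup.mem_centralizer_singleton_iff]
      exact ((show Commute x y from hxy).pow_left _).eq.symm
    refine Subgroup.mem_bot.mp ((tau12_regular hG hpl hN hpt (P := Subgroup.zpowers z)
      (by rw [Nat.card_zpowers, hz]) (Subgroup.zpowers_le.mpr (pow_mem hxN _)) hqτ
      (Z := X) (Subgroup.zpowers_le.mpr (pow_mem hxN _)) hX (Subgroup.zpowers_le.mpr ?_)).le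
      (Subgroup.mem_inf.mpr ⟨hy, hyP⟩))
    rw [← centralizer_singleton_eq rfl, Subgroup.mem_centralizer_singleton_iff]
    exact ((Commute.refl x).pow_pow _ _).eq
  have hhat : x ∈ sigmaHat N := ⟨hxN, y, hy, hy1, hxy⟩
  obtain ⟨hCxN, honly⟩ := only_centralizer_of_tau2 hG hpl hN hE hxN hx1 hτ hhat
  obtain ⟨A, hAE, hAe, hA2⟩ := exists_ea_le_compl hG hE hqτ
  obtain ⟨A0, hexc⟩ := exists_exc hG hpl hN hqτ.2.1 (hAE.trans hE.1) hAe hA2
  exact ⟨N, hN, hCN, honly, hexc.isNilpotent hG hpl, fun r hr hrd => ⟨hτ r hr hrd, hσ r hr hrd⟩, ⟨hxM, hxN⟩, hhat,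
    hE', hnc, hC⟩

namespace IsSupport

variable {M N : Subgroup G} {x : G}

omit hG hpl in
theorem eq_of (h : IsSupport M N x) {L : Subgroup G} (hL : IsCoatom L)
    (hC : Subgroup.centralizer ({x} : Set G) ≤ L) : L = N := h.only L hL hC

theorem sigmaCore_eq (h : IsSupport M N x) : sigmaCore N = fittingHallOf N :=
  le_antisymm (sigmaCore_le_fittingHallOf hG hpl h.coatom h.nilpotent)
    (fittingHallOf_le_sigmaCore hG hpl h.coatom)

omit hG hpl in
/-- `C(x) = C_M(x) C_{N_σ}(x)`. -/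
theorem exists_mul (h : IsSupport M N x) {c : G} (hc : c ∈ Subgroup.centralizer ({x} : Set G)) :
    ∃ a ∈ M ⊓ Subgroup.centralizer ({x} : Set G), ∃ b ∈ sigmaCore N ⊓ Subgroup.centralizer ({x} : Set G), c = a * b := by
  set C := Subgroup.centralizer ({x} : Set G) with hCdef
  obtain ⟨e, he, s, hs, rfl⟩ := h.compl.2.2.2 c (h.le hc)
  have hxN := h.mem.2
  have hcomm : x * (e * s) = (e * s) * x := (Subgroup.mem_centralizer_singleton_iff.mp hc).symm
  have h0 : x * s * x⁻¹ ∈ sigmaCore N :=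
    (Subgroup.mem_normalizer_iff.mp (le_normalizer_sigmaCore N hxN) s).mp hs
  have h1 : e⁻¹ * (x * e * x⁻¹) = s * (x * s * x⁻¹)⁻¹ := by
    have h2 : x * e * x⁻¹ * (x * s * x⁻¹) = e * s := by
      rw [show x * e * x⁻¹ * (x * s * x⁻¹) = x * (e * s) * x⁻¹ by group, hcomm, mul_inv_cancel_right]
    rw [eq_mul_inv_iff_mul_eq, mul_assoc, h2, inv_mul_cancel_left]
  have h3 : s * (x * s * x⁻¹)⁻¹ ∈ (M ⊓ N) ⊓ sigmaCore N := by
    refine ⟨h1 ▸ ?_, (sigmaCore N).mul_mem hs ((sigmaCore N).inv_mem h0)⟩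
    exact (M ⊓ N).mul_mem ((M ⊓ N).inv_mem he) ((M ⊓ N).mul_mem ((M ⊓ N).mul_mem h.mem he) ((M ⊓ N).inv_mem h.mem))
  rw [h.compl.2.2.1, Subgroup.mem_bot, mul_inv_eq_one] at h3
  have hsC : s ∈ C := Subgroup.mem_centralizer_singleton_iff.mpr (eq_mul_inv_iff_mul_eq.mp h3)
  have heC : e ∈ C := by
    have := C.mul_mem hc (C.inv_mem hsC)
    rwa [mul_inv_cancel_right] at this
  exact ⟨e, ⟨he.1, heC⟩, s, ⟨hs, hsC⟩, rfl⟩

omit hG hpl in
theorem le_normalizer_R (h : IsSupport M N x) : Subgroup.centralizer ({x} : Set G) ≤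
    Subgroup.normalizer ((sigmaCore N ⊓ Subgroup.centralizer ({x} : Set G) : Subgroup G) : Set G) := fun c hc => by
  refine cj_eq_iff.mp ?_
  rw [cj, Subgroup.map_inf _ _ _ (MulAut.conj c).injective, ← cj, ← cj,
    cj_eq_iff.mpr (le_normalizer_sigmaCore N (h.le hc)), cj_eq_iff.mpr (Subgroup.le_normalizer hc)]

omit hG hpl in
theorem R_inf (h : IsSupport M N x) :
    (sigmaCore N ⊓ Subgroup.centralizer ({x} : Set G)) ⊓ M = ⊥ := by
  refine le_bot_iff.mp fun g hg => ?_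
  rw [← h.compl.2.2.1]
  exact ⟨⟨hg.2, h.le hg.1.2⟩, hg.1.1⟩

omit hG hpl in
theorem complIn_R (h : IsSupport M N x) : IsComplIn (M ⊓ Subgroup.centralizer ({x} : Set G))
    (sigmaCore N ⊓ Subgroup.centralizer ({x} : Set G)) (Subgroup.centralizer ({x} : Set G)) :=
  ⟨inf_le_right, inf_le_right, le_bot_iff.mp fun g hg => h.R_inf.le ⟨hg.2, hg.1.1⟩,
    fun _ hc => h.exists_mul hc⟩

theorem supportR_eq (h : IsSupport M N x) :
    supportR M x = sigmaCore N ⊓ Subgroup.centralizer ({x} : Set G) := by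
  have hu : ∃! L : Subgroup G, IsCoatom L ∧ Subgroup.centralizer ({x} : Set G) ≤ L :=
    ⟨N, ⟨h.coatom, h.le⟩, fun L hL => h.only L hL.1 hL.2⟩
  rw [supportR, dif_pos ⟨h.notLe, hu⟩]
  have hch := Classical.choose_spec hu.exists
  rw [h.only _ hch.1 hch.2, ← h.sigmaCore_eq hG hpl]

theorem decomp (h : IsSupport M N x) (hx1 : x ≠ 1) {K U : Subgroup G} (hd : IsSigmaDecomposition N K U) :
    U ≠ ⊥ ∧ x ∈ sigmaA N U ∧ x ∉ sigmaCore N := by
  have hnot : x ∉ sigmaCore N := fun hxσ => hx1 (Subgroup.mem_bot.mp (h.compl.2.2.1.le ⟨h.mem, hxσ⟩))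
  have hxU : x ∈ U ⊔ sigmaCore N := by
    by_contra hne
    obtain ⟨m, -, i, hi, hiK⟩ := exists_kappa_power hG hpl h.coatom hd h.mem.2 hne
    obtain ⟨p, hp, hpd⟩ := Nat.exists_prime_and_dvd (show orderOf (x ^ i) ≠ 1 by rwa [ne_eq, orderOf_eq_one_iff])
    haveI := Fact.mk hp
    have h1 : p ∈ kappa N := hd.hall.2.1 p hp (by
      have := Subgroup.orderOf_dvd_natCard K hiK
      rw [orderOf_conj_eq] at this
      exact hpd.trans this)
    have h2 := (h.tau2_primes p hp (hpd.trans (orderOf_pow_dvd i))).1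
    exact h2.2.2.2 (kappa_subset_tau1 hG hpl h.coatom h1).2.2.2.2
  refine ⟨fun e => hnot ?_, ⟨h.hat, hxU⟩, hnot⟩
  rwa [e, bot_sup_eq] at hxU

end IsSupport

omit hG hpl in
theorem supportR_eq_bot {M : Subgroup G} {x : G} (h : Subgroup.centralizer ({x} : Set G) ≤ M) :
    supportR M x = ⊥ := by
  rw [supportR, dif_neg fun e => e.1 h]

omit hpl in
theorem eq_of_cj_eq_of_inf {M R : Subgroup G} (hM : IsCoatom M) (hR : R ⊓ M = ⊥) {r r' : G} (hr : r ∈ R)
    (hr' : r' ∈ R) (e : cj r M = cj r' M) : r = r' := by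
  have : r'⁻¹ * r ∈ R ⊓ M := ⟨R.mul_mem (R.inv_mem hr') hr,
    mem_of_cj_eq hG hM (by rw [cj_mul, e, ← cj_mul, inv_mul_cancel, cj_one])⟩
  rw [hR, Subgroup.mem_bot, inv_mul_eq_one] at this
  exact this.symm

/-- The properties of `R(x)` (BG 14.4). -/
theorem supportR_facts {M : Subgroup G} (hM : IsCoatom M) {x : G} (hx : x ∈ sigmaCore M) (hx1 : x ≠ 1) :
    Subgroup.centralizer ({x} : Set G) ≤ Subgroup.normalizer (supportR M x : Set G) ∧
      IsComplIn (M ⊓ Subgroup.centralizer ({x} : Set G)) (supportR M x) (Subgroup.centralizer ({x} : Set G)) ∧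
      supportR M x ⊓ M = ⊥ ∧
      (∀ g : G, x ∈ cj g M → ∃ r ∈ supportR M x, cj r M = cj g M) ∧
      (∀ r ∈ supportR M x, ∀ q : ℕ, q.Prime → q ∣ orderOf r → q ∉ sigma M) ∧
      (∀ q : ℕ, q.Prime → q ∣ Nat.card ↥(M ⊓ Subgroup.centralizer ({x} : Set G)) →
        ¬ q ∣ Nat.card (supportR M x)) := by
  set C := Subgroup.centralizer ({x} : Set G) with hCdef
  obtain ⟨V, hVC, -, hdec, -, -⟩ := exists_rsub hG hpl hM hx hx1
  by_cases hC : C ≤ M
  · rw [supportR_eq_bot hC]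
    refine ⟨fun c _ => by rw [Subgroup.mem_normalizer_iff]; simp,
      ⟨inf_le_right, bot_le, inf_bot_eq _, fun c hc => ⟨c, ⟨hC hc, hc⟩, 1, one_mem _, (mul_one c).symm⟩⟩,
      bot_inf_eq _, fun g hg => ?_, fun r hr q hq hd => ?_, fun q hq _ hd => ?_⟩
    · obtain ⟨v, hv, l, hl, rfl⟩ := hdec g hg
      exact ⟨1, one_mem _, by rw [cj_one, cj_eq_iff.mpr (Subgroup.le_normalizer (mul_mem (hC (hVC hv)) hl))]⟩
    · rw [Subgroup.mem_bot.mp hr, orderOf_one] at hd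
      exact absurd hd hq.not_dvd_one
    · rw [Subgroup.card_bot] at hd
      exact hq.not_dvd_one hd
  obtain ⟨N, h⟩ := exists_support hG hpl hM hx hx1 hC
  rw [h.supportR_eq hG hpl]
  refine ⟨h.le_normalizer_R, h.complIn_R, h.R_inf, fun g hg => ?_, fun r hr q hq hd hσ => ?_, fun q hq h1 h2 => ?_⟩
  · obtain ⟨v, hv, l, hl, rfl⟩ := hdec g hg
    obtain ⟨a, ha, b, hb, hab⟩ := h.exists_mul (C.inv_mem (hVC hv))
    refine ⟨b⁻¹, inv_mem hb, ?_⟩
    have hv' : v = b⁻¹ * a⁻¹ := by rw [← mul_inv_rev, ← hab, inv_inv]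
    rw [hv', mul_assoc, cj_mul b⁻¹ (a⁻¹ * l),
      cj_eq_iff.mpr (Subgroup.le_normalizer (mul_mem (inv_mem ha.1) hl))]
  · haveI := Fact.mk hq
    exact sigma_disjoint hG hpl hM h.coatom h.nc hσ
      (mem_sigma_of_dvd hq (hd.trans (Subgroup.orderOf_dvd_natCard _ hr.1)))
  · exact complIn_notMem_sigma hG h.coatom h.compl hq
      (h1.trans (Subgroup.card_dvd_of_le (le_inf inf_le_left (inf_le_right.trans h.le))))
      (mem_sigma_of_dvd hq (h2.trans (Subgroup.card_dvd_of_le inf_le_left)))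

/-- `x R(x)` and `y R(y)` are disjoint (BG 14.5). -/
theorem supportR_disjoint {M N : Subgroup G} (hM : IsCoatom M) (hN : IsCoatom N) {x y : G}
    (hx : x ∈ sigmaCore M) (hy : y ∈ sigmaCore N) (hx1 : x ≠ 1) (hy1 : y ≠ 1) {r s : G} (hr : r ∈ supportR M x)
    (hs : s ∈ supportR N y) (he : x * r = y * s) : x = y := by
  obtain ⟨-, hcx, -, htx, hrσ, -⟩ := supportR_facts hG hpl hM hx hx1
  obtain ⟨-, hcy, -, -, hsσ, -⟩ := supportR_facts hG hpl hN hy hy1
  have hxr : Commute x r := (Subgroup.mem_centralizer_singleton_iff.mp (hcx.2.1 hr)).symm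
  have hys : Commute y s := (Subgroup.mem_centralizer_singleton_iff.mp (hcy.2.1 hs)).symm
  have hxσ : ∀ q : ℕ, q.Prime → q ∣ orderOf x → q ∈ sigma M := fun q hq hd =>
    mem_sigma_of_dvd hq (hd.trans (Subgroup.orderOf_dvd_natCard _ hx))
  have hyσ : ∀ q : ℕ, q.Prime → q ∣ orderOf y → q ∈ sigma N := fun q hq hd =>
    mem_sigma_of_dvd hq (hd.trans (Subgroup.orderOf_dvd_natCard _ hy))
  by_cases hMN : ∃ g : G, N = cj g M
  · obtain ⟨g, rfl⟩ := hMN
    rw [sigma_eq_of_cj] at hyσ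
    exact part_unique hxr hys he hxσ (hrσ r hr) hyσ (fun q hq hd => sigma_eq_of_cj (M := M) g ▸ hsσ s hs q hq hd)
  push Not at hMN
  exfalso
  have hdisj : ∀ q : ℕ, q.Prime → q ∈ sigma M → q ∉ sigma N := fun q hq h => by
    haveI := Fact.mk hq
    exact sigma_disjoint hG hpl hM hN hMN h
  -- `y` lies in `R(x)` and `x` lies in `R(y)`
  have key : ∀ {M N : Subgroup G} {x y r s : G}, Commute x r → Commute y s → x * r = y * s →
      (∀ q : ℕ, q.Prime → q ∣ orderOf x → q ∈ sigma M) → (∀ q : ℕ, q.Prime → q ∣ orderOf r → q ∉ sigma M) →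
      (∀ q : ℕ, q.Prime → q ∣ orderOf y → q ∈ sigma N) → (∀ q : ℕ, q.Prime → q ∣ orderOf s → q ∉ sigma N) →
      (∀ q : ℕ, q.Prime → q ∈ sigma M → q ∉ sigma N) → ∃ k : ℕ, x = s ^ k := by
    intro M N x y r s hxr hys he hxσ hrσ hyσ hsσ hd
    obtain ⟨k, hk⟩ := exists_pow_part hxr
      (Nat.coprime_of_dvd fun q hq h1 h2 => hrσ q hq h2 (hxσ q hq h1))
    rw [he, hys.mul_pow] at hk
    have h1 : y ^ k = 1 := part_unique (π := sigma N) (hys.pow_pow k k) (Commute.one_left x)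
      (hk.trans (one_mul x).symm) (fun q hq hqd => hyσ q hq (hqd.trans (orderOf_pow_dvd k)))
      (fun q hq hqd => hsσ q hq (hqd.trans (orderOf_pow_dvd k)))
      (fun q hq hqd => absurd (orderOf_one (G := G) ▸ hqd) hq.not_dvd_one)
      (fun q hq hqd => hd q hq (hxσ q hq hqd))
    rw [h1, one_mul] at hk
    exact ⟨k, hk.symm⟩
  obtain ⟨i, hi⟩ := key hxr hys he hxσ (hrσ r hr) hyσ (hsσ s hs) hdisj
  obtain ⟨j, hj⟩ := key hys hxr he.symm hyσ (hsσ s hs) hxσ (hrσ r hr) (fun q hq h h' => hdisj q hq h' h)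
  have hCx : ¬ Subgroup.centralizer ({x} : Set G) ≤ M := fun hC => hy1 (by
    rw [supportR_eq_bot hC, Subgroup.mem_bot] at hr
    rw [hj, hr, one_pow])
  have hCy : ¬ Subgroup.centralizer ({y} : Set G) ≤ N := fun hC => hx1 (by
    rw [supportR_eq_bot hC, Subgroup.mem_bot] at hs
    rw [hi, hs, one_pow])
  obtain ⟨Nx, hNx⟩ := exists_support hG hpl hM hx hx1 hCx
  obtain ⟨Ny, hNy⟩ := exists_support hG hpl hN hy hy1 hCy
  rw [hNx.supportR_eq hG hpl] at hr
  have hs' := hs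
  rw [hNy.supportR_eq hG hpl] at hs'
  have hxNy : x ∈ sigmaCore Ny := hi ▸ pow_mem hs'.1 i
  have hyNx : y ∈ sigmaCore Nx := hj ▸ pow_mem hr.1 j
  -- `N_y` is a conjugate of `M` containing `x`
  obtain ⟨q, hq, hqd⟩ := Nat.exists_prime_and_dvd (show orderOf x ≠ 1 by rwa [ne_eq, orderOf_eq_one_iff])
  haveI := Fact.mk hq
  obtain ⟨g, hg⟩ : ∃ g : G, Ny = cj g M := by
    by_contra hc
    push Not at hc
    exact sigma_disjoint hG hpl hM hNy.coatom hc (hxσ q hq hqd)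
      (mem_sigma_of_dvd hq (hqd.trans (Subgroup.orderOf_dvd_natCard _ hxNy)))
  obtain ⟨t, ht, e⟩ := htx g (hg ▸ sigmaCore_le Ny hxNy)
  rw [hNx.supportR_eq hG hpl] at ht
  rw [← e] at hg
  have h1 : t⁻¹ * y * t ∈ M := mem_cj.mp (hg ▸ hNy.mem.2)
  have h2 : t⁻¹ * y * t ∈ sigmaCore Nx := mul_mem (mul_mem (inv_mem ht.1) hyNx) ht.1
  have h3 : t⁻¹ * y * t ∈ (M ⊓ Nx) ⊓ sigmaCore Nx := ⟨⟨h1, sigmaCore_le Nx h2⟩, h2⟩
  rw [hNx.compl.2.2.1, Subgroup.mem_bot] at h3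
  exact hy1 (conj_eq_one_iff (a := t⁻¹).mp (by rwa [inv_inv]))

end

end Cfsg.Agent.OddLocal.Sigma
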