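import Cfsg.Agent.OddLocal.Sigma.NonTI
import Cfsg.Agent.OddLocal.Sigma.PartnerRows

/-! The maximal subgroup `H ⊇ N(R)` for a Sylow subgroup `R` of `U` in type `P₂` (BG 15.8). -/

set_option autoImplicit false
set_option linter.style.haveILetI false
set_option linter.unusedSectionVars false

namespace Cfsg.Agent.OddLocal.Sigma

open Cfsg
open scoped commutatorElement

variable {G : Type*} [Group G] [Finite G]

/-- `M` of type `P₂` with partner `L`. -/
structure P2Ctx (M K U L : Subgroup G) (p : ℕ) : Prop where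
  coatom : IsCoatom M
  decomp : IsSigmaDecomposition M K U
  partner : IsPartner M K L
  card : Nat.card K = p
  U_ne : U ≠ ⊥

section
variable (hG : IsMinSimpleOddOrder G)
include hG
variable (hpl : ∀ (p : ℕ) [Fact p.Prime] (H : Subgroup G), H ≠ ⊤ → PLengthLE p 1 H)
include hpl

namespace P2Ctx

variable {M K U L : Subgroup G} {p : ℕ}

omit hG hpl in
theorem K_ne [hp : Fact p.Prime] (c : P2Ctx M K U L p) : K ≠ ⊥ := ne_bot_of_card_prime c.card

theorem mem_sigma [hp : Fact p.Prime] (c : P2Ctx M K U L p) : p ∈ sigma L :=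
  mem_sigma_of_dvd hp.out (c.card ▸ Subgroup.card_dvd_of_le c.partner.le_sigma)

theorem only [hp : Fact p.Prime] (c : P2Ctx M K U L p) :
    Subgroup.centralizer (K : Set G) ≤ L ∧ Only L (Subgroup.centralizer (K : Set G)) :=
  c.partner.onlyP p K c.card le_rfl

theorem eq_of_conj [hp : Fact p.Prime] (c : P2Ctx M K U L p) {g : G} (h : K ≤ cj g L) : cj g L = L := by
  obtain ⟨a, ha, e⟩ := transitive hG c.partner.coatom (c.mem_sigma hG hpl) _ K le_rfl
    (isPGroup_of_card_prime c.card) c.K_ne 1 g (by rw [cj_one]; exact c.partner.le_sigma.trans (sigmaCore_le L)) h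
  rw [cj_one] at e
  rw [e, cj_eq_iff.mpr (Subgroup.le_normalizer ((c.only hG hpl).1 ha))]

/-- A non-cyclic `σ(L)`-subgroup of prime power order normalized by `K` lies in `L`. -/
theorem le_of_noncyclic [hp : Fact p.Prime] (c : P2Ctx M K U L p) {q : ℕ} [hq : Fact q.Prime] (hqL : q ∈ sigma L)
    {B : Subgroup G} (hB : IsPGroup q B) (hnc : ¬ IsCyclic B) (hKB : K ≤ Subgroup.normalizer (B : Set G)) :
    B ≤ L := by
  obtain ⟨g, hg⟩ := exists_cj_le hqL hB
  have hL' := isCoatom_cj c.partner.coatom g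
  have hσ : q ∈ sigma (cj g L) := by rw [sigma_eq_of_cj]; exact hqL
  have hN := normalizer_le_of_noncyclic hG hpl hL' hσ hB hg hnc
  have hK : K ≤ cj g L := hKB.trans hN
  rwa [c.eq_of_conj hG hpl hK] at hg

/-- In type `P₂` the centralizers of the elements of `M_σ` lie in `M`. -/
theorem centralizer_le [hp : Fact p.Prime] (c : P2Ctx M K U L p) {x : G} (hx : x ∈ sigmaCore M) (hx1 : x ≠ 1) :
    Subgroup.centralizer ({x} : Set G) ≤ M := by
  have hTI := fitting_isTI_of_U hG hpl c.coatom c.decomp c.K_ne c.U_ne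
  have hn := isNilpotent_sigmaCore_of_ne_bot hG hpl c.coatom c.decomp c.U_ne
  have hxF : x ∈ fittingOf M :=
    fittingHallOf_le_fittingOf M (sigmaCore_le_fittingHallOf hG hpl c.coatom hn hx)
  have hFN : Subgroup.normalizer (fittingOf M : Set G) = M :=
    (c.coatom.le_iff.mp (le_normalizer_fittingOf M)).resolve_left (Core.BG.normalizer_ne_top hG
      (fun e => hx1 (Subgroup.mem_bot.mp (e ▸ hxF))) (fun e => c.coatom.1 (top_le_iff.mp
        (e.ge.trans (Subgroup.map_subtype_le _)))))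
  intro g hg
  by_contra hgM
  refine hx1 (hTI g (fun h => hgM (hFN.le h)) x hxF ?_)
  rw [Subgroup.mem_centralizer_singleton_iff.mp hg, mul_inv_cancel_right]
  exact hxF

/-- Primes of `L ∩ C(K)`. -/
theorem classes_fixed [hp : Fact p.Prime] (c : P2Ctx M K U L p) {a : G} (ha : a ∈ L)
    (haK : a ∈ Subgroup.centralizer (K : Set G)) {q : ℕ} (hq : q.Prime) (hqd : q ∣ orderOf a) (hqL : q ∉ sigma L) :
    q ∈ sigma M ∨ q ∈ tau2 L := by
  obtain ⟨k, hk, hk1⟩ := K.bot_or_exists_ne_one.resolve_left c.K_ne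
  refine (fixed_elt_classes hG hpl c.partner.coatom ha (c.partner.le_sigma hk) hk1
    (Subgroup.mem_centralizer_iff.mp haK k hk).symm hq hqd hqL).imp_left fun hκ => ?_
  haveI := Fact.mk hq
  refine mem_sigma_of_dvd hq (dvd_trans ?_ (Subgroup.card_dvd_of_le inf_le_left :
    Nat.card ↥(sigmaCore M ⊓ Subgroup.centralizer (K : Set G)) ∣ _))
  have h1 : q ∣ Nat.card L := hqd.trans (Subgroup.orderOf_dvd_natCard L ha)
  rw [← Core.card_mul_relIndex c.partner.hall.1] at h1
  exact (hq.dvd_mul.mp h1).resolve_right (c.partner.hall.2.2 q hq hκ)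

theorem inf_L [hp : Fact p.Prime] (c : P2Ctx M K U L p) : U ⊓ L = ⊥ := by
  have hs := c.partner.split hG hpl c.decomp.hall
  obtain ⟨-, hUp, -⟩ := decomp_facts hG hpl c.coatom c.decomp
  have h0 : U ⊓ (K ⊔ (sigmaCore M ⊓ Subgroup.centralizer (K : Set G))) = ⊥ := by
    refine Coprime.inf_eq_bot_of_coprime (Nat.coprime_of_dvd fun q hq h1 h2 => ?_)
    rw [hs.card_sup] at h1
    rcases hq.dvd_mul.mp h1 with h | h
    · exact (hUp q hq h2).2 (c.decomp.hall.2.1 q hq h)
    · exact (hUp q hq h2).1 (hs.right q hq h)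
  rw [← c.partner.inter] at h0
  exact le_bot_iff.mp fun x hx => h0.le ⟨hx.1, c.decomp.compl.1 hx.1, hx.2⟩

end P2Ctx

/-- A non-central pair of prime orders cannot act without fixed points on `H_σ`. -/
theorem fixed_of_pair {H X P : Subgroup G} (hH : IsCoatom H) {q p : ℕ} [hq : Fact q.Prime] [hp : Fact p.Prime]
    (hX : Nat.card X = q) (hP : Nat.card P = p) (hXH : X ≤ H) (hPH : P ≤ H) (hqσ : q ∉ sigma H) (hpσ : p ∉ sigma H)
    (hPX : P ≤ Subgroup.normalizer (X : Set G)) (hfpf : X ⊓ Subgroup.centralizer (P : Set G) = ⊥)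
    (hC : sigmaCore H ⊓ Subgroup.centralizer (P : Set G) = ⊥) :
    sigmaCore H ⊓ Subgroup.centralizer (X : Set G) ≠ ⊥ := by
  intro h0
  have hPc : ∀ e ∈ P, e ≠ 1 → Subgroup.centralizer ({e} : Set G) = Subgroup.centralizer (P : Set G) := fun e he he1 =>
    centralizer_eq_of_card_prime hP he he1
  have hXP : X ⊓ P = ⊥ := le_bot_iff.mp fun x hx => hfpf.le ⟨hx.1, Subgroup.mem_centralizer_iff.mpr fun y hy => by
    haveI : IsCyclic P := isCyclic_of_prime_card hP
    exact congrArg Subtype.val (show (⟨y, hy⟩ : P) * ⟨x, hx.2⟩ = ⟨x, hx.2⟩ * ⟨y, hy⟩ by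
      letI := IsCyclic.commGroup (α := P); exact mul_comm _ _)⟩
  haveI := Core.BG.isSolvable_proper hG hH.1
  haveI : Group.IsSolvable (sigmaCore H) := Core.BG.isSolvable_proper hG fun e =>
    hH.1 (top_le_iff.mp (e.ge.trans (sigmaCore_le H)))
  have hcop : (Nat.card (sigmaCore H)).Coprime (Nat.card ↥(X ⊔ P)) := Nat.coprime_of_dvd fun r hr h1 h2 => by
    rw [Coprime.card_sup hPX hXP, hX, hP] at h2
    rcases hr.dvd_mul.mp h2 with h | h
    · exact hqσ ((Nat.prime_dvd_prime_iff_eq hr hq.out).mp h ▸ mem_sigma_of_dvd hr h1)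
    · exact hpσ ((Nat.prime_dvd_prime_iff_eq hr hp.out).mp h ▸ mem_sigma_of_dvd hr h1)
  have hcard := Core.BG.card_eq_inf_centralizer_pow (M := sigmaCore H) (K := X) (R := P) inferInstance
    (ne_bot_of_card_prime hX) (ne_bot_of_card_prime hP) hPX hXP
    (fun e he he1 => by rw [hPc e he he1]; exact hfpf)
    ((sup_le hXH hPH).trans (le_normalizer_sigmaCore H)) hcop h0
  rw [hC, Subgroup.card_bot, one_pow] at hcard
  exact sigmaCore_ne_bot hG hH (Subgroup.eq_bot_of_card_eq _ hcard)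

theorem regular_line {H X : Subgroup G} (hH : IsCoatom H) (hκ : kappa H = ∅) {q : ℕ} [hq : Fact q.Prime]
    (hX : Nat.card X = q) (hXH : X ≤ H) (hqτ : q ∈ tau1 H ∪ tau3 H) :
    sigmaCore H ⊓ Subgroup.centralizer (X : Set G) = ⊥ := by
  obtain ⟨x, hx, hx1⟩ := X.bot_or_exists_ne_one.resolve_left (ne_bot_of_card_prime hX)
  rw [← centralizer_eq_of_card_prime hX hx hx1]
  refine regular_of_kappa_empty hG hpl hH hκ (hXH hx) hx1 fun r hr hd => ?_
  have h1 : r ∣ q := hX ▸ hd.trans (Subgroup.orderOf_dvd_natCard X hx)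
  exact (Nat.prime_dvd_prime_iff_eq hr hq.out).mp h1 ▸ hqτ

namespace P2Ctx

variable {M K U L : Subgroup G} {p : ℕ} [hp : Fact p.Prime]

theorem fixed_eq_bot (c : P2Ctx M K U L p) {H : Subgroup G} (hH : IsCoatom H) (hκ : kappa H = ∅) (hKH : K ≤ H)
    (hpH : p ∉ sigma H) : sigmaCore H ⊓ Subgroup.centralizer (K : Set G) = ⊥ := by
  by_contra hne
  have hτ : p ∈ tau2 H := (fixed_classes hG hpl hH c.card hKH hpH hne).resolve_left (by rw [hκ]; exact id)
  obtain ⟨k, hk, hk1⟩ := K.bot_or_exists_ne_one.resolve_left c.K_ne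
  obtain ⟨y, hy, hy1⟩ := (Subgroup.bot_or_exists_ne_one _).resolve_left hne
  obtain ⟨E, hE, -⟩ := exists_compl_ge hG hH (bot_le : (⊥ : Subgroup G) ≤ H) (fun q hq hd => by
    rw [Subgroup.card_bot] at hd; exact absurd hd hq.not_dvd_one)
  have hk' : ∀ q : ℕ, q.Prime → q ∣ orderOf k → q ∈ tau2 H := fun q hq hd =>
    (Nat.prime_dvd_prime_iff_eq hq hp.out).mp (c.card ▸ hd.trans (Subgroup.orderOf_dvd_natCard K hk)) ▸ hτ
  have h1 := (only_centralizer_of_tau2 hG hpl hH hE (hKH hk) hk1 hk'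
    ⟨hKH hk, y, hy.1, hy1, Subgroup.mem_centralizer_iff.mp hy.2 k hk⟩).1
  rw [centralizer_eq_of_card_prime c.card hk hk1] at h1
  rw [(c.only hG hpl).2 H hH h1] at hpH
  exact hpH (c.mem_sigma hG hpl)

/-- Prime order subgroups moved by `K` have their primes in `σ(H)`. -/
theorem mem_sigma_line (c : P2Ctx M K U L p) {H : Subgroup G} (hH : IsCoatom H) (hκ : kappa H = ∅) (hKH : K ≤ H)
    (hpH : p ∉ sigma H) {X : Subgroup G} {q : ℕ} [hq : Fact q.Prime] (hX : Nat.card X = q) (hXH : X ≤ H)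
    (hKX : K ≤ Subgroup.normalizer (X : Set G)) (hfpf : X ⊓ Subgroup.centralizer (K : Set G) = ⊥)
    (hqM : q ∉ sigma M) (hXL : ¬ X ≤ L) : q ∈ sigma H := by
  by_contra hqH
  have hC := c.fixed_eq_bot hG hpl hH hκ hKH hpH
  have hXfix := fixed_of_pair hG hpl hH hX c.card hXH hKH hqH hpH hKX hfpf hC
  rcases mem_classes hG hH hq.out (hX ▸ Subgroup.card_dvd_of_le hXH) with h | h | h | h
  · exact hqH h
  · exact hXfix (regular_line hG hpl hH hκ hX hXH (Or.inl h))
  swap
  · exact hXfix (regular_line hG hpl hH hκ hX hXH (Or.inr h))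
  have hXK : X ⊓ K = ⊥ := le_bot_iff.mp fun x hx => hfpf.le ⟨hx.1, Subgroup.mem_centralizer_iff.mpr fun y hy => by
    haveI := c.decomp.cyclic
    exact congrArg Subtype.val (show (⟨y, hy⟩ : K) * ⟨x, hx.2⟩ = ⟨x, hx.2⟩ * ⟨y, hy⟩ by
      letI := IsCyclic.commGroup (α := K); exact mul_comm _ _)⟩
  obtain ⟨E, hE, hle⟩ := exists_compl_ge hG hH (sup_le hXH hKH) (fun r hr hd => by
    rw [Coprime.card_sup hKX hXK, hX, c.card] at hd
    rcases hr.dvd_mul.mp hd with hd | hd
    · exact (Nat.prime_dvd_prime_iff_eq hr hq.out).mp hd ▸ hqH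
    · exact (Nat.prime_dvd_prime_iff_eq hr hp.out).mp hd ▸ hpH)
  have hXE : X ≤ E := le_sup_left.trans hle
  obtain ⟨B, hBE, hBe, hB2⟩ := exists_ea_le_compl hG hE h
  obtain ⟨⟨hEB, hall⟩, ⟨hCB, -, hnot⟩, hlines⟩ := tau2_compl_facts hG hpl hH hE h ⟨hBE, hBe, hB2⟩
  have hKB : K ≤ Subgroup.normalizer (B : Set G) := (le_sup_right.trans hle).trans hEB
  have hXB : X ≤ B := hall X hXE hX
  have hBc := hBe.1
  by_cases hfix : B ⊓ Subgroup.centralizer (K : Set G) = ⊥
  swap
  · obtain ⟨a, ha, ha1⟩ := (Subgroup.bot_or_exists_ne_one _).resolve_left hfix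
    have haL : a ∈ L := (c.only hG hpl).1 ha.2
    have hao : orderOf a = q := (orderOf_eq_prime (hBe.2 a ha.1) ha1)
    by_cases hqL : q ∈ sigma L
    · exact hXL (hXB.trans (c.le_of_noncyclic hG hpl hqL (Components.ea_isPGroup hBe)
        (not_isCyclic_ea_sq hBe hB2) hKB))
    rcases c.classes_fixed hG hpl haL ha.2 hq.out (hao ▸ dvd_rfl) hqL with h' | h'
    · exact hqM h'
    obtain ⟨k, hk, hk1⟩ := K.bot_or_exists_ne_one.resolve_left c.K_ne
    obtain ⟨E', hE', -⟩ := exists_compl_ge hG c.partner.coatom (bot_le : (⊥ : Subgroup G) ≤ L) (fun r hr hd => by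
      rw [Subgroup.card_bot] at hd; exact absurd hd hr.not_dvd_one)
    refine hXL (hXB.trans (le_trans ?_ (only_centralizer_of_tau2 hG hpl c.partner.coatom hE' haL ha1
      (fun r hr hd => (Nat.prime_dvd_prime_iff_eq hr hq.out).mp (hao ▸ hd) ▸ h')
      ⟨haL, k, c.partner.le_sigma hk, hk1, (Subgroup.mem_centralizer_iff.mp ha.2 k hk).symm⟩).1))
    exact fun b hb => Subgroup.mem_centralizer_singleton_iff.mpr (PLocal.comm_of_EA hBe hb ha.1)
  -- `K` fixes no element of `B`
  have hgood : ∀ Y : Subgroup G, Y ≤ B → Nat.card Y = q → K ≤ Subgroup.normalizer (Y : Set G) →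
      Subgroup.centralizer (Y : Set G) ≤ H ∧ Only H (Subgroup.centralizer (Y : Set G)) := fun Y hY hYc hKY =>
    hlines Y hY hYc (fixed_of_pair hG hpl hH hYc c.card ((hY.trans hBE).trans hE.1) hKH hqH hpH hKY
      (le_bot_iff.mp ((inf_le_inf_right _ hY).trans hfix.le)) hC)
  set N := Subgroup.normalizer (B : Set G) with hN
  have hBtop : N ≠ ⊤ := Core.BG.normalizer_ne_top_of_isPGroup hG (fun e => by
    rw [e, Subgroup.card_bot] at hB2
    exact absurd hB2.symm (Nat.one_lt_pow two_ne_zero hq.out.one_lt).ne') (Components.ea_isPGroup hBe)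
  set D := ⁅N, N⁆ with hD
  have hDN : D ≤ N := Subgroup.commutator_le.mpr fun a ha b hb =>
    mul_mem (mul_mem (mul_mem ha hb) (inv_mem ha)) (inv_mem hb)
  have hND : N ≤ Subgroup.normalizer (D : Set G) := fun g hg =>
    mem_normalizer_commutator (Subgroup.le_normalizer hg) (Subgroup.le_normalizer hg)
  by_cases hDC : D ≤ Subgroup.centralizer (B : Set G)
  · obtain ⟨n, hn, hnH⟩ := SetLike.not_le_iff_exists.mp hnot
    have hY : cj n X ≤ B := (cj_mono hXB).trans (cj_eq_iff.mpr hn).le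
    have hYK : K ≤ Subgroup.normalizer (cj n X : Set G) := fun k hk => cj_eq_iff.mp (by
      have hd : k⁻¹ * n⁻¹ * k * n ∈ D := by
        have := Subgroup.commutator_mem_commutator (N.inv_mem (hKB hk)) (N.inv_mem hn)
        rwa [commutatorElement_def, inv_inv, inv_inv] at this
      have hdX : k⁻¹ * n⁻¹ * k * n ∈ Subgroup.normalizer (X : Set G) :=
        Subgroup.centralizer_le_normalizer _ (Subgroup.centralizer_le hXB (hDC hd))
      rw [← cj_mul, show k * n = n * k * (k⁻¹ * n⁻¹ * k * n) by group, cj_mul, cj_eq_iff.mpr hdX, cj_mul,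
        cj_eq_iff.mpr (hKX hk)])
    obtain ⟨h1, h2⟩ := hgood X hXB hX hKX
    obtain ⟨h3, h4⟩ := hgood (cj n X) hY (by rw [card_cj, hX]) hYK
    exact hnH (mem_of_cj_eq hG hH (h4 _ (isCoatom_cj hH n) (by
      rw [← cj_centralizer]; exact cj_mono h1)))
  -- the fixed line of the derived group of `N(B)`
  set Y := B ⊓ Subgroup.centralizer (D : Set G) with hYdef
  have hq2 : q ≠ 2 := ne_two_of_dvd hG (hX ▸ Subgroup.card_subgroup_dvd_card X)
  haveI := Core.BG.isSolvable_proper hG hBtop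
  have hsmall : RankTwo.OddAutSmall q B := RankTwo.oddAutSmall_of_card_le hq2
    (fun a b => hBc.is_comm.comm a b) (fun a => Subtype.ext (hBe.2 a a.2)) hB2.le
  obtain ⟨Dq⟩ := (inferInstance : Nonempty (Sylow q D))
  set T := (Dq : Subgroup D).map D.subtype with hT
  have hCT : B ⊓ Subgroup.centralizer (T : Set G) ≤ Subgroup.centralizer (D : Set G) := by
    refine Subgroup.le_centralizer_iff.mp (Core.le_of_forall_exists_sylow_le fun r hr => ?_)
    haveI := Fact.mk hr
    by_cases hrq : r = q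
    · subst hrq
      exact ⟨Dq, Subgroup.le_centralizer_iff.mp inf_le_right⟩
    · obtain ⟨R⟩ := (inferInstance : Nonempty (Sylow r D))
      exact ⟨R, (Core.BG.le_centralizer_of_oddAutSmall hrq (odd_of_dvd hG (Subgroup.card_subgroup_dvd_card N))
        (inferInstance : Group.IsSolvable N) (R.isPGroup'.map _) (Subgroup.map_subtype_le _) le_rfl hsmall).trans
        (Subgroup.centralizer_le inf_le_left)⟩
  have hTN : T ≤ N := (Subgroup.map_subtype_le _).trans hDN
  have hBT : IsPGroup q ↥(B ⊔ T) :=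
    IsPGroup.to_sup_of_normal_left' (Components.ea_isPGroup hBe) (Dq.isPGroup'.map _) hTN
  haveI := hBT.isNilpotent
  have hB1 : B ≠ ⊥ := fun e => by
    rw [e, Subgroup.card_bot] at hB2
    exact absurd hB2.symm (Nat.one_lt_pow two_ne_zero hq.out.one_lt).ne'
  have hW : ⁅B, T⁆ ≤ B := Coprime.commutator_le_of_le_normalizer hTN
  have hWlt : ⁅B, T⁆ < B := lt_of_le_of_ne hW fun e => hB1 (Transfer.eq_bot_of_le_commutator le_sup_left
    (e.ge.trans (Subgroup.commutator_mono le_rfl le_sup_right)))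
  have hY1 : B ⊓ Subgroup.centralizer (T : Set G) ≠ ⊥ := by
    intro h0
    by_cases hW1 : ⁅B, T⁆ = ⊥
    · exact hB1 (le_bot_iff.mp (h0 ▸ le_inf le_rfl (Subgroup.commutator_eq_bot_iff_le_centralizer.mp hW1)))
    have hWT : T ≤ Subgroup.normalizer ((⁅B, T⁆ : Subgroup G) : Set G) := Subgroup.normalizer_commutator_ge_right B T
    have hle : ⁅⁅B, T⁆, T⁆ ≤ ⁅B, T⁆ := Coprime.commutator_le_of_le_normalizer hWT
    by_cases h2 : ⁅⁅B, T⁆, T⁆ = ⊥
    · exact hW1 (le_bot_iff.mp (h0 ▸ le_inf hW (Subgroup.commutator_eq_bot_iff_le_centralizer.mp h2)))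
    obtain ⟨j, hj⟩ := IsPGroup.iff_card.mp ((IsPGroup.of_card hB2).to_le (hle.trans hW))
    have hj0 : j ≠ 0 := fun e => h2 (Subgroup.eq_bot_of_card_eq _ (by rw [hj, e, pow_zero]))
    have heq : ⁅⁅B, T⁆, T⁆ = ⁅B, T⁆ := Subgroup.eq_of_le_of_card_ge hle
      ((card_le_of_lt_sq hB2 hWlt).trans (hj ▸ Nat.le_self_pow hj0 q))
    exact h2 (heq.trans (Transfer.eq_bot_of_le_commutator (hW.trans le_sup_left)
      (heq.ge.trans (Subgroup.commutator_mono le_rfl le_sup_right))))
  have hYne : Y ≠ ⊥ := fun e => hY1 (le_bot_iff.mp (e ▸ le_inf inf_le_left hCT))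
  have hYlt : Y < B := lt_of_le_of_ne inf_le_left fun e => hDC (Subgroup.le_centralizer_iff.mp (e ▸ inf_le_right))
  have hYc : Nat.card Y = q := by
    obtain ⟨j, hj⟩ := IsPGroup.iff_card.mp ((IsPGroup.of_card hB2).to_le hYlt.le)
    refine le_antisymm (card_le_of_lt_sq hB2 hYlt) ?_
    rw [hj]
    exact Nat.le_self_pow (fun e => hYne (Subgroup.eq_bot_of_card_eq _ (by rw [hj, e, pow_zero]))) q
  have hYN : N ≤ Subgroup.normalizer (Y : Set G) := fun g hg =>
    mem_normalizer_inf hg (mem_normalizer_centralizer (hND hg))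
  obtain ⟨h1, h2⟩ := hgood Y hYlt.le hYc (hKB.trans hYN)
  refine hnot (hYN.trans fun g hg => mem_of_cj_eq hG hH (h2 _ (isCoatom_cj hH g) ?_))
  conv_lhs => rw [← cj_eq_iff.mpr hg]
  rw [← cj_centralizer]
  exact cj_mono h1

omit hG hpl in
theorem card_sup_K (c : P2Ctx M K U L p) (h : K ⊓ U = ⊥) : Nat.card ↥(U ⊔ K) = Nat.card U * p := by
  rw [Coprime.card_sup c.decomp.normal (by rwa [inf_comm]), c.card]

/-- A Sylow subgroup of `U` is one of `M`. -/
theorem sylow_relIndex (c : P2Ctx M K U L p) {r : ℕ} [hr : Fact r.Prime] (R : Sylow r U) (hd : r ∣ Nat.card U) :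
    ¬ r ∣ ((R : Subgroup U).map U.subtype).relIndex M := by
  obtain ⟨hE, hUp, hKU⟩ := decomp_facts hG hpl c.coatom c.decomp
  intro hdiv
  rw [← Subgroup.relIndex_mul_relIndex _ U M (Subgroup.map_subtype_le _) c.decomp.compl.1] at hdiv
  rcases hr.out.dvd_mul.mp hdiv with h | h
  · rw [Subgroup.relIndex, Subgroup.subgroupOf, Subgroup.comap_map_eq_self_of_injective U.subtype_injective] at h
    exact R.not_dvd_index h
  rw [← Subgroup.relIndex_mul_relIndex U (U ⊔ K) M le_sup_left hE.1] at h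
  rcases hr.out.dvd_mul.mp h with h | h
  · have h1 := Core.card_mul_relIndex (le_sup_left : U ≤ U ⊔ K)
    rw [c.card_sup_K hKU] at h1
    rw [Nat.eq_of_mul_eq_mul_left Nat.card_pos h1] at h
    exact (hUp r hr.out hd).2 ((Nat.prime_dvd_prime_iff_eq hr.out hp.out).mp h ▸
      c.decomp.hall.2.1 p hp.out (by rw [c.card]))
  · exact (hUp r hr.out hd).1 (complIn_index_isPiNat hG hE r hr.out h)

theorem commU (c : P2Ctx M K U L p) : IsMulCommutative U := decomp_abelian hG hpl c.coatom c.decomp c.K_ne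

theorem sylow_norm (c : P2Ctx M K U L p) {r : ℕ} [hr : Fact r.Prime] (R : Sylow r U) :
    U ⊔ K ≤ Subgroup.normalizer (((R : Subgroup U).map U.subtype : Subgroup G) : Set G) := by
  haveI := c.commU hG hpl
  refine sup_le (fun u hu => Coprime.mem_normalizer_of_conj_mem fun a ha => ?_)
    (fun k hk => Coprime.mem_normalizer_of_conj_mem fun a ha => ?_)
  · obtain ⟨z, hz, rfl⟩ := ha
    have hcm : u * (z : G) = z * u := congrArg Subtype.val (mul_comm' (⟨u, hu⟩ : U) z)
    show u * (z : G) * u⁻¹ ∈ _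
    rw [hcm, mul_inv_cancel_right]
    exact Subgroup.mem_map_of_mem _ hz
  · obtain ⟨z, hz, rfl⟩ := ha
    have hzU : k * (z : G) * k⁻¹ ∈ U := (Subgroup.mem_normalizer_iff.mp (c.decomp.normal hk) z).mp z.2
    refine ⟨⟨_, hzU⟩, Subgroup.zpowers_le.mp ?_, rfl⟩
    haveI : (R : Subgroup U).Normal := inferInstance
    refine Core.le_of_coprime_index ?_
    rw [Nat.card_zpowers, Subgroup.orderOf_mk]
    show (orderOf (k * (z : G) * k⁻¹)).Coprime _
    rw [orderOf_conj_eq, Subgroup.orderOf_coe]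
    obtain ⟨j, hj⟩ := IsPGroup.iff_card.mp R.isPGroup'
    refine Nat.Coprime.coprime_dvd_left (hj ▸ Subgroup.orderOf_dvd_natCard _ hz) ?_
    exact (hr.out.coprime_iff_not_dvd.mpr R.not_dvd_index).pow_left j

/-- The prime of `R` is in `σ(H)`, and `H` is a new class of type `F`. -/
theorem step_one (c : P2Ctx M K U L p) {r : ℕ} [hr : Fact r.Prime] (hd : r ∣ Nat.card U) (R : Sylow r U)
    {H : Subgroup G} (hH : IsCoatom H)
    (hNR : Subgroup.normalizer (((R : Subgroup U).map U.subtype : Subgroup G) : Set G) ≤ H) :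
    r ∈ sigma H ∧ kappa H = ∅ ∧ p ∉ sigma H ∧ U ⊔ K ≤ H := by
  obtain ⟨hE, hUp, hKU⟩ := decomp_facts hG hpl c.coatom c.decomp
  set R' := (R : Subgroup U).map U.subtype with hR'
  have hR'p : IsPGroup r R' := R.isPGroup'.map _
  have hR'U : R' ≤ U := Subgroup.map_subtype_le _
  have hR'M : R' ≤ M := hR'U.trans c.decomp.compl.1
  have hUK : U ⊔ K ≤ H := (c.sylow_norm hG hpl R).trans hNR
  have hR'H : R' ≤ H := Subgroup.le_normalizer.trans hNR
  have hrR : r ∣ Nat.card R' := by rw [hR', Core.card_map_subtype]; exact R.dvd_card_of_dvd_card hd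
  have hR1 : R' ≠ ⊥ := fun e => hr.out.not_dvd_one (by rwa [e, Subgroup.card_bot] at hrR)
  have hrM : r ∉ sigma M := (hUp r hr.out hd).1
  have hRi := c.sylow_relIndex hG hpl R hd
  -- `p ∈ σ(H)` would force `H = L`
  have hnotL : ∀ g : G, H ≠ cj g L := fun g e => by
    have h1 := c.eq_of_conj hG hpl (le_sup_right.trans (e ▸ hUK))
    rw [h1] at e
    exact hR1 (le_bot_iff.mp ((c.inf_L hG hpl) ▸ le_inf hR'U (e ▸ hR'H)))
  have hpH : p ∉ sigma H := fun hσ => by
    by_contra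
    refine hnotL 1 (by_contra fun hne => ?_)
    exact sigma_disjoint hG hpl c.partner.coatom hH (fun g => hnotL g) (c.mem_sigma hG hpl) hσ
  have hκ : (∀ g : G, H ≠ cj g M) → kappa H = ∅ := fun hnM => Set.not_nonempty_iff_eq_empty.mp fun hne => by
    obtain ⟨g, hg | hg⟩ := c.partner.classes hG hpl c.coatom c.decomp.hall c.K_ne hH hne
    exacts [hnM g hg, hnotL g hg]
  have hnM : r ∈ sigma H → ∀ g : G, H ≠ cj g M := fun hσ g e => hrM (by rwa [e, sigma_eq_of_cj] at hσ)
  suffices hσ : r ∈ sigma H from ⟨hσ, hκ (hnM hσ), hpH, hUK⟩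
  by_contra hσ
  by_cases hr1 : PRankLE r 1 M
  · -- cyclic case
    have hnM' : ∀ g : G, H ≠ cj g M := by
      intro g e
      obtain ⟨S, hRS⟩ := hR'p.exists_le_sylow
      obtain ⟨T, hT⟩ := exists_sylow_map_ge hR'p hR'H
      have hTcard : Nat.card ((T : Subgroup H).map H.subtype) ≤ Nat.card R' := by
        have h1 : cj g⁻¹ ((T : Subgroup H).map H.subtype) ≤ M := by
          rw [cj_le_iff, inv_inv, ← e]; exact Subgroup.map_subtype_le _
        obtain ⟨j, hj⟩ := IsPGroup.iff_card.mp (T.isPGroup'.map H.subtype)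
        have h2 : r ^ j ∣ Nat.card R' * R'.relIndex M := by
          rw [Core.card_mul_relIndex hR'M, ← hj, ← card_cj g⁻¹]
          exact Subgroup.card_dvd_of_le h1
        rw [hj]
        exact Nat.le_of_dvd Nat.card_pos
          (((hr.out.coprime_iff_not_dvd.mpr hRi).pow_left j).dvd_of_dvd_mul_right h2)
      have hTR : (T : Subgroup H).map H.subtype = R' := (Subgroup.eq_of_le_of_card_ge hT hTcard).symm
      exact hσ ⟨hr.out, hrR.trans (Subgroup.card_dvd_of_le hR'H), T, hTR ▸ hNR⟩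
    obtain ⟨x, hx⟩ := exists_prime_orderOf_dvd_card' r hrR
    set X := Subgroup.zpowers (x : G) with hXdef
    have hX : Nat.card X = r := by rw [Nat.card_zpowers, Subgroup.orderOf_coe, hx]
    have hXR : X ≤ R' := Subgroup.zpowers_le.mpr x.2
    obtain ⟨S, hS⟩ := exists_sylow_map_ge hR'p hR'M
    haveI := sylow_isCyclic_of_rankOne hG hr1 le_rfl S
    haveI : IsCyclic ((S : Subgroup M).map M.subtype) := isCyclic_of_surjective _
      ((S : Subgroup M).equivMapOfInjective _ M.subtype_injective).surjective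
    have hRc : IsCyclic R' := isCyclic_of_injective (Subgroup.inclusion hS) (Subgroup.inclusion_injective _)
    have hKX : K ≤ Subgroup.normalizer (X : Set G) := fun k hk => mem_normalizer_of_isCyclic hRc hXR
      ((cj_mono hXR).trans (cj_eq_iff.mpr (c.sylow_norm hG hpl R (Subgroup.mem_sup_right hk))).le)
    have hfpf : X ⊓ Subgroup.centralizer (K : Set G) = ⊥ := by
      obtain ⟨k, hk, hk1⟩ := K.bot_or_exists_ne_one.resolve_left c.K_ne
      refine le_bot_iff.mp fun a ha => ?_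
      rw [← decomp_regular hG hpl c.coatom c.decomp hk hk1]
      exact ⟨hR'U (hXR ha.1), Subgroup.centralizer_le (Set.singleton_subset_iff.mpr hk) ha.2⟩
    exact hσ (c.mem_sigma_line hG hpl hH (hκ hnM') (le_sup_right.trans hUK) hpH hX (hXR.trans hR'H) hKX hfpf hrM
      (fun hXL => ne_bot_of_card_prime hX (le_bot_iff.mp ((c.inf_L hG hpl) ▸ le_inf (hXR.trans hR'U) hXL))))
  · -- rank two
    obtain ⟨B, hBM, hBe, hB2⟩ := exists_ea_sq_of_rank (pRankLE_two_of_notMem_sigma hG c.coatom hr.out hrM) hr1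
    obtain ⟨S, hS⟩ := exists_sylow_map_ge hR'p hR'M
    have hSR : (S : Subgroup M).map M.subtype = R' := by
      refine (Subgroup.eq_of_le_of_card_ge hS ?_).symm
      obtain ⟨j, hj⟩ := IsPGroup.iff_card.mp (S.isPGroup'.map M.subtype)
      have h2 : r ^ j ∣ Nat.card R' * R'.relIndex M := by
        rw [Core.card_mul_relIndex hR'M, ← hj]
        exact Subgroup.card_dvd_of_le (Subgroup.map_subtype_le _)
      rw [hj]
      exact Nat.le_of_dvd Nat.card_pos (((hr.out.coprime_iff_not_dvd.mpr hRi).pow_left j).dvd_of_dvd_mul_right h2)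
    obtain ⟨B', hB'e, hB'2, hB'S⟩ := exists_ea_le_sylow hG hpl S hBe hBM
    rw [hB2] at hB'2
    rw [hSR] at hB'S
    have hB'H : B' ≤ H := hB'S.trans hR'H
    obtain ⟨A0, hexc⟩ := exists_exc hG hpl hH hσ hB'H hB'e hB'2
    have hrτ : r ∈ tau2 H := ⟨hr.out, hσ, pRankLE_two_of_notMem_sigma hG hH hr.out hσ, fun h1 =>
      not_isCyclic_ea_sq hB'e hB'2 (by
        obtain ⟨T, hT⟩ := exists_sylow_map_ge (Components.ea_isPGroup hB'e) hB'H
        haveI := sylow_isCyclic_of_rankOne hG h1 le_rfl T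
        haveI : IsCyclic ((T : Subgroup H).map H.subtype) := isCyclic_of_surjective _
          ((T : Subgroup H).equivMapOfInjective _ H.subtype_injective).surjective
        exact isCyclic_of_injective (Subgroup.inclusion hT) (Subgroup.inclusion_injective _))⟩
    obtain ⟨T, hT⟩ := exists_sylow_map_ge hR'p hR'H
    obtain ⟨-, hfacts, -⟩ := tau2_facts hG hpl hH hrτ ⟨hB'H, hB'e, hB'2⟩
    obtain ⟨-, hN⟩ := (hfacts T).2 (hB'S.trans hT)
    have hTc := hexc.sylow_abelian_of_le hG hpl T (hB'S.trans hT)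
    have hTM : (T : Subgroup H).map H.subtype ≤ M :=
      le_trans (fun a ha => Subgroup.mem_centralizer_iff.mpr fun b hb => congrArg Subtype.val
        (hTc.is_comm.comm ⟨b, hT (hB'S hb)⟩ ⟨a, ha⟩))
        (centralizer_ea_sq_le hG hpl c.coatom (hB'S.trans hR'M) hB'e hB'2)
    refine hN ?_
    have hTR : (T : Subgroup H).map H.subtype = R' := by
      refine (Subgroup.eq_of_le_of_card_ge hT ?_).symm
      obtain ⟨j, hj⟩ := IsPGroup.iff_card.mp (T.isPGroup'.map H.subtype)
      have h2 : r ^ j ∣ Nat.card R' * R'.relIndex M := by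
        rw [Core.card_mul_relIndex hR'M, ← hj]
        exact Subgroup.card_dvd_of_le hTM
      rw [hj]
      exact Nat.le_of_dvd Nat.card_pos (((hr.out.coprime_iff_not_dvd.mpr hRi).pow_left j).dvd_of_dvd_mul_right h2)
    rwa [hTR]

end P2Ctx

end

end Cfsg.Agent.OddLocal.Sigma
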