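import Cfsg.Agent.OddLocal.Sigma.TypesP
import Cfsg.Agent.OddLocal.Sigma.SupportKappa

/-! The arithmetic of type V when `M_F` is not TI (BG 15.7). -/

set_option autoImplicit false
set_option linter.style.haveILetI false
set_option linter.unusedSectionVars false

namespace Cfsg.Agent.OddLocal.Sigma

open Cfsg
open scoped commutatorElement Matrix

/-- Automorphisms of an elementary group of order `p ^ 2` as matrices, detecting power maps. -/
theorem exists_gl_hom_scalar {V : Type*} [Group V] [Finite V] {p : ℕ} [hp : Fact p.Prime]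
    (hc : ∀ a b : V, a * b = b * a) (he : ∀ a : V, a ^ p = 1) (hcard : Nat.card V = p ^ 2) :
    ∃ Φ : MulAut V →* GL (Fin 2) (ZMod p), Function.Injective Φ ∧
      ∀ (a : MulAut V) (c : ZMod p), ((Φ a : GL (Fin 2) (ZMod p)) : Matrix (Fin 2) (Fin 2) (ZMod p)) = c • 1 →
        ∀ v : V, a v = v ^ c.val := by
  letI : CommGroup V := { (inferInstance : Group V) with mul_comm := hc }
  letI : Module (ZMod p) (Additive V) := AddCommGroup.zmodModule (n := p) fun x => he x.toMul
  have hfin : Module.finrank (ZMod p) (Additive V) = 2 := by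
    have h1 := Module.natCard_eq_pow_finrank (K := ZMod p) (V := Additive V)
    have h2 : Nat.card (Additive V) = Nat.card V := Nat.card_congr Additive.toMul
    rw [Nat.card_zmod, h2, hcard] at h1
    exact (Nat.pow_right_injective hp.out.two_le h1).symm
  haveI : Module.Finite (ZMod p) (Additive V) := Module.Finite.of_finite
  let e : Additive V ≃ₗ[ZMod p] (Fin 2 → ZMod p) := LinearEquiv.ofFinrankEq _ _ (by simp [hfin])
  let lin : MulAut V → (Fin 2 → ZMod p) →ₗ[ZMod p] (Fin 2 → ZMod p) := fun a =>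
    ((e : Additive V →ₗ[ZMod p] _).comp ((MonoidHom.toAdditive a.toMonoidHom).toZModLinearMap p)).comp
      (e.symm : (Fin 2 → ZMod p) →ₗ[ZMod p] Additive V)
  let f : MulAut V →* Matrix (Fin 2) (Fin 2) (ZMod p) :=
    { toFun := fun a => LinearMap.toMatrix' (lin a)
      map_one' := by
        rw [← LinearMap.toMatrix'_id]
        congr 1
        apply LinearMap.ext
        intro w
        exact e.apply_symm_apply w
      map_mul' := fun a b => by
        rw [← LinearMap.toMatrix'_comp]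
        congr 1
        apply LinearMap.ext
        intro w
        simp [lin] }
  refine ⟨f.toHomUnits, fun a b h => ?_, fun a c h v => ?_⟩
  · have h1 : lin a = lin b := LinearMap.toMatrix'.injective (congrArg Units.val h)
    apply MulEquiv.ext
    intro x
    have h2 := LinearMap.congr_fun h1 (e (Additive.ofMul x))
    simpa [lin] using h2
  · have h1 : lin a = c • LinearMap.id := LinearMap.toMatrix'.injective (by
      rw [map_smul, LinearMap.toMatrix'_id]; exact h)
    have h2 := LinearMap.congr_fun h1 (e (Additive.ofMul v))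
    have h3 : Additive.ofMul (a v) = c • Additive.ofMul v := by
      apply e.injective
      rw [map_smul]
      simpa [lin] using h2
    rw [← ZMod.natCast_zmod_val c, Nat.cast_smul_eq_nsmul, ← ofMul_pow] at h3
    exact Additive.ofMul.injective h3

/-- An element of `GL(2,p)` of order prime to `p`, no non-trivial power of which is scalar. -/
theorem orderOf_dvd_of_not_scalar {p : ℕ} [hp : Fact p.Prime] (g : GL (Fin 2) (ZMod p)) (hg : (orderOf g).Coprime p)
    (hns : ∀ k ∈ Subgroup.zpowers g, ∀ c : ZMod p, k ≠ 1 →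
      ((k : GL (Fin 2) (ZMod p)) : Matrix (Fin 2) (Fin 2) (ZMod p)) ≠ c • 1) :
    orderOf g ∣ p - 1 ∨ orderOf g ∣ p + 1 := by
  by_cases hco : (orderOf g).Coprime (p - 1)
  · right
    have h1 : orderOf g ∣ Nat.card (GL (Fin 2) (ZMod p)) := orderOf_dvd_natCard g
    rw [Matrix.card_GL_field, Fin.prod_univ_two, ZMod.card] at h1
    have h2 : (p ^ 2 - p ^ ((0 : Fin 2) : ℕ)) * (p ^ 2 - p ^ ((1 : Fin 2) : ℕ)) = (p + 1) * ((p - 1) * (p * (p - 1))) := by
      obtain ⟨m, rfl⟩ : ∃ m, p = m + 1 := ⟨p - 1, (Nat.succ_pred hp.out.ne_zero).symm⟩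
      simp only [Fin.val_zero, Fin.val_one, pow_zero, pow_one, Nat.add_sub_cancel]
      have h3 : (m + 1) ^ 2 - 1 = (m + 2) * m := by rw [Nat.sub_eq_iff_eq_add (Nat.one_le_pow _ _ (by omega))]; ring
      have h4 : (m + 1) ^ 2 - (m + 1) = (m + 1) * m := by
        rw [Nat.sub_eq_iff_eq_add (Nat.le_self_pow two_ne_zero _)]; ring
      rw [h3, h4]; ring
    rw [h2] at h1
    exact (Nat.Coprime.dvd_of_dvd_mul_right (hco.mul_right (hg.mul_right hco)) h1)
  · left
    obtain ⟨r, hr, hr1, hr2⟩ := Nat.Prime.not_coprime_iff_dvd.mp hco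
    haveI := Fact.mk hr
    set k := g ^ (orderOf g / r)
    have hk : orderOf k = r := orderOf_pow_orderOf_div (orderOf_pos g).ne' hr1
    have hk1 : k ≠ 1 := fun e => hr.one_lt.ne (by rw [← hk, e, orderOf_one])
    have hkp : k ^ (p - 1) = 1 := orderOf_dvd_iff_pow_eq_one.mp (hk ▸ hr2)
    set A : Matrix (Fin 2) (Fin 2) (ZMod p) := ((k : GL (Fin 2) (ZMod p)) : Matrix (Fin 2) (Fin 2) (ZMod p))
    set B : Matrix (Fin 2) (Fin 2) (ZMod p) := (g : Matrix (Fin 2) (Fin 2) (ZMod p))
    have hAp : A ^ p = A := by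
      have h1 : k ^ p = k := by
        calc k ^ p = k ^ (p - 1 + 1) := by rw [Nat.sub_add_cancel hp.out.one_le]
          _ = k := by rw [pow_succ, hkp, one_mul]
      exact (Units.val_pow_eq_pow_val k p).symm.trans (congrArg Units.val h1)
    have hAB : A * B = B * A := congrArg Units.val ((Commute.refl g).pow_left (orderOf g / r)).eq
    obtain ⟨a, b, hB⟩ := exists_add_smul_of_commute A B
      (fun c => hns k (pow_mem (Subgroup.mem_zpowers g) _) c hk1) hAB
    have hBp : B ^ p = B := by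
      haveI : CharP (Matrix (Fin 2) (Fin 2) (ZMod p)) p := inferInstance
      rw [hB, add_pow_char_of_commute p (((Commute.one_left A).smul_right b).smul_left a), smul_pow, smul_pow, one_pow, hAp, ZMod.pow_card, ZMod.pow_card]
    refine orderOf_dvd_of_pow_eq_one ?_
    have h2 : g ^ p = g := Units.ext ((Units.val_pow_eq_pow_val g p).trans hBp)
    have h3 : g ^ (p - 1 + 1) = g := by rw [Nat.sub_add_cancel hp.out.one_le]; exact h2
    rw [pow_succ] at h3
    exact mul_eq_right.mp h3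

/-- Powers of commutators with central values. -/
theorem commutator_pow_left {T : Type*} [Group T] {a b : T} (h : ⁅a, b⁆ ∈ Subgroup.center T) (n : ℕ) :
    ⁅a ^ n, b⁆ = ⁅a, b⁆ ^ n := by
  induction n with
  | zero => simp
  | succ n ih =>
    have hc := Subgroup.mem_center_iff.mp h (a ^ n)
    rw [pow_succ ⁅a, b⁆, ← ih, pow_succ a, commutatorElement_def, commutatorElement_def]
    rw [commutatorElement_def] at hc
    calc a ^ n * a * b * (a ^ n * a)⁻¹ * b⁻¹ = a ^ n * (a * b * a⁻¹ * b⁻¹) * (b * (a ^ n)⁻¹ * b⁻¹) := by group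
      _ = (a * b * a⁻¹ * b⁻¹) * a ^ n * (b * (a ^ n)⁻¹ * b⁻¹) := by rw [hc]
      _ = (a * b * a⁻¹ * b⁻¹) * (a ^ n * b * (a ^ n)⁻¹ * b⁻¹) := by group
      _ = a ^ n * b * (a ^ n)⁻¹ * b⁻¹ * (a * b * a⁻¹ * b⁻¹) := by
        rw [← commutatorElement_def, ← commutatorElement_def]
        exact (Subgroup.mem_center_iff.mp h _).symm

variable {G : Type*} [Group G] [Finite G]

section
variable (hG : IsMinSimpleOddOrder G)
include hG
variable (hpl : ∀ (p : ℕ) [Fact p.Prime] (H : Subgroup G), H ≠ ⊤ → PLengthLE p 1 H)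
include hpl

/-- A cyclic group with the fixed points of type P on a non-abelian Sylow subgroup of rank two. -/
theorem card_dvd_of_fixed {M K : Subgroup G} {p : ℕ} [hp : Fact p.Prime] (T : Sylow p G) (hKc : IsCyclic K)
    (hKodd : Odd (Nat.card K)) (hKp : (Nat.card K).Coprime p) (hKT : K ≤ Subgroup.normalizer ((T : Subgroup G) : Set G))
    (hT2 : PRankLE p 2 (T : Subgroup G)) (hna : ¬ IsMulCommutative (T : Subgroup G))
    (hK1' : K ≠ ⊥) {Y : Subgroup G} (hY : Nat.card Y = p) (hYK : Y ≤ Subgroup.centralizer (K : Set G))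
    (hfix : ∀ k ∈ K, k ≠ 1 → (T : Subgroup G) ⊓ Subgroup.centralizer ({k} : Set G) ≤ Y) (hKM : K ≤ M) :
    Nat.card K ∣ p - 1 ∨ (Nat.card (T : Subgroup G) = p ^ 3 ∧ Nat.card K ∣ p + 1) := by
  obtain ⟨P₁, P₂, hsup, hcomm, hnab, hPc, hPe, hP2c, hcl⟩ := (sylow_rank_two hG hpl T hT2).resolve_left hna
  have hexp : ∀ x ∈ P₁, x ^ p = 1 := fun x hx =>
    congrArg Subtype.val (hPe ▸ Monoid.pow_exponent_eq_one (⟨x, hx⟩ : P₁))
  have hP1T : P₁ ≤ (T : Subgroup G) := hsup ▸ le_sup_left
  have hP2T : P₂ ≤ (T : Subgroup G) := hsup ▸ le_sup_right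
  set Z := P₁ ⊓ Subgroup.centralizer (P₁ : Set G) with hZdef
  have hZ2 : Z ≤ P₂ := hcl.ge.trans ((Subgroup.closure_le _).mpr fun x hx => hx.1)
  -- the centre of `T`
  have hC : (T : Subgroup G) ⊓ Subgroup.centralizer ((T : Subgroup G) : Set G) = P₂ := by
    refine le_antisymm (fun c hc => ?_) (le_inf hP2T fun b hb => Subgroup.mem_centralizer_iff.mpr fun t ht => ?_)
    · obtain ⟨a, ha, b, hb, e⟩ := Coprime.exists_mul_of_mem_sup (N := P₁) (A := P₂) (fun b hb =>
        Subgroup.centralizer_le_normalizer _ (Subgroup.mem_centralizer_iff.mpr fun a ha => hcomm a ha b hb))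
        (hsup.ge hc.1)
      subst e
      refine P₂.mul_mem (hZ2 ⟨ha, Subgroup.mem_centralizer_iff.mpr fun x hx => ?_⟩) hb
      have h1 : Commute x (a * b) := Subgroup.mem_centralizer_iff.mp hc.2 x (hP1T hx)
      have h2 : Commute x b⁻¹ := (show Commute x b from hcomm x hx b hb).inv_right
      have h3 := h1.mul_right h2
      rwa [mul_inv_cancel_right] at h3
    · have h1 : t ∈ P₁ ⊔ P₂ := hsup.ge ht
      haveI := hP2c
      letI := IsCyclic.commGroup (α := P₂)
      have hle : P₁ ⊔ P₂ ≤ Subgroup.centralizer ({b} : Set G) := sup_le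
        (fun a ha => Subgroup.mem_centralizer_singleton_iff.mpr (hcomm a ha b hb))
        (fun c hc => Subgroup.mem_centralizer_singleton_iff.mpr
          (congrArg Subtype.val (mul_comm (⟨c, hc⟩ : P₂) ⟨b, hb⟩)))
      exact Subgroup.mem_centralizer_singleton_iff.mp (hle (hsup.ge ht))
  have hKP2 : K ≤ Subgroup.normalizer (P₂ : Set G) := fun k hk => hC ▸
    mem_normalizer_inf (hKT hk) (mem_normalizer_centralizer (hKT hk))
  have hZc : Nat.card Z = p := by
    haveI := hP2c
    haveI : IsCyclic Z := isCyclic_of_injective (Subgroup.inclusion hZ2) (Subgroup.inclusion_injective _)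
    have h1 : Monoid.exponent Z ∣ p :=
      Monoid.exponent_dvd_of_forall_pow_eq_one fun a => Subtype.ext (hexp a a.2.1)
    rw [IsCyclic.exponent_eq_card] at h1
    refine (hp.out.eq_one_or_self_of_dvd _ h1).resolve_left fun h2 => ?_
    haveI : Nontrivial P₁ := Finite.one_lt_card_iff_nontrivial.mp (hPc ▸ Nat.one_lt_pow (by norm_num) hp.out.one_lt)
    haveI := (IsPGroup.of_card hPc).center_nontrivial
    obtain ⟨c, hc1⟩ := exists_ne (1 : Subgroup.center P₁)
    refine hc1 (Subtype.ext (Subtype.ext ?_))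
    refine Subgroup.mem_bot.mp ((Subgroup.eq_bot_of_card_eq _ h2).le (⟨(c : P₁).2, ?_⟩ : ((c : P₁) : G) ∈ Z))
    exact Subgroup.mem_centralizer_iff.mpr fun x hx =>
      congrArg Subtype.val (Subgroup.mem_center_iff.mp c.2 ⟨x, hx⟩)
  have hKZ : K ≤ Subgroup.normalizer (Z : Set G) := fun k hk => mem_normalizer_of_isCyclic hP2c hZ2
    ((cj_mono hZ2).trans (cj_eq_iff.mpr (hKP2 hk)).le)
  by_cases hZY : Z = Y
  swap
  · -- `K` acts faithfully on `Z`
    left
    haveI : IsCyclic Z := isCyclic_of_prime_card hZc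
    set f := Z.normalizerMonoidHom.comp (Subgroup.inclusion hKZ) with hf
    have hfi : Function.Injective f := (injective_iff_map_eq_one f).mpr fun k hk => by
      by_contra hk1
      refine hZY (Subgroup.eq_of_le_of_card_ge (fun z hz => hfix k k.2 (fun e => hk1 (Subtype.ext e))
        ⟨hP2T (hZ2 hz), Subgroup.mem_centralizer_singleton_iff.mpr ?_⟩) (by rw [hY, hZc]))
      have h1 : (k : G) * z * (k : G)⁻¹ = z := congrArg Subtype.val (DFunLike.congr_fun hk ⟨z, hz⟩ : (f k) ⟨z, hz⟩ = (1 : MulAut Z) ⟨z, hz⟩)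
      exact (mul_inv_eq_iff_eq_mul.mp h1).symm
    have h2 := Subgroup.card_dvd_of_injective f hfi
    rwa [IsCyclic.card_mulAut, hZc, Nat.totient_prime hp.out] at h2
  -- `T` is extra-special
  have hP2Z : P₂ ≤ Z := by
    haveI : Group.IsSolvable K := by
      letI := IsCyclic.commGroup (α := K)
      exact inferInstance
    have hcop : (Nat.card K).Coprime (Nat.card P₂) := by
      obtain ⟨j, hj⟩ := IsPGroup.iff_card.mp (T.isPGroup'.to_le hP2T)
      rw [hj]; exact hKp.pow_right j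
    haveI := hP2c
    have hP2comm : IsMulCommutative P₂ := ⟨⟨fun a b => by letI := IsCyclic.commGroup (α := P₂); exact mul_comm a b⟩⟩
    have h1 := Coprime.eq_commutator_sup_centralizer hKP2 hcop
    have h2 := Coprime.commutator_inf_centralizer_eq_bot hKP2 hP2comm hcop
    by_cases hW : ⁅P₂, K⁆ = ⊥
    · by_cases hK1 : K = ⊥
      · exact absurd hK1 hK1'
      obtain ⟨k, hk, hk1⟩ := K.bot_or_exists_ne_one.resolve_left hK1
      exact (le_inf hP2T ((Subgroup.commutator_eq_bot_iff_le_centralizer.mp hW).trans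
        (Subgroup.centralizer_le (Set.singleton_subset_iff.mpr hk)))).trans ((hfix k hk hk1).trans hZY.ge)
    exfalso
    have hWle : ⁅P₂, K⁆ ≤ P₂ := Coprime.commutator_le_of_le_normalizer hKP2
    obtain ⟨q, hq, X, hX, hXW⟩ := exists_prime_le hW
    have hqp : q = p := by
      obtain ⟨j, hj⟩ := IsPGroup.iff_card.mp (T.isPGroup'.to_le ((hXW.trans hWle).trans hP2T))
      exact (Nat.prime_dvd_prime_iff_eq hq hp.out).mp (hq.dvd_of_dvd_pow (hj ▸ hX.symm ▸ dvd_rfl : q ∣ p ^ j))
    have hXZ : X = Z := OddLocal.eq_of_card_eq_of_isCyclic hP2c (hXW.trans hWle) hZ2 (by rw [hX, hqp, hZc])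
    exact ne_bot_of_card_prime hZc (le_bot_iff.mp (h2 ▸ le_inf (hXZ ▸ hXW) (hZY.le.trans hYK)))
  have hT3 : Nat.card (T : Subgroup G) = p ^ 3 := by
    rw [← hsup, sup_eq_left.mpr (hP2Z.trans inf_le_left), hPc]
  have hTP : (T : Subgroup G) = P₁ := by rw [← hsup, sup_eq_left.mpr (hP2Z.trans inf_le_left)]
  suffices hh : Nat.card K ∣ p - 1 ∨ Nat.card K ∣ p + 1 from hh.imp_right fun hd => ⟨hT3, hd⟩
  -- the action on `T / Z(T)`
  haveI hcenC : (Subgroup.center (T : Subgroup G)).Characteristic := inferInstance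
  set V := (T : Subgroup G) ⧸ Subgroup.center (T : Subgroup G)
  have hmemZ : ∀ t : (T : Subgroup G), t ∈ Subgroup.center (T : Subgroup G) ↔ (t : G) ∈ Z := fun t => by
    refine ⟨fun h => hP2Z (hC.le ⟨t.2, Subgroup.mem_centralizer_iff.mpr fun x hx =>
      congrArg Subtype.val (Subgroup.mem_center_iff.mp h ⟨x, hx⟩)⟩), fun h => Subgroup.mem_center_iff.mpr fun x =>
      Subtype.ext (Subgroup.mem_centralizer_iff.mp (hC.ge (hZ2 h)).2 x x.2)⟩
  have hcen : Nat.card (Subgroup.center (T : Subgroup G)) = p := by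
    refine Eq.trans ?_ hZc
    rw [← Core.card_subgroupOf (hZ2.trans hP2T)]
    congr 2
    ext t
    rw [hmemZ t, Subgroup.mem_subgroupOf]
  have hVc : Nat.card V = p ^ 2 := by
    have h1 := Subgroup.card_mul_index (Subgroup.center (T : Subgroup G))
    rw [hcen, hT3, show p ^ 3 = p * p ^ 2 by ring] at h1
    exact Nat.eq_of_mul_eq_mul_left hp.out.pos h1
  have hVcomm : ∀ a b : V, a * b = b * a := IsPGroup.commutative_of_card_eq_prime_sq hVc
  have hVe : ∀ a : V, a ^ p = 1 := fun a => by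
    induction a using QuotientGroup.induction_on with
    | H t =>
      rw [← QuotientGroup.mk_pow, show t ^ p = 1 from Subtype.ext (hexp t (hTP.le t.2))]
      rfl
  obtain ⟨Φ, hΦ, hscal⟩ := exists_gl_hom_scalar hVcomm hVe hVc
  set θ : K →* MulAut V := ((RankTwo.autQuot (Subgroup.center (T : Subgroup G))).comp
    (T : Subgroup G).normalizerMonoidHom).comp (Subgroup.inclusion hKT) with hθ
  have hact : ∀ (k : K) (t : (T : Subgroup G)), θ k (QuotientGroup.mk t) =
      QuotientGroup.mk (⟨(k : G) * t * (k : G)⁻¹, (Subgroup.mem_normalizer_iff.mp (hKT k.2) t).mp t.2⟩ :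
        (T : Subgroup G)) := fun k t => rfl
  have hθi : Function.Injective θ := (injective_iff_map_eq_one θ).mpr fun k hk => by
    by_contra hk1
    have hk1' : (k : G) ≠ 1 := fun e => hk1 (Subtype.ext e)
    set S := Subgroup.zpowers (k : G)
    haveI : Group.IsSolvable S := Group.isSolvable_of_comm fun a b => by
      obtain ⟨i, hi⟩ := a.2
      obtain ⟨j, hj⟩ := b.2
      refine Subtype.ext ?_
      show (a : G) * b = b * a
      rw [← hi, ← hj]
      exact ((Commute.refl (k : G)).zpow_zpow i j).eq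
    have hST : S ≤ Subgroup.normalizer ((T : Subgroup G) : Set G) := Subgroup.zpowers_le.mpr (hKT k.2)
    have h1 : ⁅(T : Subgroup G), S⁆ ≤ Z := by
      refine Subgroup.commutator_le.mpr fun t ht s hs => ?_
      have hs' : s ∈ K := (Subgroup.zpowers_le.mpr k.2) hs
      obtain ⟨i, hi⟩ := hs
      have hθs : θ ⟨s, hs'⟩ = 1 := by
        rw [show (⟨s, hs'⟩ : K) = k ^ i from Subtype.ext ((hi.symm.trans (Subgroup.coe_zpow K k i).symm)), map_zpow,
          hk, one_zpow]
      have h3 := (DFunLike.congr_fun hθs (QuotientGroup.mk ⟨t, ht⟩ : V))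
      rw [hact, MulAut.one_apply, QuotientGroup.eq, hmemZ] at h3
      have h4 : (s * t * s⁻¹)⁻¹ * t ∈ Z := h3
      rw [commutatorElement_def, show t * s * t⁻¹ * s⁻¹ = t * (s * t * s⁻¹)⁻¹ by group]
      have hn : t ∈ Subgroup.normalizer (Z : Set G) :=
        Subgroup.centralizer_le_normalizer _ (Subgroup.mem_centralizer_iff.mpr fun z hz =>
          (Subgroup.mem_centralizer_iff.mp (hC.ge (hZ2 hz)).2 t ht).symm)
      have h5 := (Subgroup.mem_normalizer_iff.mp hn _).mp h4
      rwa [show t * ((s * t * s⁻¹)⁻¹ * t) * t⁻¹ = t * (s * t * s⁻¹)⁻¹ by group] at h5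
    have h2 : ⁅⁅(T : Subgroup G), S⁆, S⁆ = ⊥ := le_bot_iff.mp ((Subgroup.commutator_mono h1 le_rfl).trans
      (Subgroup.commutator_eq_bot_iff_le_centralizer.mpr ((hZY.le.trans hYK).trans
        (Subgroup.centralizer_le (show (S : Set G) ⊆ K from Subgroup.zpowers_le.mpr k.2)))).le)
    have hcop : (Nat.card S).Coprime (Nat.card (T : Subgroup G)) := by
      rw [hT3, Nat.card_zpowers, Subgroup.orderOf_coe]
      exact ((hKp.coprime_dvd_left (orderOf_dvd_natCard k)).pow_right 3)
    have h3 := Coprime.commutator_eq_bot_of_commutator_commutator hST hcop h2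
    have h4 : (T : Subgroup G) ≤ Y := fun t ht => hfix k k.2 hk1' ⟨ht,
      Subgroup.centralizer_le (Set.singleton_subset_iff.mpr (Subgroup.mem_zpowers _))
        (Subgroup.commutator_eq_bot_iff_le_centralizer.mp h3 ht)⟩
    have h5 := Subgroup.card_dvd_of_le h4
    rw [hY, hT3] at h5
    have h6 : p ^ 1 < p ^ 3 := Nat.pow_lt_pow_right hp.out.one_lt (by norm_num)
    rw [pow_one] at h6
    exact absurd (Nat.le_of_dvd hp.out.pos h5) (not_le.mpr h6)
  obtain ⟨k₀, hk₀⟩ := IsCyclic.exists_generator (α := K)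
  set ψ := Φ.comp θ with hψ
  have hψi : Function.Injective ψ := hΦ.comp hθi
  have hn : orderOf (ψ k₀) = Nat.card K := by
    rw [orderOf_injective ψ hψi, orderOf_eq_card_of_forall_mem_zpowers hk₀]
  refine (orderOf_dvd_of_not_scalar (ψ k₀) (hn ▸ hKp) fun m hm c hm1 hc => ?_).imp (hn ▸ ·) (hn ▸ ·)
  obtain ⟨i, hi⟩ := hm
  obtain ⟨k, rfl⟩ : ∃ k, ψ k = m := ⟨k₀ ^ i, by rw [map_zpow]; exact hi⟩
  have hk1 : k ≠ 1 := fun e => hm1 (by rw [e, map_one])
  have hpw := hscal (θ k) c hc
  -- a power map fixing the centre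
  obtain ⟨a, b, hab⟩ : ∃ a b : (T : Subgroup G), a * b ≠ b * a := by
    by_contra! hall
    exact hna ⟨⟨hall⟩⟩
  set z := ⁅a, b⁆ with hz
  have hcomm' : ∀ x y : (T : Subgroup G), ⁅x, y⁆ ∈ Subgroup.center (T : Subgroup G) := fun x y => by
    rw [← QuotientGroup.eq_one_iff, show ((⁅x, y⁆ : (T : Subgroup G)) : V) = ⁅(x : V), (y : V)⁆ from
      map_commutatorElement (QuotientGroup.mk' _) x y, commutatorElement_eq_one_iff_mul_comm]
    exact hVcomm _ _
  have hz1 : z ≠ 1 := fun e => hab (commutatorElement_eq_one_iff_mul_comm.mp e)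
  set φ := (T : Subgroup G).normalizerMonoidHom ⟨k, hKT k.2⟩ with hφ
  have hφt : ∀ t : (T : Subgroup G), ∃ w ∈ Subgroup.center (T : Subgroup G), φ t = t ^ c.val * w := fun t => by
    refine ⟨(t ^ c.val)⁻¹ * φ t, ?_, (mul_inv_cancel_left _ _).symm⟩
    have h1 : ((t ^ c.val : (T : Subgroup G)) : V) = (φ t : V) := by
      rw [QuotientGroup.mk_pow, ← hpw (QuotientGroup.mk t)]; rfl
    exact QuotientGroup.eq.mp h1
  have hφz : φ z = z := by
    refine Subtype.ext ?_
    show (k : G) * z * (k : G)⁻¹ = z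
    have h1 : (z : G) ∈ Subgroup.centralizer (K : Set G) := hYK (hZY.le ((hmemZ z).mp (hcomm' a b)))
    rw [Subgroup.mem_centralizer_iff.mp h1 k k.2, mul_inv_cancel_right]
  obtain ⟨w₁, hw₁, e₁⟩ := hφt a
  obtain ⟨w₂, hw₂, e₂⟩ := hφt b
  have hzl : z ^ (c.val * c.val) = z := by
    conv_rhs => rw [← hφz, hz, map_commutatorElement, e₁, e₂]
    rw [show ⁅a ^ c.val * w₁, b ^ c.val * w₂⁆ = ⁅a ^ c.val, b ^ c.val⁆ from ?_]
    · rw [commutator_pow_left (hcomm' _ _), ← commutatorElement_inv, commutator_pow_left (hcomm' _ _),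
        ← inv_pow, commutatorElement_inv, ← pow_mul]
    · have c1 := Subgroup.mem_center_iff.mp hw₁
      have c2 := Subgroup.mem_center_iff.mp hw₂
      rw [commutatorElement_def, commutatorElement_def]
      calc a ^ c.val * w₁ * (b ^ c.val * w₂) * (a ^ c.val * w₁)⁻¹ * (b ^ c.val * w₂)⁻¹
          = a ^ c.val * (w₁ * b ^ c.val) * (w₂ * w₁⁻¹) * (a ^ c.val)⁻¹ * w₂⁻¹ * (b ^ c.val)⁻¹ := by group
        _ = a ^ c.val * (b ^ c.val * w₁) * (w₁⁻¹ * w₂) * (a ^ c.val)⁻¹ * w₂⁻¹ * (b ^ c.val)⁻¹ := by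
          rw [← c1 (b ^ c.val), ← c2 (w₁⁻¹)]
        _ = a ^ c.val * b ^ c.val * (w₂ * (a ^ c.val)⁻¹) * w₂⁻¹ * (b ^ c.val)⁻¹ := by group
        _ = a ^ c.val * b ^ c.val * ((a ^ c.val)⁻¹ * w₂) * w₂⁻¹ * (b ^ c.val)⁻¹ := by rw [← c2 ((a ^ c.val)⁻¹)]
        _ = _ := by group
  have hzp : orderOf z = p := orderOf_eq_prime (Subtype.ext (hexp z (hTP.le z.2))) hz1
  have h2 : (c ^ 2 : ZMod p) = 1 := by
    have h3 := pow_eq_pow_iff_modEq.mp (hzl.trans (pow_one z).symm)
    rw [hzp, ← ZMod.natCast_eq_natCast_iff, Nat.cast_mul, Nat.cast_one, ZMod.natCast_zmod_val] at h3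
    rwa [sq]
  have hk2 : k ^ 2 = 1 := hψi (Units.ext (by
    rw [map_pow, map_one, Units.val_pow_eq_pow_val, hc, smul_pow, one_pow, h2, one_smul, Units.val_one]))
  refine hk1 ?_
  rw [← orderOf_eq_one_iff]
  exact Nat.eq_one_of_dvd_coprimes (Nat.coprime_two_left.mpr hKodd) (orderOf_dvd_of_pow_eq_one hk2)
    (orderOf_dvd_natCard k)

/-- The alternatives of type V. -/
theorem typeV_disjunct {M K U : Subgroup G} (hM : IsCoatom M) (h : IsSigmaDecomposition M K U) (hK1 : K ≠ ⊥)
    (hU : U = ⊥) (hF : fittingHallOf M = sigmaCore M) :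
    IsTISubset (fittingHallOf M : Set G) ∨
      (∃ p : ℕ, p.Prime ∧ p ∣ Nat.card (fittingHallOf M) ∧ Nat.card K ∣ p - 1 ∧
        IsCyclic (pPrimeCore p (fittingHallOf M))) ∨
      (∃ p : ℕ, p.Prime ∧ p ∣ Nat.card (fittingHallOf M) ∧ Nat.card (pCore p (fittingHallOf M)) = p ^ 3 ∧
        Nat.card K ∣ p + 1 ∧ IsCyclic (pPrimeCore p (fittingHallOf M))) := by
  by_cases hTI : IsTISubset (fittingHallOf M : Set G)
  · exact Or.inl hTI
  right
  unfold IsTISubset at hTI
  push Not at hTI
  obtain ⟨g, hg, x, hx, hgx, hx1⟩ := hTI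
  have hgM : g⁻¹ ∉ M := fun h' => hg (inv_mem_iff.mp (le_normalizer_fittingHallOf hG hpl M h'))
  obtain ⟨p, y, hp, hyo, hy, hy'⟩ := exists_moved hG hpl hM hgM hx1 (fittingHallOf_le_fittingOf M hx)
    (mem_cj.mpr (by rw [inv_inv]; exact fittingHallOf_le_fittingOf M hgx))
  haveI := Fact.mk hp
  obtain ⟨hpσ, hyσ, -, hC⟩ := moved_facts hG hpl hM hgM hyo hy hy'
  have hy1 : y ≠ 1 := fun e => hp.one_lt.ne (by rw [← hyo, e, orderOf_one])
  obtain ⟨N, hN⟩ := exists_support hG hpl hM hyσ hy1 hC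
  have hκM := IsPartner.kappa_ne hG hpl h.hall hK1
  have hκN : kappa N = ∅ := Set.not_nonempty_iff_eq_empty.mp fun hne =>
    Set.nonempty_iff_ne_empty.mp hκM (hN.kappa_facts hG hpl hM hy1 hne).1
  have hn : Group.IsNilpotent (sigmaCore M) := hF ▸ isNilpotent_fittingHallOf M
  haveI := hn
  obtain ⟨hpτ, -⟩ := hN.tau2_primes p hp (hyo.symm ▸ dvd_rfl)
  obtain ⟨A, hAE, hAe, hA2⟩ := exists_ea_le_compl hG hN.compl hpτ
  obtain ⟨A0, hexc⟩ := exists_exc hG hpl hN.coatom hpτ.2.1 (hAE.trans hN.compl.1) hAe hA2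
  obtain ⟨T, hTσ, hMT⟩ := le_normalizer_sylow_of_nilpotent' hG hM hpσ
  have hAT := le_sylow_of_le_normalizer hexc.maxEA.isPGroup T ((hAE.trans inf_le_left).trans hMT)
  have hKM : K ≤ M := h.hall.1
  -- Sylow subgroups for other primes lie in `M ⊓ N`
  have hother : ∀ t : ℕ, t.Prime → t ≠ p → ∀ P : Subgroup G, IsPGroup t P → P ≤ sigmaCore M → P ≤ M ⊓ N := by
    intro t ht htp P hP hPσ
    haveI := Fact.mk ht
    refine le_inf (hPσ.trans (sigmaCore_le M)) (le_trans (fun a ha => ?_) hN.le)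
    refine Subgroup.mem_centralizer_singleton_iff.mpr (commute_of_mem_nilpotent hn (hPσ ha) hyσ ?_).eq
    obtain ⟨k, hk⟩ := IsPGroup.iff_card.mp hP
    refine Nat.Coprime.coprime_dvd_left (hk ▸ Subgroup.orderOf_dvd_natCard P ha) ?_
    rw [hyo]
    exact ((Nat.coprime_primes ht hp).mpr htp).pow_left k
  set Y := sigmaCore M ⊓ Subgroup.centralizer (K : Set G) with hYdef
  have hYp := IsPartner.card_fixed_prime hG hpl hM h hK1 hU
  obtain ⟨-, -, -, hfixK⟩ := kappa_hall_facts hG hpl hM h.hall hK1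
  -- `Y` is central in an abelian Sylow subgroup
  have hcentral : ∀ t : ℕ, ∀ _ : Fact t.Prime, ∀ X : Sylow t G, (X : Subgroup G) ≤ sigmaCore M →
      Y ≤ (X : Subgroup G) → ¬ IsMulCommutative (X : Subgroup G) := by
    intro t ht X hXσ hYX hXc
    refine IsPartner.kst_ne hG hpl hM h.hall hK1 (eq_bot_of_central_abelian_sylow hG hpl X hXc hYX ?_)
    have hMX : M ≤ Subgroup.normalizer ((X : Subgroup G) : Set G) :=
      le_normalizer_sylow_of_nilpotent hG hM hn (mem_sigma_of_dvd ht.out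
        ((dvd_card_of_ne_bot X.isPGroup' fun e => IsPartner.kst_ne hG hpl hM h.hall hK1
          (le_bot_iff.mp (e ▸ hYX))).trans (Subgroup.card_dvd_of_le hXσ))) X (hXσ.trans (sigmaCore_le M))
    rw [(hM.le_iff.mp hMX).resolve_left (Core.BG.normalizer_ne_top_of_isPGroup hG
      (fun e => IsPartner.kst_ne hG hpl hM h.hall hK1 (le_bot_iff.mp (e ▸ hYX))) X.isPGroup')]
    intro g hg'
    obtain ⟨u, hu, b, hb, rfl⟩ := h.compl.2.2.2 g hg'
    rw [hU, Subgroup.mem_bot] at hu
    rw [hu, one_mul]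
    refine (sup_le (Subgroup.le_centralizer_iff.mp inf_le_right) ?_) hb
    refine Subgroup.le_centralizer_iff.mp fun a ha => ?_
    refine Subgroup.mem_centralizer_iff.mpr fun s hs => ?_
    refine (?_ : Commute s a).eq
    have hs' := ((Core.le_of_forall_exists_sylow_le
      fun r hr => by
        haveI := Fact.mk hr
        obtain ⟨R⟩ := (inferInstance : Nonempty (Sylow r (sigmaCore M)))
        refine ⟨R, fun v hv => Subgroup.mem_centralizer_singleton_iff.mpr ?_⟩
        by_cases hrt : r = t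
        · subst hrt
          have hvX : v ∈ (X : Subgroup G) := le_sylow_of_le_normalizer (R.isPGroup'.map _) X
            (((Subgroup.map_subtype_le _).trans (sigmaCore_le M)).trans hMX) hv
          exact congrArg Subtype.val (hXc.is_comm.comm ⟨v, hvX⟩ ⟨a, hYX ha⟩)
        · refine (commute_of_mem_nilpotent hn (Subgroup.map_subtype_le _ hv) (hXσ (hYX ha)) ?_).eq
          obtain ⟨i, hi⟩ := IsPGroup.iff_card.mp (R.isPGroup'.map (sigmaCore M).subtype)
          obtain ⟨j, hj⟩ := IsPGroup.iff_card.mp X.isPGroup'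
          exact (((Nat.coprime_primes hr ht.out).mpr hrt).pow i j).coprime_dvd_left
            (hi ▸ Subgroup.orderOf_dvd_natCard _ hv) |>.coprime_dvd_right (hj ▸ Subgroup.orderOf_dvd_natCard _ (hYX ha))) :
        sigmaCore M ≤ Subgroup.centralizer ({a} : Set G)) hs
    exact Subgroup.mem_centralizer_singleton_iff.mp hs'
  -- `|Y| = p` and the Sylow `p`-subgroup is non-abelian
  have hYc : Nat.card Y = p := by
    by_contra hne
    set t := Nat.card Y
    haveI := Fact.mk hYp
    have htσ : t ∈ sigma M := mem_sigma_of_dvd hYp (Subgroup.card_dvd_of_le inf_le_left)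
    obtain ⟨X, hXσ, hMX⟩ := le_normalizer_sylow_of_nilpotent' hG hM htσ
    have hYX := le_sylow_of_le_normalizer (isPGroup_of_card_prime (rfl : Nat.card Y = t)) X
      ((inf_le_left.trans (sigmaCore_le M)).trans hMX)
    have hXMN := hother t hYp hne X X.isPGroup' hXσ
    haveI := X.isPGroup'.isNilpotent
    exact hcentral t ⟨hYp⟩ X hXσ hYX (isMulCommutative_of_nilpotent_le hG hpl hN.coatom (hXMN.trans inf_le_right)
      fun q hq hd => complIn_notMem_sigma hG hN.coatom hN.compl hq (hd.trans (Subgroup.card_dvd_of_le hXMN)))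
  have hYT := le_sylow_of_le_normalizer (isPGroup_of_card_prime hYc) T
    ((inf_le_left.trans (sigmaCore_le M)).trans hMT)
  have hna := hcentral p ⟨hp⟩ T hTσ hYT
  have hτN : tau2 N = {p} := hexc.tau2_eq hG hpl
    (sylow_all_nonabelian fun hall => hna (hall T)) hN.compl hpτ hAE
  -- `O_{p'}(H)` is cyclic
  set H := fittingHallOf M with hH
  haveI : Group.IsNilpotent H := isNilpotent_fittingHallOf M
  have hcyc : IsCyclic (pPrimeCore p H) := by
    haveI : IsZGroup (pPrimeCore p H) := by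
      refine (isZGroup_iff _).mpr fun t ht P => ?_
      haveI := Fact.mk ht
      by_cases hd : t ∣ Nat.card (pPrimeCore p H)
      swap
      · have : (P : Subgroup (pPrimeCore p H)) = ⊥ := Subgroup.eq_bot_of_card_eq _ (by
          rw [Sylow.card_eq_multiplicity, Nat.factorization_eq_zero_of_not_dvd hd, pow_zero])
        rw [this]; infer_instance
      have htp : t ≠ p := fun e => ht.not_dvd_one ((Core.card_pPrimeCore_coprime p H).gcd_eq_one ▸
        Nat.dvd_gcd hd (e ▸ dvd_rfl))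
      set P' := ((P : Subgroup (pPrimeCore p H)).map (pPrimeCore p H).subtype).map H.subtype with hP'
      have hP'p : IsPGroup t P' := (P.isPGroup'.map _).map _
      have hP'σ : P' ≤ sigmaCore M := hF ▸ Subgroup.map_subtype_le _
      have hP'N := hother t ht htp P' hP'p hP'σ
      have hP'1 : t ∣ Nat.card P' := by
        rw [hP', Core.card_map_subtype, Core.card_map_subtype]
        exact P.dvd_card_of_dvd_card hd
      have htN : t ∣ Nat.card N := hP'1.trans (Subgroup.card_dvd_of_le (hP'N.trans inf_le_right))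
      have htσ := complIn_notMem_sigma hG hN.coatom hN.compl ht (hP'1.trans (Subgroup.card_dvd_of_le hP'N))
      have hr1 : PRankLE t 1 N := by
        rcases mem_classes hG hN.coatom ht htN with h' | h' | h' | h'
        exacts [absurd h' htσ, h'.2.2.2.2, absurd h' (by rw [hτN]; exact htp), h'.2.2.2]
      obtain ⟨S, hS⟩ := exists_sylow_map_ge hP'p (hP'N.trans inf_le_right)
      haveI := sylow_isCyclic_of_rankOne hG hr1 le_rfl S
      haveI : IsCyclic ((S : Subgroup N).map N.subtype) := isCyclic_of_surjective _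
        ((S : Subgroup N).equivMapOfInjective _ N.subtype_injective).surjective
      haveI : IsCyclic P' := isCyclic_of_injective (Subgroup.inclusion hS) (Subgroup.inclusion_injective _)
      exact isCyclic_of_surjective _
        ((((P : Subgroup (pPrimeCore p H)).equivMapOfInjective _ (pPrimeCore p H).subtype_injective).trans
          (((P : Subgroup (pPrimeCore p H)).map (pPrimeCore p H).subtype).equivMapOfInjective _ H.subtype_injective)).symm).surjective
    infer_instance
  have hTH : (T : Subgroup G) ≤ H := hF ▸ hTσ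
  have hpd : p ∣ Nat.card H := (hYc ▸ dvd_rfl : p ∣ Nat.card Y).trans (Subgroup.card_dvd_of_le (hYT.trans hTH))
  have hKσ : ∀ q : ℕ, q.Prime → q ∣ Nat.card K → q ∉ sigma M := fun q hq hd => (h.hall.2.1 q hq hd).2.2.1
  have hKp : (Nat.card K).Coprime p := (hp.coprime_iff_not_dvd.mpr fun hd => hKσ p hp hd hpσ).symm
  have hfix : ∀ k ∈ K, k ≠ 1 → (T : Subgroup G) ⊓ Subgroup.centralizer ({k} : Set G) ≤ Y := fun k hk hk1 =>
    (inf_le_inf_right _ hTσ).trans (hfixK k hk hk1).le
  have hp2 : p ≠ 2 := ne_two_of_dvd hG (sigma_dvd hpσ)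
  by_cases hr : PRankLE p 2 (T : Subgroup G)
  · rcases card_dvd_of_fixed hG hpl T h.cyclic (odd_of_dvd hG (Subgroup.card_subgroup_dvd_card K)) hKp
      (hKM.trans hMT) hr hna hK1 hYc inf_le_right hfix hKM with h' | ⟨hT3, h'⟩
    · exact Or.inl ⟨p, hp, hpd, h', hcyc⟩
    · refine Or.inr ⟨p, hp, hpd, ?_, h', hcyc⟩
      rw [← hT3, ← Core.card_subgroupOf hTH]
      congr 2
      refine le_antisymm (fun a ha => Subgroup.mem_subgroupOf.mpr ?_) (le_sSup (show
        (T : Subgroup G).subgroupOf H ∈ {N : Subgroup H | N.Normal ∧ IsPGroup p N} from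
          ⟨?_, T.isPGroup'.comap_subtype⟩))
      · exact le_sylow_of_le_normalizer ((Core.isPGroup_pCore p H).map H.subtype) T
          (((Subgroup.map_subtype_le _).trans (hF.le.trans (sigmaCore_le M))).trans hMT)
          (Subgroup.mem_map_of_mem H.subtype ha)
      · exact Subgroup.normal_subgroupOf_of_le_normalizer ((hF.le.trans (sigmaCore_le M)).trans hMT)
  · refine Or.inl ⟨p, hp, hpd, ?_, hcyc⟩
    have hmax := hexc.maxEA.subgroupOf hAT
    obtain ⟨h1, -⟩ := RankTwo.aut_of_maxEASq hp2 T.isPGroup' hr (E := A.subgroupOf (T : Subgroup G))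
      ⟨hmax.ea, hmax.card, fun B hB hle =>
        le_antisymm (fun b hb => hmax.full b (Subgroup.centralizer_le hle
          (Subgroup.le_centralizer_iff_isMulCommutative.mpr hB.1 hb)) (hB.2 b hb)) hle⟩
    set f := (T : Subgroup G).normalizerMonoidHom.comp (Subgroup.inclusion (hKM.trans hMT))
    have hfi : Function.Injective f := (injective_iff_map_eq_one f).mpr fun k hk => by
      by_contra hk1
      refine hna ?_
      have hTY : (T : Subgroup G) ≤ Y := fun t ht => hfix k k.2 (fun e => hk1 (Subtype.ext e))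
        ⟨ht, Subgroup.mem_centralizer_singleton_iff.mpr (mul_inv_eq_iff_eq_mul.mp (congrArg Subtype.val
          (DFunLike.congr_fun hk ⟨t, ht⟩ : (f k) ⟨t, ht⟩ = (1 : MulAut (T : Subgroup G)) ⟨t, ht⟩) :
            (k : G) * t * (k : G)⁻¹ = t)).symm⟩
      haveI := isCyclic_of_prime_card hYc
      haveI : IsCyclic (T : Subgroup G) :=
        isCyclic_of_injective (Subgroup.inclusion hTY) (Subgroup.inclusion_injective _)
      exact ⟨⟨fun a b => by letI := IsCyclic.commGroup (α := (T : Subgroup G)); exact mul_comm a b⟩⟩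
    haveI := h.cyclic
    obtain ⟨k₀, hk₀⟩ := IsCyclic.exists_generator (α := K)
    have hord : orderOf (f k₀) = Nat.card K := by
      rw [orderOf_injective f hfi, orderOf_eq_card_of_forall_mem_zpowers hk₀]
    exact hord ▸ h1 (f k₀) (hord.symm ▸ hKp)

end

end Cfsg.Agent.OddLocal.Sigma
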