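import Cfsg.Agent.OddLocal.Sigma.TypeIConverse

/-! The maximal subgroups whose Fitting subgroup is not TI. -/

set_option autoImplicit false
set_option linter.style.haveILetI false
set_option linter.unusedSectionVars false

namespace Cfsg.Agent.OddLocal.Sigma

open Cfsg
open scoped commutatorElement

variable {G : Type*} [Group G] [Finite G] (hG : IsMinSimpleOddOrder G)
include hG
variable (hpl : ∀ (p : ℕ) [Fact p.Prime] (H : Subgroup G), H ≠ ⊤ → PLengthLE p 1 H)
include hpl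

/-- BG 15.7, given that `τ₂` vanishes with `κ`. -/
theorem moved_cases_of (hT : ∀ M : Subgroup G, IsCoatom M → kappa M = ∅ → tau2 M = ∅) {M K U : Subgroup G}
    (hM : IsCoatom M) (hKU : IsSigmaDecomposition M K U) {g : G} (hg : g ∉ M)
    (hX : fittingOf M ⊓ (fittingOf M).map (MulAut.conj g).toMonoidHom ≠ ⊥) :
    (fittingOf M ⊓ (fittingOf M).map (MulAut.conj g).toMonoidHom ≤ fittingHallOf M ∧
        IsCyclic ↥(fittingOf M ⊓ (fittingOf M).map (MulAut.conj g).toMonoidHom)) ∧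
      (⁅M, M⁆ = fittingOf M ∧
        fittingOf M = sigmaCore M ⊔ piCoreOf {q | q.Prime ∧ q ∉ sigma M} (fittingOf M)) ∧
      ((K = ⊥ ∧ IsMulCommutative (fittingHallOf M) ∧ RankLE 2 (fittingHallOf M) ∧ ¬ RankLE 1 (fittingHallOf M)) ∨
       (∃ p : ℕ, p.Prime ∧ Nat.card ↥(fittingOf M ⊓ (fittingOf M).map (MulAut.conj g).toMonoidHom) = p ∧
          p ∈ sigma M ∧ p ∉ beta M ∧ ¬ IsMulCommutative (pCore p ↥(fittingHallOf M)) ∧
          IsCyclic (pPrimeCore p ↥(fittingHallOf M)) ∧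
          ∀ q : ℕ, q.Prime → q ∣ Nat.card (fittingHallOf M) → Monoid.exponent (↥M ⧸ fittingHall ↥M) ∣ q - 1) ∨
       (∃ p : ℕ, p.Prime ∧ Nat.card ↥(fittingOf M ⊓ (fittingOf M).map (MulAut.conj g).toMonoidHom) = p ∧
          p ∈ sigma M ∧ p ∉ beta M ∧ IsCyclic (pPrimeCore p ↥(fittingHallOf M)) ∧
          Nat.card (pCore p ↥(fittingHallOf M)) = p ^ 3 ∧ ¬ IsMulCommutative (pCore p ↥(fittingHallOf M)) ∧
          K ≠ ⊥ ∧ U = ⊥ ∧ (fittingHallOf M).relIndex M ∣ p + 1)) := by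
  set X := fittingOf M ⊓ (fittingOf M).map (MulAut.conj g).toMonoidHom with hXdef
  -- every prime-order element of `X` is moved
  have hmoved : ∀ v ∈ X, v ≠ 1 → ∀ q : ℕ, q.Prime → q ∣ orderOf v → ∃ w : G, orderOf w = q ∧ w ∈ X ∧
      w ∈ sigmaCore M ∧ q ∈ sigma M ∧ ¬ Subgroup.centralizer ({w} : Set G) ≤ M := by
    intro v hv _ q hq hd
    haveI := Fact.mk hq
    have ho := orderOf_pow_orderOf_div (orderOf_pos v).ne' hd
    have hwX : v ^ (orderOf v / q) ∈ X := pow_mem hv _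
    obtain ⟨hqσ, hwσ, -, hC⟩ := moved_facts hG hpl hM hg ho hwX.1 hwX.2
    exact ⟨_, ho, hwX, hwσ, hqσ, hC⟩
  obtain ⟨v₀, hv₀, hv₀1⟩ := X.bot_or_exists_ne_one.resolve_left hX
  obtain ⟨p, hp, hpd⟩ := Nat.exists_prime_and_dvd (show orderOf v₀ ≠ 1 by rwa [ne_eq, orderOf_eq_one_iff])
  haveI := Fact.mk hp
  obtain ⟨y, hyo, hyX, hyσ, hpσ, hC⟩ := hmoved v₀ hv₀ hv₀1 p hp hpd
  have hy1 : y ≠ 1 := fun e => hp.one_lt.ne (by rw [← hyo, e, orderOf_one])
  obtain ⟨N, hN⟩ := exists_support hG hpl hM hyσ hy1 hC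
  -- `κ(M) = ∅` and the complement is abelian
  have hκN : (kappa N).Nonempty := Set.nonempty_iff_ne_empty.mpr fun e => by
    have := (hN.tau2_primes p hp (hyo.symm ▸ dvd_rfl)).1
    rw [hT N hN.coatom e] at this
    exact this
  obtain ⟨hκ, hτ, E, hE, -, hEc⟩ := hN.kappa_facts hG hpl hM hy1 hκN
  have hK1 : K = ⊥ := Subgroup.eq_bot_of_card_eq _ (by
    by_contra hne
    obtain ⟨q, hq, hd⟩ := Nat.exists_prime_and_dvd hne
    have := hKU.hall.2.1 q hq hd
    rw [hκ] at this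
    exact this)
  have hF := fittingHallOf_eq_of_kappa_empty hG hpl hM hκ
  have hn : Group.IsNilpotent (sigmaCore M) := hF ▸ isNilpotent_fittingHallOf M
  -- `F(M) = M_σ`
  have hFM : fittingOf M = sigmaCore M := by
    refine le_antisymm (fun a ha => ?_) (hF ▸ fittingHallOf_le_fittingOf M)
    have haM : a ∈ M := Subgroup.map_subtype_le _ ha
    obtain ⟨i, j, hij, hi, hj⟩ := exists_split_elt (sigma M) a
    have hiσ : a ^ i ∈ sigmaCore M := le_sigmaCore hG hM (Subgroup.zpowers_le.mpr (pow_mem haM i))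
      (fun q hq hd => hi q hq (by rwa [Nat.card_zpowers] at hd)) (Subgroup.mem_zpowers _)
    rw [hij]
    refine mul_mem hiσ (centralizer_le_sigmaCore hG hpl hM hκ hτ hyσ hy1 (pow_mem haM j) ?_)
    refine (commute_of_mem_nilpotent (isNilpotent_fittingOf M) (pow_mem ha j) hyX.1 ?_).eq
    rw [hyo]
    exact (hp.coprime_iff_not_dvd.mpr fun hd => hj p hp hd hpσ).symm
  have hXσ : X ≤ sigmaCore M := inf_le_left.trans hFM.le
  have hXH : X ≤ sigmaCore M ⊓ cj g M := le_inf hXσ (inf_le_right.trans (Subgroup.map_mono (Subgroup.map_subtype_le _)))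
  obtain ⟨hcycH, hβ, -⟩ := inf_conj_facts hG hpl hM hg
  haveI := hcycH
  have hXcyc : IsCyclic X := isCyclic_of_injective (Subgroup.inclusion hXH) (Subgroup.inclusion_injective _)
  refine ⟨⟨hF.symm ▸ hXσ, hXcyc⟩, ⟨?_, ?_⟩, ?_⟩
  · rw [hFM]
    refine le_antisymm ((derived_le_sup_derived (le_normalizer_sigmaCore M) hE.1 fun m hm => ?_).trans
      (sup_le le_rfl ?_)) (sigmaCore_le_derived hG hM)
    · obtain ⟨a, ha, b, hb, rfl⟩ := hE.2.2.2 m hm
      exact mul_mem (Subgroup.mem_sup_right ha) (Subgroup.mem_sup_left hb)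
    · refine Subgroup.commutator_le.mpr fun a ha b hb => ?_
      rw [show ⁅a, b⁆ = 1 from commutatorElement_eq_one_iff_mul_comm.mpr
        (congrArg Subtype.val (hEc.is_comm.comm ⟨a, ha⟩ ⟨b, hb⟩))]
      exact one_mem _
  · rw [hFM]
    exact (sup_eq_left.mpr (Subgroup.map_subtype_le _)).symm
  rcases support_cases hG hpl hM hκ hτ hyo hyσ hpσ hN with h | ⟨hexp, -, -, hcycP, hS⟩
  · exact Or.inl ⟨hK1, h⟩
  refine Or.inr (Or.inl ⟨p, hp, ?_, hpσ, ?_, ?_, ?_, hexp⟩)
  · -- `|X| = p`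
    haveI := hXcyc
    obtain ⟨x₀, hx₀⟩ := IsCyclic.exists_generator (α := X)
    have hone : ∀ q : ℕ, q.Prime → q ∣ orderOf (x₀ : G) → q = p := by
      intro q hq hd
      by_contra hqp
      haveI := Fact.mk hq
      have hx1 : (x₀ : G) ≠ 1 := fun e => by
        rw [e, orderOf_one] at hd; exact hq.not_dvd_one hd
      obtain ⟨w, hwo, -, hwσ, hqσ, hwC⟩ := hmoved x₀ x₀.2 hx1 q hq hd
      have hw1 : w ≠ 1 := fun e => hq.one_lt.ne (by rw [← hwo, e, orderOf_one])
      obtain ⟨N', hN'⟩ := exists_support hG hpl hM hwσ hw1 hwC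
      obtain ⟨A, hAE, hAe, hA2⟩ := exists_ea_le_compl hG hN'.compl (hN'.tau2_primes q hq (hwo.symm ▸ dvd_rfl)).1
      exact not_isCyclic_ea_sq hAe hA2 (hcycP q hq hqp A (Components.ea_isPGroup hAe)
        (le_sigmaCore hG hM (hAE.trans inf_le_left) (mem_of_pGroup (Components.ea_isPGroup hAe) hqσ)))
    have hcard : Nat.card X = orderOf (x₀ : G) := by
      rw [Subgroup.orderOf_coe, orderOf_eq_card_of_forall_mem_zpowers hx₀]
    obtain ⟨k, hk⟩ : ∃ k, orderOf (x₀ : G) = p ^ k := ⟨_, Nat.eq_prime_pow_of_unique_prime_dvd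
      (orderOf_pos _).ne' fun {q} hq hd => hone q hq hd⟩
    rcases k with _ | _ | k
    · exact absurd (Subgroup.eq_bot_of_card_eq _ (by rw [hcard, hk, pow_zero])) hX
    · rw [hcard, hk, pow_one]
    -- an element of order `p ^ 2`
    exfalso
    set x := (x₀ : G) ^ p ^ k
    have hxo : orderOf x = p ^ 2 := by
      rw [orderOf_pow_of_dvd (pow_pos hp.pos k).ne' (by rw [hk]; exact pow_dvd_pow p (by omega)), hk,
        Nat.pow_div (by omega) hp.pos]
      congr 1; omega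
    have hxX : x ∈ X := pow_mem x₀.2 _
    have hwo : orderOf (x ^ p) = p := by
      rw [orderOf_pow_of_dvd hp.ne_zero (by rw [hxo]; exact dvd_pow_self p two_ne_zero), hxo, pow_two,
        Nat.mul_div_cancel _ hp.pos]
    have hw1 : x ^ p ≠ 1 := fun e => hp.one_lt.ne (by rw [← hwo, e, orderOf_one])
    obtain ⟨hwσ, hwσ', -, hwC⟩ := moved_facts hG hpl hM hg hwo (pow_mem hxX.1 p) (pow_mem hxX.2 p)
    obtain ⟨N', hN'⟩ := exists_support hG hpl hM hwσ' hw1 hwC
    obtain ⟨hpτ, -⟩ := hN'.tau2_primes p hp (hwo.symm ▸ dvd_rfl)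
    obtain ⟨A, hAE, hAe, hA2⟩ := exists_ea_le_compl hG hN'.compl hpτ
    obtain ⟨A0, hexc⟩ := exists_exc hG hpl hN'.coatom hpτ.2.1 (hAE.trans hN'.compl.1) hAe hA2
    have hxN : x ∈ M ⊓ N' := ⟨Subgroup.map_subtype_le _ hxX.1, hN'.le (Subgroup.mem_centralizer_singleton_iff.mpr
      (Commute.self_pow x p).eq)⟩
    have hAN : A ≤ M ⊓ N' := hAE
    -- `x` centralizes `A`
    have hxA : x ∈ Subgroup.centralizer (A : Set G) := by
      obtain ⟨T, hTσ, hMT⟩ := (haveI := hn; le_normalizer_sylow_of_nilpotent' hG hM hpσ)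
      set P := (T : Subgroup G) ⊓ N'
      have hPp : IsPGroup p P := T.isPGroup'.to_le inf_le_left
      have hPN : P ≤ M ⊓ N' := le_inf (inf_le_left.trans (hTσ.trans (sigmaCore_le M))) inf_le_right
      haveI := hPp.isNilpotent
      have hc := isMulCommutative_of_nilpotent_le hG hpl hN'.coatom (inf_le_right : P ≤ N') fun q hq hd =>
        complIn_notMem_sigma hG hN'.coatom hN'.compl hq (hd.trans (Subgroup.card_dvd_of_le hPN))
      have hxP : x ∈ P := ⟨(le_sylow_of_le_normalizer (IsPGroup.of_card (by rw [Nat.card_zpowers, hxo]) :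
        IsPGroup p (Subgroup.zpowers x)) T ((Subgroup.zpowers_le.mpr hxN.1).trans hMT))
          (Subgroup.mem_zpowers x), hxN.2⟩
      refine Subgroup.mem_centralizer_iff.mpr fun a ha => ?_
      exact congrArg Subtype.val (hc.is_comm.comm ⟨a, le_sylow_of_le_normalizer hexc.maxEA.isPGroup T
        ((hAN.trans inf_le_left).trans hMT) ha, (hAN ha).2⟩ ⟨x, hxP⟩)
    have hwA : x ^ p ∈ A := hexc.maxEA.full _ (pow_mem hxA p) (orderOf_dvd_iff_pow_eq_one.mp (dvd_of_eq hwo))
    -- the fixed line is `A₀`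
    obtain ⟨-, -, hlines⟩ := hexc.fpf_lines hG hpl hS hN'.compl hpτ hAE
    refine hw1 (hexc.no_root hG hpl hS hxN.2 hxA ?_)
    by_contra hnA0
    obtain ⟨-, z, hz, hz1, hzc⟩ := hN'.hat
    have h1 := (hlines (Subgroup.zpowers (x ^ p)) (Subgroup.zpowers_le.mpr hwA)
      (by rw [Nat.card_zpowers, hwo]) fun e => hnA0 (e ▸ Subgroup.mem_zpowers _)).1
    refine hz1 (Subgroup.mem_bot.mp (h1.le ⟨hz, ?_⟩))
    rw [← centralizer_singleton_eq (a := x ^ p) rfl]
    exact Subgroup.mem_centralizer_singleton_iff.mpr hzc.symm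
  · exact hβ p hp (hyo ▸ Subgroup.orderOf_dvd_natCard _ (hXH hyX))
  · intro hc
    haveI := hn
    obtain ⟨T, hTσ, hMT⟩ := le_normalizer_sylow_of_nilpotent' hG hM hpσ
    have hTH : (T : Subgroup G) ≤ fittingHallOf M := hF.symm ▸ hTσ
    have hle : (T : Subgroup G).subgroupOf (fittingHallOf M) ≤ pCore p ↥(fittingHallOf M) :=
      Core.le_pCore (Subgroup.normal_subgroupOf_of_le_normalizer ((OddLocal.fittingHallOf_le M).trans hMT))
        T.isPGroup'.comap_subtype
    exact hS T ⟨⟨fun a b => Subtype.ext (congrArg (fun t : pCore p ↥(fittingHallOf M) => ((t : fittingHallOf M) : G))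
      (hc.is_comm.comm ⟨⟨a, hTH a.2⟩, hle (Subgroup.mem_subgroupOf.mpr a.2)⟩
        ⟨⟨b, hTH b.2⟩, hle (Subgroup.mem_subgroupOf.mpr b.2)⟩) :)⟩⟩
  · set H := fittingHallOf M with hH
    haveI : Group.IsNilpotent H := isNilpotent_fittingHallOf M
    haveI : IsZGroup (pPrimeCore p H) := by
      refine (isZGroup_iff _).mpr fun t ht P => ?_
      haveI := Fact.mk ht
      by_cases htp : t = p
      · subst htp
        have : (P : Subgroup (pPrimeCore t H)) = ⊥ := by
          refine Subgroup.eq_bot_of_card_eq _ ?_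
          rw [Sylow.card_eq_multiplicity, Nat.factorization_eq_zero_of_not_dvd, pow_zero]
          exact fun hd => ht.not_dvd_one ((Core.card_pPrimeCore_coprime t H).gcd_eq_one ▸
            Nat.dvd_gcd hd dvd_rfl)
        rw [this]; infer_instance
      · haveI := hcycP t ht htp (((P : Subgroup (pPrimeCore p H)).map (pPrimeCore p H).subtype).map H.subtype)
          ((P.isPGroup'.map _).map _) (hF ▸ Subgroup.map_subtype_le _)
        exact isCyclic_of_surjective _
          ((((P : Subgroup (pPrimeCore p H)).equivMapOfInjective _ (pPrimeCore p H).subtype_injective).trans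
            (((P : Subgroup (pPrimeCore p H)).map (pPrimeCore p H).subtype).equivMapOfInjective _
              H.subtype_injective)).symm).surjective
    infer_instance

end Cfsg.Agent.OddLocal.Sigma
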