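import Cfsg.Agent.OddLocal.Sigma.Decomp

/-! Elements of a complement with fixed points in `M_σ` (BG 14.2, 14.4). -/

set_option autoImplicit false
set_option linter.style.haveILetI false
set_option linter.unusedSectionVars false

namespace Cfsg.Agent.OddLocal.Sigma

open Cfsg
open scoped commutatorElement

variable {G : Type*} [Group G] [Finite G] (hG : IsMinSimpleOddOrder G)
include hG
variable (hpl : ∀ (p : ℕ) [Fact p.Prime] (H : Subgroup G), H ≠ ⊤ → PLengthLE p 1 H)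
include hpl

/-- A prime of an element with fixed points in `M_σ`, outside `σ(M)`, is in `κ(M) ∪ τ₂(M)`. -/
theorem fixed_classes {M : Subgroup G} (hM : IsCoatom M) {q : ℕ} [hq : Fact q.Prime] {Q : Subgroup G}
    (hQ : Nat.card Q = q) (hQM : Q ≤ M) (hqσ : q ∉ sigma M)
    (hne : sigmaCore M ⊓ Subgroup.centralizer (Q : Set G) ≠ ⊥) : q ∈ kappa M ∨ q ∈ tau2 M := by
  rcases mem_classes hG hM hq.out (hQ ▸ Subgroup.card_dvd_of_le hQM) with h | h | h | h
  · exact absurd h hqσ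
  · exact Or.inl (mem_kappa_of_tau1 hG hpl hM h hQ hQM hne)
  · exact Or.inr h
  · exact absurd (tau3_regular hG hpl hM h hQ hQM) hne

/-- The primes of an element with a fixed point in `M_σ`. -/
theorem fixed_elt_classes {M : Subgroup G} (hM : IsCoatom M) {u y : G} (hu : u ∈ M) (hy : y ∈ sigmaCore M)
    (hy1 : y ≠ 1) (huy : u * y = y * u) {q : ℕ} (hq : q.Prime) (hd : q ∣ orderOf u) (hqσ : q ∉ sigma M) :
    q ∈ kappa M ∨ q ∈ tau2 M := by
  haveI := Fact.mk hq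
  refine fixed_classes hG hpl hM (Q := Subgroup.zpowers (u ^ (orderOf u / q)))
    (by rw [Nat.card_zpowers, orderOf_pow_orderOf_div (orderOf_pos u).ne' hd])
    (Subgroup.zpowers_le.mpr (pow_mem hu _)) hqσ fun h0 => hy1 (Subgroup.mem_bot.mp (h0.le
      (Subgroup.mem_inf.mpr ⟨hy, ?_⟩)))
  rw [← centralizer_singleton_eq rfl, Subgroup.mem_centralizer_singleton_iff]
  exact ((show Commute u y from huy).pow_left _).eq.symm

/-- With `κ(M)` empty, elements whose primes lie in `τ₁(M) ∪ τ₃(M)` act regularly. -/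
theorem regular_of_kappa_empty {M : Subgroup G} (hM : IsCoatom M) (hκ : kappa M = ∅) {e : G} (he : e ∈ M)
    (he1 : e ≠ 1) (hp : ∀ p : ℕ, p.Prime → p ∣ orderOf e → p ∈ tau1 M ∪ tau3 M) :
    sigmaCore M ⊓ Subgroup.centralizer ({e} : Set G) = ⊥ := by
  by_contra hne
  obtain ⟨y, ⟨hy, hye⟩, hy1⟩ := Subgroup.bot_or_exists_ne_one _ |>.resolve_left hne
  obtain ⟨q, hq, hd⟩ := Nat.exists_prime_and_dvd (show orderOf e ≠ 1 by rwa [ne_eq, orderOf_eq_one_iff])
  rcases hp q hq hd with h | h <;>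
    rcases fixed_elt_classes hG hpl hM he hy hy1 (Subgroup.mem_centralizer_singleton_iff.mp hye).symm hq hd h.2.1
      with h' | h'
  · rw [hκ] at h'; exact h'
  · exact h'.2.2.2 h.2.2.2.2
  · rw [hκ] at h'; exact h'
  · exact h'.2.2.2 h.2.2.2

/-- In a standard factorisation `K = 1` exactly when `κ(M) = ∅`. -/
theorem decomp_kappa_empty {M K U : Subgroup G} (h : IsSigmaDecomposition M K U) (hK1 : K = ⊥) : kappa M = ∅ :=
  Set.eq_empty_iff_forall_notMem.mpr fun q hq => h.hall.2.2 q hq.1 hq (by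
    subst hK1
    rw [Subgroup.relIndex_bot_left]
    exact hq.2.1)

/-- A cyclic `p`-subgroup of the largest exponent whose subgroup of order `p` is regular, for `p ∈ τ₂(M)`. -/
theorem exists_free_generator {M E : Subgroup G} (hM : IsCoatom M) (hE : IsComplIn E (sigmaCore M) M) {p : ℕ}
    [hp : Fact p.Prime] (hpτ : p ∈ tau2 M) :
    ∃ y ∈ E, IsPGroup p (Subgroup.zpowers y) ∧
      (∀ x ∈ E, IsPGroup p (Subgroup.zpowers x) → orderOf x ∣ orderOf y) ∧
      ∀ z ∈ Subgroup.zpowers y, orderOf z = p → sigmaCore M ⊓ Subgroup.centralizer ({z} : Set G) = ⊥ := by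
  obtain ⟨A, hAE, hAe, hA2⟩ := exists_ea_le_compl hG hE hpτ
  obtain ⟨A0, h⟩ := exists_exc hG hpl hM hpτ.2.1 (hAE.trans hE.1) hAe hA2
  obtain ⟨-, -, -, -, -, L, hLA, hLc, hLfree⟩ := tau2_facts hG hpl hM hpτ ⟨h.le, hAe, hA2⟩
  have hEA := h.le_normalizer_of_compl hG hpl hE hAE
  have hord : ∀ x : G, IsPGroup p (Subgroup.zpowers x) → ∃ k, orderOf x = p ^ k := fun x hx => by
    obtain ⟨k, hk⟩ := IsPGroup.iff_card.mp hx
    exact ⟨k, by rwa [Nat.card_zpowers] at hk⟩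
  classical
  obtain ⟨g₀, ⟨hg₀E, hg₀p⟩, hmax⟩ := Set.exists_max_image {x : G | x ∈ E ∧ IsPGroup p (Subgroup.zpowers x)}
    (fun x => orderOf x) (Set.toFinite _) ⟨1, one_mem _, by rw [Subgroup.zpowers_one_eq_bot]; exact IsPGroup.of_bot⟩
  obtain ⟨n, hn⟩ := hord g₀ hg₀p
  have hdvd : ∀ x ∈ E, IsPGroup p (Subgroup.zpowers x) → orderOf x ∣ p ^ n := fun x hx hxp => by
    obtain ⟨k, hk⟩ := hord x hxp
    have hle : orderOf x ≤ orderOf g₀ := hmax x ⟨hx, hxp⟩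
    rw [hk, hn] at hle
    exact hk ▸ pow_dvd_pow p ((Nat.pow_le_pow_iff_right hp.out.one_lt).mp hle)
  suffices hgoal : ∃ y ∈ E, IsPGroup p (Subgroup.zpowers y) ∧ orderOf y = p ^ n ∧
      sigmaCore M ⊓ Subgroup.centralizer ({y ^ p ^ (n - 1)} : Set G) = ⊥ by
    obtain ⟨y, hy, hyp, hyn, hfree⟩ := hgoal
    refine ⟨y, hy, hyp, fun x hx hxp => hyn ▸ hdvd x hx hxp, fun z hz hzo => ?_⟩
    have hn1 : n ≠ 0 := fun h0 => by
      rw [h0, pow_zero, orderOf_eq_one_iff] at hyn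
      rw [hyn, Subgroup.zpowers_one_eq_bot, Subgroup.mem_bot] at hz
      rw [hz, orderOf_one] at hzo
      exact hp.out.one_lt.ne hzo
    have hw : orderOf (y ^ p ^ (n - 1)) = p := by
      rw [orderOf_pow_of_dvd (pow_ne_zero _ hp.out.ne_zero) (hyn ▸ pow_dvd_pow p (by omega)), hyn,
        Nat.pow_div (by omega) hp.out.pos, show n - (n - 1) = 1 by omega, pow_one]
    have e : Subgroup.zpowers z = Subgroup.zpowers (y ^ p ^ (n - 1)) :=
      OddLocal.eq_of_card_eq_of_isCyclic (C := Subgroup.zpowers y) inferInstance (Subgroup.zpowers_le.mpr hz)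
        (Subgroup.zpowers_le.mpr (pow_mem (Subgroup.mem_zpowers y) _)) (by rw [Nat.card_zpowers, Nat.card_zpowers, hzo, hw])
    rwa [centralizer_singleton_eq e, ← centralizer_singleton_eq rfl]
  obtain ⟨l, hl, hl1⟩ := L.bot_or_exists_ne_one.resolve_left (ne_bot_of_card_prime hLc)
  have hn1 : 1 ≤ n := by
    by_contra h0
    have := hdvd l (hAE (hLA hl)) (h.maxEA.isPGroup.to_le (Subgroup.zpowers_le.mpr (hLA hl)))
    rw [show n = 0 by omega, pow_zero, Nat.dvd_one, orderOf_eq_one_iff] at this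
    exact hl1 this
  obtain ⟨e, rfl⟩ : ∃ e, n = e + 1 := ⟨n - 1, by omega⟩
  rw [Nat.add_sub_cancel]
  by_cases he : e = 0
  · subst he
    refine ⟨l, hAE (hLA hl), h.maxEA.isPGroup.to_le (Subgroup.zpowers_le.mpr (hLA hl)), ?_, ?_⟩
    · rw [zero_add, pow_one]; exact orderOf_eq_prime (hAe.2 l (hLA hl)) hl1
    · rw [pow_zero, pow_one, centralizer_singleton_eq (zpowers_eq_of_card_prime hLc hl hl1)]
      exact hLfree
  have hΩ : ∀ y ∈ E, IsPGroup p (Subgroup.zpowers y) → orderOf y = p ^ (e + 1) →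
      y ^ p ^ e ∈ A ∧ y ^ p ^ e ≠ 1 ∧ orderOf (y ^ p ^ e) = p := by
    intro y hy hyp hyo
    have hz : orderOf (y ^ p ^ e) = p := by
      rw [orderOf_pow_of_dvd (pow_ne_zero _ hp.out.ne_zero) (hyo ▸ pow_dvd_pow p (Nat.le_succ e)), hyo,
        Nat.pow_div (Nat.le_succ e) hp.out.pos, show e + 1 - e = 1 by omega, pow_one]
    have hz1 : y ^ p ^ e ≠ 1 := fun h' => hp.out.one_lt.ne (by rw [← hz, h', orderOf_one])
    exact ⟨(tau2_compl_facts hG hpl hM hE hpτ ⟨hAE, hAe, hA2⟩).1.2 (Subgroup.zpowers (y ^ p ^ e))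
      (Subgroup.zpowers_le.mpr (pow_mem hy _)) (by rw [Nat.card_zpowers, hz]) (Subgroup.mem_zpowers _), hz1, hz⟩
  by_cases hab : ∀ S : Sylow p G, IsMulCommutative (S : Subgroup G)
  swap
  · have hS := sylow_all_nonabelian hab
    obtain ⟨-, -, hlines⟩ := h.fpf_lines hG hpl hS hE hpτ hAE
    obtain ⟨hzA, hz1, hz⟩ := hΩ g₀ hg₀E hg₀p hn
    refine ⟨g₀, hg₀E, hg₀p, hn, ?_⟩
    rw [centralizer_singleton_eq rfl]
    refine (hlines _ (Subgroup.zpowers_le.mpr hzA) (by rw [Nat.card_zpowers, hz]) fun e0 => hz1 ?_).1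
    have hroot : g₀ ^ p ^ (e - 1) ∈ M := pow_mem (hE.1 hg₀E) _
    have hq : IsPGroup p ↥(A ⊔ Subgroup.zpowers g₀) :=
      IsPGroup.to_sup_of_normal_left' h.maxEA.isPGroup hg₀p ((Subgroup.zpowers_le.mpr hg₀E).trans hEA)
    obtain ⟨hc⟩ := h.isMulCommutative_of_pGroup hG hpl hq (sup_le h.le (Subgroup.zpowers_le.mpr (hE.1 hg₀E)))
    have hgC : g₀ ^ p ^ (e - 1) ∈ Subgroup.centralizer (A : Set G) := pow_mem
      (Subgroup.mem_centralizer_iff.mpr fun a ha => congrArg Subtype.val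
        (hc.comm ⟨a, Subgroup.mem_sup_left ha⟩ ⟨g₀, Subgroup.mem_sup_right (Subgroup.mem_zpowers g₀)⟩)) _
    have hp1 : (g₀ ^ p ^ (e - 1)) ^ p = g₀ ^ p ^ e := by
      rw [← pow_mul, ← pow_succ, show e - 1 + 1 = e by omega]
    rw [← hp1]
    exact h.no_root hG hpl hS hroot hgC (by rw [hp1, ← e0]; exact Subgroup.mem_zpowers _)
  obtain ⟨S, hAS, hSE, hSC, hNS, -⟩ := h.sylow_facts hG hpl hE hpτ hAE hab
  have hpE : ∀ x ∈ E, IsPGroup p (Subgroup.zpowers x) → x ∈ (S : Subgroup G) := fun x hx hxp =>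
    (S.3 (IsPGroup.to_sup_of_normal_left' S.isPGroup' hxp ((Subgroup.zpowers_le.mpr hx).trans (hEA.trans hNS)))
      le_sup_left).le (Subgroup.mem_sup_right (Subgroup.mem_zpowers x))
  by_contra hcon
  push Not at hcon
  obtain ⟨hzA, hz1, hz⟩ := hΩ g₀ hg₀E hg₀p hn
  set z := g₀ ^ p ^ e with hzdef
  have hzfix := hcon g₀ hg₀E hg₀p hn
  rw [centralizer_singleton_eq rfl] at hzfix
  refine hzfix (h.fpf_of_normalizer_le hG hpl hE hpτ hAE (Subgroup.zpowers_le.mpr hzA)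
    (by rw [Nat.card_zpowers, hz]) fun g hg => ?_)
  by_contra hgz
  have hne : Subgroup.zpowers z ≠ cj g (Subgroup.zpowers z) := fun e0 => hgz (cj_eq_iff.mp e0.symm)
  have hcjA : cj g (Subgroup.zpowers z) ≤ A :=
    (cj_mono (Subgroup.zpowers_le.mpr hzA)).trans (cj_eq_iff.mpr hg).le
  obtain ⟨a, ha, b, hb, hab'⟩ := Coprime.exists_mul_of_mem_sup (N := Subgroup.zpowers z)
    (A := cj g (Subgroup.zpowers z)) ((hcjA.trans ((Subgroup.le_centralizer_iff_isMulCommutative.mpr hAe.1).trans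
      (Subgroup.centralizer_le (Subgroup.zpowers_le.mpr hzA)))).trans (Subgroup.centralizer_le_normalizer _))
    ((sup_eq_of_ne hA2 (by rw [Nat.card_zpowers, hz]) (by rw [card_cj, Nat.card_zpowers, hz])
      (Subgroup.zpowers_le.mpr hzA) hcjA hne).ge (hLA hl))
  obtain ⟨i, rfl⟩ := Subgroup.mem_zpowers_iff.mp ha
  obtain ⟨b', hb', rfl⟩ := hb
  obtain ⟨j, rfl⟩ := Subgroup.mem_zpowers_iff.mp hb'
  simp only [MulEquiv.coe_toMonoidHom, MulAut.conj_apply] at hab'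
  have hgS : g * g₀ * g⁻¹ ∈ (S : Subgroup G) :=
    (Subgroup.mem_normalizer_iff.mp (hNS hg) g₀).mp (hpE g₀ hg₀E hg₀p)
  set y := g₀ ^ i * (g * g₀ * g⁻¹) ^ j with hy
  have hyS : y ∈ (S : Subgroup G) := mul_mem (zpow_mem (hpE g₀ hg₀E hg₀p) i) (zpow_mem hgS j)
  have hcomm : Commute (g₀ ^ i) ((g * g₀ * g⁻¹) ^ j) := congrArg Subtype.val ((hab S).is_comm.comm
    ⟨_, zpow_mem (hpE g₀ hg₀E hg₀p) i⟩ ⟨_, zpow_mem hgS j⟩)
  have hyl : y ^ p ^ e = l := by
    rw [← hab', hy, hcomm.mul_pow, ← zpow_natCast (g₀ ^ i), ← zpow_natCast ((g * g₀ * g⁻¹) ^ j), ← zpow_mul,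
      ← zpow_mul, mul_comm i, mul_comm j, zpow_mul, zpow_mul, zpow_natCast, zpow_natCast, conj_pow, ← hzdef,
      conj_zpow]
  have hyp : IsPGroup p (Subgroup.zpowers y) := S.isPGroup'.to_le (Subgroup.zpowers_le.mpr hyS)
  obtain ⟨k, hk⟩ := hord y hyp
  have hk1 : k = e + 1 := le_antisymm
    ((Nat.pow_dvd_pow_iff_le_right hp.out.one_lt).mp (hk ▸ hdvd y (hSE hyS) hyp)) (Nat.succ_le_of_lt (by
      by_contra hle
      refine hl1 (hyl ▸ orderOf_dvd_iff_pow_eq_one.mp (hk ▸ pow_dvd_pow p (by omega)))))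
  refine hcon y (hSE hyS) hyp (hk1 ▸ hk) ?_
  rw [hyl, centralizer_singleton_eq (zpowers_eq_of_card_prime hLc hl hl1)]
  exact hLfree

/-- All of `τ₂(M)` lies in `σ(L)` for one maximal subgroup `L`. -/
theorem exists_sigma_tau2 {M : Subgroup G} (hM : IsCoatom M) :
    ∃ L : Subgroup G, IsCoatom L ∧ tau2 M ⊆ sigma L := by
  rcases Set.eq_empty_or_nonempty (tau2 M) with h0 | ⟨p, hpτ⟩
  · exact ⟨M, hM, by rw [h0]; exact Set.empty_subset _⟩
  haveI := Fact.mk hpτ.1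
  obtain ⟨E, hE, -⟩ := exists_compl_ge hG hM (bot_le : (⊥ : Subgroup G) ≤ M) (fun q hq hd => by
    rw [Subgroup.card_bot] at hd; exact absurd hd hq.not_dvd_one)
  obtain ⟨A, hAE, hAe, hA2⟩ := exists_ea_le_compl hG hE hpτ
  obtain ⟨A0, h⟩ := exists_exc hG hpl hM hpτ.2.1 (hAE.trans hE.1) hAe hA2
  by_cases hab : ∀ S : Sylow p G, IsMulCommutative (S : Subgroup G)
  swap
  · have hS := sylow_all_nonabelian hab
    obtain ⟨S⟩ := (inferInstance : Nonempty (Sylow p G))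
    obtain ⟨L, ⟨hL, hSL⟩, -⟩ := inUniqueMaximal_of_nonabelian hG hpl S.isPGroup' (hS S)
    exact ⟨L, hL, by
      rw [h.tau2_eq hG hpl hS hE hpτ hAE, Set.singleton_subset_iff]
      exact mem_sigma_of_nonabelian hG hpl hL S.isPGroup' hSL (hS S)⟩
  obtain ⟨S, hAS, hSE, hSC, hNS, -⟩ := h.sylow_facts hG hpl hE hpτ hAE hab
  have hSp : IsPGroup p (S : Subgroup G) := S.isPGroup'
  have hS1 : (S : Subgroup G) ≠ ⊥ := fun e => h.maxEA.ne_bot (le_bot_iff.mp (e ▸ hAS))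
  obtain ⟨L, hL, hNL⟩ := (eq_top_or_exists_le_coatom (Subgroup.normalizer ((S : Subgroup G) : Set G))).resolve_left
    (Core.BG.normalizer_ne_top_of_isPGroup hG hS1 hSp)
  have hSL : (S : Subgroup G) ≤ L := Subgroup.le_normalizer.trans hNL
  have hpL : p ∈ sigma L := by
    refine ⟨hpτ.1, (dvd_card_of_ne_bot hSp hS1).trans (Subgroup.card_dvd_of_le hSL), S.subtype hSL, ?_⟩
    rwa [Sylow.coe_subtype, Subgroup.map_subgroupOf_eq_of_le hSL]
  refine ⟨L, hL, fun q hqτ => ?_⟩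
  by_cases hqp : q = p
  · exact hqp ▸ hpL
  haveI := Fact.mk hqτ.1
  obtain ⟨B, hBE, hBe, hB2⟩ := exists_ea_le_compl hG hE hqτ
  have hBA : B ≤ Subgroup.centralizer (A : Set G) := le_centralizer_of_tau2 hG hpl hM hE hpτ ⟨hAE, hAe, hA2⟩ hBE
    fun t ht hd => by
      rw [hB2] at hd
      exact (Nat.prime_dvd_prime_iff_eq ht hqτ.1).mp (ht.dvd_of_dvd_pow hd) ▸ hqτ
  have hBL : B ≤ L := ((hBA.trans (Subgroup.centralizer_le_normalizer _)).trans hNS).trans hNL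
  have hAL : A ≤ L := hAS.trans hSL
  have hne : M ≠ L := fun e => hpτ.2.1 (e.symm ▸ hpL)
  by_contra hqL
  obtain ⟨B0, hB⟩ := exists_exc hG hpl hL hqL hBL hBe hB2
  refine h.maxEA.ne_bot (le_bot_iff.mp ?_)
  rw [← hB.inf_other_eq_bot hG hpl hM hne (hBE.trans hE.1)]
  exact le_inf (le_sigmaCore hG hL hAL (mem_of_pGroup h.maxEA.isPGroup hpL)) h.le

/-- A subgroup of `U` of the same exponent acting regularly on `M_σ`. -/
theorem decomp_free {M K U : Subgroup G} (hM : IsCoatom M) (h : IsSigmaDecomposition M K U) :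
    ∃ U₀ : Subgroup G, U₀ ≤ U ∧ Monoid.exponent U₀ = Monoid.exponent U ∧
      ∀ u ∈ U₀, u ∈ sigmaHat M → u = 1 := by
  obtain ⟨hE, hUp, hKU⟩ := decomp_facts hG hpl hM h
  by_cases hK1 : K = ⊥
  · have hκ := decomp_kappa_empty hG hpl h hK1
    subst hK1
    rw [sup_bot_eq] at hE
    obtain ⟨-, E₀, hE₀, hexp, hfree⟩ := frobenius_type_criterion hG hpl hM hE
      fun e he he1 hp => regular_of_kappa_empty hG hpl hM hκ (hE.1 he) he1 hp
    refine ⟨E₀, hE₀, hexp, fun u hu hu' => by_contra fun hu1 => ?_⟩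
    obtain ⟨-, y, hy, hy1, huy⟩ := hu'
    exact hy1 (Subgroup.mem_bot.mp ((hfree u hu hu1).le
      ⟨hy, Subgroup.mem_centralizer_singleton_iff.mpr huy.symm⟩))
  haveI := decomp_abelian hG hpl hM h hK1
  have hcomm : ∀ {a b : G}, a ∈ U → b ∈ U → Commute a b := fun {a b} ha hb =>
    congrArg Subtype.val ((inferInstance : IsMulCommutative U).is_comm.comm ⟨a, ha⟩ ⟨b, hb⟩)
  have hgen : ∀ p, p ∈ tau2 M → ∃ y ∈ U, IsPGroup p (Subgroup.zpowers y) ∧
      (∀ x ∈ U, IsPGroup p (Subgroup.zpowers x) → orderOf x ∣ orderOf y) ∧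
      ∀ z ∈ Subgroup.zpowers y, orderOf z = p → sigmaCore M ⊓ Subgroup.centralizer ({z} : Set G) = ⊥ := by
    intro p hpτ
    haveI := Fact.mk hpτ.1
    obtain ⟨y, hy, hyp, hord, hfree⟩ := exists_free_generator hG hpl hM hE hpτ
    refine ⟨y, ?_, hyp, fun x hx => hord x (Subgroup.mem_sup_left hx), hfree⟩
    obtain ⟨a, ha, b, hb, rfl⟩ := Coprime.exists_mul_of_mem_sup h.normal hy
    obtain ⟨k, hk⟩ := hyp ⟨a * b, Subgroup.mem_zpowers _⟩
    have hk' : (a * b) ^ p ^ k = 1 := congrArg Subtype.val hk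
    -- the image in `E / U` of a `p`-element is trivial
    suffices hb1 : b = 1 by rw [hb1, mul_one]; exact ha
    haveI : (U.subgroupOf (U ⊔ K)).Normal :=
      Subgroup.normal_subgroupOf_of_le_normalizer (sup_le Subgroup.le_normalizer h.normal)
    set φ := QuotientGroup.mk' (U.subgroupOf (U ⊔ K))
    have hφ : φ ⟨a * b, hy⟩ = φ ⟨b, Subgroup.mem_sup_right hb⟩ := by
      rw [show (⟨a * b, hy⟩ : ↥(U ⊔ K)) = ⟨a, Subgroup.mem_sup_left ha⟩ * ⟨b, Subgroup.mem_sup_right hb⟩ from rfl,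
        map_mul, show φ ⟨a, Subgroup.mem_sup_left ha⟩ = 1 from (QuotientGroup.eq_one_iff _).mpr ha, one_mul]
    have hbk : b ^ p ^ k ∈ U := by
      have h1 : φ ⟨b, Subgroup.mem_sup_right hb⟩ ^ p ^ k = 1 := by
        rw [← hφ, ← map_pow, show (⟨a * b, hy⟩ : ↥(U ⊔ K)) ^ p ^ k = 1 from Subtype.ext hk', map_one]
      rw [← map_pow] at h1
      exact Subgroup.mem_subgroupOf.mp ((QuotientGroup.eq_one_iff _).mp h1)
    have h2 : b ^ p ^ k = 1 := Subgroup.mem_bot.mp (hKU.le ⟨pow_mem hb _, hbk⟩)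
    rw [← orderOf_eq_one_iff]
    refine Nat.eq_one_iff_not_exists_prime_dvd.mpr fun q hq hd => ?_
    have hqp : q = p := (Nat.prime_dvd_prime_iff_eq hq hpτ.1).mp
      (hq.dvd_of_dvd_pow (hd.trans (orderOf_dvd_of_pow_eq_one h2)))
    exact hpτ.2.2.2 ((kappa_subset_tau1 hG hpl hM
      (h.hall.2.1 q hq (hd.trans (Subgroup.orderOf_dvd_natCard K hb)))).2.2.2.2 |> fun h1 => hqp ▸ h1)
  choose y hyU hyp hord hfree using hgen
  let D : Subgroup G :=
    { carrier := {u | u ∈ U ∧ ∀ p (hp' : p ∈ tau2 M), u ^ ordCompl[p] (Nat.card U) ∈ Subgroup.zpowers (y p hp')}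
      one_mem' := ⟨one_mem _, fun p hp' => by rw [one_pow]; exact one_mem _⟩
      mul_mem' := fun {a b} ha hb => ⟨mul_mem ha.1 hb.1, fun p hp' => by
        rw [(hcomm ha.1 hb.1).mul_pow]; exact mul_mem (ha.2 p hp') (hb.2 p hp')⟩
      inv_mem' := fun {a} ha => ⟨inv_mem ha.1, fun p hp' => by rw [inv_pow]; exact inv_mem (ha.2 p hp')⟩ }
  have hDU : D ≤ U := fun x hx => hx.1
  have hkill : ∀ {q : ℕ}, q.Prime → ∀ {x : G}, x ∈ U → ∀ {k : ℕ}, orderOf x = q ^ k → ∀ p : ℕ, p.Prime → p ≠ q →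
      x ^ ordCompl[p] (Nat.card U) = 1 := fun {q} hq {x} hx {k} hk p hp hne => by
    refine orderOf_dvd_iff_pow_eq_one.mp (Nat.Coprime.dvd_of_dvd_mul_left ?_
      ((Subgroup.orderOf_dvd_natCard U hx).trans (Nat.ordProj_mul_ordCompl_eq_self (Nat.card U) p).symm.dvd))
    rw [hk]
    exact Nat.Coprime.pow _ _ ((Nat.coprime_primes hq hp).mpr (Ne.symm hne))
  refine ⟨D, hDU, Nat.dvd_antisymm (Monoid.exponent_dvd_of_monoidHom (Subgroup.inclusion hDU)
    (Subgroup.inclusion_injective _)) (Monoid.exponent_dvd_of_forall_pow_eq_one fun u => ?_), fun u hu hu' => ?_⟩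
  · refine orderOf_dvd_iff_pow_eq_one.mp ?_
    rw [← Subgroup.orderOf_coe]
    refine (Nat.dvd_iff_prime_pow_dvd_dvd _ _).mpr fun q k hq hd => ?_
    have hz : orderOf ((u : G) ^ (orderOf (u : G) / q ^ k)) = q ^ k := orderOf_pow_orderOf_div (orderOf_pos _).ne' hd
    set z := (u : G) ^ (orderOf (u : G) / q ^ k)
    have hzU : z ∈ U := pow_mem u.2 _
    have hmem : ∀ w ∈ D, orderOf w ∣ Monoid.exponent D := fun w hw => by
      rw [← Subgroup.orderOf_mk (ha := hw)]; exact Monoid.order_dvd_exponent _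
    rw [← hz]
    by_cases hqτ : q ∈ tau2 M
    · haveI := Fact.mk hq
      refine (hord q hqτ z hzU (IsPGroup.of_card (by rw [Nat.card_zpowers, hz]))).trans
        (hmem _ ⟨hyU q hqτ, fun p hp' => ?_⟩)
      by_cases hpq : p = q
      · subst hpq; exact pow_mem (Subgroup.mem_zpowers _) _
      · obtain ⟨j, hj⟩ := IsPGroup.iff_card.mp (hyp q hqτ)
        rw [hkill hq (hyU q hqτ) (k := j) (by rwa [Nat.card_zpowers] at hj) p hp'.1 hpq]
        exact one_mem _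
    · refine hmem z ⟨hzU, fun p hp' => ?_⟩
      rw [hkill hq hzU hz p hp'.1 fun e => hqτ (e ▸ hp')]
      exact one_mem _
  by_contra hu1
  obtain ⟨-, w, hw, hw1, huw⟩ := hu'
  obtain ⟨q, hq, hd⟩ := Nat.exists_prime_and_dvd (show orderOf u ≠ 1 by rwa [ne_eq, orderOf_eq_one_iff])
  haveI := Fact.mk hq
  obtain ⟨hqσ, hqκ⟩ := hUp q hq (hd.trans (Subgroup.orderOf_dvd_natCard U hu.1))
  have hqτ : q ∈ tau2 M :=
    (fixed_elt_classes hG hpl hM (h.compl.1 hu.1) hw hw1 huw hq hd hqσ).resolve_left hqκ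
  set z := u ^ (orderOf u / q)
  have hzo : orderOf z = q := orderOf_pow_orderOf_div (orderOf_pos u).ne' hd
  have hzD : z ∈ D := pow_mem hu _
  obtain ⟨j, hj⟩ := exists_pow_eq_self_of_coprime (x := z) (n := ordCompl[q] (Nat.card U))
    (by rw [hzo]; exact (hq.coprime_iff_not_dvd.mpr (Nat.not_dvd_ordCompl hq Nat.card_pos.ne')).symm)
  have hzy : z ∈ Subgroup.zpowers (y q hqτ) := hj ▸ pow_mem (hzD.2 q hqτ) j
  refine hw1 (Subgroup.mem_bot.mp ((hfree q hqτ z hzy hzo).le ⟨hw, Subgroup.mem_centralizer_singleton_iff.mpr ?_⟩))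
  exact ((show Commute u w from huw).pow_left _).eq.symm

end Cfsg.Agent.OddLocal.Sigma
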