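import Cfsg.Agent.OddLocal.Sigma.Basic
import Mathlib.FieldTheory.Finite.Basic
import Mathlib.NumberTheory.Basic

/-! Coprime operators on abelian groups: lifting eigenvectors, and no non-cyclic fixed-point-free actions. -/

set_option autoImplicit false
set_option linter.style.haveILetI false
set_option linter.unusedSectionVars false

namespace Cfsg.Agent.OddLocal.Sigma

/-- Two commuting automorphisms of prime order `r` cannot generate a fixed-point-free non-cyclic group. -/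
theorem no_klein {A : Type*} [CommGroup A] {r : ℕ} (hr : r.Prime) (hcop : ∀ a : A, a ^ r = 1 → a = 1)
    {β ω : MulAut A} (hc : Commute β ω) (hβ : β ^ r = 1) (hω : ω ^ r = 1)
    (hωf : ∀ a, ω a = a → a = 1) (hj : ∀ j : ℕ, ∀ a, (β * ω ^ j) a = a → a = 1) (a : A) : a = 1 := by
  have orbit : ∀ σ : MulAut A, σ ^ r = 1 → (∀ a, σ a = a → a = 1) →
      ∀ a, ∏ i ∈ Finset.range r, (σ ^ i) a = 1 := by
    intro σ hσ hf a
    refine hf _ ?_
    rw [map_prod]
    have e1 := Finset.prod_range_succ' (fun i => (σ ^ i) a) r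
    have e2 := Finset.prod_range_succ (fun i => (σ ^ i) a) r
    rw [e2, hσ, pow_zero] at e1
    have e3 := mul_right_cancel e1
    refine (Finset.prod_congr rfl fun i _ => ?_).trans e3.symm
    rw [pow_succ', MulAut.mul_apply]
  have hωi : ∀ i : ℕ, 0 < i → i < r → ∀ a, (ω ^ i) a = a → a = 1 := by
    intro i h0 hi a ha
    obtain ⟨m, -, hm⟩ := Nat.exists_mul_mod_eq_one_of_coprime
      ((hr.coprime_iff_not_dvd.mpr (fun hd => absurd (Nat.le_of_dvd h0 hd) (not_le.mpr hi))).symm) hr.one_lt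
    refine hωf a ?_
    have h2 : ∀ k : ℕ, ((ω ^ i) ^ k) a = a := by
      intro k
      induction k with
      | zero => simp
      | succ k ih => rw [pow_succ, MulAut.mul_apply, ha, ih]
    have h3 := h2 m
    rwa [← pow_mul, ← Nat.div_add_mod (i * m) r, hm, pow_add, pow_mul, hω, one_pow, one_mul, pow_one] at h3
  have h1 : ∏ j ∈ Finset.range r, ∏ i ∈ Finset.range r, ((β * ω ^ j) ^ i) a = 1 :=
    Finset.prod_eq_one fun j _ => orbit _ (by
      rw [(hc.pow_right j).mul_pow, hβ, ← pow_mul, mul_comm j r, pow_mul, hω, one_pow, one_mul]) (hj j) a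
  rw [Finset.prod_comm, Finset.prod_eq_single 0] at h1
  · simp at h1
    exact hcop a h1
  · intro i hi hi0
    have e : ∀ j : ℕ, ((β * ω ^ j) ^ i) a = (β ^ i) (((ω ^ i) ^ j) a) := by
      intro j
      rw [(hc.pow_right j).mul_pow, MulAut.mul_apply, ← pow_mul, ← pow_mul, mul_comm i j]
    rw [Finset.prod_congr rfl fun j _ => e j, ← map_prod,
      orbit (ω ^ i) (by rw [← pow_mul, mul_comm, pow_mul, hω, one_pow])
        (hωi i (Nat.pos_of_ne_zero hi0) (Finset.mem_range.mp hi)) a, map_one]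
  · exact fun h => absurd (Finset.mem_range.mpr hr.pos) h

variable {G : Type*} [Group G] [Finite G]

/-- An eigenvector modulo `N` of a `p'`-group lifts to an element spanning an invariant cyclic subgroup. -/
theorem eigen_lift {p : ℕ} [hp : Fact p.Prime] {P K N : Subgroup G} (hPp : IsPGroup p P) [IsMulCommutative P]
    (hKP : K ≤ Subgroup.normalizer (P : Set G)) (hKN : K ≤ Subgroup.normalizer (N : Set G))
    (hK : ¬ p ∣ Nat.card K) {x : G} (hxP : x ∈ P) (hxN : x ∉ N) (hxp : x ^ p ∈ N)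
    (hν : ∀ g ∈ K, ∃ ν : ℕ, g * x * g⁻¹ * (x ^ ν)⁻¹ ∈ N) :
    ∃ y ∈ P, y * (x ^ Nat.card K)⁻¹ ∈ N ∧ K ≤ Subgroup.normalizer (Subgroup.zpowers y : Set G) := by
  classical
  haveI := Fintype.ofFinite K
  letI : CommGroup P := { (inferInstance : Group P) with mul_comm := IsMulCommutative.is_comm.comm }
  set φ : K →* MulAut P := P.normalizerMonoidHom.comp (Subgroup.inclusion hKP) with hφdef
  have hφ : ∀ (g : K) (z : P), ((φ g z : P) : G) = (g : G) * z * (g : G)⁻¹ := fun g z => rfl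
  set N' := N.subgroupOf P
  set q := QuotientGroup.mk' N'
  set x' : P := ⟨x, hxP⟩
  set t := q x'
  have ht1 : t ≠ 1 := fun h => hxN (Subgroup.mem_subgroupOf.mp ((QuotientGroup.eq_one_iff x').mp h))
  have htp : orderOf t = p := orderOf_eq_prime
    (by rw [← map_pow]; exact (QuotientGroup.eq_one_iff _).mpr (Subgroup.mem_subgroupOf.mpr (by simpa [x'] using hxp))) ht1
  have hNinv : ∀ (g : K) (z : P), q z = 1 → q (φ g z) = 1 := fun g z hz =>
    (QuotientGroup.eq_one_iff _).mpr (Subgroup.mem_subgroupOf.mpr (by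
      rw [hφ]
      exact (Subgroup.mem_normalizer_iff.mp (hKN g.2) _).mp
        (Subgroup.mem_subgroupOf.mp ((QuotientGroup.eq_one_iff z).mp hz))))
  choose ν₀ hν₀ using fun g : K => hν g g.2
  have hqν : ∀ g : K, q (φ g x') = t ^ ν₀ g := fun g => by
    rw [← map_pow, ← mul_inv_eq_one, ← map_inv, ← map_mul]
    refine (QuotientGroup.eq_one_iff _).mpr (Subgroup.mem_subgroupOf.mpr ?_)
    push_cast
    rw [hφ]
    exact hν₀ g
  let ν : K → ℤ := fun g => (ν₀ g : ℤ)
  have hmul : ∀ g h : K, (ν (g * h) : ZMod p) = ν g * ν h := by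
    intro g h
    have e1 : q (φ (g * h) x') = t ^ (ν₀ g * ν₀ h) := by
      have e2 : q (φ h x' * (x' ^ ν₀ h)⁻¹) = 1 := by rw [map_mul, map_inv, map_pow, hqν, mul_inv_cancel]
      have e3 := hNinv g _ e2
      rw [map_mul (φ g), map_inv, map_pow, map_mul, map_inv, map_pow, hqν, mul_inv_eq_one, ← pow_mul] at e3
      rw [map_mul, MulAut.mul_apply]
      exact e3
    rw [hqν, pow_eq_pow_iff_modEq, htp, ← ZMod.natCast_eq_natCast_iff] at e1
    simpa [ν] using e1
  have hone : (ν 1 : ZMod p) = 1 := by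
    have e1 : t ^ ν₀ 1 = t ^ 1 := by rw [← hqν, map_one, MulAut.one_apply, pow_one]
    rw [pow_eq_pow_iff_modEq, htp, ← ZMod.natCast_eq_natCast_iff] at e1
    simpa [ν] using e1
  obtain ⟨e, he⟩ := IsPGroup.iff_card.mp hPp
  let μ : K → ℤ := fun g => ν g ^ p ^ e
  have hμν : ∀ g, (μ g : ZMod p) = ν g := fun g => by simp [μ, ZMod.pow_card_pow]
  have hμ : ∀ g h, (p ^ e : ℤ) ∣ μ g * μ h - μ (g * h) := by
    intro g h
    have h1 : (p : ℤ) ∣ ν g * ν h - ν (g * h) := by
      rw [← ZMod.intCast_zmod_eq_zero_iff_dvd]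
      push_cast
      rw [hmul, sub_self]
    have h2 := dvd_sub_pow_of_dvd_sub (R := ℤ) h1 e
    rw [mul_pow] at h2
    exact (pow_dvd_pow _ (Nat.le_succ e)).trans h2
  have hzpow : ∀ (z : P) (m n : ℤ), (p ^ e : ℤ) ∣ m - n → z ^ m = z ^ n := by
    intro z m n hd
    rw [zpow_eq_zpow_iff_modEq, Int.modEq_iff_dvd]
    refine (Int.natCast_dvd_natCast.mpr (he ▸ orderOf_dvd_natCard z)).trans ?_
    push_cast
    rw [← neg_sub m n]
    exact dvd_neg.mpr hd
  set y : P := ∏ g : K, (φ g x') ^ μ g⁻¹ with hydef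
  have hqy : q y = t ^ Nat.card K := by
    rw [hydef, map_prod, Nat.card_eq_fintype_card, ← Finset.card_univ, ← Finset.prod_const]
    refine Finset.prod_congr rfl fun g _ => ?_
    rw [map_zpow, hqν, ← zpow_natCast t (ν₀ g), ← zpow_mul]
    conv_rhs => rw [← zpow_one t]
    rw [zpow_eq_zpow_iff_modEq, htp, ← ZMod.intCast_eq_intCast_iff]
    push_cast
    rw [hμν, show ((ν₀ g : ℕ) : ZMod p) = (ν g : ZMod p) by simp [ν], ← hmul, mul_inv_cancel, hone]
  refine ⟨y, y.2, ?_, fun g hg => Coprime.mem_normalizer_of_conj_mem fun z hz => ?_⟩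
  · have h1 : q (y * (x' ^ Nat.card K)⁻¹) = 1 := by
      rw [map_mul, map_inv, map_pow, hqy, mul_inv_cancel]
    simpa [x'] using Subgroup.mem_subgroupOf.mp ((QuotientGroup.eq_one_iff _).mp h1)
  · set g' : K := ⟨g, hg⟩
    have hy : φ g' y = y ^ μ g' := by
      rw [hydef, map_prod, ← Finset.prod_zpow]
      refine Fintype.prod_equiv (Equiv.mulLeft g') _ _ fun k => ?_
      rw [Equiv.coe_mulLeft, map_zpow, ← zpow_mul]
      show φ g' (φ k x') ^ μ k⁻¹ = φ (g' * k) x' ^ (μ (g' * k)⁻¹ * μ g')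
      rw [map_mul, MulAut.mul_apply]
      refine hzpow _ _ _ ?_
      have h := hμ (g' * k)⁻¹ g'
      rw [show (g' * k)⁻¹ * g' = k⁻¹ by group] at h
      rw [← neg_sub]
      exact dvd_neg.mpr h
    obtain ⟨i, rfl⟩ := hz
    have e : g * (y : G) * g⁻¹ = (y : G) ^ μ g' := by
      have h := congrArg (fun z : P => (z : G)) hy
      simpa [hφ] using h
    show g * (y : G) ^ i * g⁻¹ ∈ _
    rw [← conj_zpow, e, ← zpow_mul]
    exact Subgroup.zpow_mem_zpowers _ _

end Cfsg.Agent.OddLocal.Sigma
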