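import Cfsg.Agent.OddLocal.Sigma.TauTwoElements
import Cfsg.Agent.OddLocal.Sigma.EigenLift
import Cfsg.Agent.Core.BG.PrimeAction

/-! The case of an abelian Sylow subgroup for a prime in `τ₂(M)`. -/

set_option autoImplicit false
set_option linter.style.haveILetI false
set_option linter.unusedSectionVars false

namespace Cfsg.Agent.OddLocal.Sigma

open Cfsg
open scoped commutatorElement

variable {G : Type*} [Group G] [Finite G] (hG : IsMinSimpleOddOrder G)
  (hpl : ∀ (p : ℕ) [Fact p.Prime] (H : Subgroup G), H ≠ ⊤ → PLengthLE p 1 H)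
include hG hpl

/-- A Sylow subgroup of `G` lies in the derived subgroup of its normalizer. -/
theorem sylow_le_derived_normalizer {p : ℕ} [hp : Fact p.Prime] (R : Sylow p G) :
    (R : Subgroup G) ≤ ⁅Subgroup.normalizer ((R : Subgroup G) : Set G),
      Subgroup.normalizer ((R : Subgroup G) : Set G)⁆ := by
  set N := Subgroup.normalizer ((R : Subgroup G) : Set G) with hNdef
  haveI : ((R : Subgroup G).subgroupOf N).Normal := Subgroup.normal_subgroupOf_of_le_normalizer le_rfl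
  obtain ⟨V, hV⟩ := Subgroup.exists_right_complement'_of_coprime (N := (R : Subgroup G).subgroupOf N) (by
    obtain ⟨k, hk⟩ := IsPGroup.iff_card.mp R.isPGroup'
    rw [Core.card_subgroupOf Subgroup.le_normalizer, hk]
    exact (hp.out.coprime_iff_not_dvd.mpr fun hd => R.not_dvd_index
      (hd.trans (Subgroup.relIndex_dvd_index_of_le Subgroup.le_normalizer))).pow_left k)
  refine (sylow_eq_commutator hG hpl R (V.map N.subtype)
    ⟨Subgroup.le_normalizer, Subgroup.map_subtype_le _, ?_, fun n hn => ?_⟩).2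
  · rw [eq_bot_iff]
    rintro _ ⟨hx, y, hy, rfl⟩
    have := hV.disjoint.le_bot ⟨Subgroup.mem_subgroupOf.mpr hx, hy⟩
    rw [Subgroup.mem_bot] at this
    simp [this]
  · obtain ⟨⟨⟨a, ha⟩, ⟨b, hb⟩⟩, he⟩ := hV.2 ⟨n, hn⟩
    exact ⟨a, Subgroup.mem_subgroupOf.mp ha, b, ⟨b, hb, rfl⟩, congrArg Subtype.val he.symm⟩

omit hpl in
/-- An element of `H'` normalizing a normal `p'`-part `W` and a cyclic Sylow subgroup of `W` centralizes the
latter, when its order is a power of `p`. -/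
theorem mem_centralizer_cyclic_sylow {H W V : Subgroup G} {p r : ℕ} [hp : Fact p.Prime] [hr : Fact r.Prime]
    (hW : H ≤ Subgroup.normalizer (W : Set G)) (hWH : W ≤ H) (hWp : ¬ p ∣ Nat.card W) (hV : IsPGroup r V)
    (hVW : V ≤ W) (hVi : ¬ r ∣ V.relIndex W) [IsCyclic V] {s : G} (hs : s ∈ ⁅H, H⁆)
    (hsV : s ∈ Subgroup.normalizer (V : Set G)) {k : ℕ} (hsp : s ^ p ^ k = 1) :
    s ∈ Subgroup.centralizer (V : Set G) := by
  set K := H ⊓ Subgroup.normalizer (V : Set G)
  have hfr : ∀ h ∈ H, ∃ w ∈ W, ∃ c ∈ K, h = w * c := by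
    intro h hh
    have hle : cj h V ≤ W := (cj_mono hVW).trans (cj_eq_iff.mpr (hW hh)).le
    obtain ⟨w, hw, hwe⟩ := Coprime.exists_conj_of_sylow (H := W) (P := cj h V) (Q := V) (hV.map _) hV hle hVW (by
      have e : (cj h V).relIndex (cj h W) = V.relIndex W :=
        Subgroup.relIndex_map_map_of_injective V W (MulAut.conj h).injective
      rw [cj_eq_iff.mpr (hW hh)] at e
      rwa [e]) hVi
    have hwh : w * h ∈ Subgroup.normalizer (V : Set G) := cj_eq_iff.mp (by rw [cj_mul]; exact hwe)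
    exact ⟨w⁻¹, inv_mem hw, w * h, ⟨mul_mem (hWH hw) hh, hwh⟩, by group⟩
  have hab : ∀ a ∈ K, ∀ b ∈ K, ⁅a, b⁆ ∈ Subgroup.centralizer (V : Set G) := by
    intro a ha b hb
    let a' : Subgroup.normalizer (V : Set G) := ⟨a, ha.2⟩
    let b' : Subgroup.normalizer (V : Set G) := ⟨b, hb.2⟩
    have h1 : ⁅a', b'⁆ ∈ V.normalizerMonoidHom.ker := by
      rw [MonoidHom.mem_ker, map_commutatorElement, commutatorElement_eq_one_iff_mul_comm]
      refine (IsCyclic.mulAutMulEquiv V).injective ?_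
      rw [map_mul, map_mul, mul_comm]
    rw [Subgroup.normalizerMonoidHom_ker] at h1
    exact Subgroup.mem_subgroupOf.mp h1
  set J := W ⊔ (H ⊓ Subgroup.centralizer (V : Set G)) with hJdef
  have hWn : ∀ h ∈ H, ∀ w ∈ W, h * w * h⁻¹ ∈ W := fun h hh w hw => (Subgroup.mem_normalizer_iff.mp (hW hh) w).mp hw
  have hsJ : s ∈ J := by
    refine (Subgroup.commutator_le.mpr fun g hg g' hg' => ?_) hs
    obtain ⟨w₁, hw₁, k₁, hk₁, rfl⟩ := hfr g hg
    obtain ⟨w₂, hw₂, k₂, hk₂, rfl⟩ := hfr g' hg'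
    have e : ⁅w₁ * k₁, w₂ * k₂⁆ = w₁ * (k₁ * w₂ * k₁⁻¹) * ((k₁ * k₂ * k₁⁻¹) * w₁⁻¹ * (k₁ * k₂ * k₁⁻¹)⁻¹) *
        ⁅k₁, k₂⁆ * w₂⁻¹ := by simp only [commutatorElement_def]; group
    rw [e]
    refine mul_mem (mul_mem (Subgroup.mem_sup_left (mul_mem (mul_mem hw₁ (hWn k₁ hk₁.1 w₂ hw₂))
      (hWn _ (H.mul_mem (H.mul_mem hk₁.1 hk₂.1) (H.inv_mem hk₁.1)) _ (inv_mem hw₁))))
      (Subgroup.mem_sup_right ⟨?_, hab k₁ hk₁ k₂ hk₂⟩)) (Subgroup.mem_sup_left (inv_mem hw₂))
    rw [commutatorElement_def]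
    exact H.mul_mem (H.mul_mem (H.mul_mem hk₁.1 hk₂.1) (H.inv_mem hk₁.1)) (H.inv_mem hk₂.1)
  obtain ⟨w, hw, c, hc, rfl⟩ := Coprime.exists_mul_of_mem_sup
    ((inf_le_left : H ⊓ Subgroup.centralizer (V : Set G) ≤ H).trans hW) hsJ
  have hcN : c ∈ Subgroup.normalizer (V : Set G) := Subgroup.centralizer_le_normalizer _ hc.2
  have hwN : w ∈ Subgroup.normalizer (V : Set G) := by
    have := mul_mem hsV (inv_mem hcN)
    rwa [mul_inv_cancel_right] at this
  have hfc : V.normalizerMonoidHom ⟨c, hcN⟩ = 1 := by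
    rw [← MonoidHom.mem_ker, Subgroup.normalizerMonoidHom_ker]
    exact Subgroup.mem_subgroupOf.mpr hc.2
  have hf : V.normalizerMonoidHom ⟨w * c, hsV⟩ = V.normalizerMonoidHom ⟨w, hwN⟩ := by
    rw [show (⟨w * c, hsV⟩ : Subgroup.normalizer (V : Set G)) = ⟨w, hwN⟩ * ⟨c, hcN⟩ from rfl, map_mul, hfc, mul_one]
  have h1 : orderOf (V.normalizerMonoidHom ⟨w * c, hsV⟩) ∣ p ^ k := orderOf_dvd_of_pow_eq_one (by
    rw [← map_pow, show (⟨w * c, hsV⟩ : Subgroup.normalizer (V : Set G)) ^ p ^ k = 1 from Subtype.ext hsp, map_one])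
  have h2 : orderOf (V.normalizerMonoidHom ⟨w * c, hsV⟩) ∣ Nat.card W := by
    rw [hf]
    exact (orderOf_map_dvd _ _).trans (by rw [Subgroup.orderOf_mk]; exact Subgroup.orderOf_dvd_natCard W hw)
  have h3 := orderOf_eq_one_iff.mp (Nat.eq_one_of_dvd_coprimes
    ((hp.out.coprime_iff_not_dvd.mpr hWp).pow_left k) h1 h2)
  rw [← MonoidHom.mem_ker, Subgroup.normalizerMonoidHom_ker] at h3
  exact Subgroup.mem_subgroupOf.mp h3

namespace Exc

variable {p : ℕ} [hp : Fact p.Prime] {M E A A0 : Subgroup G} (h : Exc M p A A0)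
  (hE : IsComplIn E (sigmaCore M) M) (hpτ : p ∈ tau2 M) (hAE : A ≤ E)
  (hab : ∀ S : Sylow p G, IsMulCommutative (S : Subgroup G))
include h hE hpτ hAE

theorem centralizer_le_compl : Subgroup.centralizer (A : Set G) ≤ E :=
  let f := (tau2_compl_facts hG hpl h.coatom hE hpτ ⟨hAE, h.maxEA.ea, h.maxEA.card⟩).2.1
  f.1.trans f.2.1.le

include hab

/-- The Sylow `p`-subgroup of `G` in `E` is normal in `N(A)`. -/
theorem sylow_facts : ∃ S : Sylow p G, A ≤ (S : Subgroup G) ∧ (S : Subgroup G) ≤ E ∧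
    (S : Subgroup G) ≤ Subgroup.centralizer (A : Set G) ∧
    Subgroup.normalizer (A : Set G) ≤ Subgroup.normalizer ((S : Subgroup G) : Set G) ∧
    Subgroup.normalizer ((S : Subgroup G) : Set G) ≤ Subgroup.normalizer (A : Set G) := by
  obtain ⟨S, hAS⟩ := h.maxEA.isPGroup.exists_le_sylow
  have hSc := (hab S).is_comm
  have hSC : (S : Subgroup G) ≤ Subgroup.centralizer (A : Set G) := fun x hx =>
    Subgroup.mem_centralizer_iff.mpr fun a ha => congrArg Subtype.val (hSc.comm ⟨a, hAS ha⟩ ⟨x, hx⟩)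
  have hSE : (S : Subgroup G) ≤ E := hSC.trans (h.centralizer_le_compl hG hpl hE hpτ hAE)
  have hSN : Subgroup.normalizer ((S : Subgroup G) : Set G) ≤ Subgroup.normalizer (A : Set G) := by
    have := h.normalizer_sylow_le_normalizer hG hpl (S.subtype (hSE.trans hE.1))
      (by rw [Sylow.coe_subtype, Subgroup.subgroupOf_map_subtype, inf_eq_left.mpr (hSE.trans hE.1)]; exact hAS)
    rwa [Sylow.coe_subtype, Subgroup.subgroupOf_map_subtype, inf_eq_left.mpr (hSE.trans hE.1)] at this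
  refine ⟨S, hAS, hSE, hSC, ?_, hSN⟩
  set H := Subgroup.normalizer (A : Set G) with hHdef
  have hHtop : H ≠ ⊤ := Core.BG.normalizer_ne_top_of_isPGroup hG h.maxEA.ne_bot h.maxEA.isPGroup
  haveI := Core.BG.isSolvable_proper hG hHtop
  have hSH : (S : Subgroup G) ≤ H := Subgroup.le_normalizer.trans hSN
  have hr2 : PRankLE p 2 H := Core.BG.pRankLE_of_sylow S.isPGroup' hSH (fun T hT hST _ => S.3 hT hST)
    (Components.pRankLE_of_injective (f := Subgroup.inclusion (hSE.trans hE.1))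
      (Subgroup.inclusion_injective _) (pRankLE_two_of_notMem_sigma hG h.coatom hp.out h.notMem))
  obtain ⟨-, -, -, -, -, hidx⟩ := RankTwo.five (odd_of_dvd hG (Subgroup.card_subgroup_dvd_card H))
    (h.maxEA.dvd_of_le Subgroup.le_normalizer) (RankTwo.oddAutSmall_core_of_pRankLE (h.maxEA.p_ne_two hG) hr2)
  set S' := S.subtype hSH
  set W' := pPrimeCore p H
  have hPPP : (S' : Subgroup H) ≤ pPrimePCore p H := Core.le_of_coprime_index (by
    obtain ⟨k, hk⟩ := IsPGroup.iff_card.mp S'.isPGroup'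
    rw [hk]; exact hidx.symm.pow_left k)
  have hle : pPrimePCore p H ≤ W' ⊔ (S' : Subgroup H) := by
    intro x hx
    rw [pPrimePCore, Subgroup.mem_comap] at hx
    obtain ⟨y, hy, hye⟩ := (Core.pCore_le_sylow (S'.mapSurjective (QuotientGroup.mk'_surjective W'))) hx
    have h1 : x * y⁻¹ ∈ W' := (QuotientGroup.eq_one_iff _).mp
      (show (QuotientGroup.mk' W') (x * y⁻¹) = 1 by rw [map_mul, map_inv, hye, mul_inv_cancel])
    rw [show x = x * y⁻¹ * y by group]
    exact Subgroup.mul_mem_sup h1 hy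
  set W := W'.map H.subtype with hWdef
  have hWH : W ≤ H := Subgroup.map_subtype_le _
  have hHW : H ≤ Subgroup.normalizer (W : Set G) := le_normalizer_map_of_normal W'
  have hWp : ¬ p ∣ Nat.card W := by rw [hWdef, Core.card_map_subtype]; exact Core.not_dvd_card_pPrimeCore p H
  have hWA : W ≤ Subgroup.centralizer (A : Set G) := by
    rw [← Subgroup.commutator_eq_bot_iff_le_centralizer, ← le_bot_iff]
    refine (le_inf ?_ (Coprime.commutator_le_of_le_normalizer
      ((Subgroup.le_normalizer : A ≤ H).trans hHW))).trans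
      (Subgroup.inf_eq_bot_of_coprime (Components.ea_coprime h.maxEA.ea hWp)).le
    rw [Subgroup.commutator_comm]
    exact Coprime.commutator_le_of_le_normalizer hWH
  have hWE : W ≤ E := hWA.trans (h.centralizer_le_compl hG hpl hE hpτ hAE)
  have hSW : (S : Subgroup G) ≤ Subgroup.normalizer (W : Set G) := hSH.trans hHW
  have hcop : (Nat.card (S : Subgroup G)).Coprime (Nat.card W) := by
    obtain ⟨k, hk⟩ := IsPGroup.iff_card.mp S.isPGroup'
    rw [hk]; exact (hp.out.coprime_iff_not_dvd.mpr hWp).pow_left k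
  haveI : Group.IsSolvable (S : Subgroup G) := Coprime.isSolvable_of_isPGroup S.isPGroup'
  have hWS : ⁅W, (S : Subgroup G)⁆ = ⊥ := by
    refine le_bot_iff.mp (le_of_commutator_sylows (N₀ := ⊥) ?_ ?_ fun r hr => ?_)
    · exact le_top.trans (Subgroup.normalizer_eq_top (⊥ : Subgroup G)).ge
    · exact le_top.trans (Subgroup.normalizer_eq_top (⊥ : Subgroup G)).ge
    haveI := Fact.mk hr
    obtain ⟨V, hVW, hV, hVi, hSV⟩ := Coprime.exists_invariant_sylow hSW hcop r
    refine ⟨V, hVW, hVi, ?_⟩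
    rw [Subgroup.commutator_comm, le_bot_iff, Subgroup.commutator_eq_bot_iff_le_centralizer]
    by_cases hd : r ∣ Nat.card W
    swap
    · rw [show V = ⊥ from Subgroup.card_eq_one.mp (by
        obtain ⟨j, hj⟩ := IsPGroup.iff_card.mp hV
        rw [hj, show j = 0 from by_contra fun hj0 => hd ((dvd_pow_self r hj0).trans
          (hj ▸ Subgroup.card_dvd_of_le hVW)), pow_zero])]
      exact fun x _ => Subgroup.mem_centralizer_iff.mpr fun a ha => by
        rw [Subgroup.mem_bot.mp ha]; simp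
    have hrp : r ≠ p := fun e => hWp (e ▸ hd)
    have hrσ : r ∉ sigma M := complIn_notMem_sigma hG h.coatom hE hr (hd.trans (Subgroup.card_dvd_of_le hWE))
    intro s hs
    obtain ⟨k, hk⟩ := S.isPGroup' ⟨s, hs⟩
    have hsk : s ^ p ^ k = 1 := congrArg Subtype.val hk
    by_cases hrτ : r ∈ tau2 M
    · obtain ⟨B, hBE, hBe, hB2⟩ := exists_ea_le_compl hG hE hrτ
      have hSB : (S : Subgroup G) ≤ Subgroup.centralizer (B : Set G) :=
        zpowers_le_centralizer hG hpl h.coatom hE hrτ hpτ hrp ⟨hBE, hBe, hB2⟩ S.isPGroup' hSE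
      have hBmem := (tau2_compl_facts hG hpl h.coatom hE hrτ ⟨hBE, hBe, hB2⟩).1.2
      refine Subgroup.mem_centralizer_iff.mpr fun v hv => ?_
      have hfix := fixed_of_fixed_order_p (ne_two_of_dvd hG (hd.trans (Subgroup.card_subgroup_dvd_card W))) s
        (Nat.Coprime.coprime_dvd_left (orderOf_dvd_of_pow_eq_one hsk)
          (((Nat.coprime_primes hp.out hr).mpr hrp.symm).pow_left k)) (Nat.card V) V le_rfl hV
        (fun x hx => (Subgroup.mem_normalizer_iff.mp (hSV hs) x).mp hx)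
        (fun x hx hxr => by
          by_cases hx1 : x = 1
          · simp [hx1]
          have hxB : x ∈ B := hBmem _ (Subgroup.zpowers_le.mpr (hWE (hVW hx)))
            (by rw [Nat.card_zpowers, orderOf_eq_prime hxr hx1]) (Subgroup.mem_zpowers x)
          rw [← Subgroup.mem_centralizer_iff.mp (hSB hs) x hxB, mul_inv_cancel_right]) v hv
      exact (mul_inv_eq_iff_eq_mul.mp hfix).symm
    · have hrk : PRankLE r 1 M := by_contra fun h1 =>
        hrτ ⟨hr, hrσ, pRankLE_two_of_notMem_sigma hG h.coatom hr hrσ, h1⟩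
      haveI : Group.IsNilpotent V := hV.isNilpotent
      haveI : IsCyclic V := isCyclic_of_zgroup_nilpotent hG ((hVW.trans hWE).trans hE.1) fun q hq hqd => by
        have := mem_of_pGroup hV (π := {q | q = r}) rfl q hq hqd
        rw [Set.mem_setOf_eq] at this
        exact this ▸ hrk
      exact mem_centralizer_cyclic_sylow hG hHW hWH hWp hV hVW hVi
        (Subgroup.commutator_mono hSN hSN (sylow_le_derived_normalizer hG hpl S hs)) (hSV hs) hsk
  have hWC := Subgroup.commutator_eq_bot_iff_le_centralizer.mp hWS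
  intro n hn
  refine Coprime.mem_normalizer_of_conj_mem fun x hx => ?_
  haveI : (pPrimePCore p H).Normal := by unfold pPrimePCore; infer_instance
  have h1 : (⟨n, hn⟩ : H) * ⟨x, hSH hx⟩ * (⟨n, hn⟩ : H)⁻¹ ∈ W' ⊔ (S' : Subgroup H) :=
    hle ((inferInstance : (pPrimePCore p H).Normal).conj_mem _ (hPPP (Subgroup.mem_subgroupOf.mpr hx)) _)
  obtain ⟨w, hw, y, hy, hwy⟩ := Subgroup.mem_sup_of_normal_left.mp h1
  have hy' : (y : G) ∈ (S : Subgroup G) := Subgroup.mem_subgroupOf.mp hy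
  have hwW : (w : G) ∈ W := ⟨w, hw, rfl⟩
  have he : (w : G) * y = n * x * n⁻¹ := congrArg Subtype.val hwy
  have hcomm : Commute (w : G) y := (Subgroup.mem_centralizer_iff.mp (hWC hwW) y hy').symm
  obtain ⟨k, hk⟩ := IsPGroup.iff_card.mp S.isPGroup'
  have hw1 : (w : G) = 1 := by
    refine orderOf_eq_one_iff.mp (Nat.eq_one_of_dvd_coprimes hcop.symm
      (Subgroup.orderOf_dvd_natCard W hwW) (orderOf_dvd_of_pow_eq_one ?_))
    have hpw : ((w : G) * y) ^ Nat.card (S : Subgroup G) = 1 := by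
      rw [he, conj_pow, orderOf_dvd_iff_pow_eq_one.mp (Subgroup.orderOf_dvd_natCard _ hx), mul_one, mul_inv_cancel]
    rwa [hcomm.mul_pow, orderOf_dvd_iff_pow_eq_one.mp (Subgroup.orderOf_dvd_natCard _ hy'), mul_one] at hpw
  rw [← he, hw1, one_mul]
  exact hy'

/-- `N(A)` acts on `A` as an abelian group. -/
theorem derived_normalizer_le :
    ⁅Subgroup.normalizer (A : Set G), Subgroup.normalizer (A : Set G)⁆ ≤ Subgroup.centralizer (A : Set G) := by
  obtain ⟨S, hAS, -, hSC, hNS, -⟩ := h.sylow_facts hG hpl hE hpτ hAE hab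
  set N := Subgroup.normalizer (A : Set G)
  intro c hc
  have hcN : c ∈ N := Subgroup.commutator_le.mpr (fun a ha b hb =>
    mul_mem (mul_mem (mul_mem ha hb) (inv_mem ha)) (inv_mem hb)) hc
  have hc0 : orderOf c ≠ 0 := (orderOf_pos c).ne'
  obtain ⟨k, m, hm, hkm⟩ := Nat.exists_eq_pow_mul_and_not_dvd hc0 p hp.out.ne_one
  have hpk : c ^ p ^ k ∈ Subgroup.centralizer (A : Set G) := by
    refine mem_centralizer_of_mem_derived_normalizer hG h.maxEA.isPGroup h.maxEA.ne_bot
      (fun X _ _ => (Nat.le_of_dvd Nat.card_pos (Subgroup.card_subgroup_dvd_card X)).trans h.maxEA.card.le)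
      (pow_mem hc _) ?_
    rw [orderOf_pow_of_dvd (pow_ne_zero _ hp.out.ne_zero) (hkm ▸ dvd_mul_right _ _), hkm,
      Nat.mul_div_cancel_left m (pow_pos hp.out.pos k)]
    exact ((hp.out.coprime_iff_not_dvd.mpr hm)).symm
  have hm' : c ^ m ∈ Subgroup.centralizer (A : Set G) := by
    refine hSC ?_
    have hz : IsPGroup p (Subgroup.zpowers (c ^ m)) := by
      refine IsPGroup.of_card (n := k) ?_
      have hm0 : m ≠ 0 := fun e => hm (e ▸ dvd_zero p)
      rw [Nat.card_zpowers, orderOf_pow_of_dvd hm0 (hkm ▸ dvd_mul_left _ _), hkm,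
        Nat.mul_div_cancel _ (Nat.pos_of_ne_zero hm0)]
    have hsup := IsPGroup.to_sup_of_normal_left' S.isPGroup' hz (Subgroup.zpowers_le.mpr (hNS (pow_mem hcN m)))
    exact (S.3 hsup le_sup_left).le (Subgroup.mem_sup_right (Subgroup.mem_zpowers _))
  have hg := Nat.gcd_eq_gcd_ab (p ^ k) m
  rw [show Nat.gcd (p ^ k) m = 1 from ((hp.out.coprime_iff_not_dvd.mpr hm).pow_left k)] at hg
  rw [← zpow_one c, show (1 : ℤ) = _ from hg, zpow_add, zpow_mul, zpow_mul, zpow_natCast, zpow_natCast]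
  exact mul_mem (zpow_mem hpk _) (zpow_mem hm' _)

omit hab in
/-- A line of `A` normalized by `N(A)` has no fixed points in `M_σ`. -/
theorem fpf_of_normalizer_le {L : Subgroup G} (hLA : L ≤ A) (hLc : Nat.card L = p)
    (hNL : Subgroup.normalizer (A : Set G) ≤ Subgroup.normalizer (L : Set G)) :
    sigmaCore M ⊓ Subgroup.centralizer (L : Set G) = ⊥ := by
  by_contra hne
  obtain ⟨-, ⟨-, -, hnot⟩, h3⟩ := tau2_compl_facts hG hpl h.coatom hE hpτ ⟨hAE, h.maxEA.ea, h.maxEA.card⟩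
  exact hnot (hNL.trans (Only.le (Only.mono (h3 L hLA hLc hne).2 (Subgroup.centralizer_le_normalizer _))
    (Core.BG.normalizer_ne_top_of_isPGroup hG (ne_bot_of_card_prime hLc) (h.maxEA.isPGroup.to_le hLA))))

/-- An element of `N(A)` commuting with an element without invariant lines centralizes `A` or acts without fixed
points on it. -/
theorem fixed_dichotomy {y g : G} (hy : y ∈ Subgroup.normalizer (A : Set G))
    (hno : ∀ L : Subgroup G, L ≤ A → Nat.card L = p → y ∉ Subgroup.normalizer (L : Set G))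
    (hcomm : y * g = g * y) (hgC : g ∉ Subgroup.centralizer (A : Set G)) {a : G} (ha : a ∈ A)
    (hga : g * a * g⁻¹ = a) : a = 1 := by
  by_contra ha1
  set C := A ⊓ Subgroup.centralizer ({g} : Set G)
  have hlt : C < A := lt_of_le_of_ne inf_le_left fun e => hgC (Subgroup.mem_centralizer_iff.mpr fun b hb =>
    Subgroup.mem_centralizer_singleton_iff.mp (e.ge hb).2)
  have haC : a ∈ C := ⟨ha, Subgroup.mem_centralizer_singleton_iff.mpr (mul_inv_eq_iff_eq_mul.mp hga).symm⟩
  have hzC : Subgroup.zpowers a = C := Subgroup.eq_of_le_of_card_ge (Subgroup.zpowers_le.mpr haC)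
    ((card_le_of_lt_sq h.maxEA.card hlt).trans (h.maxEA.card_zpowers ha ha1).ge)
  refine hno C inf_le_left (by rw [← hzC]; exact h.maxEA.card_zpowers ha ha1)
    (Coprime.mem_normalizer_of_conj_mem fun b hb => ⟨(Subgroup.mem_normalizer_iff.mp hy b).mp hb.1,
      Subgroup.mem_centralizer_singleton_iff.mpr ?_⟩)
  have h1 := Subgroup.mem_centralizer_singleton_iff.mp hb.2
  have h2 : y⁻¹ * g = g * y⁻¹ := by
    rw [inv_mul_eq_iff_eq_mul, ← mul_assoc, hcomm, mul_inv_cancel_right]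
  calc y * b * y⁻¹ * g = y * b * (y⁻¹ * g) := by group
    _ = y * (b * g) * y⁻¹ := by rw [h2]; group
    _ = y * g * b * y⁻¹ := by rw [h1]; group
    _ = g * (y * b * y⁻¹) := by rw [hcomm]; group

/-- Every element of `E` of prime power order coprime to `p` fixes a line of `A`. -/
theorem exists_fixed_line
    (hfix : ∀ e ∈ E, e ≠ 1 → (∀ q : ℕ, q.Prime → q ∣ orderOf e → q ∈ tau1 M ∪ tau3 M) →
      sigmaCore M ⊓ Subgroup.centralizer ({e} : Set G) = ⊥)
    {r : ℕ} [hr : Fact r.Prime] (hrp : r ≠ p) {y : G} (hyE : y ∈ E)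
    (hyr : IsPGroup r (Subgroup.zpowers y)) :
    ∃ L : Subgroup G, L ≤ A ∧ Nat.card L = p ∧ y ∈ Subgroup.normalizer (L : Set G) := by
  by_contra hcon
  push Not at hcon
  obtain ⟨S, hAS, hSE, hSC, hNS, hSN⟩ := h.sylow_facts hG hpl hE hpτ hAE hab
  have hEA : E ≤ Subgroup.normalizer (A : Set G) := h.le_normalizer_of_compl hG hpl hE hAE
  have hyA := hEA hyE
  have hyC : y ∉ Subgroup.centralizer (A : Set G) := fun hc => by
    obtain ⟨a, ha, ha1⟩ := A.bot_or_exists_ne_one.resolve_left h.maxEA.ne_bot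
    exact hcon _ (Subgroup.zpowers_le.mpr ha) (h.maxEA.card_zpowers ha ha1)
      (Subgroup.centralizer_le_normalizer _ (Subgroup.centralizer_le (Subgroup.zpowers_le.mpr ha) hc))
  have hy1 : y ≠ 1 := fun e => hyC (e ▸ one_mem _)
  obtain ⟨a, hcard⟩ := IsPGroup.iff_card.mp hyr
  rw [Nat.card_zpowers] at hcard
  obtain ⟨a, rfl⟩ : ∃ b, a = b + 1 := ⟨a - 1, by
    rcases Nat.eq_zero_or_pos a with rfl | h0
    · exact absurd (orderOf_eq_one_iff.mp (by rw [hcard, pow_zero])) hy1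
    · omega⟩
  have hrE : r ∣ Nat.card E :=
    (hcard ▸ dvd_pow_self r a.succ_ne_zero).trans (Subgroup.orderOf_dvd_natCard E hyE)
  have hrσ : r ∉ sigma M := complIn_notMem_sigma hG h.coatom hE hr.out hrE
  have hrk : PRankLE r 1 M := by_contra fun h1 => hyC ((zpowers_le_centralizer hG hpl h.coatom hE hpτ
    ⟨hr.out, hrσ, pRankLE_two_of_notMem_sigma hG h.coatom hr.out hrσ, h1⟩ hrp.symm
    ⟨hAE, h.maxEA.ea, h.maxEA.card⟩ hyr (Subgroup.zpowers_le.mpr hyE)) (Subgroup.mem_zpowers y))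
  have hrτ : r ∈ tau1 M ∪ tau3 M := by
    by_cases hd : r ∣ Nat.card ↥⁅M, M⁆
    · exact Or.inr ⟨hr.out, hrσ, hd, hrk⟩
    · exact Or.inl ⟨hr.out, hrσ, hrE.trans (Subgroup.card_dvd_of_le hE.1), hd, hrk⟩
  set z := y ^ r ^ a with hzdef
  have hzo : orderOf z = r := by
    rw [hzdef, orderOf_pow_of_dvd (pow_ne_zero _ hr.out.ne_zero) (hcard ▸ pow_dvd_pow r a.le_succ), hcard,
      pow_succ, Nat.mul_div_cancel_left r (pow_pos hr.out.pos a)]
  have hz1 : z ≠ 1 := fun e => hr.out.one_lt.ne (by rw [← hzo, e, orderOf_one])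
  have hzE : z ∈ E := pow_mem hyE _
  have hzfix : sigmaCore M ⊓ Subgroup.centralizer ({z} : Set G) = ⊥ := hfix z hzE hz1 fun q hq hd => by
    rw [hzo] at hd; rwa [(Nat.prime_dvd_prime_iff_eq hq hr.out).mp hd]
  set Z := Subgroup.zpowers z
  have hZc : Nat.card Z = r := by rw [Nat.card_zpowers, hzo]
  by_cases hzC : z ∈ Subgroup.centralizer (A : Set G)
  swap
  · -- a fixed-point-free element of prime order gives an invariant line
    set C0 := A ⊓ Subgroup.centralizer (sigmaCore M : Set G)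
    have hZA : ⁅A, Z⁆ ≤ C0 := by
      refine le_inf (Coprime.commutator_le_of_le_normalizer (Subgroup.zpowers_le.mpr (hEA hzE))) ?_
      refine Subgroup.le_centralizer_iff.mp (Core.le_of_forall_exists_sylow_le fun v hv => ?_)
      haveI := Fact.mk hv
      obtain ⟨V⟩ := (inferInstance : Nonempty (Sylow v ↥(sigmaCore M)))
      refine ⟨V, ?_⟩
      by_cases hd : v ∣ Nat.card (sigmaCore M)
      swap
      · rw [show (V : Subgroup ↥(sigmaCore M)) = ⊥ from Subgroup.card_eq_one.mp (by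
          rw [V.card_eq_multiplicity, Nat.factorization_eq_zero_of_not_dvd hd, pow_zero]), Subgroup.map_bot]
        exact bot_le
      have hvσ := mem_sigma_of_dvd hv hd
      obtain ⟨T, hTM, -⟩ := exists_sylow_le hvσ
      have hMT := le_normalizer_sylow_of_nilpotent hG h.coatom (h.isNilpotent hG hpl) hvσ T hTM
      have hVM : (V : Subgroup ↥(sigmaCore M)).map (sigmaCore M).subtype ≤ M :=
        (Subgroup.map_subtype_le _).trans (sigmaCore_le M)
      refine le_trans ((le_sup_right.trans (T.3 (IsPGroup.to_sup_of_normal_left' T.isPGroup'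
        (V.isPGroup'.map (sigmaCore M).subtype) (hVM.trans hMT)) le_sup_left).le)) ?_
      refine Subgroup.le_centralizer_iff.mp (Core.BG.commutator_le_centralizer_of_fpf hp.out hr.out
        (fun e => h.notMem (e ▸ hvσ)) (fun e => hrσ (e ▸ hvσ)) hrp.symm (h.maxEA.p_ne_two hG) hZc
        h.maxEA.isPGroup T.isPGroup' (Subgroup.zpowers_le.mpr (hEA hzE))
        ((Subgroup.zpowers_le.mpr (hE.1 hzE)).trans hMT) (h.le.trans hMT) (le_bot_iff.mp ?_))
      rw [← hzfix, centralizer_singleton_eq (a := z) rfl]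
      exact inf_le_inf_right _ (le_sigmaCore hG h.coatom hTM (mem_of_pGroup T.isPGroup' hvσ))
    have hne : C0 ≠ ⊥ := fun e => hzC ((Subgroup.le_centralizer_iff.mp
      (Subgroup.commutator_eq_bot_iff_le_centralizer.mp (le_bot_iff.mp (e ▸ hZA)))) (Subgroup.mem_zpowers z))
    have hlt : C0 < A := lt_of_le_of_ne inf_le_left fun e => sigmaCore_ne_bot hG h.coatom (le_bot_iff.mp (by
      rw [← h.inf_centralizer_eq_bot hG hpl]
      exact le_inf le_rfl (Subgroup.le_centralizer_iff.mp (e.ge.trans inf_le_right))))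
    obtain ⟨b, hb, hb1⟩ := C0.bot_or_exists_ne_one.resolve_left hne
    have hzC0 : Subgroup.zpowers b = C0 := Subgroup.eq_of_le_of_card_ge (Subgroup.zpowers_le.mpr hb)
      ((card_le_of_lt_sq h.maxEA.card hlt).trans (h.maxEA.card_zpowers hb.1 hb1).ge)
    exact hcon C0 inf_le_left (hzC0 ▸ h.maxEA.card_zpowers hb.1 hb1)
      (Coprime.mem_normalizer_of_conj_mem fun x hx => ⟨(Subgroup.mem_normalizer_iff.mp hyA x).mp hx.1,
        conj_mem_centralizer (le_normalizer_sigmaCore M (hE.1 hyE)) hx.2⟩)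
  -- `z` centralizes `A`
  obtain ⟨P, hyP, hPE⟩ := exists_sylow_le_compl hG hE hrσ hyr (Subgroup.zpowers_le.mpr hyE)
  set R := (P : Subgroup M).map M.subtype with hRdef
  have hyR : y ∈ R := hyP (Subgroup.mem_zpowers y)
  have hzR : z ∈ R := pow_mem hyR _
  have hR : IsPGroup r R := P.isPGroup'.map _
  have hRM : R ≤ M := hPE.trans hE.1
  haveI hRnil : Group.IsNilpotent R := hR.isNilpotent
  haveI hRcyc : IsCyclic R := isCyclic_of_zgroup_nilpotent hG hRM fun q hq hqd => by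
    have := mem_of_pGroup hR (π := {q | q = r}) rfl q hq hqd
    rw [Set.mem_setOf_eq] at this
    exact this ▸ hrk
  have hRmax : ∀ Q : Subgroup G, IsPGroup r Q → R ≤ Q → Q ≤ M → Q ≤ R := fun Q hQ hRQ hQM x hx => by
    have h1 : P.1 ≤ Q.subgroupOf M := fun w hw => Subgroup.mem_subgroupOf.mpr (hRQ ⟨w, hw, rfl⟩)
    exact ⟨⟨x, hQM hx⟩, P.3 hQ.comap_subtype h1 ▸ Subgroup.mem_subgroupOf.mpr hx, rfl⟩
  have hAZ : A ≤ Subgroup.centralizer (Z : Set G) :=
    Subgroup.le_centralizer_iff.mp (Subgroup.zpowers_le.mpr hzC)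
  obtain ⟨H, hH, hle⟩ := (eq_top_or_exists_le_coatom (Subgroup.normalizer (Z : Set G))).resolve_left
    (Core.BG.normalizer_ne_top_of_isPGroup hG (ne_bot_of_card_prime hZc) (IsPGroup.of_card (n := 1) (by rw [hZc, pow_one])))
  have hCH : Subgroup.centralizer (Z : Set G) ≤ H := (Subgroup.centralizer_le_normalizer _).trans hle
  have hAH : A ≤ H := hAZ.trans hCH
  have hCA : Subgroup.centralizer (A : Set G) ≤ H := centralizer_ea_sq_le hG hpl hH hAH h.maxEA.ea h.maxEA.card
  have hRC : R ≤ Subgroup.centralizer (Z : Set G) := by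
    refine Subgroup.le_centralizer_iff.mp (Subgroup.zpowers_le.mpr ?_)
    exact Subgroup.mem_centralizer_iff.mpr fun x hx =>
      congrArg Subtype.val (IsMulCommutative.is_comm.comm (⟨x, hx⟩ : R) ⟨z, hzR⟩)
  have hNH : Subgroup.normalizer (A : Set G) ≤ H := by
    intro n hn
    set D := Subgroup.centralizer (A : Set G) ⊔ R
    have hDN : D ≤ Subgroup.normalizer (A : Set G) :=
      sup_le (Subgroup.centralizer_le_normalizer _) (hPE.trans hEA)
    have hnD : ∀ d ∈ D, n * d * n⁻¹ ∈ D := fun d hd => by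
      rw [show n * d * n⁻¹ = ⁅n, d⁆ * d by rw [commutatorElement_def]; group]
      exact mul_mem (Subgroup.mem_sup_left (h.derived_normalizer_le hG hpl hE hpτ hAE hab
        (Subgroup.commutator_mem_commutator hn (hDN hd)))) hd
    have hDM : D ≤ M := sup_le h.centralizer_le hRM
    have hRi : ¬ r ∣ R.relIndex D := fun hd => by
      have h2 : R.relIndex D ∣ (P : Subgroup M).index := by
        rw [← Subgroup.relIndex_top_right,
          ← Subgroup.relIndex_map_map_of_injective (P : Subgroup M) ⊤ M.subtype_injective,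
          ← MonoidHom.range_eq_map, Subgroup.range_subtype,
          ← Subgroup.relIndex_mul_relIndex R D M le_sup_right hDM]
        exact dvd_mul_right _ _
      exact P.not_dvd_index (hd.trans h2)
    have hnR : cj n R ≤ D := by
      rintro _ ⟨x, hx, rfl⟩
      exact hnD x (Subgroup.mem_sup_right hx)
    obtain ⟨d, hd, hde⟩ := Coprime.exists_conj_of_sylow (H := D) (P := cj n R) (Q := R) (hR.map _) hR hnR
      le_sup_right (by
        have e : (cj n R).relIndex (cj n D) = R.relIndex D :=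
          Subgroup.relIndex_map_map_of_injective R D (MulAut.conj n).injective
        have eD : cj n D = D := Subgroup.eq_of_le_of_card_ge (by
          rintro _ ⟨x, hx, rfl⟩; exact hnD x hx) (card_cj n D).ge
        rw [eD] at e
        rwa [e]) hRi
    have hdn : cj (d * n) R = R := by rw [cj_mul]; exact hde
    have hdnZ : d * n ∈ Subgroup.normalizer (Z : Set G) := cj_eq_iff.mp
      (OddLocal.eq_of_card_eq_of_isCyclic hRcyc ((cj_mono (Subgroup.zpowers_le.mpr hzR)).trans hdn.le)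
        (Subgroup.zpowers_le.mpr hzR) (card_cj _ _))
    have h4 := H.mul_mem (H.inv_mem ((sup_le hCA (hRC.trans hCH)) hd)) (hle hdnZ)
    rwa [inv_mul_cancel_left] at h4
  have hHM : H ≠ M := fun e => (tau2_compl_facts hG hpl h.coatom hE hpτ ⟨hAE, h.maxEA.ea, h.maxEA.card⟩).2.1.2.2
    (e ▸ hNH)
  have hSH : (S : Subgroup G) ≤ H := hSC.trans hCA
  have hpH : p ∈ sigma H := ⟨hp.out, h.maxEA.dvd_of_le hAH, S.subtype hSH, by
    rw [Sylow.coe_subtype, Subgroup.subgroupOf_map_subtype, inf_eq_left.mpr hSH]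
    exact hSN.trans hNH⟩
  have hyH : y ∈ H := hNH hyA
  have hrH : r ∣ Nat.card H :=
    (hcard ▸ dvd_pow_self r a.succ_ne_zero).trans (Subgroup.orderOf_dvd_natCard H hyH)
  have hrσH : r ∉ sigma H := fun hσ => by
    obtain ⟨N, -, hHN, hNp, hNmem⟩ := exists_residual hG hpl hH (h.maxEA.notMem_beta H)
    have hyN : Subgroup.zpowers y ≤ N := hNmem _
      (le_sigmaCore hG hH (Subgroup.zpowers_le.mpr hyH) (mem_of_pGroup hyr hσ)) (not_dvd_of_pGroup hrp.symm hyr)
    have hcb : ⁅Subgroup.zpowers y, A⁆ = ⊥ := le_bot_iff.mp ((le_inf ((Subgroup.commutator_mono hyN le_rfl).trans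
      (Coprime.commutator_le_of_le_normalizer (hAH.trans hHN))) (by
        rw [Subgroup.commutator_comm]
        exact Coprime.commutator_le_of_le_normalizer (Subgroup.zpowers_le.mpr hyA))).trans
      (Subgroup.inf_eq_bot_of_coprime (Components.ea_coprime h.maxEA.ea hNp).symm).le)
    exact hyC (Subgroup.commutator_eq_bot_iff_le_centralizer.mp hcb (Subgroup.mem_zpowers y))
  obtain ⟨P', hRP'⟩ := exists_sylow_map_ge hR (hRC.trans hCH)
  set T := (P' : Subgroup H).map H.subtype with hTdef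
  have hTp : IsPGroup r T := P'.isPGroup'.map _
  have hrk2 : ¬ PRankLE r 1 H := fun h1 => by
    haveI : Group.IsNilpotent T := hTp.isNilpotent
    have hTc : IsCyclic T := isCyclic_of_zgroup_nilpotent hG (Subgroup.map_subtype_le _) fun q hq hqd => by
      have := mem_of_pGroup hTp (π := {q | q = r}) rfl q hq hqd
      rw [Set.mem_setOf_eq] at this
      exact this ▸ h1
    refine hrσH ⟨hr.out, hrH, P', fun n hn => hle (cj_eq_iff.mp ?_)⟩
    have hZT : Z ≤ T := Subgroup.zpowers_le.mpr (hRP' hzR)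
    exact OddLocal.eq_of_card_eq_of_isCyclic hTc ((cj_mono hZT).trans (cj_eq_iff.mpr hn).le) hZT (card_cj _ _)
  obtain ⟨B, hBH, hB, hB2⟩ := exists_ea_sq_of_rank (pRankLE_two_of_notMem_sigma hG hH hr.out hrσH) hrk2
  obtain ⟨B', hB', hB'c, hB'T⟩ := exists_ea_le_sylow hG hpl P' hB hBH
  rw [hB2] at hB'c
  obtain ⟨B0, h'⟩ := exists_exc hG hpl hH hrσH (hB'T.trans (Subgroup.map_subtype_le _)) hB' hB'c
  have hTc := (h'.sylow_abelian_of_le hG hpl P' hB'T).is_comm
  have hzB : z ∈ B' := (h'.pow_eq_one_iff hG hpl P' hB'T (hRP' hzR)).mp (hzo ▸ pow_orderOf_eq_one z)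
  -- a conjugate of `T` normalizing `S`
  have hSσ : (S : Subgroup G) ≤ sigmaCore H := le_sigmaCore hG hH hSH (mem_of_pGroup S.isPGroup' hpH)
  have hTσ : T ≤ Subgroup.normalizer (sigmaCore H : Set G) :=
    (Subgroup.map_subtype_le _).trans (le_normalizer_sigmaCore H)
  have hcopT : ∀ X : Subgroup G, IsPGroup r X → (Nat.card X).Coprime (Nat.card (sigmaCore H)) := fun X hX => by
    obtain ⟨j, hj⟩ := IsPGroup.iff_card.mp hX
    rw [hj]
    exact (hr.out.coprime_iff_not_dvd.mpr fun hd => hrσH (mem_sigma_of_dvd hr.out hd)).pow_left j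
  haveI : Group.IsSolvable T := Coprime.isSolvable_of_isPGroup hTp
  haveI : Group.IsSolvable R := Coprime.isSolvable_of_isPGroup hR
  obtain ⟨P₂, hP₂σ, hP₂, hP₂i, hTP₂⟩ := Coprime.exists_invariant_sylow hTσ (hcopT T hTp) p
  obtain ⟨c, hc, hcS⟩ := Coprime.exists_conj_invariant_sylow (hRP'.trans hTσ) (hcopT R hR) hP₂σ hSσ hP₂
    S.isPGroup' hP₂i (fun hd => S.not_dvd_index (hd.trans (Subgroup.relIndex_dvd_index_of_le hSσ)))
    (hRP'.trans hTP₂) ((hPE.trans hEA).trans hNS)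
  set T' := cj c T
  have hT'N : T' ≤ Subgroup.normalizer (A : Set G) := by
    refine le_trans ?_ hSN
    rw [← hcS, Transfer.normalizer_map_conj]
    exact cj_mono hTP₂
  have hfixR : ∀ x ∈ R, c * x * c⁻¹ = x := fun x hx => by
    rw [← Subgroup.mem_centralizer_iff.mp hc.2 x hx, mul_inv_cancel_right]
  have hRT' : R ≤ T' := fun x hx => ⟨x, hRP' hx, by simp [hfixR x hx]⟩
  have hzB' : z ∈ cj c B' := ⟨z, hzB, by simp [hfixR z hzR]⟩
  obtain ⟨b, hb, hbR⟩ : ∃ b ∈ cj c B', b ∉ R := by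
    refine SetLike.not_le_iff_exists.mp fun hle' => ?_
    have hsub : cj c B' ≤ Z := fun x hx => by
      by_cases hx1 : x = 1
      · subst hx1; exact one_mem _
      have hxo : orderOf x = r := orderOf_eq_prime ((PLocal.isEA_map hB' _).2 x hx) hx1
      exact (OddLocal.eq_of_card_eq_of_isCyclic hRcyc (Subgroup.zpowers_le.mpr (hle' hx))
        (Subgroup.zpowers_le.mpr hzR) (by rw [Nat.card_zpowers, hxo, hZc])).le (Subgroup.mem_zpowers x)
    have hcle := Subgroup.card_le_of_le hsub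
    rw [card_cj, hB'c, hZc] at hcle
    exact absurd ((Nat.pow_le_pow_iff_right hr.out.one_lt).mp (hcle.trans (pow_one r).ge)) (by norm_num)
  have hbT : b ∈ T' := cj_mono hB'T hb
  have hT'c : ∀ u ∈ T', ∀ v ∈ T', u * v = v * u := by
    rintro _ ⟨u, hu, rfl⟩ _ ⟨v, hv, rfl⟩
    rw [← map_mul, ← map_mul]
    exact congrArg _ (congrArg Subtype.val (hTc.comm ⟨u, hu⟩ ⟨v, hv⟩))
  have hT'M : ∀ x ∈ T', x ∈ Subgroup.centralizer (A : Set G) → x ∈ R := fun x hx hxC =>
    hRmax (T' ⊓ M) ((hTp.map _).to_le inf_le_left) (le_inf hRT' hRM) inf_le_right ⟨hx, h.centralizer_le hxC⟩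
  -- the last power of `y` moving `A`
  obtain ⟨i, hi, hi'⟩ : ∃ i, y ^ r ^ i ∉ Subgroup.centralizer (A : Set G) ∧
      y ^ r ^ (i + 1) ∈ Subgroup.centralizer (A : Set G) := by
    by_contra hall
    push Not at hall
    have hind : ∀ i, y ^ r ^ i ∉ Subgroup.centralizer (A : Set G) := fun i => by
      induction i with
      | zero => simpa using hyC
      | succ i ih => exact hall i ih
    exact hind a hzC
  set w := y ^ r ^ i with hwdef
  have hwR : w ∈ R := pow_mem hyR _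
  have hwT : w ∈ T' := hRT' hwR
  have hwN : w ∈ Subgroup.normalizer (A : Set G) := pow_mem hyA _
  have hdich : ∀ g ∈ T', g ∉ Subgroup.centralizer (A : Set G) → ∀ x ∈ A, g * x * g⁻¹ = x → x = 1 :=
    fun g hg hgC x hx hgx => h.fixed_dichotomy hG hpl hE hpτ hAE hab hyA hcon
      (hT'c y (hRT' hyR) g hg) hgC hx hgx
  letI : CommGroup A := { (inferInstance : Group A) with mul_comm := h.maxEA.ea.1.is_comm.comm }
  set φ := A.normalizerMonoidHom
  have hφ : ∀ (g : Subgroup.normalizer (A : Set G)) (x : A), ((φ g x : A) : G) = (g : G) * x * (g : G)⁻¹ :=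
    fun g x => rfl
  have hker : ∀ g : Subgroup.normalizer (A : Set G), (g : G) ∈ Subgroup.centralizer (A : Set G) → φ g = 1 :=
    fun g hg => by
      rw [← MonoidHom.mem_ker, Subgroup.normalizerMonoidHom_ker]
      exact Subgroup.mem_subgroupOf.mpr hg
  set β := φ ⟨b, hT'N hbT⟩
  set ω := φ ⟨w, hwN⟩
  refine h.maxEA.ne_bot ((Subgroup.eq_bot_iff_forall _).mpr fun x hx => ?_)
  have hbr : b ^ r = 1 := (PLocal.isEA_map hB' _).2 b hb
  have := no_klein hr.out (A := A) (β := β) (ω := ω) (fun u hu => ?_)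
    (by rw [Commute, SemiconjBy, ← map_mul, ← map_mul]; exact congrArg φ (Subtype.ext (hT'c b hbT w hwT))) ?_ ?_ ?_ ?_
    ⟨x, hx⟩
  · exact congrArg Subtype.val this
  · have h1 : orderOf u ∣ p := orderOf_dvd_of_pow_eq_one (Subtype.ext (h.maxEA.ea.2 u u.2))
    exact orderOf_eq_one_iff.mp (Nat.eq_one_of_dvd_coprimes ((Nat.coprime_primes hp.out hr.out).mpr hrp.symm) h1
      (orderOf_dvd_of_pow_eq_one hu))
  · rw [← map_pow]
    exact hker _ (by simp [hbr])
  · rw [← map_pow]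
    refine hker _ ?_
    show w ^ r ∈ _
    rw [hwdef, ← pow_mul, ← pow_succ]
    exact hi'
  · intro u hu
    exact Subtype.ext (hdich w hwT hi u u.2 (congrArg Subtype.val hu))
  · intro j u hu
    rw [← map_pow, ← map_mul] at hu
    refine Subtype.ext (hdich (b * w ^ j) (mul_mem hbT (pow_mem hwT j)) (fun hc' => hbR ?_) u u.2
      (congrArg Subtype.val hu))
    have := R.mul_mem (hT'M _ (mul_mem hbT (pow_mem hwT j)) hc') (R.inv_mem (R.pow_mem hwR j))
    rwa [mul_inv_cancel_right] at this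

/-- `E` normalizes a line without fixed points in `M_σ`. -/
theorem exists_good_line
    (hfix : ∀ e ∈ E, e ≠ 1 → (∀ q : ℕ, q.Prime → q ∣ orderOf e → q ∈ tau1 M ∪ tau3 M) →
      sigmaCore M ⊓ Subgroup.centralizer ({e} : Set G) = ⊥) :
    ∃ L : Subgroup G, L ≤ A ∧ Nat.card L = p ∧ E ≤ Subgroup.normalizer (L : Set G) ∧
      sigmaCore M ⊓ Subgroup.centralizer (L : Set G) = ⊥ := by
  obtain ⟨S, hAS, hSE, hSC, hNS, hSN⟩ := h.sylow_facts hG hpl hE hpτ hAE hab
  have hEA : E ≤ Subgroup.normalizer (A : Set G) := h.le_normalizer_of_compl hG hpl hE hAE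
  by_cases hall : ∀ L : Subgroup G, L ≤ A → Nat.card L = p → E ≤ Subgroup.normalizer (L : Set G)
  · obtain ⟨-, -, -, -, -, L, hLA, hLc, hL⟩ :=
      tau2_facts hG hpl h.coatom hpτ ⟨h.le, h.maxEA.ea, h.maxEA.card⟩
    exact ⟨L, hLA, hLc, hall L hLA hLc, hL⟩
  push Not at hall
  obtain ⟨L₀, hL₀A, hL₀c, hL₀⟩ := hall
  obtain ⟨r, hr, Q, hQ⟩ : ∃ r, r.Prime ∧ ∃ Q : Sylow r E,
      ¬ (Q : Subgroup E).map E.subtype ≤ Subgroup.normalizer (L₀ : Set G) := by
    by_contra hall'
    push Not at hall'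
    exact hL₀ (Core.le_of_forall_exists_sylow_le fun q hq => by
      haveI := Fact.mk hq
      obtain ⟨Q⟩ := (inferInstance : Nonempty (Sylow q E))
      exact ⟨Q, hall' q hq Q⟩)
  haveI := Fact.mk hr
  obtain ⟨y, hyQ, hyL⟩ := SetLike.not_le_iff_exists.mp hQ
  have hyE : y ∈ E := Subgroup.map_subtype_le _ hyQ
  have hyA := hEA hyE
  have hrp : r ≠ p := by
    rintro rfl
    refine hyL (Subgroup.centralizer_le_normalizer _ (Subgroup.centralizer_le hL₀A ?_))
    have hsup := IsPGroup.to_sup_of_normal_left' S.isPGroup' (Q.isPGroup'.map E.subtype)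
      (((Subgroup.map_subtype_le _).trans hEA).trans hNS)
    exact hSC ((S.3 hsup le_sup_left).le (Subgroup.mem_sup_right hyQ))
  obtain ⟨L, hLA, hLc, hyN⟩ := h.exists_fixed_line hG hpl hE hpτ hAE hab hfix hrp hyE
    ((Q.isPGroup'.map E.subtype).to_le (Subgroup.zpowers_le.mpr hyQ))
  obtain ⟨l, hl, hl1⟩ := L.bot_or_exists_ne_one.resolve_left (ne_bot_of_card_prime hLc)
  have hlz := zpowers_eq_of_card_prime hLc hl hl1
  obtain ⟨m, hm⟩ := Subgroup.mem_zpowers_iff.mp (hlz.ge ((Subgroup.mem_normalizer_iff.mp hyN l).mp hl))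
  have hkey : Subgroup.normalizer (A : Set G) ≤ Subgroup.normalizer (L : Set G) := by
    intro g hg
    by_contra hne
    have hgl : cj g L ≠ L := fun e => hne (cj_eq_iff.mp e)
    have hgA : cj g L ≤ A := (cj_mono hLA).trans (cj_eq_iff.mpr hg).le
    -- `y` acts on `L` and `gLg⁻¹` by the same power
    have hkl : y * (g * l * g⁻¹) * y⁻¹ = (g * l * g⁻¹) ^ m := by
      have hc : ⁅g⁻¹, y⁆ ∈ Subgroup.centralizer (A : Set G) := h.derived_normalizer_le hG hpl hE hpτ hAE hab
        (Subgroup.commutator_mem_commutator (inv_mem hg) hyA)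
      have h2 : ⁅g⁻¹, y⁆ * (y * l * y⁻¹) * ⁅g⁻¹, y⁆⁻¹ = y * l * y⁻¹ := by
        rw [← Subgroup.mem_centralizer_iff.mp hc _ ((Subgroup.mem_normalizer_iff.mp hyA l).mp (hLA hl)),
          mul_inv_cancel_right]
      calc y * (g * l * g⁻¹) * y⁻¹ = g * (⁅g⁻¹, y⁆ * (y * l * y⁻¹) * ⁅g⁻¹, y⁆⁻¹) * g⁻¹ := by
            simp only [commutatorElement_def]; group
        _ = g * l ^ m * g⁻¹ := by rw [h2, hm]
        _ = (g * l * g⁻¹) ^ m := by rw [conj_zpow]
    refine hyL (Coprime.mem_normalizer_of_conj_mem fun u hu => ?_)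
    obtain ⟨v, hv, v', hv', hvv⟩ := Coprime.exists_mul_of_mem_sup (N := L) (A := cj g L)
      (((hgA.trans ((Subgroup.le_centralizer_iff_isMulCommutative.mpr h.maxEA.ea.1).trans
        (Subgroup.centralizer_le hLA)))).trans (Subgroup.centralizer_le_normalizer _))
      ((sup_eq_of_ne h.maxEA.card hLc (by rw [card_cj, hLc]) hLA hgA (Ne.symm hgl)).ge (hL₀A hu))
    obtain ⟨i, rfl⟩ := Subgroup.mem_zpowers_iff.mp (hlz.ge hv)
    obtain ⟨v'', hv'', rfl⟩ := hv'
    obtain ⟨j, rfl⟩ := Subgroup.mem_zpowers_iff.mp (hlz.ge hv'')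
    have e : y * u * y⁻¹ = u ^ m := by
      rw [← hvv]
      simp only [MulEquiv.coe_toMonoidHom, MulAut.conj_apply]
      rw [← conj_zpow]
      have hc : Commute (l ^ i) ((g * l * g⁻¹) ^ j) :=
        PLocal.comm_of_EA h.maxEA.ea (zpow_mem (hLA hl) i) (zpow_mem (hgA ⟨l, hl, rfl⟩) j)
      rw [hc.mul_zpow, show y * (l ^ i * (g * l * g⁻¹) ^ j) * y⁻¹ =
        (y * l ^ i * y⁻¹) * (y * (g * l * g⁻¹) ^ j * y⁻¹) by group,
        ← conj_zpow, ← conj_zpow, ← hm, hkl, ← zpow_mul, ← zpow_mul, ← zpow_mul, ← zpow_mul,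
        mul_comm i, mul_comm j]
    rw [e]
    exact zpow_mem hu m
  exact ⟨L, hLA, hLc, hEA.trans hkey, h.fpf_of_normalizer_le hG hpl hE hpτ hAE hLA hLc hkey⟩

end Exc

end Cfsg.Agent.OddLocal.Sigma
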