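import Cfsg.Agent.Core.BG.UniquenessTheorem
import Cfsg.Agent.OddLocal.CNMinSimple
import Cfsg.Agent.OddLocal.RankTwo.Structure
import Cfsg.Agent.Transfer.Complement
import Cfsg.Agent.Core.Hall

/-! The set `σ(M)` of a maximal subgroup of a minimal simple group of odd order: fusion of `σ(M)`-subgroups. -/

set_option autoImplicit false
set_option linter.style.haveILetI false
set_option linter.unusedSectionVars false

namespace Cfsg.Agent.OddLocal.Sigma

open Cfsg
open scoped commutatorElement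

variable {G : Type*} [Group G] [Finite G]

/-- `gHg⁻¹`. -/
abbrev cj (g : G) (H : Subgroup G) : Subgroup G := H.map (MulAut.conj g).toMonoidHom

theorem mem_cj {g x : G} {H : Subgroup G} : x ∈ cj g H ↔ g⁻¹ * x * g ∈ H := Transfer.mem_map_conj

theorem cj_mul (g h : G) (H : Subgroup G) : cj (g * h) H = cj g (cj h H) :=
  (Components.map_conj_map_conj H h g).symm

theorem cj_one (H : Subgroup G) : cj (1 : G) H = H := Transfer.map_conj_one H

theorem cj_mono {g : G} {H K : Subgroup G} (h : H ≤ K) : cj g H ≤ cj g K := Subgroup.map_mono h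

theorem cj_le_iff {g : G} {H K : Subgroup G} : cj g H ≤ K ↔ H ≤ cj g⁻¹ K := by
  constructor
  · intro h
    have := cj_mono (g := g⁻¹) h
    rwa [← cj_mul, inv_mul_cancel, cj_one] at this
  · intro h
    have := cj_mono (g := g) h
    rwa [← cj_mul, mul_inv_cancel, cj_one] at this

theorem cj_eq_iff {g : G} {H : Subgroup G} : cj g H = H ↔ g ∈ Subgroup.normalizer (H : Set G) :=
  (Transfer.mem_normalizer_iff_map_conj).symm

theorem card_cj (g : G) (H : Subgroup G) : Nat.card (cj g H) = Nat.card H := Transfer.card_map_conj g H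

theorem isCoatom_cj {M : Subgroup G} (hM : IsCoatom M) (g : G) : IsCoatom (cj g M) :=
  ((MulAut.conj g).mapSubgroup.isCoatom_iff M).mpr hM

variable (hG : IsMinSimpleOddOrder G)
include hG

theorem coatom_ne_bot {M : Subgroup G} (hM : IsCoatom M) : M ≠ ⊥ := by
  intro h
  obtain ⟨x, hx⟩ : ∃ x : G, x ≠ 1 := by
    by_contra hall
    push Not at hall
    exact hM.1 (eq_top_iff.mpr fun x _ => by rw [h, Subgroup.mem_bot]; exact hall x)
  have htop : Subgroup.zpowers x = ⊤ := hM.2 _ (by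
    rw [h]; exact bot_lt_iff_ne_bot.mpr fun e => hx (Subgroup.zpowers_eq_bot.mp e))
  refine hG.2.2.1 ⟨⟨fun a b => ?_⟩⟩
  obtain ⟨i, rfl⟩ : a ∈ Subgroup.zpowers x := htop.ge trivial
  obtain ⟨j, rfl⟩ : b ∈ Subgroup.zpowers x := htop.ge trivial
  exact (zpow_mul_comm x i j)

theorem normalizer_coatom {M : Subgroup G} (hM : IsCoatom M) : Subgroup.normalizer (M : Set G) = M :=
  ((hM.le_iff.mp Subgroup.le_normalizer).resolve_left
    (Core.BG.normalizer_ne_top hG (coatom_ne_bot hG hM) hM.1))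

theorem mem_of_cj_eq {M : Subgroup G} (hM : IsCoatom M) {g : G} (h : cj g M = M) : g ∈ M :=
  (normalizer_coatom hG hM).le (cj_eq_iff.mp h)

theorem odd_of_dvd {n : ℕ} (h : n ∣ Nat.card G) : Odd n := hG.1.of_dvd_nat h

theorem ne_two_of_dvd {p : ℕ} (h : p ∣ Nat.card G) : p ≠ 2 := Cfsg.Agent.OddLocal.CN.ne_two hG h

omit hG

theorem sigma_prime {M : Subgroup G} {p : ℕ} (h : p ∈ sigma M) : p.Prime := h.1

theorem sigma_dvd {M : Subgroup G} {p : ℕ} (h : p ∈ sigma M) : p ∣ Nat.card G :=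
  h.2.1.trans (Subgroup.card_subgroup_dvd_card M)

/-- Every Sylow `p`-subgroup of `M` has its normalizer in `M` for `p ∈ σ(M)`. -/
theorem normalizer_sylow_le {M : Subgroup G} {p : ℕ} [hp : Fact p.Prime] (hσ : p ∈ sigma M) (P : Sylow p M) :
    Subgroup.normalizer (((P : Subgroup M).map M.subtype : Subgroup G) : Set G) ≤ M := by
  obtain ⟨P₀, hP₀⟩ := hσ.2.2
  obtain ⟨m, hm⟩ := MulAction.exists_smul_eq M P₀ P
  have e : (P : Subgroup M).map M.subtype = cj (m : G) ((P₀ : Subgroup M).map M.subtype) := by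
    rw [← hm, Sylow.coe_subgroup_smul, Core.conj_smul_eq_map, Subgroup.map_map, cj, Subgroup.map_map]
    rfl
  intro g hg
  rw [e, ← cj_eq_iff, cj, Subgroup.map_map] at hg
  have h2 : (m : G)⁻¹ * g * m ∈ M := by
    refine hP₀ (cj_eq_iff.mp ?_)
    have := congrArg (cj (m : G)⁻¹) (show cj g (cj (m : G) _) = cj (m : G) _ by
      rw [cj, cj, Subgroup.map_map]; exact hg)
    rw [← cj_mul, ← cj_mul, ← cj_mul, inv_mul_cancel, cj_one] at this
    exact this
  have := M.mul_mem (M.mul_mem m.2 h2) (M.inv_mem m.2)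
  simpa [mul_assoc] using this

/-- For `p ∈ σ(M)` a Sylow `p`-subgroup of `M` is one of `G`, and its normalizer lies in `M`. -/
theorem exists_sylow_le {M : Subgroup G} {p : ℕ} [hp : Fact p.Prime] (hσ : p ∈ sigma M) :
    ∃ S : Sylow p G, (S : Subgroup G) ≤ M ∧ Subgroup.normalizer ((S : Subgroup G) : Set G) ≤ M := by
  obtain ⟨P⟩ := (inferInstance : Nonempty (Sylow p M))
  set S₀ := (P : Subgroup M).map M.subtype
  have hS₀ : IsPGroup p S₀ := P.isPGroup'.map _
  obtain ⟨S, hS⟩ := hS₀.exists_le_sylow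
  have hN := normalizer_sylow_le hσ P
  have : (S : Subgroup G) = S₀ := by
    by_contra hne
    obtain ⟨x, hx, hxn⟩ := Core.BG.exists_mem_normalizer_notMem (q := p) (D := S₀) (Q := (S : Subgroup G))
      S.isPGroup' (lt_of_le_of_ne hS (Ne.symm hne))
    have hxM : x ∈ M := hN hx.1
    have hle : (S : Subgroup G) ⊓ M ≤ S₀ := by
      intro y hy
      have h1 : P.1 ≤ ((S : Subgroup G).subgroupOf M) := fun z hz =>
        Subgroup.mem_subgroupOf.mpr (hS ⟨z, hz, rfl⟩)
      have h2 := P.3 (S.isPGroup'.comap_subtype) h1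
      exact ⟨⟨y, hy.2⟩, h2 ▸ Subgroup.mem_subgroupOf.mpr hy.1, rfl⟩
    exact hxn (hle ⟨hx.2, hxM⟩)
  exact ⟨S, this ▸ Subgroup.map_subtype_le _, this ▸ hN⟩

theorem exists_cj_le {M : Subgroup G} {p : ℕ} [hp : Fact p.Prime] (hσ : p ∈ sigma M) {Q : Subgroup G}
    (hQ : IsPGroup p Q) : ∃ g : G, Q ≤ cj g M := by
  obtain ⟨S, hSM, -⟩ := exists_sylow_le hσ
  obtain ⟨g, hg⟩ := Transfer.exists_map_conj_le_sylow S hQ
  exact ⟨g⁻¹, cj_le_iff.mp (hg.trans hSM)⟩

theorem sigma_cj {M : Subgroup G} {p : ℕ} [hp : Fact p.Prime] (hσ : p ∈ sigma M) (g : G) :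
    ∃ S : Sylow p G, (S : Subgroup G) ≤ cj g M ∧ Subgroup.normalizer ((S : Subgroup G) : Set G) ≤ cj g M := by
  obtain ⟨S, hSM, hN⟩ := exists_sylow_le hσ
  refine ⟨g • S, ?_, ?_⟩
  · rw [Sylow.coe_subgroup_smul, Core.conj_smul_eq_map]; exact cj_mono hSM
  · rw [Sylow.coe_subgroup_smul, Core.conj_smul_eq_map, Transfer.normalizer_map_conj]; exact cj_mono hN

include hG

/-- Ten point one: transitivity of `C(X)` on the conjugates of `M` containing a `σ(M)`-subgroup `X`. -/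
theorem transitive {M : Subgroup G} (hM : IsCoatom M) {p : ℕ} [hp : Fact p.Prime]
    (hσ : p ∈ sigma M) : ∀ (n : ℕ) (X : Subgroup G), Nat.card G - Nat.card X ≤ n → IsPGroup p X → X ≠ ⊥ →
      ∀ a b : G, X ≤ cj a M → X ≤ cj b M →
        ∃ c ∈ Subgroup.centralizer (X : Set G), cj b M = cj c (cj a M) := by
  intro n
  induction n using Nat.strong_induction_on with
  | _ n ih =>
  intro X hn hX hX1 a b ha hb
  -- the inductive step
  have big : ∀ Y : Subgroup G, X < Y → IsPGroup p Y → ∀ a b : G, Y ≤ cj a M → Y ≤ cj b M →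
      ∃ c ∈ Subgroup.centralizer (X : Set G), cj b M = cj c (cj a M) := by
    intro Y hXY hY a b ha hb
    have h1 : Nat.card X < Nat.card Y := Set.Finite.card_lt_card (Set.toFinite _) hXY
    have h2 := Subgroup.card_le_card_group Y
    obtain ⟨c, hc, hcb⟩ := ih (Nat.card G - Nat.card Y) (by omega) Y le_rfl hY
      (fun h => hX1 (le_bot_iff.mp (h ▸ hXY.le))) a b ha hb
    exact ⟨c, Subgroup.centralizer_le hXY.le hc, hcb⟩
  have trans' : ∀ {a b c : G}, (∃ z ∈ Subgroup.centralizer (X : Set G), cj b M = cj z (cj a M)) →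
      (∃ z ∈ Subgroup.centralizer (X : Set G), cj c M = cj z (cj b M)) →
      ∃ z ∈ Subgroup.centralizer (X : Set G), cj c M = cj z (cj a M) := by
    rintro a b c ⟨z, hz, e⟩ ⟨w, hw, e'⟩
    exact ⟨w * z, mul_mem hw hz, by rw [e', e, ← cj_mul]⟩
  have symm' : ∀ {a b : G}, (∃ z ∈ Subgroup.centralizer (X : Set G), cj b M = cj z (cj a M)) →
      ∃ z ∈ Subgroup.centralizer (X : Set G), cj a M = cj z (cj b M) := by
    rintro a b ⟨z, hz, e⟩
    exact ⟨z⁻¹, inv_mem hz, by rw [e, ← cj_mul, inv_mul_cancel, cj_one]⟩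
  by_cases hmax : ∀ Y : Subgroup G, IsPGroup p Y → X ≤ Y → Y = X
  · -- `X` is a Sylow subgroup of `G`
    obtain ⟨Sa, hSa, hNa⟩ := sigma_cj hσ a
    obtain ⟨Sb, hSb, hNb⟩ := sigma_cj hσ b
    let X' : Sylow p G := ⟨X, hX, fun {Y} hY h => hmax Y hY h⟩
    let Xa : Sylow p ↥(cj a M) := X'.subtype ha
    let Sa' : Sylow p ↥(cj a M) := Sa.subtype hSa
    obtain ⟨⟨m, hm⟩, hmm⟩ := MulAction.exists_smul_eq ↥(cj a M) Sa' Xa
    have hXN : ∀ c : G, X ≤ cj c M → Subgroup.normalizer (X : Set G) ≤ cj c M := by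
      intro c hc
      obtain ⟨Sc, hSc, hNc⟩ := sigma_cj hσ c
      obtain ⟨⟨m, hm⟩, hmm⟩ := MulAction.exists_smul_eq ↥(cj c M) (Sc.subtype hSc) (X'.subtype hc)
      have e : cj m (Sc : Subgroup G) = X := by
        have h1 := congrArg (fun P : Sylow p ↥(cj c M) => (P : Subgroup ↥(cj c M)).map (cj c M).subtype) hmm
        simp only [Sylow.coe_subgroup_smul, Sylow.coe_subtype, Core.conj_smul_eq_map, Subgroup.map_map] at h1
        rw [show (cj c M).subtype.comp (MulAut.conj (⟨m, hm⟩ : ↥(cj c M))).toMonoidHom =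
          ((MulAut.conj m).toMonoidHom).comp (cj c M).subtype from rfl, ← Subgroup.map_map,
          Subgroup.subgroupOf_map_subtype, Subgroup.subgroupOf_map_subtype, inf_eq_left.mpr hc,
          inf_eq_left.mpr hSc] at h1
        exact h1
      rw [← e, Transfer.normalizer_map_conj]
      calc cj m (Subgroup.normalizer ((Sc : Subgroup G) : Set G)) ≤ cj m (cj c M) := cj_mono hNc
        _ = cj c M := cj_eq_iff.mpr (Subgroup.le_normalizer hm)
    obtain ⟨⟨m₂, hm₂⟩, hmm₂⟩ := MulAction.exists_smul_eq ↥(cj a M) (X'.subtype ha)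
      (((b * a⁻¹)⁻¹ • X').subtype (by
        rw [Sylow.coe_subgroup_smul, Core.conj_smul_eq_map]
        refine cj_le_iff.mpr ?_
        rw [inv_inv, ← cj_mul, inv_mul_cancel_right]
        exact hb))
    have e : cj m₂ X = cj (b * a⁻¹)⁻¹ X := by
      have h1 := congrArg (fun P : Sylow p ↥(cj a M) => (P : Subgroup ↥(cj a M)).map (cj a M).subtype) hmm₂
      simp only [Sylow.coe_subgroup_smul, Sylow.coe_subtype, Core.conj_smul_eq_map, Subgroup.map_map] at h1
      rw [show (cj a M).subtype.comp (MulAut.conj (⟨m₂, hm₂⟩ : ↥(cj a M))).toMonoidHom =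
        ((MulAut.conj m₂).toMonoidHom).comp (cj a M).subtype from rfl, ← Subgroup.map_map,
        Subgroup.subgroupOf_map_subtype, Subgroup.subgroupOf_map_subtype, inf_eq_left.mpr ha,
        inf_eq_left.mpr] at h1
      · exact h1
      · refine cj_le_iff.mpr ?_
        rw [inv_inv, ← cj_mul, inv_mul_cancel_right]
        exact hb
    have hmem : b * a⁻¹ * m₂ ∈ Subgroup.normalizer (X : Set G) := cj_eq_iff.mp (by
      rw [cj_mul, show cj m₂ X = cj (b * a⁻¹)⁻¹ X from e, ← cj_mul, mul_inv_cancel, cj_one])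
    have hba : b * a⁻¹ ∈ cj a M := by
      have := mul_mem (hXN a ha hmem) (inv_mem hm₂)
      rwa [mul_inv_cancel_right] at this
    refine ⟨1, one_mem _, ?_⟩
    rw [cj_one, ← cj_eq_iff.mpr (Subgroup.le_normalizer hba), ← cj_mul, inv_mul_cancel_right]
  push Not at hmax
  obtain ⟨Y, hY, hXY, hYX⟩ := hmax
  -- `p`-subgroups of `N(X)` strictly above `X`
  have grow : ∀ c : G, X ≤ cj c M → ∃ T : Subgroup G, X < T ∧ IsPGroup p T ∧ T ≤ cj c M ∧
      T ≤ Subgroup.normalizer (X : Set G) := by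
    intro c hc
    obtain ⟨Sc, hSc, -⟩ := sigma_cj hσ c
    obtain ⟨P, hP⟩ := (hX.comap_subtype : IsPGroup p (X.subgroupOf (cj c M))).exists_le_sylow
    set T₁ := (P : Subgroup ↥(cj c M)).map (cj c M).subtype
    have hT₁ : IsPGroup p T₁ := P.isPGroup'.map _
    have hXT₁ : X ≤ T₁ := fun x hx => ⟨⟨x, hc hx⟩, hP (Subgroup.mem_subgroupOf.mpr hx), rfl⟩
    have hlt : X < T₁ := by
      refine lt_of_le_of_ne hXT₁ fun e => hYX ?_
      have hcard : Nat.card T₁ = Nat.card (Sc : Subgroup G) := by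
        have h1 := P.card_eq_multiplicity
        have h2 := (Sc.subtype hSc).card_eq_multiplicity
        rw [Core.card_map_subtype, h1, ← h2, Sylow.coe_subtype, Core.card_subgroupOf hSc]
      obtain ⟨SY, hSY⟩ := hY.exists_le_sylow
      refine (Subgroup.eq_of_le_of_card_ge hXY ?_).symm
      rw [e, hcard, Sc.card_eq_multiplicity, ← SY.card_eq_multiplicity]
      exact Subgroup.card_le_of_le hSY
    obtain ⟨x, hx, hxn⟩ := Core.BG.exists_mem_normalizer_notMem (q := p) (D := X) (Q := T₁) hT₁ hlt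
    exact ⟨T₁ ⊓ Subgroup.normalizer (X : Set G),
      lt_of_le_of_ne (le_inf hXT₁ Subgroup.le_normalizer) fun e => hxn (e.ge ⟨hx.2, hx.1⟩),
      hT₁.to_le inf_le_left, inf_le_left.trans (Subgroup.map_subtype_le _), inf_le_right⟩
  obtain ⟨Ta, hXTa, hTap, hTaM, hTaN⟩ := grow a ha
  obtain ⟨Tb, hXTb, hTbp, hTbM, hTbN⟩ := grow b hb
  set H := Subgroup.normalizer (X : Set G) with hH
  have hHtop : H ≠ ⊤ := Core.BG.normalizer_ne_top_of_isPGroup hG hX1 hX
  obtain ⟨T', hT'⟩ := (hTap.comap_subtype : IsPGroup p (Ta.subgroupOf H)).exists_le_sylow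
  obtain ⟨T'', hT''⟩ := (hTbp.comap_subtype : IsPGroup p (Tb.subgroupOf H)).exists_le_sylow
  obtain ⟨⟨h, hh⟩, hhT⟩ := MulAction.exists_smul_eq H T' T''
  set T := (T' : Subgroup H).map H.subtype with hTdef
  have hTp : IsPGroup p T := T'.isPGroup'.map _
  have hTH : T ≤ H := Subgroup.map_subtype_le _
  have hTaT : Ta ≤ T := fun x hx => ⟨⟨x, hTaN hx⟩, hT' (Subgroup.mem_subgroupOf.mpr hx), rfl⟩
  have hXT : X < T := lt_of_lt_of_le hXTa hTaT
  have hTbT : Tb ≤ cj h T := by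
    intro x hx
    have h1 : (⟨x, hTbN hx⟩ : H) ∈ (T'' : Subgroup H) := hT'' (Subgroup.mem_subgroupOf.mpr hx)
    rw [← hhT, Sylow.coe_subgroup_smul, Core.conj_smul_eq_map] at h1
    obtain ⟨y, hy, hyx⟩ := h1
    exact ⟨y, ⟨y, hy, rfl⟩, congrArg Subtype.val hyx⟩
  obtain ⟨d, hd⟩ := exists_cj_le hσ hTp
  have r1 := big Ta hXTa hTap a d hTaM (hTaT.trans hd)
  have r2 : ∃ z ∈ Subgroup.centralizer (X : Set G), cj b M = cj z (cj (h * d) M) :=
    big Tb hXTb hTbp (h * d) b (by rw [cj_mul]; exact hTbT.trans (cj_mono hd)) hTbM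
  refine trans' (trans' r1 ?_) r2
  by_cases hr : PRankLE p 2 T
  · -- `p`-length one in `N(X)`
    have hpG : p ∣ Nat.card G := sigma_dvd hσ
    have hpH : p ∣ Nat.card H := by
      obtain ⟨k, hk⟩ := IsPGroup.iff_card.mp hX
      have hk0 : k ≠ 0 := fun e => hX1 (Subgroup.eq_bot_of_card_eq X (by rw [hk, e, pow_zero]))
      exact (dvd_pow_self p hk0).trans (hk ▸ Subgroup.card_dvd_of_le Subgroup.le_normalizer)
    haveI : Group.IsSolvable H := Core.BG.isSolvable_proper hG hHtop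
    have hrH : PRankLE p 2 H := Core.BG.pRankLE_of_sylow hTp hTH (fun Z hZ hTZ hZH => by
      refine le_antisymm ?_ hTZ
      intro z hz
      refine ⟨⟨z, hZH hz⟩, ?_, rfl⟩
      have h1 : (T' : Subgroup H) ≤ Z.subgroupOf H := fun w hw => Subgroup.mem_subgroupOf.mpr (hTZ ⟨w, hw, rfl⟩)
      rw [← T'.3 hZ.comap_subtype h1]
      exact Subgroup.mem_subgroupOf.mpr hz) hr
    obtain ⟨-, -, -, -, -, hidx⟩ := RankTwo.five (odd_of_dvd hG (Subgroup.card_subgroup_dvd_card H)) hpH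
      (RankTwo.oddAutSmall_core_of_pRankLE (ne_two_of_dvd hG hpG) hrH)
    have hT'le : (T' : Subgroup H) ≤ pPrimePCore p H := by
      refine Core.le_of_coprime_index ?_
      obtain ⟨j, hj⟩ := IsPGroup.iff_card.mp T'.isPGroup'
      rw [hj]; exact hidx.symm.pow_left j
    have hfr := Sylow.normalizer_sup_eq_top (T'.subtype hT'le)
    rw [Sylow.coe_subtype, Subgroup.subgroupOf_map_subtype, inf_eq_left.mpr hT'le] at hfr
    have hU₂ : pPrimePCore p H ≤ pPrimeCore p H ⊔ (T' : Subgroup H) := by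
      rw [← Subgroup.relIndex_eq_one]
      obtain ⟨k, hk⟩ := Core.relIndex_pPrimeCore_pPrimePCore (p := p) (G := H)
      have hd1 : (pPrimeCore p H ⊔ (T' : Subgroup H)).relIndex (pPrimePCore p H) ∣ p ^ k :=
        hk ▸ Subgroup.relIndex_dvd_of_le_left _ le_sup_left
      have hd2 : (pPrimeCore p H ⊔ (T' : Subgroup H)).relIndex (pPrimePCore p H) ∣ (T' : Subgroup H).index :=
        (Subgroup.relIndex_dvd_of_le_left _ le_sup_right).trans (Subgroup.relIndex_dvd_index_of_le hT'le)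
      exact Nat.eq_one_of_dvd_coprimes (((Nat.Prime.coprime_iff_not_dvd hp.out).mpr T'.not_dvd_index).pow_left k)
        hd1 hd2
    have htop : pPrimeCore p H ⊔ Subgroup.normalizer ((T' : Subgroup H) : Set H) = ⊤ :=
      top_le_iff.mp (hfr.ge.trans (sup_le le_sup_right
        (hU₂.trans (sup_le le_sup_left (le_sup_of_le_right Subgroup.le_normalizer)))))
    obtain ⟨k, hk, m, hm, hkm⟩ := Subgroup.mem_sup_of_normal_left.mp (htop.ge (Subgroup.mem_top (⟨h, hh⟩ : H)))
    have hkC : (k : G) ∈ Subgroup.centralizer (X : Set G) := by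
      have hXH : X ≤ H := Subgroup.le_normalizer
      haveI hXn : (X.subgroupOf H).Normal := Subgroup.normal_subgroupOf_of_le_normalizer le_rfl
      have hdis : Disjoint (pPrimeCore p H) (X.subgroupOf H) := by
        rw [disjoint_iff]
        refine Subgroup.inf_eq_bot_of_coprime ?_
        obtain ⟨j, hj⟩ := IsPGroup.iff_card.mp hX
        rw [Core.card_subgroupOf hXH, hj]
        exact (Core.card_pPrimeCore_coprime p H).pow_right j
      refine Subgroup.mem_centralizer_iff.mpr fun x hx => ?_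
      exact (congrArg Subtype.val (Subgroup.commute_of_normal_of_disjoint _ _ inferInstance hXn hdis k
        ⟨x, hXH hx⟩ hk (Subgroup.mem_subgroupOf.mpr hx)).eq).symm
    have hmT : cj (m : G) T = T := by
      have h1 := congrArg (Subgroup.map H.subtype) (Transfer.mem_normalizer_iff_map_conj.mp hm)
      rw [Subgroup.map_map] at h1
      rw [hTdef, cj, Subgroup.map_map]
      exact h1
    have r3 := big T hXT hTp d ((m : G) * d) hd (by rw [cj_mul, ← hmT]; exact cj_mono hd)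
    refine trans' r3 ⟨k, hkC, ?_⟩
    rw [← cj_mul, ← mul_assoc, show (k : G) * (m : G) = h from congrArg Subtype.val hkm]
  · -- `T` is a uniqueness subgroup
    refine ⟨1, one_mem _, ?_⟩
    rw [cj_one, cj_mul]
    have hr2 : ¬ RankLE 2 T := fun h' => hr (h' p hp.out)
    have hr1 : ¬ RankLE 1 T := fun h' => hr2 fun q hq A hA hAe =>
      (h' q hq A hA hAe).trans (Nat.pow_le_pow_right hq.pos one_le_two)
    have hT1 : T ≠ ⊤ := fun e => hHtop (top_le_iff.mp (e ▸ hTH))
    obtain ⟨N, ⟨hN, hTN⟩, huniq⟩ := Core.BG.uniqueness_theorem hG hT1 hr1 (Or.inl hr2)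
    obtain ⟨N', hN', hHN'⟩ := (eq_top_or_exists_le_coatom H).resolve_left hHtop
    have e1 : cj d M = N := huniq _ ⟨isCoatom_cj hM d, hd⟩
    have e2 : N' = N := huniq _ ⟨hN', hTH.trans hHN'⟩
    rw [e1]
    exact cj_eq_iff.mpr (Subgroup.le_normalizer (e2 ▸ hHN' hh))

/-- Ten point one in element form. -/
theorem exists_mul_centralizer {M : Subgroup G} (hM : IsCoatom M) {p : ℕ} [hp : Fact p.Prime]
    (hσ : p ∈ sigma M) {X : Subgroup G} (hX : IsPGroup p X) (hX1 : X ≠ ⊥) (hXM : X ≤ M) {g : G}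
    (hg : cj g X ≤ M) : ∃ m ∈ M, ∃ c ∈ Subgroup.centralizer (X : Set G), g = m * c := by
  obtain ⟨c, hc, he⟩ := transitive hG hM hσ _ X le_rfl hX hX1 1 g⁻¹ (by rwa [cj_one]) (cj_le_iff.mp hg)
  rw [cj_one] at he
  refine ⟨g * c, ?_, c⁻¹, inv_mem hc, by group⟩
  refine mem_of_cj_eq hG hM ?_
  rw [cj_mul, ← he, ← cj_mul, mul_inv_cancel, cj_one]

theorem normalizer_eq {M : Subgroup G} (hM : IsCoatom M) {p : ℕ} [hp : Fact p.Prime]
    (hσ : p ∈ sigma M) {X : Subgroup G} (hX : IsPGroup p X) (hX1 : X ≠ ⊥) (hXM : X ≤ M) :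
    Subgroup.normalizer (X : Set G) =
      (M ⊓ Subgroup.normalizer (X : Set G)) ⊔ Subgroup.centralizer (X : Set G) := by
  refine le_antisymm (fun g hg => ?_) (sup_le inf_le_right (Subgroup.centralizer_le_normalizer _))
  obtain ⟨m, hm, c, hc, rfl⟩ := exists_mul_centralizer hG hM hσ hX hX1 hXM (g := g)
    ((cj_eq_iff.mpr hg).le.trans hXM)
  refine Subgroup.mul_mem_sup ⟨hm, ?_⟩ hc
  have := mul_mem hg (inv_mem (Subgroup.centralizer_le_normalizer _ hc))
  rwa [mul_inv_cancel_right] at this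

/-- A Sylow `p`-subgroup lies in `M'` for `p ∈ σ(M)`. -/
theorem sylow_le_derived {M : Subgroup G} (hM : IsCoatom M) {p : ℕ} [hp : Fact p.Prime]
    (hσ : p ∈ sigma M) (S : Sylow p G) (hS : (S : Subgroup G) ≤ M) : (S : Subgroup G) ≤ ⁅M, M⁆ := by
  rw [← Transfer.focalSubgroup_eq_of_pResidual_eq_top S (Cfsg.Agent.OddLocal.CN.pResidual_eq_top hG.2 p)]
  refine Transfer.focalSubgroup_le_of_forall fun x hx g hgx => ?_
  by_cases hx1 : x = 1
  · subst hx1; simp
  have hz : Subgroup.zpowers x ≤ (S : Subgroup G) := Subgroup.zpowers_le.mpr hx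
  obtain ⟨m, hm, c, hc, rfl⟩ := exists_mul_centralizer hG hM hσ (S.isPGroup'.to_le hz)
    (fun h => hx1 (Subgroup.zpowers_eq_bot.mp h)) (hz.trans hS) (g := g) (by
      rw [cj, MonoidHom.map_zpowers, Subgroup.zpowers_le]
      exact hS hgx)
  have hcx : c * x * c⁻¹ = x := by
    rw [← Subgroup.mem_centralizer_iff.mp hc x (Subgroup.mem_zpowers x), mul_inv_cancel_right]
  rw [show x⁻¹ * (m * c * x * (m * c)⁻¹) = ⁅x⁻¹, m⁆ by
    rw [show m * c * x * (m * c)⁻¹ = m * (c * x * c⁻¹) * m⁻¹ by group, hcx, commutatorElement_def]; group]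
  exact Subgroup.commutator_mem_commutator (M.inv_mem (hS hx)) hm

end Cfsg.Agent.OddLocal.Sigma
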