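import Cfsg.Agent.OddLocal.Sigma.Hall
import Cfsg.Agent.OddLocal.RankTwo.NarrowSolvable
import Cfsg.Agent.Core.PLength

/-! The ideal primes of a maximal subgroup (`β(M)`). -/

set_option autoImplicit false
set_option linter.style.haveILetI false
set_option linter.unusedSectionVars false

namespace Cfsg.Agent.OddLocal.Sigma

open Cfsg

theorem isNilpotent_of_forall_npc {X : Type*} [Group X] [Finite X]
    (h : ∀ r : ℕ, r.Prime → r ∣ Nat.card X → HasNormalPComplement r X) : Group.IsNilpotent X := by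
  classical
  let I := {r // r ∈ (Nat.card X).primeFactors}
  have hI : ∀ r : I, (r : ℕ).Prime ∧ (r : ℕ) ∣ Nat.card X := fun r =>
    ⟨(Nat.mem_primeFactors.mp r.2).1, (Nat.mem_primeFactors.mp r.2).2.1⟩
  let f : X →* (∀ r : I, X ⧸ pResidual (r : ℕ) X) := MonoidHom.pi fun r => QuotientGroup.mk' _
  haveI : ∀ r : I, Group.IsNilpotent (X ⧸ pResidual (r : ℕ) X) := fun r =>
    haveI := Fact.mk (hI r).1
    (Transfer.isPGroup_quotient_pResidual (p := (r : ℕ)) (G := X)).isNilpotent
  refine Subgroup.isNilpotent_of_ker_le_center f ?_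
  rintro x hx
  have h1 : x = 1 := by
    rw [← orderOf_eq_one_iff]
    refine Nat.eq_one_iff_not_exists_prime_dvd.mpr fun r hr hd => ?_
    haveI := Fact.mk hr
    have hrX : r ∣ Nat.card X := hd.trans (orderOf_dvd_natCard x)
    have hmem : x ∈ pResidual r X := (QuotientGroup.eq_one_iff x).mp
      (congrFun (MonoidHom.mem_ker.mp hx) ⟨r, Nat.mem_primeFactors.mpr ⟨hr, hrX, Nat.card_pos.ne'⟩⟩)
    have hc := (Transfer.mem_pResidual_iff (h r hr hrX)).mp hmem
    exact hr.one_lt.ne' (Nat.eq_one_of_dvd_coprimes hc hd dvd_rfl)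
  subst h1
  exact one_mem _

theorem exists_nilpotent_hall {X : Type*} [Group X] [Finite X] [Group.IsSolvable X] (π : Set ℕ)
    (h : ∀ r : ℕ, r.Prime → r ∈ π → HasNormalPComplement r X) :
    ∃ H : Subgroup X, Cfsg.IsPiHall π H ∧ Group.IsNilpotent H := by
  obtain ⟨H, hH⟩ := Core.exists_isPiHall_of_isSolvable (G := X) π
  exact ⟨H, hH, isNilpotent_of_forall_npc fun r hr hd => haveI := Fact.mk hr; Transfer.hasNormalPComplement_subgroup H (h r hr (hH.1 r hr hd))⟩

variable {G : Type*} [Group G] [Finite G]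

theorem exists_nilpotent_hallOf {D : Subgroup G} [Group.IsSolvable D] (π : Set ℕ)
    (h : ∀ r : ℕ, r.Prime → r ∈ π → HasNormalPComplement r D) :
    ∃ H : Subgroup G, Cfsg.IsPiHallOf π H D ∧ Group.IsNilpotent H := by
  obtain ⟨H, hH, hn⟩ := exists_nilpotent_hall (X := D) π h
  haveI := hn
  exact ⟨H.map D.subtype, isPiHallOf_map hH,
    Group.nilpotent_of_surjective (D.subtype.subgroupMap H) (D.subtype.subgroupMap_surjective H)⟩

variable (hG : IsMinSimpleOddOrder G) (hpl : ∀ (p : ℕ) [Fact p.Prime] (H : Subgroup G), H ≠ ⊤ → PLengthLE p 1 H)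
include hG hpl

/-- Outside `β(M)` the reduced `p`-core of `M` has small automorphism group. -/
theorem oddAutSmall_of_notMem_beta {M : Subgroup G} (hM : IsCoatom M) {p : ℕ} [hp : Fact p.Prime]
    (hpM : p ∣ Nat.card M) (hβ : p ∉ beta M) :
    RankTwo.OddAutSmall p (pCore p (↥M ⧸ pPrimeCore p M)) := by
  haveI := Core.BG.isSolvable_proper hG hM.1
  have hp2 : p ≠ 2 := ne_two_of_dvd hG (hpM.trans (Subgroup.card_subgroup_dvd_card M))
  by_cases hr : PRankLE p 2 M
  · exact RankTwo.oddAutSmall_core_of_pRankLE hp2 hr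
  have hα : p ∈ alpha M := ⟨hp.out, hr⟩
  have hrG : ¬ PRankLE p 2 G := fun h => hr (Components.pRankLE_of_injective M.subtype_injective h)
  have hni : ¬ IsIdealPrime p G := fun h => hβ ⟨hα, h⟩
  obtain ⟨P, A, hAP, hA, hA2, hAmax⟩ : ∃ (P : Sylow p G) (A : Subgroup G), A ≤ (P : Subgroup G) ∧
      IsElementaryAbelian p A ∧ Nat.card A = p ^ 2 ∧
      ∀ B : Subgroup G, B ≤ (P : Subgroup G) → IsElementaryAbelian p B → A < B → False := by
    by_contra hcon
    refine hni ⟨hp.out, hrG, fun P A hAP hA hA2 => ?_⟩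
    by_contra hB
    exact hcon ⟨P, A, hAP, hA, hA2, fun B h1 h2 h3 => hB ⟨B, h1, h2, h3⟩⟩
  obtain ⟨S, hSM, -⟩ := exists_sylow_le (alpha_subset_sigma hG hM hα)
  obtain ⟨g, hg⟩ := MulAction.exists_smul_eq G P S
  have hgS : cj g (P : Subgroup G) = (S : Subgroup G) := by
    rw [← hg, Sylow.coe_subgroup_smul, Core.conj_smul_eq_map]
  let T : Sylow p M := S.subtype hSM
  let f : (T : Subgroup M) →* G := M.subtype.comp (T : Subgroup M).subtype
  have hf : Function.Injective f := M.subtype_injective.comp (T : Subgroup M).subtype_injective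
  have hrange : ∀ z : (T : Subgroup M), f z ∈ (S : Subgroup G) := fun z => by
    have h := z.2
    simp only [T, Sylow.coe_subtype] at h
    exact h
  have hmem : ∀ y ∈ (S : Subgroup G), ∃ z : (T : Subgroup M), f z = y := fun y hy =>
    ⟨⟨⟨y, hSM hy⟩, by simp only [T, Sylow.coe_subtype]; exact hy⟩, rfl⟩
  set E := (cj g A).comap f
  have hEmap : E.map f = cj g A := by
    refine le_antisymm (Subgroup.map_comap_le f _) fun y hy => ?_
    obtain ⟨z, rfl⟩ := hmem y (hgS ▸ cj_mono hAP hy)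
    exact ⟨z, hy, rfl⟩
  have hE : RankTwo.MaxEASq p E := by
    refine ⟨PLocal.isEA_comap (PLocal.isEA_map hA _) f hf, ?_, fun B hB hEB => ?_⟩
    · rw [← Subgroup.card_map_of_injective hf, hEmap, card_cj, hA2]
    · have hle : cj g A ≤ B.map f := hEmap ▸ Subgroup.map_mono hEB
      by_contra hne
      have hlt : cj g A < B.map f := lt_of_le_of_ne hle fun e => hne (by
        rw [← hEmap] at e
        exact (Subgroup.map_injective hf e).symm)
      refine hAmax (cj g⁻¹ (B.map f)) ?_ (PLocal.isEA_map (PLocal.isEA_map hB f) _) ?_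
      · refine cj_le_iff.mpr ?_
        rw [inv_inv, hgS]
        rintro _ ⟨z, -, rfl⟩
        exact hrange z
      · refine lt_of_le_of_ne (by have := cj_mono (g := g⁻¹) hle; rwa [← cj_mul, inv_mul_cancel, cj_one] at this) fun e => hlt.ne ?_
        rw [e, ← cj_mul, mul_inv_cancel, cj_one]
  have hrT : ¬ PRankLE p 2 (T : Subgroup M) := fun h => hr fun X hXc hXe => by
    obtain ⟨U, hU⟩ := (show IsPGroup p X from fun x => ⟨1, Subtype.ext (by rw [pow_one]; exact hXe x x.2)⟩).exists_le_sylow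
    have h' := Components.pRankLE_of_injective (f := ((U.equiv T).toMonoidHom).comp (Subgroup.inclusion hU))
      ((U.equiv T).injective.comp (Subgroup.inclusion_injective hU)) h
    have := h' ⊤ ⟨⟨fun a b => Subtype.ext (hXc.is_comm.comm a.1 b.1)⟩⟩ fun a _ => Subtype.ext (hXe a a.2)
    rwa [Subgroup.card_top] at this
  obtain ⟨φ, hφ, hφs⟩ := RankTwo.exists_embedding_core T
  have hidx := (Core.pLengthLE_one_iff (p := p)).mp (hpl p M hM.1)
  rw [pPrimePCore, Subgroup.index_comap_of_surjective _ (QuotientGroup.mk'_surjective _)] at hidx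
  exact RankTwo.OddAutSmall.congr (MulEquiv.ofBijective φ ⟨hφ, hφs hidx⟩).symm
    (RankTwo.oddAutSmall_of_maxEASq hp2 T.isPGroup' hrT hE)

theorem commutator_npc {M : Subgroup G} (hM : IsCoatom M) {p : ℕ} [hp : Fact p.Prime] (hβ : p ∉ beta M) :
    HasNormalPComplement p ↥(commutator M) := by
  haveI := Core.BG.isSolvable_proper hG hM.1
  by_cases hpM : p ∣ Nat.card M
  · exact (RankTwo.five (odd_of_dvd hG (Subgroup.card_subgroup_dvd_card M)) hpM
      (oddAutSmall_of_notMem_beta hG hpl hM hpM hβ)).2.2.1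
  · exact Transfer.hasNormalPComplement_of_coprime (hp.out.coprime_iff_not_dvd.mpr fun hd =>
      hpM (hd.trans (Subgroup.card_subgroup_dvd_card _))).symm

theorem derived_npc {M : Subgroup G} (hM : IsCoatom M) {p : ℕ} [hp : Fact p.Prime] (hβ : p ∉ beta M) :
    HasNormalPComplement p ↥⁅M, M⁆ := by
  rw [← M.map_subtype_commutator]
  exact (Transfer.hasNormalPComplement_equiv
    ((commutator M).equivMapOfInjective M.subtype M.subtype_injective) (commutator_npc hG hpl hM hβ))

omit hpl in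
theorem sigmaCore_le_derived {M : Subgroup G} (hM : IsCoatom M) : sigmaCore M ≤ ⁅M, M⁆ := by
  rw [sigmaCore, ← M.map_subtype_commutator]
  refine Subgroup.map_mono (Core.le_of_forall_exists_sylow_le fun r hr => ?_)
  haveI := Fact.mk hr
  obtain ⟨T⟩ := (inferInstance : Nonempty (Sylow r (piCore (sigma M) M)))
  refine ⟨T, ?_⟩
  by_cases hd : r ∣ Nat.card (piCore (sigma M) M)
  · obtain ⟨S, hS⟩ := (T.isPGroup'.map (piCore (sigma M) M).subtype).exists_le_sylow
    exact hS.trans (sylow_le_commutator hG hM (Core.isPiNat_card_piCore (sigma M) M r hr hd) S)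
  · rw [show (T : Subgroup (piCore (sigma M) M)) = ⊥ from Subgroup.card_eq_one.mp (by
      rw [T.card_eq_multiplicity, Nat.factorization_eq_zero_of_not_dvd hd, pow_zero]), Subgroup.map_bot]
    exact bot_le

theorem betaCore_hall {M : Subgroup G} (hM : IsCoatom M) : Cfsg.IsPiHall (beta M) (piCore (beta M) M) := by
  set D := commutator M
  let I := {r : Nat.Primes // (r : ℕ) ∉ beta M}
  set N : Subgroup M := D ⊓ ⨅ r : I, (pPrimeCore (r.1 : ℕ) D).map D.subtype with hN
  haveI : ∀ r : I, ((pPrimeCore (r.1 : ℕ) D).map D.subtype).Normal := fun r =>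
    Core.normal_map_subtype_of_characteristic _
  haveI : (⨅ r : I, (pPrimeCore (r.1 : ℕ) D).map D.subtype).Normal := Subgroup.normal_iInf_normal inferInstance
  haveI : N.Normal := inferInstance
  have hle : N ≤ piCore (beta M) M := Core.le_piCore inferInstance fun r hr hd => by
    by_contra hrβ
    have h1 : N ≤ (pPrimeCore r D).map D.subtype := inf_le_right.trans (iInf_le _ (⟨⟨r, hr⟩, hrβ⟩ : I))
    have h2 := hd.trans (Subgroup.card_dvd_of_le h1)
    rw [Core.card_map_subtype] at h2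
    exact hr.one_lt.ne' (Nat.eq_one_of_dvd_coprimes (Core.card_pPrimeCore_coprime r D) h2 dvd_rfl)
  refine isPiHall_of_sylow_le (Core.isPiNat_card_piCore _ M) fun q hq hqβ => ?_
  haveI := Fact.mk hq
  obtain ⟨P⟩ := (inferInstance : Nonempty (Sylow q M))
  refine ⟨P, le_trans ?_ hle⟩
  have hPD := sylow_le_commutator hG hM (alpha_subset_sigma hG hM hqβ.1) P
  refine le_inf hPD (le_iInf fun r => fun x hx => ?_)
  haveI := Fact.mk r.1.2
  refine ⟨⟨x, hPD hx⟩, ?_, rfl⟩
  have hres : pResidual (r.1 : ℕ) D ≤ pPrimeCore (r.1 : ℕ) D := Core.le_pPrimeCore inferInstance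
    (Transfer.hasNormalPComplement_iff_coprime_pResidual.mp (commutator_npc hG hpl hM r.2))
  refine hres (Transfer.mem_pResidual_of_coprime ?_)
  rw [Subgroup.orderOf_mk]
  obtain ⟨j, hj⟩ := P.isPGroup' ⟨x, hx⟩
  refine Nat.Coprime.coprime_dvd_left (orderOf_dvd_of_pow_eq_one (congrArg Subtype.val hj)) ?_
  exact ((Nat.coprime_primes hq r.1.2).mpr fun e => r.2 (e ▸ hqβ)).pow_left j

theorem beta_facts {M : Subgroup G} (hM : IsCoatom M) :
    Cfsg.IsPiHallOf (beta M) (piCoreOf (beta M) M) M ∧ Cfsg.IsPiHall (beta M) (piCoreOf (beta M) M) ∧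
      (∃ H : Subgroup G, Cfsg.IsPiHallOf {q | q.Prime ∧ q ∉ beta M} H ⁅M, M⁆ ∧ Group.IsNilpotent H) ∧
      (∃ H : Subgroup G, Cfsg.IsPiHallOf {q | q.Prime ∧ q ∉ beta M} H (sigmaCore M) ∧ Group.IsNilpotent H) ∧
      ∀ p : ℕ, p.Prime → p ∣ Nat.card M → p ∉ beta M →
        HasNormalPComplement p ↥⁅M, M⁆ ∧ HasNormalPComplement p ↥(sigmaCore M) ∧
        ∀ q : ℕ, q.Prime → q ∣ (pPrimeCore p ↥M).index → q ≤ p := by
  have h1 : Cfsg.IsPiHallOf (beta M) (piCoreOf (beta M) M) M := isPiHallOf_map (betaCore_hall hG hpl hM)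
  have hsub : beta M ⊆ sigma M := fun q hq => alpha_subset_sigma hG hM hq.1
  haveI := Core.BG.isSolvable_proper hG hM.1
  have hD : ⁅M, M⁆ ≤ M := Subgroup.commutator_le.mpr fun a ha b hb =>
    mul_mem (mul_mem (mul_mem ha hb) (inv_mem ha)) (inv_mem hb)
  haveI : Group.IsSolvable ↥⁅M, M⁆ := Group.isSolvable_of_isSolvable_injective (Subgroup.inclusion_injective hD)
  haveI : Group.IsSolvable ↥(sigmaCore M) := Group.isSolvable_of_isSolvable_injective
    (Subgroup.inclusion_injective (Subgroup.map_subtype_le (piCore (sigma M) M)))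
  have hs : ∀ {p : ℕ} [Fact p.Prime], p ∉ beta M → HasNormalPComplement p ↥(sigmaCore M) := fun {p} _ h =>
    Transfer.hasNormalPComplement_of_le (sigmaCore_le_derived hG hM) (derived_npc hG hpl hM h)
  refine ⟨h1, isPiHall_sigma_of_hallOf hG hsub h1, exists_nilpotent_hallOf _ fun r hr hrm =>
      haveI := Fact.mk hr
      derived_npc hG hpl hM hrm.2,
    exists_nilpotent_hallOf _ fun r hr hrm =>
      haveI := Fact.mk hr
      hs hrm.2, fun p hp hpM hβ => ?_⟩
  haveI := Fact.mk hp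
  exact ⟨derived_npc hG hpl hM hβ, hs hβ, (RankTwo.five (odd_of_dvd hG (Subgroup.card_subgroup_dvd_card M)) hpM
    (oddAutSmall_of_notMem_beta hG hpl hM hpM hβ)).1⟩

end Cfsg.Agent.OddLocal.Sigma
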