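import Cfsg.Agent.OddLocal.Sigma.SylowFusion
import Cfsg.Agent.OddLocal.RankTwo.RankTwoAmbient

/-! Sylow subgroups of rank two. -/

set_option autoImplicit false
set_option linter.style.haveILetI false
set_option linter.unusedSectionVars false

namespace Cfsg.Agent.OddLocal.Sigma

open Cfsg

variable {G : Type*} [Group G] [Finite G]

theorem derived_eq_center_of_cube {p : ℕ} [hp : Fact p.Prime] {X : Subgroup G} (hc : Nat.card X = p ^ 3)
    (hnab : ¬ IsMulCommutative X) : ⁅X, X⁆ = X ⊓ Subgroup.centralizer (X : Set G) := by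
  have hX : IsPGroup p X := IsPGroup.of_card hc
  haveI : Nontrivial X := Finite.one_lt_card_iff_nontrivial.mp (hc ▸ Nat.one_lt_pow (by norm_num) hp.out.one_lt)
  have hq : ¬ IsCyclic (X ⧸ Subgroup.center X) := fun h => by
    haveI := h
    exact hnab (isMulCommutative_of_isCyclic_quotient_center_self _)
  haveI := hX.center_nontrivial
  obtain ⟨k, hk⟩ := IsPGroup.iff_card.mp (hX.to_subgroup (Subgroup.center X))
  obtain ⟨j, hj⟩ := IsPGroup.iff_card.mp (hX.to_quotient (Subgroup.center X))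
  have hmul : p ^ k * p ^ j = p ^ 3 := by
    rw [← hk, ← hj, ← Subgroup.index_eq_card, Subgroup.card_mul_index, hc]
  rw [← pow_add] at hmul
  have hkj : k + j = 3 := Nat.pow_right_injective hp.out.two_le hmul
  have hk1 : 1 ≤ k := by
    by_contra h
    rw [show k = 0 by omega, pow_zero] at hk
    exact absurd hk (Finite.one_lt_card (α := Subgroup.center X)).ne'
  have hj2 : 2 ≤ j := by
    by_contra h
    refine hq ?_
    interval_cases j
    · haveI : Subsingleton (X ⧸ Subgroup.center X) := (Nat.card_eq_one_iff_unique.mp (by rw [hj, pow_zero])).1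
      exact isCyclic_of_subsingleton
    · exact isCyclic_of_prime_card (by rw [hj, pow_one])
  have hle : commutator X ≤ Subgroup.center X := by
    rw [← Subgroup.Normal.quotient_commutative_iff_commutator_le]
    exact IsPGroup.isMulCommutative_of_card_eq_prime_sq (p := p) (by rw [hj, show j = 2 by omega])
  have hne : commutator X ≠ ⊥ := fun h => hnab ⟨⟨fun a b => by
    have := Subgroup.commutator_mem_commutator (Subgroup.mem_top a) (Subgroup.mem_top b)
    rw [← commutator_def, h, Subgroup.mem_bot] at this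
    exact commutatorElement_eq_one_iff_mul_comm.mp this⟩⟩
  have heq : commutator X = Subgroup.center X := by
    refine Subgroup.eq_of_le_of_card_ge hle ?_
    obtain ⟨i, hi⟩ := IsPGroup.iff_card.mp (hX.to_subgroup (commutator X))
    rw [hk, hi]
    refine Nat.pow_le_pow_right hp.out.pos ?_
    by_contra h
    exact hne (Subgroup.eq_bot_of_card_eq _ (by rw [hi, show i = 0 by omega, pow_zero]))
  rw [← X.map_subtype_commutator, heq]
  ext x
  constructor
  · rintro ⟨y, hy, rfl⟩
    exact ⟨y.2, Subgroup.mem_centralizer_iff.mpr fun z hz =>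
      congrArg Subtype.val (Subgroup.mem_center_iff.mp hy ⟨z, hz⟩)⟩
  · rintro ⟨h1, h2⟩
    exact ⟨⟨x, h1⟩, Subgroup.mem_center_iff.mpr fun z =>
      Subtype.ext (Subgroup.mem_centralizer_iff.mp h2 z z.2), rfl⟩

theorem sylow_rank_two (hG : IsMinSimpleOddOrder G)
    (hpl : ∀ (p : ℕ) [Fact p.Prime] (H : Subgroup G), H ≠ ⊤ → PLengthLE p 1 H)
    {p : ℕ} [hp : Fact p.Prime] (P : Sylow p G) (hr : PRankLE p 2 (P : Subgroup G)) :
    IsMulCommutative (P : Subgroup G) ∨ ∃ P₁ P₂ : Subgroup G, P₁ ⊔ P₂ = (P : Subgroup G) ∧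
        (∀ a ∈ P₁, ∀ b ∈ P₂, a * b = b * a) ∧
        ¬ IsMulCommutative P₁ ∧ Nat.card P₁ = p ^ 3 ∧ Monoid.exponent P₁ = p ∧ IsCyclic P₂ ∧
        Subgroup.closure {x : G | x ∈ P₂ ∧ x ^ p = 1} = P₁ ⊓ Subgroup.centralizer (P₁ : Set G) := by
  by_cases hP1 : (P : Subgroup G) = ⊥
  · left; rw [hP1]; exact ⟨⟨fun a b => Subsingleton.elim _ _⟩⟩
  have hpG : p ∣ Nat.card G := by
    obtain ⟨k, hk⟩ := IsPGroup.iff_card.mp P.isPGroup'
    have hk0 : k ≠ 0 := fun e => hP1 (Subgroup.eq_bot_of_card_eq _ (by rw [hk, e, pow_zero]))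
    exact (dvd_pow_self p hk0).trans (hk ▸ Subgroup.card_subgroup_dvd_card (P : Subgroup G))
  set N := Subgroup.normalizer ((P : Subgroup G) : Set G)
  haveI : ((P : Subgroup G).subgroupOf N).Normal := Subgroup.normal_subgroupOf_of_le_normalizer le_rfl
  have hcop : (Nat.card ((P : Subgroup G).subgroupOf N)).Coprime ((P : Subgroup G).subgroupOf N).index := by
    obtain ⟨k, hk⟩ := IsPGroup.iff_card.mp P.isPGroup'
    rw [Core.card_subgroupOf Subgroup.le_normalizer, hk]
    exact ((hp.out.coprime_iff_not_dvd).mpr fun hd => P.not_dvd_index (hd.trans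
      ⟨_, (Subgroup.relIndex_mul_index (Subgroup.le_normalizer : (P : Subgroup G) ≤ N)).symm⟩)).pow_left k
  obtain ⟨V', hV'⟩ := Subgroup.exists_right_complement'_of_coprime hcop
  set V := V'.map N.subtype
  have hV : IsComplIn (P : Subgroup G) V N := by
    refine ⟨Subgroup.le_normalizer, Subgroup.map_subtype_le _, ?_, fun n hn => ?_⟩
    · rw [eq_bot_iff]
      rintro _ ⟨hx, y, hy, rfl⟩
      exact Subgroup.mem_bot.mpr (congrArg Subtype.val
        (Subgroup.mem_bot.mp (hV'.disjoint.le_bot ⟨Subgroup.mem_subgroupOf.mpr hx, hy⟩)))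
    · obtain ⟨⟨a, b⟩, hab, -⟩ := hV'.existsUnique ⟨n, hn⟩
      exact ⟨(a : N), Subgroup.mem_subgroupOf.mp a.2, (b : N), ⟨b, b.2, rfl⟩, (congrArg Subtype.val hab).symm⟩
  have hVc : (Nat.card V).Coprime p := by
    rw [Core.card_map_subtype, ← hV'.symm.index_eq_card]
    exact (hp.out.coprime_iff_not_dvd.mpr fun hd => P.not_dvd_index (hd.trans
      ⟨_, (Subgroup.relIndex_mul_index (Subgroup.le_normalizer : (P : Subgroup G) ≤ N)).symm⟩)).symm
  obtain ⟨-, h | ⟨P₁, P₂, h1, h2, h3, h4, h5, h6, h7⟩⟩ := RankTwo.rankTwo_ambient (ne_two_of_dvd hG hpG)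
    (P : Subgroup G) V P.isPGroup' hP1 hr hV.2.1 hVc (odd_of_dvd hG (Subgroup.card_subgroup_dvd_card V))
    (sylow_eq_commutator hG hpl P V hV).1.symm
  · exact Or.inl h
  · exact Or.inr ⟨P₁, P₂, h1, h2, h3, h4, h5, h6, h7.trans (derived_eq_center_of_cube h4 h3)⟩

end Cfsg.Agent.OddLocal.Sigma
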