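import Cfsg.Agent.OddLocal.Sigma.MaxEA
import Cfsg.Agent.OddLocal.Sigma.SylowRankTwo

/-! The centralizer of a maximal elementary subgroup of order `p ^ 2` in a `p`-group is abelian. -/

set_option autoImplicit false
set_option linter.style.haveILetI false
set_option linter.unusedSectionVars false

namespace Cfsg.Agent.OddLocal.Sigma

open Cfsg
open scoped commutatorElement

section PGroup

variable {T : Type*} [Group T] [Finite T] {p : ℕ} [hp : Fact p.Prime]

theorem centralizer_comm_of_normal_ne (hT : IsPGroup p T) (hp2 : p ≠ 2) {A U : Subgroup T} (hA : MaxEA p A)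
    [hUn : U.Normal] (hU : IsElementaryAbelian p U) (hUc : Nat.card U = p ^ 2) (hne : U ≠ A) :
    IsMulCommutative (Subgroup.centralizer (A : Set T)) := by
  set C := Subgroup.centralizer (U : Set T)
  set K := Subgroup.centralizer (A : Set T)
  haveI : C.Normal := Subgroup.normal_centralizer
  have hAC : ¬ A ≤ C := fun h => hne (by
    refine Subgroup.eq_of_le_of_card_ge (fun u hu => hA.full u ?_ (hU.2 u hu)) (by rw [hA.card, hUc])
    exact Subgroup.le_centralizer_iff.mp h hu)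
  obtain ⟨e, he, heC⟩ := SetLike.not_le_iff_exists.mp hAC
  have heK : e ∈ K := hA.le_centralizer he
  set D := K ⊓ C
  have hlt : A ⊓ C < A := lt_of_le_of_ne inf_le_left fun h => hAC (h ▸ inf_le_right)
  have hACp : Nat.card ↥(A ⊓ C) ≤ p := by
    obtain ⟨k, hk⟩ := IsPGroup.iff_card.mp (hA.isPGroup.to_le (inf_le_left : A ⊓ C ≤ A))
    have hc : Nat.card ↥(A ⊓ C) < Nat.card A := Set.Finite.card_lt_card (Set.toFinite _) hlt
    rw [hk, hA.card] at hc
    rw [hk]
    have := (Nat.pow_lt_pow_iff_right hp.out.one_lt).mp hc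
    exact (Nat.pow_le_pow_right hp.out.pos (show k ≤ 1 by omega)).trans (pow_one p).le
  have huniq : UniqueOrderP p D := by
    rintro ⟨a, ha⟩ ⟨b, hb⟩ hap hbp ha1
    have hap' : a ^ p = 1 := congrArg Subtype.val hap
    have hbp' : b ^ p = 1 := congrArg Subtype.val hbp
    have ha' : a ∈ A ⊓ C := ⟨hA.full a ha.1 hap', ha.2⟩
    have hb' : b ∈ A ⊓ C := ⟨hA.full b hb.1 hbp', hb.2⟩
    have heq : Subgroup.zpowers a = A ⊓ C := by
      refine Subgroup.eq_of_le_of_card_ge (Subgroup.zpowers_le.mpr ha') ?_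
      rw [hA.card_zpowers ha'.1 fun h => ha1 (Subtype.ext h)]
      exact hACp
    obtain ⟨i, hi⟩ := Subgroup.mem_zpowers_iff.mp (heq.ge hb')
    exact Subgroup.mem_zpowers_iff.mpr ⟨i, Subtype.ext (by simpa using hi)⟩
  haveI : IsCyclic D := isCyclic_of_uniqueOrderP (Nat.card D) (hT.to_subgroup D) huniq (Or.inl hp2) le_rfl
  have hidx : C.index ≤ p := Components.index_centralizer_normal_ea hT hUn hU hUc
  set ē := (QuotientGroup.mk' C) e
  have hgen : Subgroup.zpowers ē = ⊤ := by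
    refine Subgroup.eq_of_le_of_card_ge le_top ?_
    rw [Subgroup.card_top, ← Subgroup.index_eq_card]
    refine hidx.trans (Nat.le_of_dvd Nat.card_pos ?_)
    rw [Nat.card_zpowers]
    have hd : orderOf ē ∣ p := orderOf_dvd_of_pow_eq_one (by rw [← map_pow, hA.ea.2 e he, map_one])
    rcases (Nat.dvd_prime hp.out).mp hd with h | h
    · exact absurd ((QuotientGroup.eq_one_iff e).mp (orderOf_eq_one_iff.mp h)) heC
    · exact h.symm.dvd
  have key : ∀ x ∈ K, ∃ d ∈ D, ∃ i : ℤ, x = d * e ^ i := by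
    intro x hx
    obtain ⟨i, hi⟩ := Subgroup.mem_zpowers_iff.mp (hgen.ge (Subgroup.mem_top ((QuotientGroup.mk' C) x)))
    refine ⟨x * (e ^ i)⁻¹, ⟨K.mul_mem hx (K.inv_mem (K.zpow_mem heK i)), ?_⟩, i, by rw [inv_mul_cancel_right]⟩
    exact (QuotientGroup.eq_one_iff (N := C) _).mp (show (QuotientGroup.mk' C) (x * (e ^ i)⁻¹) = 1 by
      rw [map_mul, map_inv, map_zpow, ← hi, mul_inv_cancel])
  refine ⟨⟨?_⟩⟩
  rintro ⟨x, hx⟩ ⟨y, hy⟩
  obtain ⟨d, hd, i, rfl⟩ := key x hx
  obtain ⟨d', hd', j, rfl⟩ := key y hy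
  refine Subtype.ext ?_
  have hde : ∀ z ∈ K, Commute e z := fun z hz => Subgroup.mem_centralizer_iff.mp hz e he
  have h1 : Commute d d' := congrArg Subtype.val (IsMulCommutative.is_comm.comm (⟨d, hd⟩ : D) ⟨d', hd'⟩)
  exact ((h1.mul_right ((hde d hd.1).symm.zpow_right j)).mul_left
    (((hde d' hd'.1).zpow_left i).mul_right (Commute.zpow_zpow_self e i j)))

/-- Some element of `A` is not a `p`-th power in the centralizer of `A`. -/
theorem exists_not_pow_of_normal_ne (hT : IsPGroup p T) (hp2 : p ≠ 2) {A U : Subgroup T} (hA : MaxEA p A)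
    [hUn : U.Normal] (hU : IsElementaryAbelian p U) (hUc : Nat.card U = p ^ 2) (hne : U ≠ A) :
    ∃ e ∈ A, ∀ y ∈ Subgroup.centralizer (A : Set T), y ^ p ≠ e := by
  set C := Subgroup.centralizer (U : Set T)
  haveI : C.Normal := Subgroup.normal_centralizer
  have hAC : ¬ A ≤ C := fun h => hne (by
    refine Subgroup.eq_of_le_of_card_ge (fun u hu => hA.full u ?_ (hU.2 u hu)) (by rw [hA.card, hUc])
    exact Subgroup.le_centralizer_iff.mp h hu)
  obtain ⟨e, he, heC⟩ := SetLike.not_le_iff_exists.mp hAC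
  refine ⟨e, he, fun y _ hye => heC ?_⟩
  have hidx : C.index ≤ p := Components.index_centralizer_normal_ea hT hUn hU hUc
  obtain ⟨k, hk⟩ := hT.index C
  have hk1 : C.index ∣ p := by
    rw [hk] at hidx ⊢
    have := (Nat.pow_le_pow_iff_right hp.out.one_lt).mp (hidx.trans (pow_one p).ge)
    exact (pow_dvd_pow p this).trans (pow_one p).dvd
  rw [← hye]
  exact (QuotientGroup.eq_one_iff (y ^ p)).mp (show ((y ^ p : T) : T ⧸ C) = 1 from by
    rw [QuotientGroup.mk_pow]
    exact orderOf_dvd_iff_pow_eq_one.mp ((orderOf_dvd_natCard _).trans ((Subgroup.index_eq_card C).symm ▸ hk1)))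

/-- A normal elementary subgroup of order `p ^ 2` other than `A`, in rank at least three. -/
theorem exists_normal_ne_of_rank (hT : IsPGroup p T) (hp2 : p ≠ 2) (hr : ¬ PRankLE p 2 T) {A : Subgroup T}
    (hA : MaxEA p A) [hAn : A.Normal] : False := by
  obtain ⟨B, hAB, ⟨hBn, hB⟩, hBmax⟩ := (Set.toFinite
    {B : Subgroup T | B.Normal ∧ IsElementaryAbelian p B}).exists_le_maximal (a := A) ⟨hAn, hA.ea⟩
  have hBc := RankTwo.card_maximal_normal_ea hp2 hT hr hBn hB (fun C hC hC' hle => le_antisymm (hBmax ⟨hC, hC'⟩ hle) hle)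
  have hle : B ≤ A := fun b hb => hA.full b
    (Subgroup.centralizer_le hAB (Subgroup.le_centralizer_iff_isMulCommutative.mpr hB.1 hb)) (hB.2 b hb)
  exact absurd (Subgroup.card_le_of_le hle) (not_le.mpr (hA.card ▸ hBc))

end PGroup

variable {G : Type*} [Group G] [Finite G]

theorem MaxEA.subgroupOf {p : ℕ} [hp : Fact p.Prime] {A T : Subgroup G} (hA : MaxEA p A) (hAT : A ≤ T) :
    MaxEA p (A.subgroupOf T) :=
  ⟨PLocal.isEA_comap hA.ea _ T.subtype_injective, by rw [Core.card_subgroupOf hAT, hA.card],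
    fun x hx hxp => Subgroup.mem_subgroupOf.mpr (hA.full x (Subgroup.mem_centralizer_iff.mpr fun a ha =>
      congrArg Subtype.val (Subgroup.mem_centralizer_iff.mp hx ⟨a, hAT ha⟩ (Subgroup.mem_subgroupOf.mpr ha)))
      (congrArg Subtype.val hxp))⟩

theorem mk_mem_centralizer_subgroupOf {A T : Subgroup G} {z : G} (hzT : z ∈ T)
    (hz : z ∈ Subgroup.centralizer (A : Set G)) :
    (⟨z, hzT⟩ : T) ∈ Subgroup.centralizer ((A.subgroupOf T : Subgroup T) : Set T) :=
  Subgroup.mem_centralizer_iff.mpr fun a ha => Subtype.ext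
    (Subgroup.mem_centralizer_iff.mp hz a (Subgroup.mem_subgroupOf.mp ha))

variable (hG : IsMinSimpleOddOrder G)
  (hpl : ∀ (p : ℕ) [Fact p.Prime] (H : Subgroup G), H ≠ ⊤ → PLengthLE p 1 H)
include hG hpl

/-- In a non-abelian Sylow subgroup some normal elementary subgroup of order `p ^ 2` differs from `A`. -/
theorem MaxEA.exists_normal_ne {p : ℕ} [hp : Fact p.Prime] {A : Subgroup G} (hA : MaxEA p A) (T : Sylow p G)
    (hAT : A ≤ (T : Subgroup G)) (hT : ¬ IsMulCommutative (T : Subgroup G)) :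
    ∃ U : Subgroup (T : Subgroup G), U.Normal ∧ IsElementaryAbelian p U ∧ Nat.card U = p ^ 2 ∧
      U ≠ A.subgroupOf (T : Subgroup G) := by
  have hp2 := hA.p_ne_two hG
  set A' := A.subgroupOf (T : Subgroup G)
  have hA' : MaxEA p A' := hA.subgroupOf hAT
  by_cases hAn : A'.Normal
  swap
  · obtain ⟨U, hUn, hU, hUc⟩ := Transfer.PNormal.exists_normal_ea_sq hp2 T.isPGroup' (fun hc => by
      haveI := hc
      exact not_pRankLE_of_ea hA.ea hAT (by rw [hA.card]; exact Nat.pow_lt_pow_right hp.out.one_lt one_lt_two)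
        (k := 1) fun B _ hBe => by
        haveI : IsCyclic B := inferInstance
        rw [pow_one, ← IsCyclic.exponent_eq_card]
        exact Nat.le_of_dvd hp.out.pos (Monoid.exponent_dvd_of_forall_pow_eq_one fun b =>
          Subtype.ext (hBe b b.2)))
    exact ⟨U, hUn, hU, hUc, fun h => hAn (h ▸ hUn)⟩
  haveI := hAn
  by_cases hr : PRankLE p 2 (T : Subgroup G)
  swap
  · exact (exists_normal_ne_of_rank T.isPGroup' hp2 hr hA').elim
  rcases sylow_rank_two hG hpl T hr with h | ⟨P₁, P₂, hsup, hcomm, hnab, hP₁c, hP₁e, -, -⟩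
  · exact absurd h hT
  have hP₁T : P₁ ≤ (T : Subgroup G) := hsup ▸ le_sup_left
  have hpow : ∀ x ∈ P₁, x ^ p = 1 := fun x hx => congrArg Subtype.val
    (hP₁e ▸ Monoid.pow_exponent_eq_one (⟨x, hx⟩ : P₁))
  obtain ⟨x, hx, hxA⟩ : ∃ x ∈ P₁, x ∉ A := SetLike.not_le_iff_exists.mp fun hle => by
    have := Subgroup.card_le_of_le hle
    rw [hP₁c, hA.card] at this
    exact absurd ((Nat.pow_le_pow_iff_right hp.out.one_lt).mp this) (by norm_num)
  set Z := P₁ ⊓ Subgroup.centralizer (P₁ : Set G)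
  have hZe : IsElementaryAbelian p Z :=
    ⟨⟨⟨fun a b => Subtype.ext (Subgroup.mem_centralizer_iff.mp b.2.2 a a.2.1)⟩⟩, fun a ha => hpow a ha.1⟩
  have hZ1 : Z ≠ ⊥ := fun h => hnab ⟨⟨fun a b => Subtype.ext (commutatorElement_eq_one_iff_mul_comm.mp
    (Subgroup.mem_bot.mp (h.le ((derived_eq_center_of_cube hP₁c hnab).le
      (Subgroup.commutator_mem_commutator a.2 b.2)))))⟩⟩
  have hxZ : x ∈ Subgroup.centralizer (Z : Set G) :=
    Subgroup.mem_centralizer_iff.mpr fun z hz => (Subgroup.mem_centralizer_iff.mp hz.2 x hx).symm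
  set U := Z ⊔ Subgroup.zpowers x
  have hU : IsElementaryAbelian p U := RankTwo.ea_insert hZe (hpow x hx) hxZ
  have hUP : U ≤ P₁ := sup_le inf_le_left (Subgroup.zpowers_le.mpr hx)
  have hxnZ : x ∉ Z := fun h => hxA (hA.full x (Subgroup.mem_centralizer_iff.mpr fun a ha => by
    obtain ⟨u, hu, v, hv, rfl⟩ := Coprime.exists_mul_of_mem_sup
      (show P₂ ≤ Subgroup.normalizer (P₁ : Set G) from fun v hv => Subgroup.centralizer_le_normalizer _
        (Subgroup.mem_centralizer_iff.mpr fun u hu => hcomm u hu v hv)) (hsup.ge (hAT ha))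
    have h1 : Commute u x := Subgroup.mem_centralizer_iff.mp h.2 u hu
    have h2 : Commute v x := (hcomm x hx v hv).symm
    exact h1.mul_left h2) (hpow x hx))
  have hUc : Nat.card U = p ^ 2 := by
    obtain ⟨k, hk⟩ := IsPGroup.iff_card.mp (Components.ea_isPGroup hU)
    obtain ⟨j, hj⟩ := IsPGroup.iff_card.mp (Components.ea_isPGroup hZe)
    have h1 : Nat.card Z < Nat.card U := Set.Finite.card_lt_card (Set.toFinite _)
      (show Z < U from lt_of_le_of_ne le_sup_left fun e => hxnZ (e.ge (Subgroup.mem_sup_right (Subgroup.mem_zpowers x))))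
    have h2 : k ≤ 2 := by
      have := card_ea_le hr hU (hUP.trans hP₁T)
      rw [hk] at this
      exact (Nat.pow_le_pow_iff_right hp.out.one_lt).mp this
    have h3 : j ≠ 0 := fun e => hZ1 (Subgroup.eq_bot_of_card_eq _ (by rw [hj, e, pow_zero]))
    rw [hk, hj] at h1
    have := (Nat.pow_lt_pow_iff_right hp.out.one_lt).mp h1
    rw [hk, show k = 2 by omega]
  have hUn : (T : Subgroup G) ≤ Subgroup.normalizer (U : Set G) := by
    rw [← hsup]
    refine sup_le (fun g hg => Coprime.mem_normalizer_of_conj_mem fun y hy => ?_) fun v hv =>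
      Subgroup.centralizer_le_normalizer _ (Subgroup.mem_centralizer_iff.mpr fun u hu => hcomm u (hUP hu) v hv)
    have h1 : ⁅g, y⁆ ∈ Z :=
      (derived_eq_center_of_cube hP₁c hnab).le (Subgroup.commutator_mem_commutator hg (hUP hy))
    have h2 : g * y * g⁻¹ = ⁅g, y⁆ * y := by rw [commutatorElement_def]; group
    rw [h2]
    exact mul_mem (Subgroup.mem_sup_left h1) hy
  haveI : (U.subgroupOf (T : Subgroup G)).Normal := Subgroup.normal_subgroupOf_of_le_normalizer hUn
  refine ⟨U.subgroupOf (T : Subgroup G), inferInstance,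
    PLocal.isEA_comap hU _ (T : Subgroup G).subtype_injective,
    by rw [Core.card_subgroupOf (hUP.trans hP₁T), hUc], fun h => hxA ?_⟩
  have hxU : (⟨x, hP₁T hx⟩ : (T : Subgroup G)) ∈ U.subgroupOf (T : Subgroup G) :=
    Subgroup.mem_subgroupOf.mpr (Subgroup.mem_sup_right (Subgroup.mem_zpowers x))
  rw [h] at hxU
  exact Subgroup.mem_subgroupOf.mp hxU

/-- The centralizer of a maximal elementary subgroup of order `p ^ 2` in a `p`-subgroup is abelian. -/
theorem MaxEA.inf_centralizer_comm {p : ℕ} [hp : Fact p.Prime] {A S : Subgroup G} (hA : MaxEA p A)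
    (hS : IsPGroup p S) (hAS : A ≤ S) : IsMulCommutative ↥(S ⊓ Subgroup.centralizer (A : Set G)) := by
  obtain ⟨T, hST⟩ := hS.exists_le_sylow
  by_cases hT : IsMulCommutative (T : Subgroup G)
  · exact ⟨⟨fun a b => Subtype.ext (show (a : G) * b = b * a from
      congrArg Subtype.val (hT.is_comm.comm ⟨a, hST a.2.1⟩ ⟨b, hST b.2.1⟩))⟩⟩
  obtain ⟨U, hUn, hU, hUc, hne⟩ := hA.exists_normal_ne hG hpl T (hAS.trans hST) hT
  have hc := centralizer_comm_of_normal_ne T.isPGroup' (hA.p_ne_two hG) (hA.subgroupOf (hAS.trans hST)) hU hUc hne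
  exact ⟨⟨fun a b => Subtype.ext (show (a : G) * b = b * a from congrArg Subtype.val (congrArg Subtype.val
    (hc.is_comm.comm ⟨_, mk_mem_centralizer_subgroupOf (hST a.2.1) a.2.2⟩
      ⟨_, mk_mem_centralizer_subgroupOf (hST b.2.1) b.2.2⟩)))⟩⟩

/-- In a non-abelian Sylow subgroup some element of `A` is not a `p`-th power of an element centralizing `A`. -/
theorem MaxEA.exists_not_pow {p : ℕ} [hp : Fact p.Prime] {A : Subgroup G} (hA : MaxEA p A) (T : Sylow p G)
    (hAT : A ≤ (T : Subgroup G)) (hT : ¬ IsMulCommutative (T : Subgroup G)) :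
    ∃ e ∈ A, ∀ y ∈ (T : Subgroup G) ⊓ Subgroup.centralizer (A : Set G), y ^ p ≠ e := by
  obtain ⟨U, hUn, hU, hUc, hne⟩ := hA.exists_normal_ne hG hpl T hAT hT
  obtain ⟨e, he, hpow⟩ := exists_not_pow_of_normal_ne T.isPGroup' (hA.p_ne_two hG) (hA.subgroupOf hAT) hU hUc hne
  exact ⟨e, Subgroup.mem_subgroupOf.mp he, fun y hy hye =>
    hpow _ (mk_mem_centralizer_subgroupOf hy.1 hy.2) (Subtype.ext hye)⟩

end Cfsg.Agent.OddLocal.Sigma
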