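import Cfsg.Agent.OddLocal.Sigma.Rank
import Cfsg.Agent.OddLocal.RankTwo.OddSolvable

/-! Complements of `M_σ` in a maximal subgroup `M`. -/

set_option autoImplicit false
set_option linter.style.haveILetI false
set_option linter.unusedSectionVars false

namespace Cfsg.Agent.OddLocal.Sigma

open Cfsg
open Cfsg.Agent.Core (IsPiNat)

variable {G : Type*} [Group G] [Finite G] (hG : IsMinSimpleOddOrder G)
include hG

omit hG in
theorem complIn_isComplement' {M E : Subgroup G} (hE : IsComplIn E (sigmaCore M) M) :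
    Subgroup.IsComplement' (piCore (sigma M) M) (E.subgroupOf M) := by
  obtain ⟨hEM, -, hinf, hprod⟩ := hE
  refine Subgroup.isComplement'_of_disjoint_and_mul_eq_univ ?_ ?_
  · rw [disjoint_iff, eq_bot_iff]
    rintro x ⟨hx1, hx2⟩
    exact Subgroup.mem_bot.mpr (Subtype.ext (Subgroup.mem_bot.mp
      (hinf.le ⟨hx2, Subgroup.mem_map_of_mem M.subtype hx1⟩)))
  · refine Set.eq_univ_of_forall fun m => ?_
    obtain ⟨a, ha, b, hb, hab⟩ := hprod m m.2
    obtain ⟨b', hb', rfl⟩ := hb
    let a' : M := ⟨a, hEM ha⟩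
    refine ⟨a' * b' * a'⁻¹, (inferInstance : (piCore (sigma M) M).Normal).conj_mem b' hb' a', a', ha, ?_⟩
    show a' * b' * a'⁻¹ * a' = m
    rw [inv_mul_cancel_right]
    exact Subtype.ext hab.symm

theorem complIn_notMem_sigma {M E : Subgroup G} (hM : IsCoatom M) (hE : IsComplIn E (sigmaCore M) M)
    {q : ℕ} (hq : q.Prime) (hd : q ∣ Nat.card E) : q ∉ sigma M := fun hσ => by
  refine (sigmaCore_hall hG hM).2 q hq hσ ?_
  rwa [(complIn_isComplement' hE).symm.index_eq_card, Core.card_subgroupOf hE.1]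

theorem complIn_index_isPiNat {M E : Subgroup G} (hE : IsComplIn E (sigmaCore M) M) :
    IsPiNat (sigma M) (E.relIndex M) := by
  rw [Subgroup.relIndex, (complIn_isComplement' hE).index_eq_card]
  exact Core.isPiNat_card_piCore _ _

/-- A prime outside `σ(M)` dividing `|M'|` divides `|E'|`. -/
theorem complIn_dvd_derived {M E : Subgroup G} (hE : IsComplIn E (sigmaCore M) M) {q : ℕ} (hq : q.Prime)
    (hσ : q ∉ sigma M) (hd : q ∣ Nat.card ↥⁅M, M⁆) : q ∣ Nat.card ↥⁅E, E⁆ := by
  set N := piCore (sigma M) M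
  set φ := QuotientGroup.mk' N
  set E' := E.subgroupOf M
  have hsurj : E'.map φ = ⊤ := by
    refine eq_top_iff.mpr fun y _ => ?_
    obtain ⟨m, rfl⟩ := QuotientGroup.mk'_surjective N y
    obtain ⟨⟨n, e⟩, hne⟩ := (complIn_isComplement' hE).2 m
    refine ⟨e, e.2, ?_⟩
    have h1 : φ (n : M) = 1 := (QuotientGroup.eq_one_iff _).mpr n.2
    rw [← hne, map_mul, h1, one_mul]
  rw [← M.map_subtype_commutator, Core.card_map_subtype] at hd
  have hmap : (commutator M).map φ = ⁅E', E'⁆.map φ := by
    rw [commutator_def, Subgroup.map_commutator, Subgroup.map_commutator, hsurj,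
      Subgroup.map_top_of_surjective φ (QuotientGroup.mk'_surjective N)]
  have h2 : q ∣ Nat.card ↥((commutator M).map φ) := by
    have hker : ∀ q' : ℕ, q'.Prime → q' ∣ Nat.card ↥(N.subgroupOf (commutator M)) → q' ∈ sigma M :=
      fun q' hq' hd' => Core.isPiNat_card_piCore (sigma M) M q' hq'
        (hd'.trans (Core.card_map_subtype (N.subgroupOf (commutator M)) ▸ Subgroup.card_dvd_of_le
          (Subgroup.map_le_iff_le_comap.mpr le_rfl)))
    have hc := Subgroup.card_eq_card_quotient_mul_card_subgroup (φ.subgroupMap (commutator M)).ker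
    rw [hc] at hd
    rcases hq.dvd_mul.mp hd with h | h
    · rwa [Nat.card_congr (QuotientGroup.quotientKerEquivOfSurjective _
        (φ.subgroupMap_surjective (commutator M))).toEquiv] at h
    · rw [Subgroup.ker_subgroupMap, QuotientGroup.ker_mk'] at h
      exact absurd (hker q hq h) hσ
  rw [hmap] at h2
  have h3 := h2.trans (Subgroup.card_map_dvd _ φ)
  have h4 : ⁅E', E'⁆.map M.subtype = ⁅E, E⁆ := by
    rw [Subgroup.map_commutator, Subgroup.subgroupOf_map_subtype, inf_eq_left.mpr hE.1]
  rwa [← Core.card_map_subtype, h4] at h3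

theorem complIn_derived_nilpotent {M E : Subgroup G} (hM : IsCoatom M) (hE : IsComplIn E (sigmaCore M) M) :
    Group.IsNilpotent ↥⁅E, E⁆ := by
  haveI : Group.IsSolvable E := Core.BG.isSolvable_proper hG fun h => hM.1 (top_le_iff.mp (h ▸ hE.1))
  have hle : commutator E ≤ fittingSubgroup E := by
    refine RankTwo.commutator_le_fitting (odd_of_dvd hG (Subgroup.card_subgroup_dvd_card E)) fun q hq hq2 => ?_
    haveI := Fact.mk hq
    refine RankTwo.oddAutSmall_of_rankLE_two hq2 (Core.isPGroup_pCore q _) ?_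
    by_cases hd : q ∣ Nat.card E
    · exact Components.pRankLE_of_injective (pCore q E).subtype_injective
        (Components.pRankLE_of_injective (Subgroup.inclusion_injective hE.1)
          (pRankLE_two_of_notMem_sigma hG hM hq (complIn_notMem_sigma hG hM hE hq hd)))
    · intro B _ _
      obtain ⟨k, hk⟩ := Core.card_pCore_eq_pow q E
      have hk0 : k = 0 := by
        by_contra hk0
        exact hd ((dvd_pow_self q hk0).trans (hk ▸ Subgroup.card_subgroup_dvd_card _))
      have h2 := Subgroup.card_subgroup_dvd_card B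
      rw [hk, hk0, pow_zero] at h2
      rw [Nat.dvd_one.mp h2]
      exact Nat.one_le_pow _ _ hq.pos
  haveI := Core.isNilpotent_of_le hle (Core.isNilpotent_fittingSubgroup E)
  rw [← E.map_subtype_commutator]
  exact Group.nilpotent_of_mulEquiv ((commutator E).equivMapOfInjective E.subtype E.subtype_injective)

theorem sylow_isCyclic_of_rankOne {M H : Subgroup G} {q : ℕ} [hq : Fact q.Prime] (hr : PRankLE q 1 M)
    (hHM : H ≤ M) (Q : Sylow q H) : IsCyclic Q := by
  by_contra hnc
  by_cases hd : q ∣ Nat.card H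
  · have hq2 := ne_two_of_dvd hG (hd.trans (Subgroup.card_subgroup_dvd_card H))
    have hnc' : ¬ IsCyclic ((Q : Subgroup H).map H.subtype) := fun hc => hnc
      (isCyclic_of_surjective _ ((Q : Subgroup H).equivMapOfInjective H.subtype H.subtype_injective).symm.surjective)
    obtain ⟨B, hB, hBQ, hBc⟩ := Core.BG.exists_ea_sq hq2 (Q.isPGroup'.map H.subtype) hnc'
    have h := card_ea_le hr hB (hBQ.trans ((Subgroup.map_subtype_le _).trans hHM))
    rw [hBc] at h
    exact absurd ((Nat.pow_le_pow_iff_right hq.out.one_lt).mp h) (by norm_num)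
  · have h1 : (Q : Subgroup H) = ⊥ := Subgroup.card_eq_one.mp (by
      rw [Q.card_eq_multiplicity, Nat.factorization_eq_zero_of_not_dvd hd, pow_zero])
    haveI : Subsingleton Q := ⟨fun a b => Subtype.ext ((Subgroup.mem_bot.mp (h1 ▸ a.2)).trans (Subgroup.mem_bot.mp (h1 ▸ b.2)).symm)⟩
    exact hnc isCyclic_of_subsingleton

theorem isCyclic_of_zgroup_nilpotent {M H : Subgroup G} (hHM : H ≤ M) [Group.IsNilpotent H]
    (h : ∀ q : ℕ, q.Prime → q ∣ Nat.card H → PRankLE q 1 M) : IsCyclic H := by
  haveI : IsZGroup H := ⟨fun q hq Q => by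
    haveI := Fact.mk hq
    by_cases hd : q ∣ Nat.card H
    · exact sylow_isCyclic_of_rankOne hG (h q hq hd) hHM Q
    · have h1 : (Q : Subgroup H) = ⊥ := Subgroup.card_eq_one.mp (by
        rw [Q.card_eq_multiplicity, Nat.factorization_eq_zero_of_not_dvd hd, pow_zero])
      haveI : Subsingleton Q := ⟨fun a b => Subtype.ext ((Subgroup.mem_bot.mp (h1 ▸ a.2)).trans (Subgroup.mem_bot.mp (h1 ▸ b.2)).symm)⟩
      exact isCyclic_of_subsingleton⟩
  exact inferInstance

/-- The structure of a complement of `M_σ`. -/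
theorem complIn_structure {M E : Subgroup G} (hM : IsCoatom M) (hE : IsComplIn E (sigmaCore M) M) :
    Group.IsNilpotent ↥⁅E, E⁆ ∧
      (∀ E₁ : Subgroup G, IsPiHallOf (tau1 M) E₁ E → IsCyclic E₁) ∧
      ∀ E₃ : Subgroup G, IsPiHallOf (tau3 M) E₃ E →
        IsCyclic E₃ ∧ E₃ ≤ ⁅E, E⁆ ∧ E ≤ Subgroup.normalizer (E₃ : Set G) := by
  have hnil := complIn_derived_nilpotent hG hM hE
  refine ⟨hnil, fun E₁ hE₁ => ?_, fun E₃ hE₃ => ?_⟩
  · have h1 : ⁅E₁, E₁⁆ = ⊥ := by
      refine Subgroup.card_eq_one.mp (Nat.eq_one_iff_not_exists_prime_dvd.mpr fun q hq hd => ?_)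
      have hle : ⁅E₁, E₁⁆ ≤ E₁ := Subgroup.commutator_le.mpr fun a ha b hb =>
        mul_mem (mul_mem (mul_mem ha hb) (inv_mem ha)) (inv_mem hb)
      exact (hE₁.2.1 q hq (hd.trans (Subgroup.card_dvd_of_le hle))).2.2.2.1
        (hd.trans (Subgroup.card_dvd_of_le (Subgroup.commutator_mono (hE₁.1.trans hE.1) (hE₁.1.trans hE.1))))
    have hc : ∀ a b : E₁, a * b = b * a := fun a b => Subtype.ext
      (Subgroup.mem_centralizer_iff.mp (Subgroup.commutator_eq_bot_iff_le_centralizer.mp h1 b.2) a a.2)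
    letI : CommGroup E₁ := { (inferInstance : Group E₁) with mul_comm := hc }
    haveI : Group.IsNilpotent E₁ := inferInstance
    exact isCyclic_of_zgroup_nilpotent hG (hE₁.1.trans hE.1) fun q hq hd => (hE₁.2.1 q hq hd).2.2.2.2
  · set D := ⁅E, E⁆
    have hDE : D ≤ E := Subgroup.commutator_le.mpr fun a ha b hb =>
        mul_mem (mul_mem (mul_mem ha hb) (inv_mem ha)) (inv_mem hb)
    haveI : Group.IsNilpotent ↥D := hnil
    have hle : E₃ ≤ D := by
      refine Core.le_of_forall_exists_sylow_le fun q hq => ?_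
      haveI := Fact.mk hq
      obtain ⟨T⟩ := (inferInstance : Nonempty (Sylow q E₃))
      refine ⟨T, ?_⟩
      set S := (T : Subgroup E₃).map E₃.subtype
      have hSp : IsPGroup q S := T.isPGroup'.map _
      have hSE₃ : S ≤ E₃ := Subgroup.map_subtype_le _
      by_cases hd : q ∣ Nat.card E₃
      swap
      · rw [show S = ⊥ from Subgroup.card_eq_one.mp (by
          obtain ⟨k, hk⟩ := IsPGroup.iff_card.mp hSp
          rcases Nat.eq_zero_or_pos k with rfl | hk0
          · rw [hk, pow_zero]
          · exact absurd ((dvd_pow_self q hk0.ne').trans (hk ▸ Subgroup.card_dvd_of_le hSE₃)) hd)]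
        exact bot_le
      obtain ⟨-, hσ, hM', hr⟩ := hE₃.2.1 q hq hd
      have hqD := complIn_dvd_derived hG hE hq hσ hM'
      obtain ⟨P, hP⟩ := (hSp.comap_subtype : IsPGroup q (S.subgroupOf E)).exists_le_sylow
      haveI : IsCyclic P := sylow_isCyclic_of_rankOne hG hr hE.1 P
      have hidx : ¬ q ∣ (commutator E).index := by
        refine (Sylow.not_dvd_card_commutator_or_not_dvd_index_commutator P).resolve_left fun h => h ?_
        rwa [← Core.card_map_subtype, E.map_subtype_commutator]
      have hPle : (P : Subgroup E) ≤ commutator E :=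
        Core.le_of_coprime_index (by
          obtain ⟨k, hk⟩ := IsPGroup.iff_card.mp P.isPGroup'
          rw [hk]
          exact (hq.coprime_iff_not_dvd.mpr hidx).pow_left k)
      exact fun x hx => (E.map_subtype_commutator).le
        ⟨⟨x, hE₃.1 (hSE₃ hx)⟩, hPle (hP (Subgroup.mem_subgroupOf.mpr hx)), rfl⟩
    haveI : Group.IsNilpotent E₃ := Core.isNilpotent_of_le hle hnil
    refine ⟨isCyclic_of_zgroup_nilpotent hG (hE₃.1.trans hE.1) fun q hq hd => (hE₃.2.1 q hq hd).2.2.2, hle, ?_⟩
    have hle' : E₃.subgroupOf E ≤ commutator E := fun x hx => by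
      obtain ⟨y, hy, hye⟩ := (E.map_subtype_commutator).ge (hle (Subgroup.mem_subgroupOf.mp hx))
      rwa [← show y = x from Subtype.ext hye]
    haveI : Group.IsNilpotent ↥(commutator E) := Group.nilpotent_of_mulEquiv
      (((commutator E).equivMapOfInjective E.subtype E.subtype_injective).trans
        (MulEquiv.subgroupCongr E.map_subtype_commutator)).symm
    have hsn : (E₃.subgroupOf E).IsSubnormal := Subgroup.IsSubnormal.trans hle'
      (FGS4.isSubnormal_of_isNilpotent _) (inferInstance : (commutator E).Normal).isSubnormal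
    have hH : Cfsg.IsPiHall (tau3 M) (E₃.subgroupOf E) :=
      ⟨fun q hq hd => hE₃.2.1 q hq (by rwa [Core.card_subgroupOf hE₃.1] at hd), hE₃.2.2⟩
    have heq := Core.eq_of_isPiHall_le hH (Core.le_piCore_of_isSubnormal hsn hH.1)
      (Core.isPiNat_card_piCore _ _)
    haveI : (E₃.subgroupOf E).Normal := heq ▸ inferInstance
    exact (Subgroup.normal_subgroupOf_iff_le_normalizer hE₃.1).mp inferInstance

end Cfsg.Agent.OddLocal.Sigma
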