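import Cfsg.Agent.OddLocal.Sigma.TauTwo
import Cfsg.Agent.OddLocal.Sigma.Complement

/-! Sylow subgroups of a complement of `M_σ`, and residuals of `M_σ`. -/

set_option autoImplicit false
set_option linter.style.haveILetI false
set_option linter.unusedSectionVars false

namespace Cfsg.Agent.OddLocal.Sigma

open Cfsg
open scoped commutatorElement

variable {G : Type*} [Group G] [Finite G]

theorem exists_cj_le_of_not_dvd_relIndex {N Q B : Subgroup G} {r : ℕ} [hr : Fact r.Prime] (hQN : Q ≤ N)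
    (hQ : IsPGroup r Q) (hQi : ¬ r ∣ Q.relIndex N) (hBN : B ≤ N) (hB : IsPGroup r B) :
    ∃ n ∈ N, cj n B ≤ Q := by
  obtain ⟨n, hn⟩ := Transfer.exists_map_conj_le_sylow
    ((hQ.comap_subtype : IsPGroup r (Q.subgroupOf N)).toSylow hQi)
    (Q := B.subgroupOf N) hB.comap_subtype
  refine ⟨n, n.2, ?_⟩
  rintro _ ⟨b, hb, rfl⟩
  exact hn ⟨⟨b, hBN hb⟩, Subgroup.mem_subgroupOf.mpr hb, rfl⟩

theorem exists_sylow_le_compl (hG : IsMinSimpleOddOrder G) {M E : Subgroup G} (hE : IsComplIn E (sigmaCore M) M) {r : ℕ} [hr : Fact r.Prime]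
    (hσ : r ∉ sigma M) {Q : Subgroup G} (hQ : IsPGroup r Q) (hQE : Q ≤ E) :
    ∃ P : Sylow r M, Q ≤ (P : Subgroup M).map M.subtype ∧ (P : Subgroup M).map M.subtype ≤ E := by
  obtain ⟨R, hQR⟩ := exists_sylow_map_ge hQ hQE
  set R' := (R : Subgroup E).map E.subtype
  have hR'E : R' ≤ E := Subgroup.map_subtype_le _
  obtain ⟨P, hP⟩ := exists_sylow_map_ge (R.isPGroup'.map E.subtype : IsPGroup r R') (hR'E.trans hE.1)
  refine ⟨P, hQR.trans hP, le_of_eq_of_le (Subgroup.eq_of_le_of_card_ge hP ?_).symm hR'E⟩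
  refine Nat.le_of_dvd Nat.card_pos ?_
  obtain ⟨k, hk⟩ := IsPGroup.iff_card.mp (P.isPGroup'.map M.subtype)
  have hidx : (Nat.card ↥((P : Subgroup M).map M.subtype)).Coprime (R'.relIndex M) := by
    rw [hk]
    refine (hr.out.coprime_iff_not_dvd.mpr fun hd => ?_).pow_left k
    rw [← Subgroup.relIndex_mul_relIndex R' E M hR'E hE.1] at hd
    rcases hr.out.dvd_mul.mp hd with h | h
    · refine R.not_dvd_index ?_
      rwa [Subgroup.relIndex, show R'.subgroupOf E = (R : Subgroup E) from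
        Subgroup.comap_map_eq_self_of_injective E.subtype_injective _] at h
    · exact hσ (complIn_index_isPiNat hG hE r hr.out h)
  refine hidx.dvd_of_dvd_mul_right ?_
  rw [Core.card_mul_relIndex (hR'E.trans hE.1)]
  exact Subgroup.card_dvd_of_le (Subgroup.map_subtype_le _)

variable (hG : IsMinSimpleOddOrder G)
include hG

theorem exists_ea_le_compl {M E : Subgroup G} (hE : IsComplIn E (sigmaCore M) M) {r : ℕ} [hr : Fact r.Prime]
    (hrτ : r ∈ tau2 M) : ∃ B : Subgroup G, B ≤ E ∧ IsElementaryAbelian r B ∧ Nat.card B = r ^ 2 := by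
  obtain ⟨-, hσ, hr2, hr1⟩ := hrτ
  obtain ⟨B, hBM, hB, hB2⟩ := exists_ea_sq_of_rank hr2 hr1
  obtain ⟨P, -, hPE⟩ := exists_sylow_le_compl hG hE hσ (IsPGroup.of_bot : IsPGroup r (⊥ : Subgroup G)) bot_le
  obtain ⟨Q, hQ⟩ := exists_sylow_map_ge (Components.ea_isPGroup hB) hBM
  obtain ⟨m, hm⟩ := MulAction.exists_smul_eq M Q P
  refine ⟨cj (m : G) B, ?_, PLocal.isEA_map hB _, by rw [card_cj, hB2]⟩
  refine le_trans ?_ hPE
  rw [← hm, Sylow.coe_subgroup_smul, Core.conj_smul_eq_map]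
  rintro _ ⟨x, hx, rfl⟩
  obtain ⟨y, hy, rfl⟩ := hQ hx
  exact ⟨m * y * m⁻¹, ⟨y, hy, rfl⟩, rfl⟩

variable (hpl : ∀ (p : ℕ) [Fact p.Prime] (H : Subgroup G), H ≠ ⊤ → PLengthLE p 1 H)
include hpl

/-- The normal `p`-complement of `M_σ`. -/
theorem exists_residual {H : Subgroup G} (hH : IsCoatom H) {p : ℕ} [hp : Fact p.Prime] (hβ : p ∉ beta H) :
    ∃ N : Subgroup G, N ≤ sigmaCore H ∧ H ≤ Subgroup.normalizer (N : Set G) ∧ ¬ p ∣ Nat.card N ∧
      ∀ X : Subgroup G, X ≤ sigmaCore H → ¬ p ∣ Nat.card X → X ≤ N := by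
  have hnpc : HasNormalPComplement p ↥(sigmaCore H) :=
    Transfer.hasNormalPComplement_of_le (sigmaCore_le_derived hG hH) (derived_npc hG hpl hH hβ)
  refine ⟨(pResidual p ↥(sigmaCore H)).map (sigmaCore H).subtype, Subgroup.map_subtype_le _, ?_, ?_, ?_⟩
  · exact fun x hx => Coprime.mem_normalizer_of_conj_mem (by
      rintro _ ⟨y, hy, rfl⟩
      let e : ↥(sigmaCore H) ≃* ↥(sigmaCore H) :=
        (sigmaCore H).normalizerMonoidHom ⟨x, le_normalizer_sigmaCore H hx⟩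
      exact ⟨e y, (Transfer.pResidual_map_equiv e).le ⟨y, hy, rfl⟩, rfl⟩)
  · rw [Core.card_map_subtype]
    exact hp.out.coprime_iff_not_dvd.mp (Transfer.hasNormalPComplement_iff_coprime_pResidual.mp hnpc).symm
  · exact fun X hX hXp x hx => ⟨⟨x, hX hx⟩, Transfer.mem_pResidual_of_coprime (by
      rw [Subgroup.orderOf_mk]
      exact (hp.out.coprime_iff_not_dvd.mpr fun hd => hXp (hd.trans (Subgroup.orderOf_dvd_natCard X hx))).symm), rfl⟩

end Cfsg.Agent.OddLocal.Sigma
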