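import Cfsg.Agent.OddLocal.Sigma.Tau3Sigma

/-! A counting argument: no family of non-conjugate maximal subgroups `L = L_σ Z` covers `Z` (after BG 14.7). -/

set_option autoImplicit false
set_option linter.style.haveILetI false
set_option linter.unusedSectionVars false

namespace Cfsg.Agent.OddLocal.Sigma

open Cfsg
open scoped commutatorElement

variable {G : Type*} [Group G] [Finite G]

/-- The `π`-part of an element is a power of it. -/
theorem exists_pow_part {a b : G} (hc : Commute a b) (h : (orderOf a).Coprime (orderOf b)) :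
    ∃ k : ℕ, (a * b) ^ k = a := by
  obtain ⟨k, hk1, hk0⟩ := Nat.chineseRemainder h 1 0
  refine ⟨k, ?_⟩
  rw [hc.mul_pow, pow_eq_pow_iff_modEq.mpr hk1, pow_one, pow_eq_pow_iff_modEq.mpr hk0, pow_zero, mul_one]

/-- Uniqueness of the `π`-part. -/
theorem part_unique {π : Set ℕ} {a b a' b' : G} (hc : Commute a b) (hc' : Commute a' b') (he : a * b = a' * b')
    (ha : ∀ q : ℕ, q.Prime → q ∣ orderOf a → q ∈ π) (hb : ∀ q : ℕ, q.Prime → q ∣ orderOf b → q ∉ π)
    (ha' : ∀ q : ℕ, q.Prime → q ∣ orderOf a' → q ∈ π) (hb' : ∀ q : ℕ, q.Prime → q ∣ orderOf b' → q ∉ π) :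
    a = a' := by
  have hdvd : ∀ {q m n : ℕ}, q.Prime → q ∣ Nat.lcm m n → q ∣ m ∨ q ∣ n := fun hq hd =>
    hq.dvd_mul.mp (hd.trans (Nat.lcm_dvd_mul _ _))
  have hco : (Nat.lcm (orderOf a) (orderOf a')).Coprime (Nat.lcm (orderOf b) (orderOf b')) :=
    Nat.coprime_of_dvd fun q hq h1 h2 => by
      rcases hdvd hq h1 with h1 | h1 <;> rcases hdvd hq h2 with h2 | h2
      · exact hb q hq h2 (ha q hq h1)
      · exact hb' q hq h2 (ha q hq h1)
      · exact hb q hq h2 (ha' q hq h1)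
      · exact hb' q hq h2 (ha' q hq h1)
  obtain ⟨k, hk1, hk0⟩ := Nat.chineseRemainder hco 1 0
  have h1 : (a * b) ^ k = a := by
    rw [hc.mul_pow, pow_eq_pow_iff_modEq.mpr (hk1.of_dvd (Nat.dvd_lcm_left _ _)), pow_one,
      pow_eq_pow_iff_modEq.mpr (hk0.of_dvd (Nat.dvd_lcm_left _ _)), pow_zero, mul_one]
  have h2 : (a' * b') ^ k = a' := by
    rw [hc'.mul_pow, pow_eq_pow_iff_modEq.mpr (hk1.of_dvd (Nat.dvd_lcm_right _ _)), pow_one,
      pow_eq_pow_iff_modEq.mpr (hk0.of_dvd (Nat.dvd_lcm_right _ _)), pow_zero, mul_one]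
  rw [← h1, he, h2]

theorem conj_mem_cj {g x : G} {H : Subgroup G} (hx : g * x * g⁻¹ ∈ H) : x ∈ cj g⁻¹ H :=
  mem_cj.mpr (by rwa [inv_inv])

theorem orderOf_conj_eq (g x : G) : orderOf (g * x * g⁻¹) = orderOf x :=
  orderOf_injective (MulAut.conj g).toMonoidHom (MulEquiv.injective _) x

variable (hG : IsMinSimpleOddOrder G)
include hG
variable (hpl : ∀ (p : ℕ) [Fact p.Prime] (H : Subgroup G), H ≠ ⊤ → PLengthLE p 1 H)
include hpl

/-- An element of prime order of `L_σ` whose centralizer leaves `L` (BG 14.4). -/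
theorem exists_bad_normalizer {L X : Subgroup G} (hL : IsCoatom L) {q : ℕ} [hq : Fact q.Prime] (hqL : q ∈ sigma L)
    (hX : Nat.card X = q) (hXL : X ≤ L) (hC : ¬ Subgroup.centralizer (X : Set G) ≤ L) :
    ∃ N E : Subgroup G, IsCoatom N ∧ (∀ g : G, N ≠ cj g L) ∧ Subgroup.normalizer (X : Set G) ≤ N ∧
      IsComplIn E (sigmaCore N) N ∧ X ≤ E ∧ E ≤ L ∧ sigmaCore N ⊓ L = ⊥ := by
  have hXp := isPGroup_of_card_prime hX
  have hX1 := ne_bot_of_card_prime hX
  obtain ⟨N, hN, hNX⟩ := (eq_top_or_exists_le_coatom (Subgroup.normalizer (X : Set G))).resolve_left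
    (Core.BG.normalizer_ne_top_of_isPGroup hG hX1 hXp)
  have hne : N ≠ L := fun e => hC ((Subgroup.centralizer_le_normalizer _).trans (e ▸ hNX))
  have hnc := not_conj_of_normalizer_le hG hpl hL hqL hXp hX1 hXL hne hNX
  have hqN : q ∉ sigma N := sigma_disjoint hG hpl hL hN hnc hqL
  have hXN : X ≤ N := Subgroup.le_normalizer.trans hNX
  have hτ : q ∈ tau2 N := by
    rcases mem_classes hG hN hq.out (hX ▸ Subgroup.card_dvd_of_le hXN) with h | h | h | h
    · exact absurd h hqN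
    · exact absurd (cj_one N).symm ((normalizer_tau13 hG hpl hN hN (Or.inl h) hX hNX).1 1)
    · exact h
    · exact absurd (cj_one N).symm ((normalizer_tau13 hG hpl hN hN (Or.inr h) hX hNX).1 1)
  obtain ⟨F, hF, hXF⟩ := exists_compl_ge hG hN hXN (fun t ht hd => eq_prime_of_dvd_card hX ht hd ▸ hqN)
  obtain ⟨A, hAF, hAe, hA2⟩ := exists_ea_le_compl hG hF hτ
  have hXA : X ≤ A := (tau2_compl_facts hG hpl hN hF hτ ⟨hAF, hAe, hA2⟩).1.2 X hXF hX
  obtain ⟨g, hg⟩ := exists_cj_le hqL (Components.ea_isPGroup hAe)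
  obtain ⟨c, hc, e⟩ := transitive hG hL hqL _ X le_rfl hXp hX1 1 g (by rwa [cj_one])
    (hXA.trans hg)
  rw [cj_one] at e
  have hcN : c⁻¹ ∈ N := inv_mem (hNX (Subgroup.centralizer_le_normalizer _ hc))
  set B := cj c⁻¹ A with hB
  have hBe : IsElementaryAbelian q B := PLocal.isEA_map hAe _
  have hB2 : Nat.card B = q ^ 2 := by rw [hB, card_cj, hA2]
  have hBL : B ≤ L := by
    rw [hB, cj_le_iff, inv_inv, ← e]
    exact hg
  have hBN : B ≤ N := (cj_mono (hAF.trans hF.1)).trans (cj_eq_iff.mpr (Subgroup.le_normalizer hcN)).le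
  have hXB : X ≤ B := by
    rw [hB, ← cj_eq_iff.mpr (Subgroup.centralizer_le_normalizer _ (inv_mem hc))]
    exact cj_mono hXA
  obtain ⟨E, hE, hBE⟩ := exists_compl_ge hG hN hBN (fun t ht hd => by
    rw [hB2] at hd
    exact (Nat.prime_dvd_prime_iff_eq ht hq.out).mp (ht.dvd_of_dvd_pow hd) ▸ hqN)
  obtain ⟨A0, hexc⟩ := exists_exc hG hpl hN hqN hBN hBe hB2
  exact ⟨N, E, hN, hnc, hNX, hE, hXB.trans hBE, ((tau2_compl_facts hG hpl hN hE hτ ⟨hBE, hBe, hB2⟩).1.1).trans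
    (normalizer_le_of_noncyclic hG hpl hL hqL (Components.ea_isPGroup hBe) hBL (not_isCyclic_ea_sq hBe hB2)),
    hexc.inf_other_eq_bot hG hpl hL (Ne.symm hne) hBL⟩

/-- The subgroup `R(w)` of BG 14.4 for `w` in `L_σ`. -/
theorem exists_rsub {L : Subgroup G} (hL : IsCoatom L) {w : G} (hw : w ∈ sigmaCore L) (hw1 : w ≠ 1) :
    ∃ V : Subgroup G, V ≤ Subgroup.centralizer ({w} : Set G) ∧ V ⊓ L = ⊥ ∧
      (∀ g : G, w ∈ cj g L → ∃ v ∈ V, ∃ l ∈ L, g = v * l) ∧
      (∀ v ∈ V, ∀ q : ℕ, q.Prime → q ∣ orderOf v → q ∉ sigma L) ∧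
      (V = ⊥ ∨ ∃ (q : ℕ) (x : G) (N : Subgroup G), q.Prime ∧ q ∈ sigma L ∧ orderOf x = q ∧ x ∈ L ∧
        ¬ Subgroup.centralizer ({x} : Set G) ≤ L ∧ IsCoatom N ∧ x ∈ N ∧ V ≤ sigmaCore N) := by
  obtain ⟨q, hq, hd⟩ := Nat.exists_prime_and_dvd (show orderOf w ≠ 1 by rwa [ne_eq, orderOf_eq_one_iff])
  haveI := Fact.mk hq
  set x := w ^ (orderOf w / q)
  have hx : orderOf x = q := orderOf_pow_orderOf_div (orderOf_pos w).ne' hd
  have hwL : w ∈ L := sigmaCore_le L hw
  set X := Subgroup.zpowers x with hXdef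
  have hX : Nat.card X = q := by rw [Nat.card_zpowers, hx]
  have hXL : X ≤ L := Subgroup.zpowers_le.mpr (pow_mem hwL _)
  have hqL : q ∈ sigma L := mem_sigma_of_dvd hq (hd.trans (Subgroup.orderOf_dvd_natCard _ hw))
  have hwX : w ∈ Subgroup.centralizer (X : Set G) := Subgroup.mem_centralizer_iff.mpr (by
    rintro _ ⟨i, rfl⟩
    exact ((Commute.self_pow w _).symm.zpow_left i).eq)
  have hCxX : Subgroup.centralizer ({x} : Set G) = Subgroup.centralizer (X : Set G) :=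
    centralizer_singleton_eq rfl
  have htrans : ∀ g : G, w ∈ cj g L → ∃ c ∈ Subgroup.centralizer (X : Set G), cj g L = cj c L := fun g hg => by
    obtain ⟨c, hc, e⟩ := transitive hG hL hqL _ X le_rfl (isPGroup_of_card_prime hX) (ne_bot_of_card_prime hX) 1 g
      (by rwa [cj_one]) (Subgroup.zpowers_le.mpr (pow_mem hg _))
    exact ⟨c, hc, by rwa [cj_one] at e⟩
  by_cases hC : Subgroup.centralizer (X : Set G) ≤ L
  · refine ⟨⊥, bot_le, bot_inf_eq L, fun g hg => ?_, fun v hv t ht hd' => ?_, Or.inl rfl⟩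
    · obtain ⟨c, hc, e⟩ := htrans g hg
      rw [cj_eq_iff.mpr (Subgroup.le_normalizer (hC hc))] at e
      exact ⟨1, one_mem _, g, mem_of_cj_eq hG hL e, (one_mul g).symm⟩
    · rw [Subgroup.mem_bot.mp hv, orderOf_one] at hd'
      exact absurd hd' ht.not_dvd_one
  obtain ⟨N, E, hN, hnc, hNX, hE, hXE, hEL, hNL⟩ := exists_bad_normalizer hG hpl hL hqL hX hXL hC
  refine ⟨sigmaCore N ⊓ Subgroup.centralizer ({w} : Set G), inf_le_right, ?_, fun g hg => ?_, fun v hv t ht hd' => ?_,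
    Or.inr ⟨q, x, N, hq, hqL, hx, pow_mem hwL _, hCxX ▸ hC, hN,
      Subgroup.le_normalizer.trans hNX (Subgroup.mem_zpowers x), inf_le_left⟩⟩
  · rw [inf_right_comm, hNL, bot_inf_eq]
  · obtain ⟨c, hc, e⟩ := htrans g hg
    obtain ⟨a, ha, d, hd', hcd⟩ := hE.2.2.2 c⁻¹ (inv_mem (hNX (Subgroup.centralizer_le_normalizer _ hc)))
    have hcv : c = d⁻¹ * a⁻¹ := by rw [← mul_inv_rev, ← hcd, inv_inv]
    rw [hcv, cj_mul, cj_eq_iff.mpr (Subgroup.le_normalizer (inv_mem (hEL ha)))] at e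
    have hwN : w ∈ N := hNX (Subgroup.centralizer_le_normalizer _ hwX)
    have hdw : d * w * d⁻¹ ∈ L := by
      have := mem_cj.mp (e ▸ hg)
      rwa [inv_inv] at this
    have h1 : w⁻¹ * (d * w * d⁻¹) ∈ sigmaCore N ⊓ L := by
      refine Subgroup.mem_inf.mpr ⟨?_, L.mul_mem (L.inv_mem hwL) hdw⟩
      rw [show w⁻¹ * (d * w * d⁻¹) = w⁻¹ * d * w * d⁻¹ by group]
      exact mul_mem (by simpa using
        (Subgroup.mem_normalizer_iff.mp (le_normalizer_sigmaCore N (inv_mem hwN)) d).mp hd') (inv_mem hd')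
    rw [hNL, Subgroup.mem_bot, inv_mul_eq_one] at h1
    refine ⟨d⁻¹, Subgroup.mem_inf.mpr ⟨inv_mem hd', (Subgroup.centralizer ({w} : Set G)).inv_mem (Subgroup.mem_centralizer_singleton_iff.mpr ?_)⟩,
      d * g, mem_of_cj_eq hG hL ?_, (inv_mul_cancel_left d g).symm⟩
    · exact (eq_mul_inv_iff_mul_eq.mp h1).symm
    · rw [cj_mul, e, ← cj_mul, mul_inv_cancel, cj_one]
  · haveI := Fact.mk ht
    exact fun h' => sigma_disjoint hG hpl hN hL (cj_nc hnc)
      (mem_sigma_of_dvd ht (hd'.trans (Subgroup.orderOf_dvd_natCard _ hv.1))) h'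

/-- No family of non-conjugate maximal subgroups `L ≤ L_σ Z` over `Z` covers the primes of `Z`. -/
theorem no_covered_intersection {Z : Subgroup G} {𝓛 : Finset (Subgroup G)}
    (h2 : 2 ≤ 𝓛.card) (hco : ∀ L ∈ 𝓛, IsCoatom L) (hZL : ∀ L ∈ 𝓛, Z ≤ L)
    (hsup : ∀ L ∈ 𝓛, L ≤ sigmaCore L ⊔ Z) (hnot : ∀ L ∈ 𝓛, ¬ sigmaCore L ≤ Z)
    (hnc : ∀ L ∈ 𝓛, ∀ L' ∈ 𝓛, L ≠ L' → ∀ g : G, L' ≠ cj g L)
    (hcov : ∀ q : ℕ, q.Prime → q ∣ Nat.card Z → ∃ L ∈ 𝓛, q ∈ sigma L)
    (hgood : ∀ L ∈ 𝓛, ∀ e ∈ sigmaCore L ⊓ Z, e ≠ 1 → Subgroup.centralizer ({e} : Set G) ≤ L)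
    (hint : ∀ L ∈ 𝓛, ∀ L' ∈ 𝓛, L ≠ L' → L ⊓ L' ≤ Z) : False := by
  classical
  haveI : Fintype G := Fintype.ofFinite G
  have hσmem : ∀ {L : Subgroup G}, IsCoatom L → ∀ {a : G}, a ∈ L →
      (∀ q : ℕ, q.Prime → q ∣ orderOf a → q ∈ sigma L) → a ∈ sigmaCore L := fun {L} hL {a} haL ha =>
    le_sigmaCore hG hL (Subgroup.zpowers_le.mpr haL) (fun q hq hd => ha q hq (by rwa [Nat.card_zpowers] at hd))
      (Subgroup.mem_zpowers a)
  have hσord : ∀ {L : Subgroup G}, ∀ {a : G}, a ∈ sigmaCore L → ∀ q : ℕ, q.Prime → q ∣ orderOf a → q ∈ sigma L :=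
    fun {L} {a} ha q hq hd => mem_sigma_of_dvd hq (hd.trans (Subgroup.orderOf_dvd_natCard _ ha))
  -- elements of `L_σ ∩ Z` control their conjugates in `L`
  have hfix : ∀ L ∈ 𝓛, ∀ e ∈ sigmaCore L ⊓ Z, e ≠ 1 → ∀ g : G, g * e * g⁻¹ ∈ L → g ∈ L := by
    intro L hL e he he1 g hg
    obtain ⟨V, hVC, hVL, hdec, -, -⟩ := exists_rsub hG hpl (hco L hL) he.1 he1
    obtain ⟨v, hv, l, hl, hgl⟩ := hdec g⁻¹ (conj_mem_cj hg)
    have : v ∈ V ⊓ L := ⟨hv, hgood L hL e he he1 (hVC hv)⟩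
    rw [hVL, Subgroup.mem_bot] at this
    rw [this, one_mul] at hgl
    exact inv_mem_iff.mp (hgl ▸ hl)
  have hconjZ : ∀ L ∈ 𝓛, ∀ w ∈ sigmaCore L, w ≠ 1 → ∀ m : G, m * w * m⁻¹ ∈ Z →
      Subgroup.centralizer ({w} : Set G) ≤ L := by
    intro L hL w hw hw1 m hm
    have he : m * w * m⁻¹ ∈ sigmaCore L ⊓ Z := ⟨hσmem (hco L hL) (hZL L hL hm) (by
      rw [orderOf_conj_eq]; exact hσord hw), hm⟩
    have he1 : m * w * m⁻¹ ≠ 1 := fun e => hw1 (conj_eq_one_iff.mp e)
    have hmL : m⁻¹ ∈ L := hfix L hL _ he he1 m⁻¹ (by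
      rw [show m⁻¹ * (m * w * m⁻¹) * m⁻¹⁻¹ = w by group]
      exact sigmaCore_le L hw)
    intro c hc
    have hc' : m * c * m⁻¹ ∈ Subgroup.centralizer ({m * w * m⁻¹} : Set G) :=
      Subgroup.mem_centralizer_singleton_iff.mpr (by
        rw [show m * c * m⁻¹ * (m * w * m⁻¹) = m * (c * w) * m⁻¹ by group,
          Subgroup.mem_centralizer_singleton_iff.mp hc]
        group)
    have := hgood L hL _ he he1 hc'
    have h := L.mul_mem (L.mul_mem hmL this) (L.inv_mem hmL)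
    rwa [show m⁻¹ * (m * c * m⁻¹) * m⁻¹⁻¹ = c by group] at h
  choose! V hVC hVL hdec hVord hVN using fun (L : Subgroup G) (hL : L ∈ 𝓛) (w : G) (hw : w ∈ sigmaCore L ∧ w ≠ 1) =>
    exists_rsub hG hpl (hco L hL) hw.1 hw.2
  have hVcomm : ∀ L ∈ 𝓛, ∀ w : G, w ∈ sigmaCore L ∧ w ≠ 1 → ∀ v ∈ V L w, Commute w v := fun L hL w hw v hv =>
    (Subgroup.mem_centralizer_singleton_iff.mp (hVC L hL w hw hv)).symm
  set S : Subgroup G → Finset G := fun L => Finset.univ.filter fun y => ∃ h w : G,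
    (w ∈ sigmaCore L ∧ w ≠ 1) ∧ ∃ v ∈ V L w, y = h * (w * v) * h⁻¹ with hSdef
  set A : Finset G := Finset.univ.filter fun a => a ∈ Z ∧ a ≠ 1 ∧ ∀ L ∈ 𝓛, a ∉ sigmaCore L with hAdef
  set AG : Finset G := Finset.univ.filter fun u => ∃ h : G, ∃ a ∈ A, u = h * a * h⁻¹ with hAGdef
  set T : Subgroup G → Finset G := fun L => Finset.univ.filter fun e => e ∈ sigmaCore L ⊓ Z ∧ e ≠ 1 with hTdef
  have hnat : ∀ (K : Subgroup G), (Finset.univ.filter fun e => e ∈ K).card = Nat.card K := fun K => by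
    rw [← Fintype.card_subtype, Nat.card_eq_fintype_card]
  -- `A` is large
  have hA : Nat.card Z + 𝓛.card ≤ A.card + 1 + ∑ L ∈ 𝓛, Nat.card ↥(sigmaCore L ⊓ Z) := by
    have hsub : (Finset.univ.filter fun e => e ∈ Z) ⊆ insert 1 (A ∪ 𝓛.biUnion T) := by
      intro e he
      rw [Finset.mem_filter] at he
      by_cases he1 : e = 1
      · exact Finset.mem_insert.mpr (Or.inl he1)
      refine Finset.mem_insert.mpr (Or.inr (Finset.mem_union.mpr ?_))
      by_cases hex : ∀ L ∈ 𝓛, e ∉ sigmaCore L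
      · exact Or.inl (Finset.mem_filter.mpr ⟨Finset.mem_univ _, he.2, he1, hex⟩)
      push Not at hex
      obtain ⟨L, hL, heL⟩ := hex
      exact Or.inr (Finset.mem_biUnion.mpr ⟨L, hL, Finset.mem_filter.mpr ⟨Finset.mem_univ _, ⟨heL, he.2⟩, he1⟩⟩)
    have h1 := (Finset.card_le_card hsub).trans ((Finset.card_insert_le _ _).trans
      (Nat.add_le_add_right ((Finset.card_union_le _ _).trans (Nat.add_le_add_left Finset.card_biUnion_le _)) 1))
    rw [hnat] at h1
    have hT : ∀ L : Subgroup G, (T L).card + 1 = Nat.card ↥(sigmaCore L ⊓ Z) := fun L => by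
      rw [← hnat (sigmaCore L ⊓ Z), ← Finset.card_erase_add_one (s := Finset.univ.filter fun e => e ∈ sigmaCore L ⊓ Z)
        (Finset.mem_filter.mpr ⟨Finset.mem_univ 1, one_mem _⟩)]
      congr 2
      ext e
      simp only [hTdef, Finset.mem_filter, Finset.mem_univ, true_and, Finset.mem_erase]
      tauto
    have h2 : ∑ L ∈ 𝓛, Nat.card ↥(sigmaCore L ⊓ Z) = ∑ L ∈ 𝓛, (T L).card + 𝓛.card := by
      rw [Finset.card_eq_sum_ones 𝓛, ← Finset.sum_add_distrib]
      exact Finset.sum_congr rfl fun L _ => (hT L).symm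
    omega
  -- conjugates of `A`
  have hTI : ∀ a ∈ A, ∀ g : G, g * a * g⁻¹ ∈ Z → g ∈ Z := by
    intro a ha g hg
    obtain ⟨-, haZ, ha1, haL⟩ := Finset.mem_filter.mp ha
    have hkey : ∀ q : ℕ, q.Prime → q ∣ orderOf a → ∀ L ∈ 𝓛, q ∈ sigma L → g ∈ L := by
      intro q hq hd L hL hqL
      have he : orderOf (a ^ (orderOf a / q)) = q := orderOf_pow_orderOf_div (orderOf_pos a).ne' hd
      refine hfix L hL _ ⟨hσmem (hco L hL) (hZL L hL (pow_mem haZ _)) (fun t ht hd' => ?_), pow_mem haZ _⟩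
        (fun e => hq.one_lt.ne (by rw [← he, e, orderOf_one])) g ?_
      · rw [he] at hd'
        rwa [(Nat.prime_dvd_prime_iff_eq ht hq).mp hd']
      · rw [← conj_pow]
        exact hZL L hL (pow_mem hg _)
    have hex : ∀ L ∈ 𝓛, ∃ q : ℕ, q.Prime ∧ q ∣ orderOf a ∧ q ∉ sigma L := fun L hL => by
      by_contra hc
      push Not at hc
      exact haL L hL (hσmem (hco L hL) (hZL L hL haZ) hc)
    have hdZ : orderOf a ∣ Nat.card Z := Subgroup.orderOf_dvd_natCard Z haZ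
    obtain ⟨q, hq, hd⟩ := Nat.exists_prime_and_dvd (show orderOf a ≠ 1 by rwa [ne_eq, orderOf_eq_one_iff])
    obtain ⟨L, hL, hqL⟩ := hcov q hq (hd.trans hdZ)
    obtain ⟨q', hq', hd', hq'L⟩ := hex L hL
    obtain ⟨L', hL', hq'L'⟩ := hcov q' hq' (hd'.trans hdZ)
    exact hint L hL L' hL' (fun e => hq'L (e ▸ hq'L')) ⟨hkey q hq hd L hL hqL, hkey q' hq' hd' L' hL' hq'L'⟩
  have hAG : Nat.card G * A.card ≤ Nat.card Z * AG.card := by
    choose! h₀ a₀ ha₀ hu₀ using fun (u : G) (hu : u ∈ AG) => (Finset.mem_filter.mp hu).2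
    have hmem : ∀ p ∈ Finset.univ ×ˢ A, p.1 * p.2 * p.1⁻¹ ∈ AG := fun p hp =>
      Finset.mem_filter.mpr ⟨Finset.mem_univ _, p.1, p.2, (Finset.mem_product.mp hp).2, rfl⟩
    have := Finset.card_le_card_of_injOn (s := (Finset.univ : Finset G) ×ˢ A)
      (t := (Finset.univ.filter fun e => e ∈ Z) ×ˢ AG)
      (fun p => ((h₀ (p.1 * p.2 * p.1⁻¹))⁻¹ * p.1, p.1 * p.2 * p.1⁻¹)) (fun p hp => by
        simp only [Finset.mem_coe] at hp ⊢
        refine Finset.mem_product.mpr ⟨Finset.mem_filter.mpr ⟨Finset.mem_univ _,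
          hTI p.2 (Finset.mem_product.mp hp).2 _ ?_⟩, hmem p hp⟩
        have hu := hu₀ _ (hmem p hp)
        set u := p.1 * p.2 * p.1⁻¹ with hu'
        have hkey : (h₀ u)⁻¹ * u * h₀ u = a₀ u :=
          (congrArg (fun z => (h₀ u)⁻¹ * z * h₀ u) hu).trans (by group)
        rw [show (h₀ u)⁻¹ * p.1 * p.2 * ((h₀ u)⁻¹ * p.1)⁻¹ = (h₀ u)⁻¹ * u * h₀ u by rw [hu']; group, hkey]
        exact (Finset.mem_filter.mp (ha₀ _ (hmem p hp))).2.1)
      (fun p hp p' hp' he => by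
        simp only [Prod.mk.injEq] at he
        obtain ⟨h1, h2⟩ := he
        rw [h2] at h1
        have h3 : p.1 = p'.1 := mul_left_cancel h1
        refine Prod.ext h3 ?_
        rw [h3] at h2
        exact mul_left_cancel (mul_right_cancel h2))
    rw [Finset.card_product, Finset.card_product, hnat, Finset.card_univ, ← Nat.card_eq_fintype_card] at this
    exact this
  -- conjugates of `L_σ`
  have hSL : ∀ L ∈ 𝓛, Nat.card G * (Nat.card (sigmaCore L) - 1) ≤ (S L).card * Nat.card L := by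
    intro L hL
    set W : Finset G := Finset.univ.filter fun w => w ∈ sigmaCore L ∧ w ≠ 1 with hW
    set U : Finset G := Finset.univ.filter fun u => ∃ h : G, ∃ w ∈ W, u = h * w * h⁻¹ with hU
    choose! h₀ w₀ hw₀ hu₀ using fun (u : G) (hu : u ∈ U) => (Finset.mem_filter.mp hu).2
    have hdata : ∀ p ∈ (Finset.univ : Finset G) ×ˢ W,
        ∃ v l : G, v ∈ V L (w₀ (p.1 * p.2 * p.1⁻¹)) ∧ l ∈ L ∧ (h₀ (p.1 * p.2 * p.1⁻¹))⁻¹ * p.1 = v * l := by
      intro p hp
      obtain ⟨-, hpW⟩ := Finset.mem_product.mp hp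
      have hmem : p.1 * p.2 * p.1⁻¹ ∈ U := Finset.mem_filter.mpr ⟨Finset.mem_univ _, p.1, p.2, hpW, rfl⟩
      set u := p.1 * p.2 * p.1⁻¹ with hu'
      obtain ⟨-, hw0⟩ := Finset.mem_filter.mp (hw₀ _ hmem)
      obtain ⟨v, hv, l, hl, he⟩ := hdec L hL _ hw0 ((h₀ u)⁻¹ * p.1) (mem_cj.mpr (by
        rw [show ((h₀ u)⁻¹ * p.1)⁻¹ * w₀ u * ((h₀ u)⁻¹ * p.1) = p.1⁻¹ * (h₀ u * w₀ u * (h₀ u)⁻¹) * p.1 by group,
          ← hu₀ _ hmem, hu', show p.1⁻¹ * (p.1 * p.2 * p.1⁻¹) * p.1 = p.2 by group]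
        exact sigmaCore_le L (Finset.mem_filter.mp hpW).2.1))
      exact ⟨v, l, hv, hl, he⟩
    choose! fv fl hfv hfl hfe using hdata
    have := Finset.card_le_card_of_injOn (s := (Finset.univ : Finset G) ×ˢ W)
      (t := S L ×ˢ (Finset.univ.filter fun e => e ∈ L))
      (fun p => (h₀ (p.1 * p.2 * p.1⁻¹) * (w₀ (p.1 * p.2 * p.1⁻¹) * fv p) * (h₀ (p.1 * p.2 * p.1⁻¹))⁻¹, fl p))
      (fun p hp => by
        simp only [Finset.mem_coe] at hp ⊢
        obtain ⟨-, hpW⟩ := Finset.mem_product.mp hp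
        refine Finset.mem_product.mpr ⟨Finset.mem_filter.mpr ⟨Finset.mem_univ _, _, _,
          (Finset.mem_filter.mp (hw₀ _ ?_)).2, fv p, hfv p hp, rfl⟩,
          Finset.mem_filter.mpr ⟨Finset.mem_univ _, hfl p hp⟩⟩
        exact Finset.mem_filter.mpr ⟨Finset.mem_univ _, p.1, p.2, hpW, rfl⟩)
      (fun p hp p' hp' he => by
        simp only [Finset.mem_coe] at hp hp'
        simp only [Prod.mk.injEq] at he
        obtain ⟨he1, he2⟩ := he
        obtain ⟨-, hpW⟩ := Finset.mem_product.mp hp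
        obtain ⟨-, hpW'⟩ := Finset.mem_product.mp hp'
        have hm : p.1 * p.2 * p.1⁻¹ ∈ U := Finset.mem_filter.mpr ⟨Finset.mem_univ _, p.1, p.2, hpW, rfl⟩
        have hm' : p'.1 * p'.2 * p'.1⁻¹ ∈ U := Finset.mem_filter.mpr ⟨Finset.mem_univ _, p'.1, p'.2, hpW', rfl⟩
        set u := p.1 * p.2 * p.1⁻¹ with hu
        set u' := p'.1 * p'.2 * p'.1⁻¹ with hu'
        have hw := (Finset.mem_filter.mp (hw₀ _ hm)).2
        have hw' := (Finset.mem_filter.mp (hw₀ _ hm')).2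
        have huu : u = u' := by
          rw [hu₀ _ hm, hu₀ _ hm']
          refine part_unique (π := sigma L) (b := h₀ u * fv p * (h₀ u)⁻¹) (b' := h₀ u' * fv p' * (h₀ u')⁻¹)
            ((hVcomm L hL _ hw _ (hfv p hp)).map (MulAut.conj (h₀ u)).toMonoidHom)
            ((hVcomm L hL _ hw' _ (hfv p' hp')).map (MulAut.conj (h₀ u')).toMonoidHom) ?_ ?_ ?_ ?_ ?_
          · have hcm : ∀ a b c : G, a * b * a⁻¹ * (a * c * a⁻¹) = a * (b * c) * a⁻¹ := fun a b c => by group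
            rw [hcm, hcm]; exact he1
          all_goals rw [orderOf_conj_eq]
          exacts [hσord hw.1, hVord L hL _ hw _ (hfv p hp), hσord hw'.1, hVord L hL _ hw' _ (hfv p' hp')]
        rw [← huu] at he1
        have hv : fv p = fv p' := mul_left_cancel (mul_left_cancel (mul_right_cancel he1))
        have e1 := hfe p hp
        have e2 := hfe p' hp'
        rw [← hu] at e1
        rw [← hu', ← huu, ← hv, ← he2, ← e1] at e2
        have h3 : p.1 = p'.1 := (mul_left_cancel e2).symm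
        refine Prod.ext h3 ?_
        have h4 : p.1 * p.2 * p.1⁻¹ = p'.1 * p'.2 * p'.1⁻¹ := huu
        rw [h3] at h4
        exact mul_left_cancel (mul_right_cancel h4))
    rw [Finset.card_product, Finset.card_product, hnat, Finset.card_univ, ← Nat.card_eq_fintype_card] at this
    refine le_trans (le_of_eq ?_) this
    congr 1
    rw [← hnat (sigmaCore L), ← Finset.card_erase_of_mem (s := Finset.univ.filter fun e => e ∈ sigmaCore L)
      (Finset.mem_filter.mpr ⟨Finset.mem_univ 1, one_mem _⟩)]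
    congr 1
    ext e
    simp only [hW, Finset.mem_filter, Finset.mem_univ, true_and, Finset.mem_erase]
    tauto
  -- disjointness
  have hne1 : ∀ L ∈ 𝓛, (1 : G) ∉ S L := fun L hL h1 => by
    obtain ⟨-, h, w, hw, v, hv, he⟩ := Finset.mem_filter.mp h1
    have h2 : w * v = 1 := conj_eq_one_iff.mp he.symm
    refine hw.2 ?_
    exact part_unique (π := sigma L) (hVcomm L hL w hw v hv) (Commute.one_left 1) (by rw [h2, one_mul])
      (hσord hw.1) (hVord L hL w hw v hv) (fun q hq hd => absurd (orderOf_one (G := G) ▸ hd) hq.not_dvd_one)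
      (fun q hq hd => absurd (orderOf_one (G := G) ▸ hd) hq.not_dvd_one)
  have hAS : ∀ L ∈ 𝓛, Disjoint AG (S L) := fun L hL => Finset.disjoint_left.mpr fun y hyA hyS => by
    obtain ⟨-, g, a, ha, rfl⟩ := Finset.mem_filter.mp hyA
    obtain ⟨-, h, w, hw, v, hv, he⟩ := Finset.mem_filter.mp hyS
    obtain ⟨-, haZ, -, haL⟩ := Finset.mem_filter.mp ha
    have hc := hVcomm L hL w hw v hv
    obtain ⟨k, hk⟩ := exists_pow_part hc (Nat.coprime_of_dvd fun q hq h1 h2 =>
      hVord L hL w hw v hv q hq h2 (hσord hw.1 q hq h1))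
    have ha' : a = g⁻¹ * h * (w * v) * (g⁻¹ * h)⁻¹ := by
      rw [show g⁻¹ * h * (w * v) * (g⁻¹ * h)⁻¹ = g⁻¹ * (h * (w * v) * h⁻¹) * g by group, ← he]
      group
    set m := g⁻¹ * h
    have hwZ : m * w * m⁻¹ ∈ Z := by
      rw [← hk, ← conj_pow, ← ha']
      exact pow_mem haZ k
    have hv1 : v = 1 := by
      have : v ∈ V L w ⊓ L := ⟨hv, hconjZ L hL w hw.1 hw.2 m hwZ (hVC L hL w hw hv)⟩
      rwa [hVL L hL w hw, Subgroup.mem_bot] at this
    rw [hv1, mul_one] at ha'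
    refine haL L hL (hσmem (hco L hL) (hZL L hL haZ) ?_)
    rw [ha', orderOf_conj_eq]
    exact hσord hw.1
  have hSS : ∀ L ∈ 𝓛, ∀ L' ∈ 𝓛, L ≠ L' → Disjoint (S L) (S L') := fun L hL L' hL' hne =>
    Finset.disjoint_left.mpr fun y hy hy' => by
      obtain ⟨-, h, w, hw, v, hv, rfl⟩ := Finset.mem_filter.mp hy
      obtain ⟨-, h', w', hw', v', hv', he⟩ := Finset.mem_filter.mp hy'
      obtain ⟨k, hk⟩ := exists_pow_part (hVcomm L' hL' w' hw' v' hv') (Nat.coprime_of_dvd fun q hq h1 h2 =>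
        hVord L' hL' w' hw' v' hv' q hq h2 (hσord hw'.1 q hq h1))
      set m := h⁻¹ * h'
      have hwv : w * v = m * (w' * v') * m⁻¹ := by
        rw [show m * (w' * v') * m⁻¹ = h⁻¹ * (h' * (w' * v') * h'⁻¹) * h by simp only [m]; group, ← he]
        group
      set u := m * w' * m⁻¹ with hudef
      have hu : u = w ^ k * v ^ k := by
        rw [← (hVcomm L hL w hw v hv).mul_pow, hwv, conj_pow, hk]
      have hdisj : (orderOf w).Coprime (orderOf u) := Nat.coprime_of_dvd fun q hq h1 h2 => by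
        haveI := Fact.mk hq
        rw [hudef, orderOf_conj_eq] at h2
        exact sigma_disjoint hG hpl (hco L hL) (hco L' hL') (hnc L hL L' hL' hne) (hσord hw.1 q hq h1)
          (hσord hw'.1 q hq h2)
      obtain ⟨j, hj⟩ := exists_pow_eq_self_of_coprime hdisj
      have huv : u ∈ Subgroup.zpowers v := by
        have h3 : u ^ orderOf w = v ^ (k * orderOf w) := by
          rw [hu, ((hVcomm L hL w hw v hv).pow_pow k k).mul_pow, ← pow_mul, ← pow_mul, mul_comm k,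
            pow_mul w, pow_orderOf_eq_one, one_pow, one_mul]
        rw [← hj, h3]
        exact pow_mem (pow_mem (Subgroup.mem_zpowers v) _) j
      have hu1 : u ≠ 1 := fun e => hw'.2 (conj_eq_one_iff.mp e)
      rcases hVN L hL w hw with hV | ⟨q, x, N, hq, hqL, hx, hxL, hCx, hN, hxN, hVNσ⟩
      · rw [hV] at hv
        rw [Subgroup.mem_bot.mp hv, Subgroup.zpowers_one_eq_bot, Subgroup.mem_bot] at huv
        exact hu1 huv
      haveI := Fact.mk hq
      obtain ⟨t, ht, hd⟩ := Nat.exists_prime_and_dvd (show orderOf u ≠ 1 by rwa [ne_eq, orderOf_eq_one_iff])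
      haveI := Fact.mk ht
      have htN : t ∈ sigma N := hσord (Subgroup.zpowers_le.mpr (hVNσ hv) huv) t ht hd
      have htL : t ∈ sigma L' := hσord hw'.1 t ht (by rwa [hudef, orderOf_conj_eq] at hd)
      by_cases hconj : ∀ g : G, N ≠ cj g L'
      · exact sigma_disjoint hG hpl (hco L' hL') hN hconj htL htN
      push Not at hconj
      obtain ⟨c, hc⟩ := hconj
      have hqL' : q ∉ sigma L' := sigma_disjoint hG hpl (hco L hL) (hco L' hL') (hnc L hL L' hL' hne) hqL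
      obtain ⟨P, -⟩ := exists_sylow_map_ge (p := q) (M := Z) (IsPGroup.of_bot : IsPGroup q (⊥ : Subgroup G)) bot_le
      set Q := (P : Subgroup Z).map Z.subtype with hQ
      have hQZ : Q ≤ Z := Subgroup.map_subtype_le _
      have hidx : ¬ q ∣ Q.relIndex L' := fun hdvd => by
        rw [← Subgroup.relIndex_mul_relIndex Q Z L' hQZ (hZL L' hL')] at hdvd
        rcases hq.dvd_mul.mp hdvd with hd1 | hd1
        · refine P.not_dvd_index ?_
          rwa [hQ, Subgroup.relIndex, show Subgroup.subgroupOf ((P : Subgroup Z).map Z.subtype) Z = (P : Subgroup Z)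
            from Subgroup.comap_map_eq_self_of_injective Z.subtype_injective _] at hd1
        · have hle : Z ⊔ sigmaCore L' = L' :=
            le_antisymm (sup_le (hZL L' hL') (sigmaCore_le L')) ((hsup L' hL').trans (le_of_eq (sup_comm _ _)))
          have h5 : Z.relIndex L' ∣ Nat.card (sigmaCore L') := by
            haveI : ((sigmaCore L').subgroupOf L').Normal :=
              Subgroup.normal_subgroupOf_of_le_normalizer (le_normalizer_sigmaCore L')
            have h := Core.card_sup_dvd_mul (Z.subgroupOf L') ((sigmaCore L').subgroupOf L')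
            rw [← Subgroup.subgroupOf_sup (hZL L' hL') (sigmaCore_le L'), hle, Subgroup.subgroupOf_self,
              Subgroup.card_top, Core.card_subgroupOf (hZL L' hL'), Core.card_subgroupOf (sigmaCore_le L'),
              ← Core.card_mul_relIndex (hZL L' hL')] at h
            exact Nat.dvd_of_mul_dvd_mul_left Nat.card_pos h
          exact hqL' (mem_sigma_of_dvd hq (hd1.trans h5))
      obtain ⟨n, -, hn⟩ := exists_cj_le_of_not_dvd_relIndex (B := Subgroup.zpowers (c⁻¹ * x * c))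
        (hQZ.trans (hZL L' hL')) (P.isPGroup'.map _) hidx (Subgroup.zpowers_le.mpr (mem_cj.mp (hc ▸ hxN)))
        (IsPGroup.of_card (by rw [Nat.card_zpowers, show c⁻¹ * x * c = c⁻¹ * x * c⁻¹⁻¹ by rw [inv_inv],
          orderOf_conj_eq, hx, pow_one]))
      refine hCx (hconjZ L hL x (hσmem (hco L hL) hxL fun t ht hd => ?_) (fun e => hq.one_lt.ne (by
        rw [← hx, e, orderOf_one])) (n * c⁻¹) ?_)
      · rw [hx] at hd
        rwa [(Nat.prime_dvd_prime_iff_eq ht hq).mp hd]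
      · rw [show n * c⁻¹ * x * (n * c⁻¹)⁻¹ = n * (c⁻¹ * x * c) * n⁻¹ by group]
        exact hQZ (hn ⟨_, Subgroup.mem_zpowers _, rfl⟩)
  have hUnion : 1 + AG.card + ∑ L ∈ 𝓛, (S L).card ≤ Nat.card G := by
    have h1 : Disjoint AG (𝓛.biUnion S) := Finset.disjoint_biUnion_right _ _ _ |>.mpr hAS
    have h2 : (1 : G) ∉ AG ∪ 𝓛.biUnion S := fun h => by
      rcases Finset.mem_union.mp h with h | h
      · obtain ⟨-, g, a, ha, he⟩ := Finset.mem_filter.mp h
        exact (Finset.mem_filter.mp ha).2.2.1 (conj_eq_one_iff.mp he.symm)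
      · obtain ⟨L, hL, hm⟩ := Finset.mem_biUnion.mp h
        exact hne1 L hL hm
    have h3 : (insert (1 : G) (AG ∪ 𝓛.biUnion S)).card ≤ Nat.card G := by
      rw [Nat.card_eq_fintype_card]; exact Finset.card_le_univ _
    rw [Finset.card_insert_of_notMem h2, Finset.card_union_of_disjoint h1,
      Finset.card_biUnion (fun L hL L' hL' hne => hSS L hL L' hL' hne)] at h3
    omega
  have hL3 : ∀ L ∈ 𝓛, Nat.card G * (3 * Nat.card ↥(sigmaCore L ⊓ Z)) ≤
      3 * Nat.card Z * (S L).card + Nat.card G := by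
    intro L hL
    set n := Nat.card ↥(sigmaCore L ⊓ Z)
    set s := Nat.card (sigmaCore L)
    have hn : 0 < n := Nat.card_pos
    obtain ⟨j, hj⟩ := Subgroup.card_dvd_of_le (inf_le_left : sigmaCore L ⊓ Z ≤ sigmaCore L)
    have hj3 : 3 ≤ j := by
      have hodd : Odd j := (hG.1.of_dvd_nat (Subgroup.card_subgroup_dvd_card (sigmaCore L))).of_dvd_nat
        ⟨n, by rw [hj, mul_comm]⟩
      rcases hodd with ⟨i, rfl⟩
      rcases Nat.eq_zero_or_pos i with rfl | hi
      · exfalso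
        refine hnot L hL ?_
        have := Subgroup.eq_of_le_of_card_ge (inf_le_left : sigmaCore L ⊓ Z ≤ sigmaCore L) (by
          change s ≤ n; change s = n * (2 * 0 + 1) at hj; omega)
        exact this ▸ inf_le_right
      · omega
    have hle : Z ⊔ sigmaCore L = L :=
      le_antisymm (sup_le (hZL L hL) (sigmaCore_le L)) ((hsup L hL).trans (le_of_eq (sup_comm _ _)))
    have hcard : Nat.card L * n = s * Nat.card Z := by
      haveI : ((sigmaCore L).subgroupOf L).Normal :=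
        Subgroup.normal_subgroupOf_of_le_normalizer (le_normalizer_sigmaCore L)
      have h := Core.card_sup_mul_card_inf (Z.subgroupOf L) ((sigmaCore L).subgroupOf L)
      rw [← Subgroup.subgroupOf_sup (hZL L hL) (sigmaCore_le L), hle, Subgroup.subgroupOf_self, Subgroup.card_top,
        Core.card_subgroupOf (hZL L hL), Core.card_subgroupOf (sigmaCore_le L),
        show Z.subgroupOf L ⊓ (sigmaCore L).subgroupOf L = (sigmaCore L ⊓ Z).subgroupOf L from by
          rw [inf_comm]; rfl,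
        Core.card_subgroupOf (inf_le_left.trans (sigmaCore_le L))] at h
      rw [h, mul_comm]
    have h4 : Nat.card G * (s - 1) * n ≤ (S L).card * (s * Nat.card Z) := by
      rw [← hcard, ← mul_assoc]
      exact Nat.mul_le_mul_right n (hSL L hL)
    have hs : 3 * n ≤ s := by rw [show s = n * j from hj, mul_comm 3 n]; exact Nat.mul_le_mul_left n hj3
    obtain ⟨s', hs'⟩ : ∃ s', s = s' + 1 := ⟨s - 1, by omega⟩
    rw [hs', Nat.add_sub_cancel] at h4
    have h5 : Nat.card G * (3 * n) * s ≤ (3 * Nat.card Z * (S L).card + Nat.card G) * s := by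
      rw [hs'] at hs ⊢
      nlinarith [h4, Nat.mul_le_mul_left (Nat.card G) hs]
    exact Nat.le_of_mul_le_mul_right h5 (by omega)
  have hsum := Finset.sum_le_sum hL3
  rw [← Finset.mul_sum, ← Finset.mul_sum, Finset.sum_add_distrib, ← Finset.mul_sum, Finset.sum_const,
    smul_eq_mul] at hsum
  have hg : 0 < Nat.card G := Nat.card_pos
  have hz : 0 < Nat.card Z := Nat.card_pos
  nlinarith [Nat.mul_le_mul_left (3 * Nat.card G) hA, Nat.mul_le_mul_left (3 * Nat.card Z) hUnion, hAG, hsum,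
    Nat.mul_le_mul_left (Nat.card G) h2]

end Cfsg.Agent.OddLocal.Sigma
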