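import Cfsg.Agent.OddLocal.Sigma.Kappa

/-! Standard factorisations `M = K U M_σ` and normalizers of subgroups of `K` (BG 14.2). -/

set_option autoImplicit false
set_option linter.style.haveILetI false
set_option linter.unusedSectionVars false

namespace Cfsg.Agent.OddLocal.Sigma

open Cfsg
open scoped commutatorElement

variable {G : Type*} [Group G] [Finite G] (hG : IsMinSimpleOddOrder G)
include hG
variable (hpl : ∀ (p : ℕ) [Fact p.Prime] (H : Subgroup G), H ≠ ⊤ → PLengthLE p 1 H)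
include hpl

/-- In a standard factorisation `K U` is a complement of `M_σ`, and the primes of `U` avoid `σ(M) ∪ κ(M)`. -/
theorem decomp_facts {M K U : Subgroup G} (hM : IsCoatom M) (h : IsSigmaDecomposition M K U) :
    IsComplIn (U ⊔ K) (sigmaCore M) M ∧
      (∀ q : ℕ, q.Prime → q ∣ Nat.card U → q ∉ sigma M ∧ q ∉ kappa M) ∧ K ⊓ U = ⊥ := by
  obtain ⟨-, hK, hU, hn⟩ := h
  have hKσ : K ⊓ sigmaCore M = ⊥ := Coprime.inf_eq_bot_of_coprime (Nat.coprime_of_dvd fun q hq h1 h2 =>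
    (hK.2.1 q hq h2).2.2.1 (mem_sigma_of_dvd hq h1))
  have hKN : K ≤ Subgroup.normalizer (sigmaCore M : Set G) := hK.1.trans (le_normalizer_sigmaCore M)
  have hcard : Nat.card M = Nat.card U * (Nat.card K * Nat.card (sigmaCore M)) := by
    have hKS : Nat.card ↥(K ⊔ sigmaCore M) = Nat.card K * Nat.card (sigmaCore M) := by
      rw [sup_comm, Coprime.card_sup hKN (by rw [inf_comm]; exact hKσ), mul_comm]
    rw [← hKS, ← Nat.card_prod]
    refine (Nat.card_eq_of_bijective (fun x : U × ↥(K ⊔ sigmaCore M) =>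
      (⟨(x.1 : G) * x.2, M.mul_mem (hU.1 x.1.2) (hU.2.1 x.2.2)⟩ : M)) ⟨?_, ?_⟩).symm
    · rintro ⟨a, b⟩ ⟨a', b'⟩ e
      have e' : (a : G) * b = a' * b' := congrArg Subtype.val e
      have h1 : (a' : G)⁻¹ * a ∈ U ⊓ (K ⊔ sigmaCore M) := Subgroup.mem_inf.mpr ⟨U.mul_mem (U.inv_mem a'.2) a.2, by
        rw [show (a' : G)⁻¹ * a = b' * (b : G)⁻¹ by
          rw [eq_mul_inv_iff_mul_eq, mul_assoc, e', inv_mul_cancel_left]]
        exact mul_mem b'.2 (inv_mem b.2)⟩
      rw [hU.2.2.1, Subgroup.mem_bot, inv_mul_eq_one] at h1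
      rw [h1] at e'
      exact Prod.ext (Subtype.ext h1.symm) (Subtype.ext (mul_left_cancel e'))
    · rintro ⟨m, hm⟩
      obtain ⟨a, ha, b, hb, rfl⟩ := hU.2.2.2 m hm
      exact ⟨(⟨a, ha⟩, ⟨b, hb⟩), rfl⟩
  have hUp : ∀ q : ℕ, q.Prime → q ∣ Nat.card U → q ∉ sigma M ∧ q ∉ kappa M := fun q hq hd => by
    refine ⟨fun hσ => ?_, fun hκ => ?_⟩
    · refine (sigmaCore_hall hG hM).2 q hq hσ (hd.trans ?_)
      refine Nat.dvd_of_mul_dvd_mul_left (Nat.card_pos (α := ↥(piCore (sigma M) M))) ?_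
      rw [Subgroup.card_mul_index, hcard,
        show Nat.card (sigmaCore M) = Nat.card ↥(piCore (sigma M) M) from Core.card_map_subtype _]
      exact Dvd.intro (Nat.card K) (by ring)
    · refine hK.2.2 q hq hκ (hd.trans ?_)
      refine Nat.dvd_of_mul_dvd_mul_left (Nat.card_pos (α := ↥K)) ?_
      rw [Core.card_mul_relIndex hK.1, hcard]
      exact Dvd.intro (Nat.card (sigmaCore M)) (by ring)
  refine ⟨⟨sup_le hU.1 hK.1, sigmaCore_le M, Coprime.inf_eq_bot_of_coprime (Nat.coprime_of_dvd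
    fun q hq h1 h2 => ?_), fun m hm => ?_⟩, hUp, Coprime.inf_eq_bot_of_coprime (Nat.coprime_of_dvd
      fun q hq h1 h2 => (hUp q hq h1).2 (hK.2.1 q hq h2))⟩
  · have hd : q ∣ Nat.card U * Nat.card K := h2.trans (dvd_of_eq (Coprime.card_sup hn (by
      rw [inf_comm]
      exact Coprime.inf_eq_bot_of_coprime (Nat.coprime_of_dvd fun t ht t1 t2 => (hUp t ht t1).2 (hK.2.1 t ht t2)))))
    have hσ := mem_sigma_of_dvd hq h1
    rcases hq.dvd_mul.mp hd with h3 | h3
    exacts [(hUp q hq h3).1 hσ, (hK.2.1 q hq h3).2.2.1 hσ]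
  · obtain ⟨a, ha, b, hb, rfl⟩ := hU.2.2.2 m hm
    rw [sup_comm K] at hb
    obtain ⟨d, hd, c, hc, rfl⟩ := Coprime.exists_mul_of_mem_sup hKN hb
    refine ⟨a * c, mul_mem (Subgroup.mem_sup_left ha) (Subgroup.mem_sup_right hc), c⁻¹ * d * c, ?_, by group⟩
    have := (Subgroup.mem_normalizer_iff.mp (hKN (inv_mem hc)) d).mp hd
    rwa [inv_inv] at this

/-- Existence of a standard factorisation over a given `K`. -/
theorem exists_decomp {M K : Subgroup G} (hM : IsCoatom M) (hKc : IsCyclic K) (hK : IsPiHallOf (kappa M) K M) :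
    ∃ U : Subgroup G, IsSigmaDecomposition M K U := by
  obtain ⟨E, hE, hKE⟩ := exists_compl_ge hG hM hK.1 (fun q hq hd => (hK.2.1 q hq hd).2.2.1)
  by_cases hK1 : K = ⊥
  · subst hK1
    refine ⟨E, hKc, hK, ?_, bot_le⟩
    rw [bot_sup_eq]
    exact hE
  obtain ⟨U, hUE, hEU, -, hUH, hKU, hprod, -⟩ := exists_normal_kappa_compl hG hpl hM hK hK1 hE hKE
  refine ⟨U, hKc, hK, ⟨hUE.trans hE.1, sup_le hK.1 (sigmaCore_le M), ?_, fun m hm => ?_⟩, hKE.trans hEU⟩
  · refine Coprime.inf_eq_bot_of_coprime (Nat.coprime_of_dvd fun q hq h1 h2 => ?_)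
    obtain ⟨-, hκ, hσ⟩ := hUH.2.1 q hq h2
    have hd : q ∣ Nat.card (sigmaCore M) * Nat.card K := by
      refine h1.trans (dvd_of_eq ?_)
      rw [sup_comm, Coprime.card_sup (hK.1.trans (le_normalizer_sigmaCore M))]
      exact Coprime.inf_eq_bot_of_coprime (Nat.coprime_of_dvd fun t ht t1 t2 =>
        (hK.2.1 t ht t1).2.2.1 (mem_sigma_of_dvd ht t2))
    rcases hq.dvd_mul.mp hd with h3 | h3
    exacts [hσ (mem_sigma_of_dvd hq h3), hκ (hK.2.1 q hq h3)]
  · obtain ⟨e, he, d, hd, rfl⟩ := hE.2.2.2 m hm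
    obtain ⟨a, ha, b, hb, rfl⟩ := hprod e he
    exact ⟨a, ha, b * d, mul_mem (Subgroup.mem_sup_left hb) (Subgroup.mem_sup_right hd), mul_assoc _ _ _⟩

/-- `C_U(k) = 1` for `1 ≠ k ∈ K`. -/
theorem decomp_regular {M K U : Subgroup G} (hM : IsCoatom M) (h : IsSigmaDecomposition M K U) {k : G} (hk : k ∈ K)
    (hk1 : k ≠ 1) : U ⊓ Subgroup.centralizer ({k} : Set G) = ⊥ := by
  rw [eq_bot_iff, ← h.compl.2.2.1]
  refine le_inf inf_le_left ?_
  refine (inf_le_inf_right _ h.compl.1).trans ((inf_centralizer_kappa hG hpl hM h.hall hk hk1).le.trans ?_)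
  exact sup_le_sup_left inf_le_left K

/-- If `K ≠ 1` then `U` is abelian. -/
theorem decomp_abelian {M K U : Subgroup G} (hM : IsCoatom M) (h : IsSigmaDecomposition M K U) (hK1 : K ≠ ⊥) :
    IsMulCommutative U := by
  obtain ⟨q, hq, hd⟩ := Nat.exists_prime_and_dvd fun e => hK1 (Subgroup.eq_bot_of_card_eq _ e)
  haveI := Fact.mk hq
  obtain ⟨k, hk⟩ := exists_prime_orderOf_dvd_card' q hd
  have hkG : orderOf (k : G) = q := by rw [Subgroup.orderOf_coe, hk]
  haveI : Group.IsNilpotent U := Core.BG.isNilpotent_of_fpf_prime hq hkG (h.normal k.2)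
    (decomp_regular hG hpl hM h k.2 fun e => hq.one_lt.ne (by rw [← hkG, e, orderOf_one]))
  exact isMulCommutative_of_nilpotent_le hG hpl hM h.compl.1
    fun q hq hd => ((decomp_facts hG hpl hM h).2.1 q hq hd).1

/-- A maximal subgroup over the normalizer of a non-regular subgroup of order in `τ₁(M)` has that prime in `σ`. -/
theorem tau1_nonregular_mem_sigma {M H P : Subgroup G} (hM : IsCoatom M) (hH : IsCoatom H) {p : ℕ}
    [hp : Fact p.Prime] (hpt : p ∈ tau1 M) (hP : Nat.card P = p) (hPM : P ≤ M)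
    (hne : sigmaCore M ⊓ Subgroup.centralizer (P : Set G) ≠ ⊥) (hN : Subgroup.normalizer (P : Set G) ≤ H) :
    p ∈ sigma H := by
  obtain ⟨hnc, hcl, -, -⟩ := normalizer_tau13 hG hpl hM hH (Or.inl hpt) hP hN
  refine hcl.resolve_right fun hpH => ?_
  obtain ⟨t, ht, hd⟩ := Nat.exists_prime_and_dvd fun e => hne (Subgroup.eq_bot_of_card_eq _ e)
  haveI := Fact.mk ht
  obtain ⟨x₀, hx₀⟩ := exists_prime_orderOf_dvd_card' t hd
  set X := Subgroup.zpowers (x₀ : G) with hXdef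
  have hX : Nat.card X = t := by rw [Nat.card_zpowers, Subgroup.orderOf_coe, hx₀]
  have hXC : X ≤ sigmaCore M ⊓ Subgroup.centralizer (P : Set G) := Subgroup.zpowers_le.mpr x₀.2
  have hPH : P ≤ H := Subgroup.le_normalizer.trans hN
  have hCP : Subgroup.centralizer (P : Set G) ≤ H := (Subgroup.centralizer_le_normalizer _).trans hN
  have hXH : X ≤ H := (hXC.trans inf_le_right).trans hCP
  have htM : t ∈ sigma M := mem_sigma_of_dvd ht (hX ▸ Subgroup.card_dvd_of_le (hXC.trans inf_le_left))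
  have htH : t ∉ sigma H := sigma_disjoint hG hpl hM hH hnc htM
  have htp : t ≠ p := fun e => hpt.2.1 (e ▸ htM)
  obtain ⟨hCX, honly⟩ := only_centralizer_tau1_fixed hG hpl hM hpt hP hPM hX hXC
  have hPX : P ≤ Subgroup.centralizer (X : Set G) := Subgroup.le_centralizer_iff.mp (hXC.trans inf_le_right)
  have hPp := isPGroup_of_card_prime hP
  have hXp : IsPGroup t X := isPGroup_of_card_prime hX
  obtain ⟨F, hF, hKF⟩ := exists_compl_ge hG hH (sup_le hXH hPH : X ⊔ P ≤ H) (fun q hq hdq => by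
    rw [Coprime.card_sup (hPX.trans (Subgroup.centralizer_le_normalizer _))
      (Coprime.inf_eq_bot_of_coprime (coprime_of_pGroups htp.symm hPp hXp))] at hdq
    rcases hq.dvd_mul.mp hdq with h1 | h1
    · exact eq_prime_of_dvd_card hX hq h1 ▸ htH
    · exact eq_prime_of_dvd_card hP hq h1 ▸ hpH.2.1)
  obtain ⟨A, hAF, hAe, hA2⟩ := exists_ea_le_compl hG hF hpH
  obtain ⟨A0, hexc⟩ := exists_exc hG hpl hH hpH.2.1 (hAF.trans hF.1) hAe hA2
  obtain ⟨⟨hFA, hmem⟩, ⟨-, -, hnot⟩, -⟩ := tau2_compl_facts hG hpl hH hF hpH ⟨hAF, hAe, hA2⟩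
  have hPA : P ≤ A := hmem P (le_sup_right.trans hKF) hP
  have hXA : X ≤ Subgroup.normalizer (A : Set G) := (le_sup_left.trans hKF).trans hFA
  have hXnC : ¬ X ≤ Subgroup.centralizer (A : Set G) := fun hc =>
    not_pRankLE_of_ea hAe ((Subgroup.le_centralizer_iff.mp hc).trans hCX)
      (hA2 ▸ Nat.pow_lt_pow_right hp.out.one_lt one_lt_two) hpt.2.2.2.2
  by_cases hab : ∀ S : Sylow p G, IsMulCommutative (S : Subgroup G)
  · have hlt : A ⊓ Subgroup.centralizer (X : Set G) < A := lt_of_le_of_ne inf_le_left fun e =>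
      hXnC (Subgroup.le_centralizer_iff.mp (e ▸ inf_le_right))
    have hPe : P = A ⊓ Subgroup.centralizer (X : Set G) :=
      Subgroup.eq_of_le_of_card_ge (le_inf hPA hPX) ((card_le_of_lt_sq hA2 hlt).trans hP.ge)
    refine hnot (le_trans ?_ hN)
    rw [hPe]
    exact normalizer_le_normalizer_fixed hXA (hexc.derived_normalizer_le hG hpl hF hpH hAF hab)
  obtain ⟨S, hAS⟩ := hexc.maxEA.isPGroup.exists_le_sylow
  have hS := sylow_all_nonabelian hab
  obtain ⟨L, ⟨hL, hSL⟩, -⟩ := inUniqueMaximal_of_nonabelian hG hpl S.isPGroup' (hS S)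
  have hAL : A ≤ L := hAS.trans hSL
  have hpL : p ∈ sigma L := mem_sigma_of_nonabelian hG hpl hL S.isPGroup' hSL (hS S)
  have hXL : X ≤ L := hXA.trans
    (normalizer_le_of_noncyclic hG hpl hL hpL hexc.maxEA.isPGroup hAL (not_isCyclic_ea_sq hAe hA2))
  have hPL : P ≤ sigmaCore L := le_sigmaCore hG hL (hPA.trans hAL) (mem_of_pGroup hPp hpL)
  obtain ⟨x, hx, hx1⟩ := X.bot_or_exists_ne_one.resolve_left (ne_bot_of_card_prime hX)
  obtain ⟨π, hπ, hπ1⟩ := P.bot_or_exists_ne_one.resolve_left (ne_bot_of_card_prime hP)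
  have hLM : L ≠ M := fun e => hpt.2.1 (e ▸ hpL)
  rcases mem_classes hG hL ht (hX ▸ Subgroup.card_dvd_of_le hXL) with hc | hc | hc | hc
  · by_cases hncL : ∀ g : G, L ≠ cj g M
    · exact sigma_disjoint hG hpl hM hL hncL htM hc
    push Not at hncL
    obtain ⟨g, rfl⟩ := hncL
    exact hpt.2.1 (mem_sigma_of_cj hG hpL)
  · obtain ⟨-, honlyP⟩ := only_centralizer_tau1_fixed hG hpl hL hc hX hXL hP (le_inf hPL hPX)
    exact hpH.2.1 (honlyP H hH hCP ▸ hpL)
  · obtain ⟨E₂, hE₂, -⟩ := exists_compl_ge hG hL hXL (fun q hq hdq => eq_prime_of_dvd_card hX hq hdq ▸ hc.2.1)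
    obtain ⟨hCx, -⟩ := only_centralizer_of_tau2 hG hpl hL hE₂ (hXL hx) hx1 (fun q hq hdq =>
      eq_prime_of_dvd_card hX hq (hdq.trans (Subgroup.orderOf_dvd_natCard X hx)) ▸ hc)
      ⟨hXL hx, π, hPL hπ, hπ1, Subgroup.mem_centralizer_iff.mp (hPX hπ) x hx⟩
    rw [centralizer_singleton_eq (zpowers_eq_of_card_prime hX hx hx1)] at hCx
    exact hLM (honly L hL hCx)
  · have hXL' : X ≤ ⁅L, L⁆ := le_derived_of_pGroup hG hL (Or.inr hc) hXp hXL
    haveI : Group.IsSolvable X := Coprime.isSolvable_of_isPGroup hXp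
    have hA1 : ⁅A, X⁆ ≤ A := Coprime.commutator_le_of_le_normalizer hXA
    have hA11 : ⁅A, X⁆ ≠ ⊥ := fun e =>
      hXnC (Subgroup.le_centralizer_iff.mp (Subgroup.commutator_eq_bot_iff_le_centralizer.mp e))
    have hle : ⁅A, X⁆ ≤ piCoreOf (beta L) L := by
      rw [← Coprime.commutator_commutator_eq hXA (coprime_of_pGroups htp hXp hexc.maxEA.isPGroup),
        Subgroup.commutator_comm]
      exact commutator_le_betaCore hG hpl hL hXL' (not_dvd_of_pGroup htp.symm hXp)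
        (Subgroup.commutator_mono hAL hXL) (hexc.maxEA.isPGroup.to_le hA1)
    exact hexc.maxEA.notMem_beta L (Core.BG.isPiNat_piCoreOf (beta L) L p hp.out
      ((dvd_card_of_ne_bot (hexc.maxEA.isPGroup.to_le hA1) hA11).trans (Subgroup.card_dvd_of_le hle)))

end Cfsg.Agent.OddLocal.Sigma
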