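import Cfsg.Agent.OddLocal.Sigma.CentralizerAbelian
import Cfsg.Agent.Core.BG.PrimeManner

/-! Exceptional maximal subgroups: a prime `p ∉ σ(M)` with a subgroup of order `p` whose normalizer lies in `M`. -/

set_option autoImplicit false
set_option linter.style.haveILetI false
set_option linter.unusedSectionVars false

namespace Cfsg.Agent.OddLocal.Sigma

open Cfsg
open scoped commutatorElement

variable {G : Type*} [Group G] [Finite G]

/-- The hypothesis of the study of exceptional maximal subgroups. -/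
structure Exc (M : Subgroup G) (p : ℕ) (A A0 : Subgroup G) : Prop where
  coatom : IsCoatom M
  notMem : p ∉ sigma M
  le : A ≤ M
  maxEA : MaxEA p A
  le0 : A0 ≤ A
  card0 : Nat.card A0 = p
  norm : Subgroup.normalizer (A0 : Set G) ≤ M

theorem mem_sigma_cj {M : Subgroup G} {q : ℕ} [hq : Fact q.Prime] (hσ : q ∈ sigma M) (g : G) :
    q ∈ sigma (cj g M) := by
  obtain ⟨S, hS, hN⟩ := sigma_cj hσ g
  refine ⟨hq.out, by rw [card_cj]; exact hσ.2.1, S.subtype hS, ?_⟩
  rwa [Sylow.coe_subtype, Subgroup.subgroupOf_map_subtype, inf_eq_left.mpr hS]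

theorem exists_sylow_map_ge {M A : Subgroup G} {p : ℕ} [hp : Fact p.Prime] (hA : IsPGroup p A) (hAM : A ≤ M) :
    ∃ P : Sylow p M, A ≤ (P : Subgroup M).map M.subtype := by
  obtain ⟨P, hP⟩ := (hA.comap_subtype : IsPGroup p (A.subgroupOf M)).exists_le_sylow
  exact ⟨P, fun x hx => ⟨⟨x, hAM hx⟩, hP (Subgroup.mem_subgroupOf.mpr hx), rfl⟩⟩

theorem isMulCommutative_of_le {H K : Subgroup G} (h : H ≤ K) [IsMulCommutative K] : IsMulCommutative H :=
  ⟨⟨fun a b => Subtype.ext (show (a : G) * b = b * a from congrArg Subtype.val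
    (IsMulCommutative.is_comm.comm (⟨a, h a.2⟩ : K) ⟨b, h b.2⟩))⟩⟩

theorem centralizer_singleton_eq {a : G} {Z : Subgroup G} (h : Subgroup.zpowers a = Z) :
    Subgroup.centralizer ({a} : Set G) = Subgroup.centralizer (Z : Set G) := by
  rw [← h, Subgroup.zpowers_eq_closure, Subgroup.centralizer_closure]

variable (hG : IsMinSimpleOddOrder G)
include hG

/-- In a maximal subgroup with nilpotent `M_σ` the Sylow `σ(M)`-subgroups are normal. -/
theorem le_normalizer_sylow_of_nilpotent {M : Subgroup G} (hM : IsCoatom M)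
    (hnil : Group.IsNilpotent (sigmaCore M)) {q : ℕ} [hq : Fact q.Prime] (hσ : q ∈ sigma M) (T : Sylow q G)
    (hT : (T : Subgroup G) ≤ M) : M ≤ Subgroup.normalizer ((T : Subgroup G) : Set G) := by
  set N := piCore (sigma M) M
  haveI : Group.IsNilpotent N := by
    haveI : Group.IsNilpotent ↥(N.map M.subtype) := hnil
    exact Group.nilpotent_of_mulEquiv (N.equivMapOfInjective M.subtype M.subtype_injective).symm
  set T' : Sylow q M := T.subtype hT
  have hle : (T' : Subgroup M) ≤ N := fun x hx => by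
    rw [Sylow.coe_subtype, Subgroup.mem_subgroupOf] at hx
    obtain ⟨y, hy, hye⟩ := le_sigmaCore hG hM hT (mem_of_pGroup T.isPGroup' hσ) hx
    rwa [← show y = x from Subtype.ext hye]
  have hsn : (T' : Subgroup M).IsSubnormal := Subgroup.IsSubnormal.trans hle
    (FGS4.isSubnormal_of_isNilpotent _) (inferInstance : N.Normal).isSubnormal
  have heq := T'.3 (Core.isPGroup_pCore q M) (Core.le_pCore_of_isSubnormal hsn T'.isPGroup')
  haveI : (T' : Subgroup M).Normal := heq ▸ inferInstance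
  exact (Subgroup.normal_subgroupOf_iff_le_normalizer hT).mp (by rw [← Sylow.coe_subtype (h := hT)]; infer_instance)

variable (hpl : ∀ (p : ℕ) [Fact p.Prime] (H : Subgroup G), H ≠ ⊤ → PLengthLE p 1 H)
include hpl

namespace Exc

variable {p : ℕ} [hp : Fact p.Prime] {M A A0 : Subgroup G} (h : Exc M p A A0)
include h

omit hG hpl in
theorem centralizer_le : Subgroup.centralizer (A : Set G) ≤ M :=
  (Subgroup.centralizer_le h.le0).trans ((Subgroup.centralizer_le_normalizer _).trans h.norm)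

omit hG hpl in
theorem not_dvd_sigmaCore : ¬ p ∣ Nat.card (sigmaCore M) := fun hd => h.notMem (mem_sigma_of_dvd hp.out hd)

omit hG hpl in
theorem le_normalizer : A ≤ Subgroup.normalizer (sigmaCore M : Set G) := h.le.trans (le_normalizer_sigmaCore M)

omit hG hpl in
theorem exists_notMem (P : Sylow p M) :
    ∃ n ∈ Subgroup.normalizer (((P : Subgroup M).map M.subtype : Subgroup G) : Set G), n ∉ M :=
  SetLike.not_le_iff_exists.mp (not_normalizer_sylow_le (h.maxEA.dvd_of_le h.le) h.notMem P)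

/-- Conjugates of `M` containing `A` meet `M_σ` trivially. -/
theorem inf_conj_eq_bot {g : G} (hg : g ∉ M) (hA : A ≤ cj g M) : sigmaCore M ⊓ cj g M = ⊥ := by
  refine Subgroup.card_eq_one.mp (Nat.eq_one_iff_not_exists_prime_dvd.mpr fun q hq hd => ?_)
  haveI := Fact.mk hq
  set D := sigmaCore M ⊓ cj g M
  have hqσ : q ∈ sigma M := mem_sigma_of_dvd hq (hd.trans (Subgroup.card_dvd_of_le inf_le_left))
  have hqp : q ≠ p := fun e => h.notMem (e ▸ hqσ)
  have hDp : ¬ p ∣ Nat.card D := fun hd' =>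
    h.not_dvd_sigmaCore (hd'.trans (Subgroup.card_dvd_of_le inf_le_left))
  have hAD : A ≤ Subgroup.normalizer (D : Set G) :=
    (le_inf h.le_normalizer (hA.trans Subgroup.le_normalizer)).trans Subgroup.inf_normalizer_le_normalizer_inf
  haveI : Group.IsSolvable A := Coprime.isSolvable_of_isPGroup h.maxEA.isPGroup
  obtain ⟨R, hRD, hR, hRi, hAR⟩ := Coprime.exists_invariant_sylow hAD (Components.ea_coprime h.maxEA.ea hDp) q
  have hR1 : R ≠ ⊥ := fun e => hRi (by rw [e, Subgroup.relIndex_bot_left]; exact hd)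
  obtain ⟨T, hTL, hTM, -⟩ := exists_common_sylow hG hpl h.maxEA (isCoatom_cj h.coatom g) h.coatom hA h.le
    h.centralizer_le (mem_sigma_cj hqσ g) hqσ hqp hR hR1 (hRD.trans inf_le_right)
    (hRD.trans (inf_le_left.trans (sigmaCore_le M))) hAR
  obtain ⟨m, hm, c, hc, hgmc⟩ := exists_mul_centralizer hG h.coatom hqσ (X := (T : Subgroup G)) T.isPGroup'
    (fun e => hR1 (by
      have hd' : q ∣ Nat.card G := hd.trans (Subgroup.card_subgroup_dvd_card D)
      exact absurd e (Sylow.ne_bot_of_dvd_card T hd'))) hTM (g := g⁻¹)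
    (by rw [cj_le_iff, inv_inv]; exact hTL)
  refine hg (inv_mem_iff.mp ?_)
  rw [hgmc]
  exact M.mul_mem hm (normalizer_sylow_le' hG hqσ T hTM (Subgroup.centralizer_le_normalizer _ hc))

theorem fpf {g : G} (hg : g ∉ M) (hA : A ≤ cj g M) :
    sigmaCore M ⊓ Subgroup.centralizer (cj g A0 : Set G) = ⊥ := by
  refine le_bot_iff.mp (le_trans (inf_le_inf_left _ ?_) (h.inf_conj_eq_bot hG hpl hg hA).le)
  refine (Subgroup.centralizer_le_normalizer _).trans ?_
  rw [Transfer.normalizer_map_conj]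
  exact cj_mono h.norm

omit hG hpl in
theorem le_cj_of_mem_normalizer {P : Sylow p M} (hAP : A ≤ (P : Subgroup M).map M.subtype) {n : G}
    (hn : n ∈ Subgroup.normalizer (((P : Subgroup M).map M.subtype : Subgroup G) : Set G)) : A ≤ cj n M :=
  hAP.trans ((cj_eq_iff.mpr hn).ge.trans (cj_mono (Subgroup.map_subtype_le _)))

theorem inf_centralizer_eq_bot : sigmaCore M ⊓ Subgroup.centralizer (A : Set G) = ⊥ := by
  refine Subgroup.card_eq_one.mp (Nat.eq_one_iff_not_exists_prime_dvd.mpr fun q hq hd => ?_)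
  haveI := Fact.mk hq
  have hqσ : q ∈ sigma M := mem_sigma_of_dvd hq (hd.trans (Subgroup.card_dvd_of_le inf_le_left))
  have hqp : q ≠ p := fun e => h.notMem (e ▸ hqσ)
  obtain ⟨P, hAP⟩ := exists_sylow_map_ge h.maxEA.isPGroup h.le
  obtain ⟨n, hn, hnM⟩ := h.exists_notMem P
  have hAn := h.le_cj_of_mem_normalizer hAP hn
  obtain ⟨T, -, hTM, hAT⟩ := exists_inv_sylow hG hpl h.maxEA h.coatom h.le hqσ hqp
    (IsPGroup.of_bot : IsPGroup q (⊥ : Subgroup G)) bot_le (le_top.trans (Subgroup.normalizer_eq_top (⊥ : Subgroup G)).ge)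
  obtain ⟨U, -, hUL, hAU⟩ := exists_inv_sylow hG hpl h.maxEA (isCoatom_cj h.coatom n) hAn (mem_sigma_cj hqσ n) hqp
    (IsPGroup.of_bot : IsPGroup q (⊥ : Subgroup G)) bot_le (le_top.trans (Subgroup.normalizer_eq_top (⊥ : Subgroup G)).ge)
  have hZ : ¬ RankLE 1 ↥(A ⊓ Subgroup.centralizer (A : Set G)) := by
    rw [inf_eq_left.mpr h.maxEA.le_centralizer]; exact h.maxEA.not_rankLE_one
  obtain ⟨k, hk, he⟩ := Core.BG.transitive_of_center_rank_two hG (h.maxEA.transHyp hG) hq
    (not_dvd_of_pGroup hqp h.maxEA.isPGroup) hZ (hd.trans (Subgroup.card_dvd_of_le inf_le_right))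
    (T : Subgroup G) (maxInv_of_sylow T hAT) (U : Subgroup G) (maxInv_of_sylow U hAU)
  have hUM : (U : Subgroup G) ≤ M := by
    rw [he]
    rintro _ ⟨u, hu, rfl⟩
    have hkM := h.centralizer_le (Core.BG.piCoreOf_le _ _ hk)
    exact M.mul_mem (M.mul_mem hkM (hTM hu)) (M.inv_mem hkM)
  refine Sylow.ne_bot_of_dvd_card U (hd.trans (Subgroup.card_subgroup_dvd_card _)) (le_bot_iff.mp ?_)
  rw [← h.inf_conj_eq_bot hG hpl hnM hAn]
  exact le_inf (le_sigmaCore hG h.coatom hUM (mem_of_pGroup U.isPGroup' hqσ)) hUL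

theorem isNilpotent : Group.IsNilpotent (sigmaCore M) := by
  obtain ⟨P, hAP⟩ := exists_sylow_map_ge h.maxEA.isPGroup h.le
  obtain ⟨n, hn, hnM⟩ := h.exists_notMem P
  obtain ⟨a, ha, ha1⟩ := A0.bot_or_exists_ne_one.resolve_left fun e => hp.out.one_lt.ne (by
    rw [← h.card0, e, Subgroup.card_bot])
  have hx : n * a * n⁻¹ ∈ cj n A0 := ⟨a, ha, rfl⟩
  have hxM : n * a * n⁻¹ ∈ M :=
    Subgroup.map_subtype_le _ ((cj_eq_iff.mpr hn).le ⟨a, hAP (h.le0 ha), rfl⟩)
  have hzp : Subgroup.zpowers (n * a * n⁻¹) = cj n A0 := by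
    refine Subgroup.eq_of_le_of_card_ge (Subgroup.zpowers_le.mpr hx) ?_
    rw [card_cj, h.card0, (h.maxEA.map n).card_zpowers (show n * a * n⁻¹ ∈ cj n A from ⟨a, h.le0 ha, rfl⟩)
      fun e => ha1 (conj_eq_one_iff.mp e)]
  refine Core.BG.isNilpotent_of_fpf_prime hp.out
    ((h.maxEA.map n).orderOf (show n * a * n⁻¹ ∈ cj n A from ⟨a, h.le0 ha, rfl⟩) fun e => ha1 (conj_eq_one_iff.mp e))
    (le_normalizer_sigmaCore M hxM) ?_
  rw [centralizer_singleton_eq hzp]
  exact h.fpf hG hpl hnM (h.le_cj_of_mem_normalizer hAP hn)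

/-- The Sylow `p`-subgroup of `M` containing `A` is abelian. -/
theorem sylow_abelian_of_le (P : Sylow p M) (hAP : A ≤ (P : Subgroup M).map M.subtype) :
    IsMulCommutative ↥((P : Subgroup M).map M.subtype) := by
  set S := (P : Subgroup M).map M.subtype with hSdef
  have hS : IsPGroup p S := P.isPGroup'.map _
  have hSC := h.maxEA.inf_centralizer_comm hG hpl hS hAP
  by_cases hcen : A ≤ Subgroup.centralizer (S : Set G)
  · rw [inf_eq_left.mpr (Subgroup.le_centralizer_iff.mp hcen)] at hSC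
    exact hSC
  exfalso
  set Z := omegaCenter p S
  have hZA : Z ≤ A := fun x hx =>
    h.maxEA.full x (Subgroup.centralizer_le hAP hx.1.2) hx.2
  have hS1 : S ≠ ⊥ := fun e => h.maxEA.ne_bot (le_bot_iff.mp (e ▸ hAP))
  have hZ1 : Z ≠ ⊥ := omegaCenter_ne_bot hS hS1
  have hZne : Z ≠ A := fun e => hcen fun a ha => ((e ▸ ha : a ∈ Z)).1.2
  have hZc : Nat.card Z = p := by
    obtain ⟨k, hk⟩ := IsPGroup.iff_card.mp (h.maxEA.isPGroup.to_le hZA)
    have hlt : Nat.card Z < Nat.card A :=
      Set.Finite.card_lt_card (Set.toFinite _) (show Z < A from lt_of_le_of_ne hZA hZne)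
    rw [hk, h.maxEA.card] at hlt
    have h2 := (Nat.pow_lt_pow_iff_right hp.out.one_lt).mp hlt
    have h3 : k ≠ 0 := fun e => hZ1 (Subgroup.eq_bot_of_card_eq _ (by rw [hk, e, pow_zero]))
    rw [hk, show k = 1 by omega, pow_one]
  obtain ⟨n, hn, hnM⟩ := h.exists_notMem P
  have hnN : n ∈ Subgroup.normalizer (S : Set G) := hn
  have hNZ := le_normalizer_omegaCenter p S
  set U := cj n A with hUdef
  have hU : MaxEA p U := h.maxEA.map n
  have hUS : U ≤ S := (cj_mono hAP).trans (cj_eq_iff.mpr hnN).le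
  have hZU : Z ≤ U := (cj_eq_iff.mpr (hNZ hnN)).ge.trans (cj_mono hZA)
  have hA0Z : cj n A0 ≠ Z := fun e => hnM (by
    have e' : A0 = Z := by
      rw [← cj_one A0, ← inv_mul_cancel n, cj_mul, e]
      exact cj_eq_iff.mpr (inv_mem (hNZ hnN))
    exact h.norm (e' ▸ hNZ hnN))
  have hfix0 := h.fpf hG hpl hnM (h.le_cj_of_mem_normalizer hAP hn)
  -- an element moving `U`
  set K := S ⊓ Subgroup.centralizer (U : Set G)
  have hKS : K < S := lt_of_le_of_ne inf_le_left fun e => by
    refine hcen fun a ha => ?_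
    have hUc : U ≤ Subgroup.centralizer (S : Set G) := Subgroup.le_centralizer_iff.mp (e ▸ inf_le_right)
    have h1 := hUc (⟨a, ha, rfl⟩ : (MulAut.conj n).toMonoidHom a ∈ U)
    refine Subgroup.mem_centralizer_iff.mpr fun s hs => ?_
    have h2 := Subgroup.mem_centralizer_iff.mp h1 (n * s * n⁻¹) ((cj_eq_iff.mpr hnN).le ⟨s, hs, rfl⟩)
    simp only [MulEquiv.coe_toMonoidHom, MulAut.conj_apply] at h2
    calc s * a = n⁻¹ * (n * s * n⁻¹ * (n * a * n⁻¹)) * n := by group
      _ = n⁻¹ * (n * a * n⁻¹ * (n * s * n⁻¹)) * n := by rw [h2]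
      _ = a * s := by group
  obtain ⟨x, ⟨hxK, hxS⟩, hxnK⟩ := Core.BG.exists_mem_normalizer_notMem (q := p) hS hKS
  have hxU : x ∈ Subgroup.normalizer (U : Set G) := Coprime.mem_normalizer_of_conj_mem fun u hu => by
    have h1 : x * u * x⁻¹ ∈ K := (Subgroup.mem_normalizer_iff.mp hxK u).mp ⟨hUS hu, hU.le_centralizer hu⟩
    refine hU.full _ h1.2 ?_
    rw [conj_pow, hU.ea.2 u hu, mul_one, mul_inv_cancel]
  set Y := S ⊓ Subgroup.normalizer (U : Set G)
  have hUY : U ≤ Y := le_inf hUS Subgroup.le_normalizer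
  haveI : Group.IsNilpotent Y := (hS.to_le inf_le_left).isNilpotent
  set W := ⁅U, Y⁆
  have hWU : W ≤ U := Coprime.commutator_le_of_le_normalizer inf_le_right
  have hWY : Y ≤ Subgroup.normalizer (W : Set G) := Subgroup.normalizer_commutator_ge_right U Y
  have hWlt : W < U := lt_of_le_of_ne hWU fun e =>
    hU.ne_bot (Transfer.eq_bot_of_le_commutator hUY e.ge)
  obtain ⟨a, ha, ha1⟩ := A0.bot_or_exists_ne_one.resolve_left fun e => hp.out.one_lt.ne (by
    rw [← h.card0, e, Subgroup.card_bot])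
  set y := n * a * n⁻¹ with hydef
  have hyU : y ∈ U := ⟨a, h.le0 ha, rfl⟩
  have hy1 : y ≠ 1 := fun e => ha1 (conj_eq_one_iff.mp e)
  have hzp : Subgroup.zpowers y = cj n A0 := by
    refine Subgroup.eq_of_le_of_card_ge (Subgroup.zpowers_le.mpr ⟨a, ha, rfl⟩) ?_
    rw [card_cj, h.card0, hU.card_zpowers hyU hy1]
  set V := U ⊓ Subgroup.centralizer ({x} : Set G)
  have hZV : Z ≤ V := le_inf hZU fun z hz => Subgroup.mem_centralizer_singleton_iff.mpr
    (Subgroup.mem_centralizer_iff.mp hz.1.2 x hxS).symm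
  have hVU : V < U := lt_of_le_of_ne inf_le_left fun e => hxnK ⟨hxS, Subgroup.mem_centralizer_iff.mpr fun u hu =>
    (Subgroup.mem_centralizer_singleton_iff.mp ((e.ge hu).2))⟩
  have hsmall : ∀ {B : Subgroup G}, B < U → Nat.card B ≤ p := fun {B} hB => by
    obtain ⟨k, hk⟩ := IsPGroup.iff_card.mp (hU.isPGroup.to_le hB.le)
    have hlt : Nat.card B < Nat.card U := Set.Finite.card_lt_card (Set.toFinite _) hB
    rw [hk, hU.card] at hlt
    rw [hk]
    have h2 := (Nat.pow_lt_pow_iff_right hp.out.one_lt).mp hlt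
    exact (Nat.pow_le_pow_right hp.out.pos (show k ≤ 1 by omega)).trans (pow_one p).le
  have hVZ : V = Z := (Subgroup.eq_of_le_of_card_ge hZV ((hsmall hVU).trans hZc.ge)).symm
  have hyZ : y ∉ Z := fun e => hA0Z (Subgroup.eq_of_le_of_card_ge (hzp ▸ Subgroup.zpowers_le.mpr e)
    (by rw [card_cj, h.card0, hZc]))
  have hWZ : W ≤ Z := by
    rw [← hVZ]
    refine le_inf hWU fun w hw => ?_
    by_cases hw1 : w = 1
    · subst hw1; exact one_mem _
    set D := ⁅W, Y⁆
    have hDlt : D < W := lt_of_le_of_ne (Coprime.commutator_le_of_le_normalizer hWY) fun e =>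
      hw1 (Subgroup.mem_bot.mp ((Transfer.eq_bot_of_le_commutator (hWU.trans hUY) e.ge).le hw))
    have hD : D = ⊥ := by
      refine Subgroup.card_eq_one.mp ?_
      have hlt : Nat.card D < Nat.card W := Set.Finite.card_lt_card (Set.toFinite _) hDlt
      obtain ⟨k, hk⟩ := IsPGroup.iff_card.mp (hU.isPGroup.to_le (hDlt.le.trans hWU))
      have := hlt.trans_le (hsmall hWlt)
      rw [hk] at this ⊢
      have hk0 : k = 0 := by
        by_contra hk0
        exact absurd (Nat.le_self_pow hk0 p) (not_le.mpr this)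
      rw [hk0, pow_zero]
    refine Subgroup.mem_centralizer_singleton_iff.mpr ?_
    exact (Subgroup.mem_centralizer_iff.mp
      (Subgroup.commutator_eq_bot_iff_le_centralizer.mp hD hw) x ⟨hxS, hxU⟩).symm
  set c := ⁅x, y⁆ with hcdef
  have hcZ : c ∈ Z := hWZ (by
    rw [show W = ⁅Y, U⁆ from Subgroup.commutator_comm U Y]
    exact Subgroup.commutator_mem_commutator ⟨hxS, hxU⟩ hyU)
  have hc1 : c ≠ 1 := fun e => hyZ (hVZ ▸ ⟨hyU, Subgroup.mem_centralizer_singleton_iff.mpr
    (commutatorElement_eq_one_iff_mul_comm.mp e).symm⟩)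
  have hczp : Subgroup.zpowers c = Z := Subgroup.eq_of_le_of_card_ge (Subgroup.zpowers_le.mpr hcZ)
    (by rw [hU.card_zpowers (hZU hcZ) hc1, hZc])
  have hxc : x * c * x⁻¹ = c := by
    rw [Subgroup.mem_centralizer_iff.mp hcZ.1.2 x hxS, mul_inv_cancel_right]
  have hline : ∀ j : ℕ, sigmaCore M ⊓ Subgroup.centralizer ({y * c ^ j} : Set G) = ⊥ := by
    intro j
    induction j with
    | zero => rw [pow_zero, mul_one, centralizer_singleton_eq hzp]; exact hfix0
    | succ j ih =>
      have e : y * c ^ (j + 1) = x * (y * c ^ j) * x⁻¹ := by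
        have h1 : x * y * x⁻¹ = c * y := by rw [hcdef, commutatorElement_def]; group
        have h2 : c * y = y * c := PLocal.comm_of_EA hU.ea (hZU hcZ) hyU
        rw [show x * (y * c ^ j) * x⁻¹ = (x * y * x⁻¹) * (x * c * x⁻¹) ^ j by rw [conj_pow]; group,
          hxc, h1, h2, pow_succ', ← mul_assoc]
      rw [eq_bot_iff]
      intro z hz
      rw [e] at hz
      have hz1 : x⁻¹ * z * x ∈ sigmaCore M ⊓ Subgroup.centralizer ({y * c ^ j} : Set G) := by
        refine ⟨(Subgroup.mem_normalizer_iff''.mp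
          (le_normalizer_sigmaCore M (Subgroup.map_subtype_le _ hxS)) z).mp hz.1,
          Subgroup.mem_centralizer_singleton_iff.mpr ?_⟩
        have h3 := Subgroup.mem_centralizer_singleton_iff.mp hz.2
        calc x⁻¹ * z * x * (y * c ^ j) = x⁻¹ * (z * (x * (y * c ^ j) * x⁻¹)) * x := by group
          _ = x⁻¹ * (x * (y * c ^ j) * x⁻¹ * z) * x := by rw [h3]
          _ = y * c ^ j * (x⁻¹ * z * x) := by group
      rw [ih, Subgroup.mem_bot] at hz1
      refine Subgroup.mem_bot.mpr ?_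
      calc z = x * (x⁻¹ * z * x) * x⁻¹ := by group
        _ = 1 := by rw [hz1, mul_one, mul_inv_cancel]
  have hUgen : U = Subgroup.zpowers y ⊔ Z := by
    symm
    refine Subgroup.eq_of_le_of_card_ge (sup_le (Subgroup.zpowers_le.mpr hyU) hZU) ?_
    by_contra hlt
    have hlt' : Subgroup.zpowers y ⊔ Z < U := lt_of_le_of_ne (sup_le (Subgroup.zpowers_le.mpr hyU) hZU)
      fun e => hlt (by rw [e])
    have hle := hsmall hlt'
    have e1 : Z = Subgroup.zpowers y ⊔ Z := Subgroup.eq_of_le_of_card_ge le_sup_right (hle.trans hZc.ge)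
    exact hyZ (e1.ge (Subgroup.mem_sup_left (Subgroup.mem_zpowers y)))
  have hMσZ : sigmaCore M ≤ Subgroup.centralizer (Z : Set G) := by
    refine hU.le_of_forall_inf_centralizer_le h.not_dvd_sigmaCore
      ((hUS.trans (Subgroup.map_subtype_le _)).trans (le_normalizer_sigmaCore M)) fun u hu hu1 => ?_
    by_cases huZ : u ∈ Z
    · rw [centralizer_singleton_eq (a := u) (Subgroup.eq_of_le_of_card_ge (Subgroup.zpowers_le.mpr huZ)
        (by rw [hU.card_zpowers hu hu1, hZc]))]
      exact inf_le_right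
    -- `u` generates the same line as some `y * c ^ j`
    have hy' : y ∈ Subgroup.zpowers u ⊔ Z := by
      have e1 : Subgroup.zpowers u ⊔ Z = U := by
        refine Subgroup.eq_of_le_of_card_ge (sup_le (Subgroup.zpowers_le.mpr hu) hZU) ?_
        by_contra hlt
        have hlt' : Subgroup.zpowers u ⊔ Z < U := lt_of_le_of_ne (sup_le (Subgroup.zpowers_le.mpr hu) hZU)
          fun e => hlt (by rw [e])
        exact huZ ((Subgroup.eq_of_le_of_card_ge (le_sup_right : Z ≤ Subgroup.zpowers u ⊔ Z)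
          ((hsmall hlt').trans hZc.ge)).ge (Subgroup.mem_sup_left (Subgroup.mem_zpowers u)))
      exact e1.ge hyU
    obtain ⟨v, hv, z, hz, hvz⟩ := Coprime.exists_mul_of_mem_sup (N := Subgroup.zpowers u) (A := Z)
      (hZU.trans ((hU.le_centralizer).trans ((Subgroup.centralizer_le (Subgroup.zpowers_le.mpr hu)).trans
        (Subgroup.centralizer_le_normalizer _)))) hy'
    obtain ⟨j, hj⟩ := (mem_powers_iff_mem_zpowers.mpr (hczp.ge (inv_mem hz)) : z⁻¹ ∈ Submonoid.powers c)
    have hv' : v = y * c ^ j := by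
      simp only at hj
      rw [hj, ← hvz, mul_inv_cancel_right]
    refine le_trans (inf_le_inf_left _ ?_) ((hline j).le.trans bot_le)
    rw [← hv', centralizer_singleton_eq (a := u) rfl]
    exact Subgroup.centralizer_le (by simpa using hv)
  -- a maximal subgroup above the normalizer of `Z`
  have hZp : IsPGroup p Z := hS.to_le (omegaCenter_le p S)
  obtain ⟨H, hH, hle⟩ := (eq_top_or_exists_le_coatom (Subgroup.normalizer (Z : Set G))).resolve_left
    (Core.BG.normalizer_ne_top_of_isPGroup hG hZ1 hZp)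
  have hHM : H ≠ M := fun e => hnM (e ▸ hle (hNZ hnN))
  have hCH : Subgroup.centralizer (Z : Set G) ≤ H := (Subgroup.centralizer_le_normalizer _).trans hle
  have hAH : A ≤ H := (h.maxEA.le_centralizer.trans (Subgroup.centralizer_le hZA)).trans hCH
  obtain ⟨q, hq, hqd⟩ := Nat.exists_prime_and_dvd (fun e => sigmaCore_ne_bot hG h.coatom (Subgroup.card_eq_one.mp e))
  haveI := Fact.mk hq
  have hqσ : q ∈ sigma M := mem_sigma_of_dvd hq hqd
  have hqp : q ≠ p := fun e => h.notMem (e ▸ hqσ)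
  obtain ⟨T, -, hTM, hAT⟩ := exists_inv_sylow hG hpl h.maxEA h.coatom h.le hqσ hqp
    (IsPGroup.of_bot : IsPGroup q (⊥ : Subgroup G)) bot_le (le_top.trans (Subgroup.normalizer_eq_top (⊥ : Subgroup G)).ge)
  have hTσ : (T : Subgroup G) ≤ sigmaCore M := le_sigmaCore hG h.coatom hTM (mem_of_pGroup T.isPGroup' hqσ)
  have hT1 : (T : Subgroup G) ≠ ⊥ := Sylow.ne_bot_of_dvd_card T (hqd.trans (Subgroup.card_subgroup_dvd_card _))
  have hNT : M ≤ Subgroup.normalizer ((T : Subgroup G) : Set G) :=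
    le_normalizer_sylow_of_nilpotent hG h.coatom (h.isNilpotent hG hpl) hqσ T hTM
  have hNTeq : Subgroup.normalizer ((T : Subgroup G) : Set G) = M :=
    (h.coatom.le_iff.mp hNT).resolve_left (Core.BG.normalizer_ne_top_of_isPGroup hG hT1 T.isPGroup')
  have hTH : (T : Subgroup G) ≤ H := hTσ.trans (hMσZ.trans hCH)
  have hqH : q ∉ sigma H := fun hσ' => hHM ((h.coatom.le_iff.mp
    (hNTeq ▸ normalizer_sylow_le' hG hσ' T hTH)).resolve_left hH.1)
  haveI : Group.IsSolvable A := Coprime.isSolvable_of_isPGroup h.maxEA.isPGroup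
  have hcop := coprime_of_pGroups hqp.symm h.maxEA.isPGroup T.isPGroup'
  have hTA : (T : Subgroup G) = ⁅(T : Subgroup G), A⁆ := by
    conv_lhs => rw [Coprime.eq_commutator_sup_centralizer hAT hcop]
    rw [show (T : Subgroup G) ⊓ Subgroup.centralizer (A : Set G) = ⊥ from
      le_bot_iff.mp ((inf_le_inf_right _ hTσ).trans (h.inf_centralizer_eq_bot hG hpl).le), sup_bot_eq]
  by_cases hpH : p ∈ sigma H
  · refine hT1 (le_bot_iff.mp ?_)
    rw [hTA, ← inf_sigmaCore_eq_bot (notMem_sigma_of_pGroup T.isPGroup' hqH)]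
    refine le_inf (Coprime.commutator_le_of_le_normalizer hAT) ?_
    rw [Subgroup.commutator_comm]
    exact (Subgroup.commutator_mono (le_sigmaCore hG hH hAH (mem_of_pGroup h.maxEA.isPGroup hpH)) le_rfl).trans
      (Coprime.commutator_le_of_le_normalizer (hTH.trans (le_normalizer_sigmaCore H)))
  -- Frattini argument in `H`
  haveI := Core.BG.isSolvable_proper hG hH.1
  obtain ⟨-, h2⟩ := core_data (X := H) (odd_of_dvd hG (Subgroup.card_subgroup_dvd_card H)) (sigma H)
    fun r hr hn' => pRankLE_two_of_notMem_sigma hG hH hr hn'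
  set T' : Sylow q H := T.subtype hTH
  have hT'map : (T' : Subgroup H).map H.subtype = (T : Subgroup G) := by
    rw [Sylow.coe_subtype, Subgroup.subgroupOf_map_subtype, inf_eq_left.mpr hTH]
  have hT'd : (T' : Subgroup H) ≤ commutator H := by
    intro z hz
    have hz' : (z : G) ∈ ⁅H, H⁆ := (Subgroup.commutator_mono hTH hAH)
      (hTA.le (hT'map.le ⟨z, hz, rfl⟩))
    obtain ⟨w, hw, hwz⟩ := (H.map_subtype_commutator).ge hz'
    rwa [← show w = z from Subtype.ext hwz]
  have hT'W := h2 (insert q (sigma H)) (Set.subset_insert _ _) q hq (Set.mem_insert _ _) T' hT'd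
  set W := piCore (insert q (sigma H)) H
  have hWp : ¬ p ∣ Nat.card W := fun hd => by
    rcases Core.isPiNat_card_piCore _ H p hp.out hd with e | e
    · exact hqp e.symm
    · exact hpH e
  set MH := M.subgroupOf H
  have hsup : MH ⊔ W = ⊤ := by
    refine top_le_iff.mp ((Sylow.normalizer_sup_eq_top' T' hT'W).ge.trans (sup_le_sup_right ?_ _))
    intro z hz
    refine Subgroup.mem_subgroupOf.mpr (hNTeq.le ?_)
    rw [← hT'map]
    exact Subgroup.le_normalizer_map H.subtype ⟨z, hz, rfl⟩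
  have hidx : ¬ p ∣ MH.index := fun hd => hWp (hd.trans (Nat.dvd_of_mul_dvd_mul_left Nat.card_pos (by
    rw [Subgroup.card_mul_index, ← Subgroup.card_top, ← hsup]
    exact Core.card_sup_dvd_mul MH W)))
  have hSH : S ≤ H := Subgroup.le_normalizer.trans (hNZ.trans hle)
  obtain ⟨R, hR⟩ := (hS.comap_subtype : IsPGroup p (S.subgroupOf H)).exists_le_sylow
  have hReq : (R : Subgroup H).map H.subtype = S := by
    refine (Subgroup.eq_of_le_of_card_ge (show S ≤ (R : Subgroup H).map H.subtype from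
      fun z hz => ⟨⟨z, hSH hz⟩, hR (Subgroup.mem_subgroupOf.mpr hz), rfl⟩) ?_).symm
    rw [Core.card_map_subtype]
    show Nat.card (R : Subgroup H) ≤ Nat.card ↥((P : Subgroup M).map M.subtype)
    rw [Core.card_map_subtype]
    refine Nat.le_of_dvd Nat.card_pos ?_
    obtain ⟨k, hk⟩ := IsPGroup.iff_card.mp R.isPGroup'
    have hd1 : Nat.card (R : Subgroup H) ∣ Nat.card MH := by
      refine Nat.Coprime.dvd_of_dvd_mul_right ?_
        ((Subgroup.card_subgroup_dvd_card (R : Subgroup H)).trans MH.card_mul_index.symm.dvd)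
      rw [hk]; exact (hp.out.coprime_iff_not_dvd.mpr hidx).pow_left k
    have hd2 : Nat.card MH ∣ Nat.card M := by
      rw [← Core.card_map_subtype, Subgroup.subgroupOf_map_subtype]
      exact Subgroup.card_dvd_of_le inf_le_left
    refine Nat.Coprime.dvd_of_dvd_mul_right ?_
      ((hd1.trans hd2).trans (P : Subgroup M).card_mul_index.symm.dvd)
    rw [hk]; exact (hp.out.coprime_iff_not_dvd.mpr P.not_dvd_index).pow_left k
  exact hpH ⟨hp.out, h.maxEA.dvd_of_le hAH, R, by rw [hReq]; exact hNZ.trans hle⟩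

/-- Every Sylow `p`-subgroup of `M` is abelian. -/
theorem sylow_abelian (P : Sylow p M) : IsMulCommutative (P : Subgroup M) := by
  obtain ⟨P₀, hAP⟩ := exists_sylow_map_ge h.maxEA.isPGroup h.le
  have hc := h.sylow_abelian_of_le hG hpl P₀ hAP
  refine ⟨⟨fun a b => (Sylow.equiv P P₀).injective (Subtype.ext (Subtype.ext ?_))⟩⟩
  rw [map_mul, map_mul]
  have := congrArg Subtype.val (hc.is_comm.comm
    ⟨_, Subgroup.mem_map_of_mem M.subtype (Sylow.equiv P P₀ a).2⟩
    ⟨_, Subgroup.mem_map_of_mem M.subtype (Sylow.equiv P P₀ b).2⟩)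
  simpa using this

/-- The elements of order `p` of a Sylow subgroup containing `A` are in `A`. -/
theorem pow_eq_one_iff (P : Sylow p M) (hAP : A ≤ (P : Subgroup M).map M.subtype) {x : G}
    (hx : x ∈ (P : Subgroup M).map M.subtype) : x ^ p = 1 ↔ x ∈ A := by
  have hc := h.sylow_abelian_of_le hG hpl P hAP
  refine ⟨fun hxp => h.maxEA.full x (Subgroup.mem_centralizer_iff.mpr fun a ha =>
    congrArg Subtype.val (hc.is_comm.comm ⟨a, hAP ha⟩ ⟨x, hx⟩)) hxp, h.maxEA.ea.2 x⟩

/-- Elements normalizing a Sylow subgroup containing `A` normalize `A`. -/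
theorem normalizer_sylow_le_normalizer (P : Sylow p M) (hAP : A ≤ (P : Subgroup M).map M.subtype) :
    Subgroup.normalizer (((P : Subgroup M).map M.subtype : Subgroup G) : Set G) ≤
      Subgroup.normalizer (A : Set G) := fun n hn => Coprime.mem_normalizer_of_conj_mem fun a ha =>
  (h.pow_eq_one_iff hG hpl P hAP ((Subgroup.mem_normalizer_iff.mp hn a).mp (hAP ha))).mp (by
    rw [conj_pow, h.maxEA.ea.2 a ha, mul_one, mul_inv_cancel])

end Exc

end Cfsg.Agent.OddLocal.Sigma
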