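import Cfsg.Agent.OddLocal.Sigma.Basic
import Cfsg.Agent.Core.RankTwoQd

/-! `M_α` and `M_σ` are Hall subgroups. -/

set_option autoImplicit false
set_option linter.style.haveILetI false
set_option linter.unusedSectionVars false

namespace Cfsg.Agent.OddLocal.Sigma

open Cfsg
open Cfsg.Agent.Core (IsPiNat)

section Abstract

variable {X : Type*} [Group X] [Finite X]

theorem isPiHall_of_sylow_le {π : Set ℕ} {A : Subgroup X} (hA : IsPiNat π (Nat.card A))
    (h : ∀ q : ℕ, q.Prime → q ∈ π → ∃ P : Sylow q X, (P : Subgroup X) ≤ A) : Cfsg.IsPiHall π A := by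
  refine ⟨hA, fun q hq hqπ hd => ?_⟩
  haveI := Fact.mk hq
  obtain ⟨P, hP⟩ := h q hq hqπ
  exact P.not_dvd_index (hd.trans (Subgroup.index_dvd_of_le hP))

/-- The derived subgroup modulo `O_π` is nilpotent and swallows the Sylow subgroups inside it. -/
theorem core_data [Group.IsSolvable X] (hodd : Odd (Nat.card X)) (π : Set ℕ)
    (hπ : ∀ q : ℕ, q.Prime → q ∉ π → PRankLE q 2 X) :
    commutator (X ⧸ piCore π X) ≤ fittingSubgroup (X ⧸ piCore π X) ∧
      ∀ ρ : Set ℕ, π ⊆ ρ → ∀ q : ℕ, q.Prime → q ∈ ρ → ∀ P : Sylow q X,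
        (P : Subgroup X) ≤ commutator X → (P : Subgroup X) ≤ piCore ρ X := by
  set A := piCore π X
  set φ := QuotientGroup.mk' A
  have hA : IsPiNat π (Nat.card A) := Core.isPiNat_card_piCore π X
  have h1 : commutator (X ⧸ A) ≤ fittingSubgroup (X ⧸ A) := by
    refine RankTwo.commutator_le_fitting (hodd.of_dvd_nat (Subgroup.card_quotient_dvd_card A))
      fun q hq hq2 => ?_
    haveI := Fact.mk hq
    refine RankTwo.oddAutSmall_of_rankLE_two hq2 (Core.isPGroup_pCore q _) ?_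
    by_cases hqπ : q ∈ π
    · have hbot : pCore q (X ⧸ A) = ⊥ := by
        have hle : (pCore q (X ⧸ A)).comap φ ≤ A := Core.le_piCore inferInstance
          (Core.isPiNat_card_comap_mk hA (by
            obtain ⟨k, hk⟩ := Core.card_pCore_eq_pow q (X ⧸ A)
            rw [hk]; exact Core.isPiNat_prime_pow hq hqπ k))
        rw [eq_bot_iff]
        intro y hy
        obtain ⟨x, rfl⟩ := QuotientGroup.mk'_surjective A y
        exact Subgroup.mem_bot.mpr ((QuotientGroup.eq_one_iff x).mpr (hle hy))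
      intro B _ _
      have h2 := Subgroup.card_subgroup_dvd_card B
      rw [Subgroup.card_eq_one.mpr hbot] at h2
      rw [Nat.dvd_one.mp h2]
      exact Nat.one_le_pow _ _ hq.pos
    · refine Components.pRankLE_of_injective (pCore q (X ⧸ A)).subtype_injective
        (Core.RankTwoQd.pRankLE_quotient ?_ (hπ q hq hqπ))
      exact (hq.coprime_iff_not_dvd.mpr fun hd => hqπ (hA q hq hd)).symm
  refine ⟨h1, fun ρ hρ q hq hqρ P hP => ?_⟩
  haveI := Fact.mk hq
  have hmap : (P : Subgroup X).map φ ≤ fittingSubgroup (X ⧸ A) := by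
    refine le_trans ?_ h1
    rw [commutator_def, ← Subgroup.map_top_of_surjective φ (QuotientGroup.mk'_surjective A),
      ← Subgroup.map_commutator, ← commutator_def]
    exact Subgroup.map_mono hP
  haveI := Core.isNilpotent_fittingSubgroup (X ⧸ A)
  have hsn : ((P : Subgroup X).map φ).IsSubnormal :=
    Subgroup.IsSubnormal.trans hmap (FGS4.isSubnormal_of_isNilpotent _)
      (inferInstance : (fittingSubgroup (X ⧸ A)).Normal).isSubnormal
  intro x hx
  refine Core.le_piCore (inferInstance : ((pCore q (X ⧸ A)).comap φ).Normal)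
    (Core.isPiNat_card_comap_mk (hA.mono hρ) (by
      obtain ⟨k, hk⟩ := Core.card_pCore_eq_pow q (X ⧸ A)
      rw [hk]; exact Core.isPiNat_prime_pow hq hqρ k)) ?_
  exact Core.le_pCore_of_isSubnormal hsn (P.isPGroup'.map φ) ⟨x, hx, rfl⟩

end Abstract

variable {G : Type*} [Group G] [Finite G]

theorem isPiHallOf_map {π : Set ℕ} {M : Subgroup G} {K : Subgroup M} (h : Cfsg.IsPiHall π K) :
    Cfsg.IsPiHallOf π (K.map M.subtype) M := by
  refine ⟨Subgroup.map_subtype_le _, fun q hq hd => h.1 q hq (by rwa [Core.card_map_subtype] at hd),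
    fun q hq hqπ hd => h.2 q hq hqπ ?_⟩
  rwa [Subgroup.relIndex, Subgroup.subgroupOf, Subgroup.comap_map_eq_self_of_injective M.subtype_injective] at hd

variable (hG : IsMinSimpleOddOrder G)
include hG

/-- `α(M) ⊆ σ(M)`. -/
theorem alpha_subset_sigma {M : Subgroup G} (hM : IsCoatom M) : alpha M ⊆ sigma M := by
  rintro p ⟨hp, hr⟩
  haveI := Fact.mk hp
  obtain ⟨E, hE, hEM, hE3⟩ := Core.BG.exists_ea_of_not_pRankLE hr
  have hEp : IsPGroup p E := Components.ea_isPGroup hE
  obtain ⟨k, hk⟩ := IsPGroup.iff_card.mp hEp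
  have hk0 : k ≠ 0 := by
    rintro rfl
    rw [hk, pow_zero] at hE3
    exact absurd hE3 (not_le.mpr (Nat.one_lt_pow (by norm_num) hp.one_lt))
  refine ⟨hp, (dvd_pow_self p hk0).trans (hk ▸ Subgroup.card_dvd_of_le hEM), ?_⟩
  obtain ⟨P, hP⟩ := (hEp.comap_subtype : IsPGroup p (E.subgroupOf M)).exists_le_sylow
  refine ⟨P, ?_⟩
  set S := (P : Subgroup M).map M.subtype
  have hES : E ≤ S := fun x hx => ⟨⟨x, hEM hx⟩, hP (Subgroup.mem_subgroupOf.mpr hx), rfl⟩
  have hS1 : S ≠ ⊥ := fun h => hk0 (by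
    have hE1 : Nat.card E = 1 := Subgroup.card_eq_one.mpr (le_bot_iff.mp (h ▸ hES))
    rw [hk] at hE1
    exact (Nat.pow_eq_one.mp hE1).resolve_left hp.one_lt.ne')
  obtain ⟨N, ⟨hN, hEN⟩, huniq⟩ := Core.BG.ea_three_unique hG hE hE3
  obtain ⟨N', hN', hle⟩ := (eq_top_or_exists_le_coatom (Subgroup.normalizer (S : Set G))).resolve_left
    (Core.BG.normalizer_ne_top_of_isPGroup hG hS1 (P.isPGroup'.map _))
  rw [huniq M ⟨hM, hEM⟩]
  exact (huniq N' ⟨hN', hES.trans (Subgroup.le_normalizer.trans hle)⟩) ▸ hle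

theorem pRankLE_two_of_notMem_sigma {M : Subgroup G} (hM : IsCoatom M) {q : ℕ} (hq : q.Prime)
    (h : q ∉ sigma M) : PRankLE q 2 M :=
  not_not.mp fun hn => h (alpha_subset_sigma hG hM ⟨hq, hn⟩)

theorem pRankLE_two_of_notMem_alpha {M : Subgroup G} {q : ℕ} (hq : q.Prime) (h : q ∉ alpha M) :
    PRankLE q 2 M :=
  not_not.mp fun hn => h ⟨hq, hn⟩

/-- Sylow `σ(M)`-subgroups of `M` lie in `M'`. -/
theorem sylow_le_commutator {M : Subgroup G} (hM : IsCoatom M) {p : ℕ} [hp : Fact p.Prime]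
    (hσ : p ∈ sigma M) (P : Sylow p M) : (P : Subgroup M) ≤ commutator M := by
  obtain ⟨S, hSM, -⟩ := exists_sylow_le hσ
  have h := sylow_le_derived hG hM hσ S hSM
  obtain ⟨m, hm⟩ := MulAction.exists_smul_eq M (S.subtype hSM) P
  rw [← hm, Sylow.coe_subgroup_smul]
  refine Core.conj_smul_le_iff_of_normal.mpr ?_
  intro x hx
  rw [Sylow.coe_subtype, Subgroup.mem_subgroupOf] at hx
  obtain ⟨y, hy, hye⟩ := (M.map_subtype_commutator).ge (h hx)
  rwa [← show y = x from Subtype.ext hye]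

theorem isPiHall_sigma_of_hallOf {M : Subgroup G} {π : Set ℕ} (hπ : π ⊆ sigma M) {A : Subgroup G}
    (h : Cfsg.IsPiHallOf π A M) : Cfsg.IsPiHall π A := by
  refine ⟨h.2.1, fun q hq hqπ hd => ?_⟩
  haveI := Fact.mk hq
  obtain ⟨S, hSM, -⟩ := exists_sylow_le (hπ hqπ)
  rw [← Subgroup.relIndex_mul_index h.1] at hd
  rcases hq.dvd_mul.mp hd with h1 | h1
  · exact h.2.2 q hq hqπ h1
  · exact S.not_dvd_index (h1.trans (Subgroup.index_dvd_of_le hSM))

theorem alphaCore_facts {M : Subgroup G} (hM : IsCoatom M) :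
    Cfsg.IsPiHall (alpha M) (piCore (alpha M) M) ∧ RankLE 2 (↥M ⧸ piCore (alpha M) M) ∧
      Group.IsNilpotent ↥((commutator ↥M).map (QuotientGroup.mk' (piCore (alpha M) ↥M))) := by
  haveI := Core.BG.isSolvable_proper hG hM.1
  obtain ⟨h1, h2⟩ := core_data (X := M) (odd_of_dvd hG (Subgroup.card_subgroup_dvd_card M)) (alpha M)
    fun q hq h => pRankLE_two_of_notMem_alpha hG hq h
  have hHall : Cfsg.IsPiHall (alpha M) (piCore (alpha M) M) := by
    refine isPiHall_of_sylow_le (Core.isPiNat_card_piCore _ M) fun q hq hqα => ?_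
    haveI := Fact.mk hq
    obtain ⟨P⟩ := (inferInstance : Nonempty (Sylow q M))
    exact ⟨P, h2 _ le_rfl q hq hqα P (sylow_le_commutator hG hM (alpha_subset_sigma hG hM hqα) P)⟩
  refine ⟨hHall, fun q hq => ?_, ?_⟩
  · haveI := Fact.mk hq
    by_cases hqα : q ∈ alpha M
    · intro B _ hBe
      have hB : IsPGroup q B := fun b => ⟨1, Subtype.ext (by rw [pow_one]; exact hBe b b.2)⟩
      obtain ⟨k, hk⟩ := IsPGroup.iff_card.mp hB
      rcases Nat.eq_zero_or_pos k with rfl | hk0
      · rw [hk, pow_zero]; exact Nat.one_le_pow _ _ hq.pos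
      · refine absurd ((dvd_pow_self q hk0.ne').trans (hk ▸ Subgroup.card_subgroup_dvd_card B)) ?_
        rw [← Subgroup.index_eq_card]
        exact hHall.2 q hq hqα
    · exact Core.RankTwoQd.pRankLE_quotient (hq.coprime_iff_not_dvd.mpr fun hd =>
        hqα (Core.isPiNat_card_piCore _ _ q hq hd)).symm (pRankLE_two_of_notMem_alpha hG hq hqα)
  · haveI := Core.isNilpotent_fittingSubgroup (↥M ⧸ piCore (alpha M) M)
    refine Core.isNilpotent_of_le (le_trans ?_ h1) (Core.isNilpotent_fittingSubgroup _)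
    rw [commutator_def, Subgroup.map_commutator,
      Subgroup.map_top_of_surjective _ (QuotientGroup.mk'_surjective _), ← commutator_def]

theorem sigmaCore_hall {M : Subgroup G} (hM : IsCoatom M) :
    Cfsg.IsPiHall (sigma M) (piCore (sigma M) M) := by
  haveI := Core.BG.isSolvable_proper hG hM.1
  obtain ⟨-, h2⟩ := core_data (X := M) (odd_of_dvd hG (Subgroup.card_subgroup_dvd_card M)) (alpha M)
    fun q hq h => pRankLE_two_of_notMem_alpha hG hq h
  refine isPiHall_of_sylow_le (Core.isPiNat_card_piCore _ M) fun q hq hqσ => ?_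
  haveI := Fact.mk hq
  obtain ⟨P⟩ := (inferInstance : Nonempty (Sylow q M))
  exact ⟨P, h2 _ (alpha_subset_sigma hG hM) q hq hqσ P (sylow_le_commutator hG hM hqσ P)⟩

theorem alphaCore_hallOf {M : Subgroup G} (hM : IsCoatom M) :
    Cfsg.IsPiHallOf (alpha M) (alphaCore M) M := isPiHallOf_map (alphaCore_facts hG hM).1

theorem sigmaCore_hallOf {M : Subgroup G} (hM : IsCoatom M) :
    Cfsg.IsPiHallOf (sigma M) (sigmaCore M) M := isPiHallOf_map (sigmaCore_hall hG hM)

omit hG in
theorem alphaCore_le_sigmaCore_of {M : Subgroup G} (h : alpha M ⊆ sigma M) : alphaCore M ≤ sigmaCore M :=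
  Subgroup.map_mono (Core.piCore_mono h)

/-- A normal subgroup of `M` that is a Hall `σ(M)`-subgroup of `M` is `M_σ`. -/
theorem eq_sigmaCore {M : Subgroup G} (hM : IsCoatom M) {N : Subgroup G}
    (hn : M ≤ Subgroup.normalizer (N : Set G)) (hN : Cfsg.IsPiHallOf (sigma M) N M) : N = sigmaCore M := by
  have hle : N.subgroupOf M ≤ piCore (sigma M) M :=
    Core.le_piCore (Subgroup.normal_subgroupOf_of_le_normalizer hn) (fun q hq hd =>
      hN.2.1 q hq (by rwa [Core.card_subgroupOf hN.1] at hd))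
  have heq : N.subgroupOf M = piCore (sigma M) M :=
    Core.eq_of_isPiHall_le ⟨fun q hq hd => hN.2.1 q hq (by rwa [Core.card_subgroupOf hN.1] at hd), hN.2.2⟩
      hle (Core.isPiNat_card_piCore _ _)
  rw [sigmaCore, ← heq, Subgroup.subgroupOf_map_subtype, inf_eq_left.mpr hN.1]

end Cfsg.Agent.OddLocal.Sigma
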