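import Cfsg.Agent.OddLocal.Sigma.AbelianSylow

/-! Invariant cyclic subgroups of maximal order without fixed points in `M_σ`. -/

set_option autoImplicit false
set_option linter.style.haveILetI false
set_option linter.unusedSectionVars false

namespace Cfsg.Agent.OddLocal.Sigma

open Cfsg
open scoped commutatorElement

variable {G : Type*} [Group G] [Finite G] (hG : IsMinSimpleOddOrder G)
  (hpl : ∀ (p : ℕ) [Fact p.Prime] (H : Subgroup G), H ≠ ⊤ → PLengthLE p 1 H)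
include hG hpl

theorem Exc.exists_invariant_cyclic {p : ℕ} [hp : Fact p.Prime] {M E A A0 : Subgroup G} (h : Exc M p A A0)
    (hE : IsComplIn E (sigmaCore M) M) (hpτ : p ∈ tau2 M) (hAE : A ≤ E)
    (hab : ∀ S : Sylow p G, IsMulCommutative (S : Subgroup G))
    (hfix : ∀ e ∈ E, e ≠ 1 → (∀ q : ℕ, q.Prime → q ∣ orderOf e → q ∈ tau1 M ∪ tau3 M) →
      sigmaCore M ⊓ Subgroup.centralizer ({e} : Set G) = ⊥)
    {K : Subgroup G} (hKE : K ≤ E) (hK : ¬ p ∣ Nat.card K) :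
    ∃ (S : Sylow p G) (y : G), (S : Subgroup G) ≤ E ∧ E ≤ Subgroup.normalizer ((S : Subgroup G) : Set G) ∧
      y ∈ (S : Subgroup G) ∧ K ≤ Subgroup.normalizer (Subgroup.zpowers y : Set G) ∧
      (∀ x ∈ (S : Subgroup G), orderOf x ∣ orderOf y) ∧
      ∀ x ∈ Subgroup.zpowers y, orderOf x = p → sigmaCore M ⊓ Subgroup.centralizer ({x} : Set G) = ⊥ := by
  obtain ⟨S, hAS, hSE, hSC, hNS, hSN⟩ := h.sylow_facts hG hpl hE hpτ hAE hab
  have hEA : E ≤ Subgroup.normalizer (A : Set G) := h.le_normalizer_of_compl hG hpl hE hAE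
  have hES : E ≤ Subgroup.normalizer ((S : Subgroup G) : Set G) := hEA.trans hNS
  haveI := hab S
  letI : CommGroup (S : Subgroup G) :=
    { (inferInstance : Group (S : Subgroup G)) with mul_comm := IsMulCommutative.is_comm.comm }
  obtain ⟨g₀, hg₀⟩ := Monoid.exists_orderOf_eq_exponent
    (Monoid.ExponentExists.of_finite : Monoid.ExponentExists (S : Subgroup G))
  obtain ⟨k, hk⟩ := S.isPGroup' g₀
  obtain ⟨n, -, hn⟩ := (Nat.dvd_prime_pow hp.out).mp (orderOf_dvd_of_pow_eq_one hk)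
  rw [hg₀] at hn
  have hexp : ∀ x ∈ (S : Subgroup G), x ^ p ^ n = 1 := fun x hx => by
    have := Monoid.pow_exponent_eq_one (⟨x, hx⟩ : (S : Subgroup G))
    rw [hn] at this
    exact congrArg Subtype.val this
  obtain ⟨e, rfl⟩ : ∃ e, n = e + 1 := ⟨n - 1, by
    rcases Nat.eq_zero_or_pos n with rfl | h0
    · refine (h.maxEA.ne_bot ((Subgroup.eq_bot_iff_forall _).mpr fun a ha => ?_)).elim
      simpa using hexp a (hAS ha)
    · omega⟩
  set W := ((powMonoidHom (p ^ e) : (S : Subgroup G) →* (S : Subgroup G)).range).map (S : Subgroup G).subtype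
    with hWdef
  have hWmem : ∀ w, w ∈ W ↔ ∃ x ∈ (S : Subgroup G), x ^ p ^ e = w := by
    intro w
    constructor
    · rintro ⟨_, ⟨x, rfl⟩, rfl⟩
      exact ⟨x, x.2, rfl⟩
    · rintro ⟨x, hx, rfl⟩
      exact ⟨_, ⟨⟨x, hx⟩, rfl⟩, rfl⟩
  have hWA : W ≤ A := fun w hw => by
    obtain ⟨x, hx, rfl⟩ := (hWmem w).mp hw
    refine h.maxEA.full _ (pow_mem (hSC hx) _) ?_
    rw [← pow_mul, ← pow_succ]
    exact hexp x hx
  have hW1 : W ≠ ⊥ := fun hb => by
    have h1 : (g₀ : G) ^ p ^ e = 1 := Subgroup.mem_bot.mp (hb.le ((hWmem _).mpr ⟨g₀, g₀.2, rfl⟩))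
    have hd : orderOf g₀ ∣ p ^ e := orderOf_dvd_of_pow_eq_one (Subtype.ext h1)
    rw [hg₀, hn] at hd
    have := (Nat.pow_dvd_pow_iff_le_right hp.out.one_lt).mp hd
    omega
  have hNW : Subgroup.normalizer (A : Set G) ≤ Subgroup.normalizer (W : Set G) := fun g hg =>
    Coprime.mem_normalizer_of_conj_mem fun w hw => by
      obtain ⟨x, hx, rfl⟩ := (hWmem w).mp hw
      exact (hWmem _).mpr ⟨g * x * g⁻¹, (Subgroup.mem_normalizer_iff.mp (hNS hg) x).mp hx, conj_pow⟩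
  obtain ⟨L, hLW, hLc, hEL, hLfix⟩ : ∃ L : Subgroup G, L ≤ W ∧ Nat.card L = p ∧
      E ≤ Subgroup.normalizer (L : Set G) ∧ sigmaCore M ⊓ Subgroup.centralizer (L : Set G) = ⊥ := by
    by_cases hWeq : W = A
    · obtain ⟨L, hL⟩ := h.exists_good_line hG hpl hE hpτ hAE hab hfix
      exact ⟨L, hWeq.symm ▸ hL.1, hL.2⟩
    obtain ⟨w, hw, hw1⟩ := W.bot_or_exists_ne_one.resolve_left hW1
    have hWc : Nat.card W = p := le_antisymm (card_le_of_lt_sq h.maxEA.card (lt_of_le_of_ne hWA hWeq))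
      ((h.maxEA.card_zpowers (hWA hw) hw1).symm.le.trans (Subgroup.card_le_of_le (Subgroup.zpowers_le.mpr hw)))
    exact ⟨W, le_rfl, hWc, hEA.trans hNW, h.fpf_of_normalizer_le hG hpl hE hpτ hAE hWA hWc hNW⟩
  obtain ⟨a, ha, ha1⟩ := L.bot_or_exists_ne_one.resolve_left (ne_bot_of_card_prime hLc)
  obtain ⟨x, hx, hxa⟩ := (hWmem a).mp (hLW ha)
  set N := ((powMonoidHom (p ^ e) : (S : Subgroup G) →* (S : Subgroup G)).ker).map (S : Subgroup G).subtype
  have hNmem : ∀ z, z ∈ N ↔ z ∈ (S : Subgroup G) ∧ z ^ p ^ e = 1 := by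
    intro z
    constructor
    · rintro ⟨z', hz', rfl⟩
      exact ⟨z'.2, congrArg Subtype.val hz'⟩
    · rintro ⟨hz, hz'⟩
      exact ⟨⟨z, hz⟩, Subtype.ext hz', rfl⟩
  have hcomm : ∀ {u v : G}, u ∈ (S : Subgroup G) → v ∈ (S : Subgroup G) → Commute u v := fun {u v} hu hv =>
    congrArg Subtype.val (IsMulCommutative.is_comm.comm (⟨u, hu⟩ : (S : Subgroup G)) ⟨v, hv⟩)
  have hzL := zpowers_eq_of_card_prime hLc ha ha1
  obtain ⟨y, hyS, hyN, hKy⟩ := eigen_lift (p := p) S.isPGroup' (hKE.trans hES) (N := N) (K := K)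
    (fun g hg => Coprime.mem_normalizer_of_conj_mem fun z hz => (hNmem _).mpr
      ⟨(Subgroup.mem_normalizer_iff.mp (hES (hKE hg)) z).mp ((hNmem z).mp hz).1,
        by rw [conj_pow, ((hNmem z).mp hz).2, mul_one, mul_inv_cancel]⟩)
    hK hx (fun hN => ha1 (by rw [← hxa]; exact ((hNmem x).mp hN).2))
    ((hNmem _).mpr ⟨pow_mem hx p, by rw [← pow_mul, ← pow_succ']; exact hexp x hx⟩) (fun g hg => by
      obtain ⟨ν, hν⟩ := (mem_powers_iff_mem_zpowers.mpr
        (hzL.ge ((Subgroup.mem_normalizer_iff.mp (hEL (hKE hg)) a).mp ha)) : g * a * g⁻¹ ∈ Submonoid.powers a)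
      simp only at hν
      have hgx : g * x * g⁻¹ ∈ (S : Subgroup G) := (Subgroup.mem_normalizer_iff.mp (hES (hKE hg)) x).mp hx
      refine ⟨ν, (hNmem _).mpr ⟨mul_mem hgx (inv_mem (pow_mem hx ν)), ?_⟩⟩
      rw [(hcomm hgx (inv_mem (pow_mem hx ν))).mul_pow, conj_pow, hxa, ← hν, inv_pow, ← pow_mul, mul_comm ν,
        pow_mul, hxa, mul_inv_cancel])
  obtain ⟨hyS', hy'⟩ := (hNmem _).mp hyN
  have hya : y ^ p ^ e = a ^ Nat.card K := by
    rw [(hcomm hyS (inv_mem (pow_mem hx _))).mul_pow, inv_pow, ← pow_mul, mul_comm, mul_inv_eq_one] at hy'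
    rw [hy', pow_mul, hxa]
  have hne : y ^ p ^ e ≠ 1 := by
    rw [hya]
    intro hcon
    have hd := orderOf_dvd_of_pow_eq_one hcon
    rw [orderOf_eq_prime (h.maxEA.ea.2 a (hWA (hLW ha))) ha1] at hd
    exact hK hd
  have hoy : orderOf y = p ^ (e + 1) := orderOf_eq_prime_pow hne (hexp y hyS)
  refine ⟨S, y, hSE, hES, hyS, hKy, fun u hu => hoy ▸ orderOf_dvd_of_pow_eq_one (hexp u hu), fun u hu huo => ?_⟩
  have hL : Subgroup.zpowers u = L := by
    have hLy : L ≤ Subgroup.zpowers y := by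
      rw [← zpowers_eq_of_card_prime hLc (x := y ^ p ^ e) (by rw [hya]; exact pow_mem ha _) hne]
      exact Subgroup.zpowers_le.mpr (pow_mem (Subgroup.mem_zpowers y) _)
    exact OddLocal.eq_of_card_eq_of_isCyclic (C := Subgroup.zpowers y) inferInstance (Subgroup.zpowers_le.mpr hu) hLy
      (by rw [Nat.card_zpowers, huo, hLc])
  rw [centralizer_singleton_eq hL]
  exact hLfix

end Cfsg.Agent.OddLocal.Sigma
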