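import Cfsg.Agent.OddLocal.Sigma.Tau3Regular

/-! The set `κ(M)` and the standard factorisation `M = K U M_σ` (BG 14.1, 14.2). -/

set_option autoImplicit false
set_option linter.style.haveILetI false
set_option linter.unusedSectionVars false

namespace Cfsg.Agent.OddLocal.Sigma

open Cfsg
open scoped commutatorElement

variable {G : Type*} [Group G] [Finite G]

theorem eq_of_le_of_relIndex_free {K X : Subgroup G} (hKX : K ≤ X)
    (h : ∀ q : ℕ, q.Prime → ¬ q ∣ K.relIndex X) : K = X :=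
  le_antisymm hKX (Subgroup.relIndex_eq_one.mp (Nat.eq_one_iff_not_exists_prime_dvd.mpr h))

/-- A Hall `π`-subgroup of `M` is one of every subgroup of `M` over it. -/
theorem isPiHallOf_of_le {π : Set ℕ} {K X M : Subgroup G} (hK : IsPiHallOf π K M) (hKX : K ≤ X) (hXM : X ≤ M) :
    IsPiHallOf π K X :=
  ⟨hKX, hK.2.1, fun q hq hqπ hd => hK.2.2 q hq hqπ
    (hd.trans (Dvd.intro _ (Subgroup.relIndex_mul_relIndex K X M hKX hXM)))⟩

variable (hG : IsMinSimpleOddOrder G)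
include hG

/-- A prime of rank one outside `σ(M)` has cyclic Sylow subgroups in `M`. -/
theorem exists_conj_zpowers_le {M : Subgroup G} {p : ℕ} [hp : Fact p.Prime] (S : Sylow p M) {P : Subgroup G}
    (hP : Nat.card P = p) (hPM : P ≤ M) : ∃ m ∈ M, cj m P ≤ (S : Subgroup M).map M.subtype := by
  obtain ⟨T, hT⟩ := exists_sylow_map_ge (isPGroup_of_card_prime hP) hPM
  obtain ⟨m, hm⟩ := MulAction.exists_smul_eq M T S
  refine ⟨m, m.2, ?_⟩
  rw [← hm, Sylow.coe_subgroup_smul, Core.conj_smul_eq_map]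
  rintro _ ⟨x, hx, rfl⟩
  obtain ⟨y, hy, rfl⟩ := hT hx
  exact ⟨m * y * m⁻¹, ⟨y, hy, rfl⟩, rfl⟩

omit hG in
theorem not_pRankLE_of_mem_tau2 {M : Subgroup G} {p : ℕ} (h : p ∈ tau2 M) : ¬ PRankLE p 1 M := h.2.2.2

variable (hpl : ∀ (p : ℕ) [Fact p.Prime] (H : Subgroup G), H ≠ ⊤ → PLengthLE p 1 H)
include hpl

/-- Primes of `κ(M)` are in `τ₁(M)`, and all subgroups of that order have fixed points in `M_σ`. -/
theorem kappa_facts {M : Subgroup G} (hM : IsCoatom M) {p : ℕ} (hp : p ∈ kappa M) :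
    p ∈ tau1 M ∧ ∀ P : Subgroup G, P ≤ M → Nat.card P = p →
      sigmaCore M ⊓ Subgroup.centralizer (P : Set G) ≠ ⊥ := by
  obtain ⟨hpp, hpM, hσ, hS⟩ := hp
  haveI := Fact.mk hpp
  have key : ∀ P : Subgroup G, P ≤ M → Nat.card P = p →
      sigmaCore M ⊓ Subgroup.centralizer (P : Set G) ≠ ⊥ := by
    intro P hPM hP
    obtain ⟨S, hPS⟩ := exists_sylow_map_ge (isPGroup_of_card_prime hP) hPM
    obtain ⟨hc, x, hxS, hx1, y, hy, hy1, hxy⟩ := hS S
    set C := (S : Subgroup M).map M.subtype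
    have hCc : IsCyclic C := isCyclic_of_surjective
      ((S : Subgroup M).equivMapOfInjective M.subtype M.subtype_injective).toMonoidHom (MulEquiv.surjective _)
    have hxC : (x : G) ∈ C := ⟨x, hxS, rfl⟩
    have hxp : IsPGroup p (Subgroup.zpowers (x : G)) := (S.isPGroup'.map _).to_le (Subgroup.zpowers_le.mpr hxC)
    have hxne : (x : G) ≠ 1 := fun e => hx1 (Subtype.ext e)
    obtain ⟨v, hv⟩ := exists_prime_orderOf_dvd_card' (G := Subgroup.zpowers (x : G)) p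
      (dvd_card_of_ne_bot hxp fun e => hxne (Subgroup.zpowers_eq_bot.mp e))
    have hPv : Subgroup.zpowers (v : G) = P := OddLocal.eq_of_card_eq_of_isCyclic hCc
      ((Subgroup.zpowers_le.mpr v.2).trans (Subgroup.zpowers_le.mpr hxC)) hPS
      (by rw [Nat.card_zpowers, Subgroup.orderOf_coe, hv, hP])
    intro hbot
    refine hy1 (Subgroup.mem_bot.mp (hbot.le (Subgroup.mem_inf.mpr ⟨hy, ?_⟩)))
    rw [← hPv, ← centralizer_singleton_eq rfl, Subgroup.mem_centralizer_singleton_iff]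
    obtain ⟨i, hi⟩ := Subgroup.mem_zpowers_iff.mp v.2
    rw [← hi]
    exact ((show Commute (x : G) y from hxy).zpow_left i).eq.symm
  refine ⟨?_, key⟩
  have hr : PRankLE p 1 M := by
    by_contra h1
    obtain ⟨E, hE, hEM, hE2⟩ := Core.BG.exists_ea_of_not_pRankLE h1
    obtain ⟨T, hT⟩ := exists_sylow_map_ge (Components.ea_isPGroup hE) hEM
    haveI := (hS T).1
    have hTc : IsCyclic ↥((T : Subgroup M).map M.subtype) := isCyclic_of_surjective
      ((T : Subgroup M).equivMapOfInjective M.subtype M.subtype_injective).toMonoidHom (MulEquiv.surjective _)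
    haveI : IsCyclic E := isCyclic_of_injective (Subgroup.inclusion hT) (Subgroup.inclusion_injective _)
    obtain ⟨g, hg⟩ := IsCyclic.exists_ofOrder_eq_natCard (α := E)
    have h2 : orderOf g ∣ p := orderOf_dvd_of_pow_eq_one (Subtype.ext (hE.2 _ g.2))
    rw [hg] at h2
    have h3 := Nat.le_of_dvd hpp.pos h2
    have h4 : p < p ^ 2 := by
      calc p = p ^ 1 := (pow_one p).symm
        _ < p ^ 2 := Nat.pow_lt_pow_right hpp.one_lt one_lt_two
    exact absurd (lt_of_lt_of_le h4 (hE2.trans h3)) (lt_irrefl _)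
  rcases mem_classes hG hM hpp hpM with h | h | h | h
  · exact absurd h hσ
  · exact h
  · exact absurd hr h.2.2.2
  · obtain ⟨v, hv⟩ := exists_prime_orderOf_dvd_card' p hpM
    have hP : Nat.card (Subgroup.zpowers (v : G)) = p := by rw [Nat.card_zpowers, Subgroup.orderOf_coe, hv]
    exact absurd (tau3_regular hG hpl hM h hP (Subgroup.zpowers_le.mpr v.2)) (key _ (Subgroup.zpowers_le.mpr v.2) hP)

theorem kappa_subset_tau1 {M : Subgroup G} (hM : IsCoatom M) : kappa M ⊆ tau1 M :=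
  fun _ hp => (kappa_facts hG hpl hM hp).1

/-- A non-regular prime of `τ₁(M)` is in `κ(M)`. -/
theorem mem_kappa_of_tau1 {M : Subgroup G} (hM : IsCoatom M) {p : ℕ} [hp : Fact p.Prime] (hpt : p ∈ tau1 M)
    {P : Subgroup G} (hP : Nat.card P = p) (hPM : P ≤ M)
    (hne : sigmaCore M ⊓ Subgroup.centralizer (P : Set G) ≠ ⊥) : p ∈ kappa M := by
  refine ⟨hp.out, hpt.2.2.1, hpt.2.1, fun S => ⟨sylow_isCyclic_of_rankOne hG hpt.2.2.2.2 le_rfl S, ?_⟩⟩
  obtain ⟨m, hm, hle⟩ := exists_conj_zpowers_le hG S hP hPM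
  obtain ⟨π, hπ, hπ1⟩ := P.bot_or_exists_ne_one.resolve_left (ne_bot_of_card_prime hP)
  obtain ⟨y, ⟨hy, hyP⟩, hy1⟩ := Subgroup.bot_or_exists_ne_one _ |>.resolve_left hne
  obtain ⟨x, hx, hxe⟩ := hle ⟨π, hπ, rfl⟩
  simp only [Subgroup.coe_subtype, MulEquiv.coe_toMonoidHom, MulAut.conj_apply] at hxe
  refine ⟨x, hx, fun e => hπ1 (conj_eq_one_iff.mp (by rw [← hxe, e]; rfl)), m * y * m⁻¹,
    (Subgroup.mem_normalizer_iff.mp (le_normalizer_sigmaCore M hm) y).mp hy,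
    fun e => hy1 (conj_eq_one_iff.mp e), ?_⟩
  rw [hxe]
  calc m * π * m⁻¹ * (m * y * m⁻¹) = m * (π * y) * m⁻¹ := by group
    _ = m * (y * π) * m⁻¹ := by rw [Subgroup.mem_centralizer_iff.mp hyP π hπ]
    _ = m * y * m⁻¹ * (m * π * m⁻¹) := by group

/-- A `τ₁(M)`-subgroup lies in a cyclic Hall `τ₁(M)`-subgroup. -/
theorem exists_tau1_hall_ge {M : Subgroup G} (hM : IsCoatom M) {K : Subgroup G} (hKM : K ≤ M)
    (hK : ∀ q : ℕ, q.Prime → q ∣ Nat.card K → q ∈ tau1 M) :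
    ∃ E₁ : Subgroup G, IsPiHallOf (tau1 M) E₁ M ∧ IsCyclic E₁ ∧ K ≤ E₁ := by
  haveI := Core.BG.isSolvable_proper hG hM.1
  obtain ⟨H, hH, hKH⟩ := Core.exists_isPiHall_ge_of_isSolvable (π := tau1 M) (K := K.subgroupOf M)
    (fun q hq hd => hK q hq (by rwa [Core.card_subgroupOf hKM] at hd))
  have hHall := isPiHallOf_map hH
  refine ⟨H.map M.subtype, hHall, ?_, fun x hx => ⟨⟨x, hKM hx⟩, hKH (Subgroup.mem_subgroupOf.mpr hx), rfl⟩⟩
  obtain ⟨E, hE, hHE⟩ := exists_compl_ge hG hM hHall.1 (fun q hq hd => (hHall.2.1 q hq hd).2.1)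
  exact (complIn_structure hG hM hE).2.1 _ (isPiHallOf_of_le hHall hHE hE.1)

/-- `κ(M)` is empty or equal to `τ₁(M)`. -/
theorem kappa_eq_tau1 {M : Subgroup G} (hM : IsCoatom M) (hne : (kappa M).Nonempty) : kappa M = tau1 M := by
  obtain ⟨p, hp⟩ := hne
  haveI := Fact.mk hp.1
  obtain ⟨hpt, hfix⟩ := kappa_facts hG hpl hM hp
  refine Set.Subset.antisymm (kappa_subset_tau1 hG hpl hM) fun q hq => ?_
  haveI := Fact.mk hq.1
  obtain ⟨E₁, hE₁, hc, -⟩ := exists_tau1_hall_ge hG hpl hM (bot_le : (⊥ : Subgroup G) ≤ M)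
    (fun t ht hd => by rw [Subgroup.card_bot] at hd; exact absurd hd ht.not_dvd_one)
  have hdvd : ∀ t : ℕ, t.Prime → t ∈ tau1 M → t ∣ Nat.card E₁ := fun t ht htt => by
    have h1 := htt.2.2.1
    rw [← Core.card_mul_relIndex hE₁.1] at h1
    exact (ht.dvd_mul.mp h1).resolve_right (hE₁.2.2 t ht htt)
  obtain ⟨u, hu⟩ := exists_prime_orderOf_dvd_card' p (hdvd p hp.1 hpt)
  obtain ⟨v, hv⟩ := exists_prime_orderOf_dvd_card' q (hdvd q hq.1 hq)
  have hP : Nat.card (Subgroup.zpowers (u : G)) = p := by rw [Nat.card_zpowers, Subgroup.orderOf_coe, hu]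
  have hQ : Nat.card (Subgroup.zpowers (v : G)) = q := by rw [Nat.card_zpowers, Subgroup.orderOf_coe, hv]
  haveI : IsMulCommutative E₁ := ⟨⟨fun a b => by
    haveI := hc
    letI := IsCyclic.commGroup (α := E₁)
    exact mul_comm a b⟩⟩
  refine mem_kappa_of_tau1 hG hpl hM hq hQ (Subgroup.zpowers_le.mpr (hE₁.1 v.2)) fun h0 =>
    hfix _ (Subgroup.zpowers_le.mpr (hE₁.1 u.2)) hP ?_
  rw [inf_centralizer_eq_of_tau1 hG hpl hM hE₁.1 hE₁.2.1 hP (Subgroup.zpowers_le.mpr u.2),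
    ← inf_centralizer_eq_of_tau1 hG hpl hM hE₁.1 hE₁.2.1 hQ (Subgroup.zpowers_le.mpr v.2), h0]

/-- A Hall `κ(M)`-subgroup exists and each is cyclic. -/
theorem kappa_hall {M : Subgroup G} (hM : IsCoatom M) :
    (∃ K : Subgroup G, IsPiHallOf (kappa M) K M) ∧
      ∀ K : Subgroup G, IsPiHallOf (kappa M) K M → IsCyclic K := by
  rcases Set.eq_empty_or_nonempty (kappa M) with h | h
  · refine ⟨⟨⊥, bot_le, fun q hq hd => ?_, fun q _ hqκ => ?_⟩, fun K hK => ?_⟩
    · rw [Subgroup.card_bot] at hd; exact absurd hd hq.not_dvd_one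
    · rw [h] at hqκ; exact hqκ.elim
    · have : K = ⊥ := Subgroup.card_eq_one.mp (Nat.eq_one_iff_not_exists_prime_dvd.mpr fun q hq hd => by
        have := hK.2.1 q hq hd
        rw [h] at this
        exact this)
      subst this
      infer_instance
  rw [kappa_eq_tau1 hG hpl hM h]
  refine ⟨?_, fun K hK => ?_⟩
  · obtain ⟨E₁, hE₁, -, -⟩ := exists_tau1_hall_ge hG hpl hM (bot_le : (⊥ : Subgroup G) ≤ M)
      (fun t ht hd => by rw [Subgroup.card_bot] at hd; exact absurd hd ht.not_dvd_one)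
    exact ⟨E₁, hE₁⟩
  · obtain ⟨E, hE, hKE⟩ := exists_compl_ge hG hM hK.1 (fun q hq hd => (hK.2.1 q hq hd).2.1)
    exact (complIn_structure hG hM hE).2.1 _ (isPiHallOf_of_le hK hKE hE.1)

/-- The basic facts for a nontrivial Hall `κ(M)`-subgroup `K`. -/
theorem kappa_hall_facts {M K : Subgroup G} (hM : IsCoatom M) (hK : IsPiHallOf (kappa M) K M) (hK1 : K ≠ ⊥) :
    kappa M = tau1 M ∧ sigmaCore M ⊓ Subgroup.centralizer (K : Set G) ≠ ⊥ ∧
      (∀ (p : ℕ) [Fact p.Prime] (P : Subgroup G), Nat.card P = p → P ≤ K →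
        sigmaCore M ⊓ Subgroup.centralizer (P : Set G) = sigmaCore M ⊓ Subgroup.centralizer (K : Set G)) ∧
      ∀ k ∈ K, k ≠ 1 →
        sigmaCore M ⊓ Subgroup.centralizer ({k} : Set G) = sigmaCore M ⊓ Subgroup.centralizer (K : Set G) := by
  obtain ⟨p, hp, hpK⟩ := Nat.exists_prime_and_dvd fun e => hK1 (Subgroup.eq_bot_of_card_eq _ e)
  haveI := Fact.mk hp
  have heq := kappa_eq_tau1 hG hpl hM ⟨p, hK.2.1 p hp hpK⟩
  have hKτ : ∀ q : ℕ, q.Prime → q ∣ Nat.card K → q ∈ tau1 M := fun q hq hd => heq ▸ hK.2.1 q hq hd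
  haveI : IsMulCommutative K := ⟨⟨fun a b => by
    haveI := (kappa_hall hG hpl hM).2 K hK
    letI := IsCyclic.commGroup (α := K)
    exact mul_comm a b⟩⟩
  have hP : ∀ (q : ℕ) [Fact q.Prime] (P : Subgroup G), Nat.card P = q → P ≤ K →
      sigmaCore M ⊓ Subgroup.centralizer (P : Set G) = sigmaCore M ⊓ Subgroup.centralizer (K : Set G) :=
    fun q _ P hPc hPK => inf_centralizer_eq_of_tau1 hG hpl hM hK.1 hKτ hPc hPK
  refine ⟨heq, ?_, hP, fun k hk hk1 => ?_⟩
  · obtain ⟨u, hu⟩ := exists_prime_orderOf_dvd_card' p hpK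
    have hPc : Nat.card (Subgroup.zpowers (u : G)) = p := by rw [Nat.card_zpowers, Subgroup.orderOf_coe, hu]
    rw [← hP p _ hPc (Subgroup.zpowers_le.mpr u.2)]
    exact (kappa_facts hG hpl hM (hK.2.1 p hp hpK)).2 _ (Subgroup.zpowers_le.mpr (hK.1 u.2)) hPc
  · refine le_antisymm ?_ (inf_le_inf_left _ (Subgroup.centralizer_le (Set.singleton_subset_iff.mpr hk)))
    obtain ⟨q, hq, hd⟩ := Nat.exists_prime_and_dvd (show orderOf k ≠ 1 by rwa [ne_eq, orderOf_eq_one_iff])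
    haveI := Fact.mk hq
    set z := k ^ (orderOf k / q)
    have hz : orderOf z = q := orderOf_pow_orderOf_div (orderOf_pos k).ne' hd
    rw [← hP q _ (by rw [Nat.card_zpowers, hz]) (Subgroup.zpowers_le.mpr (pow_mem hk _))]
    refine inf_le_inf_left _ fun c hc => ?_
    rw [← centralizer_singleton_eq rfl, Subgroup.mem_centralizer_singleton_iff]
    exact ((show Commute c k from Subgroup.mem_centralizer_singleton_iff.mp hc).pow_right _).eq

/-- A complement of `M_σ` over `K` meets `C(k)` in `K`. -/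
theorem compl_centralizer_eq {M K E : Subgroup G} (hM : IsCoatom M) (hK : IsPiHallOf (kappa M) K M)
    (hE : IsComplIn E (sigmaCore M) M) (hKE : K ≤ E) {k : G} (hk : k ∈ K) (hk1 : k ≠ 1) :
    E ⊓ Subgroup.centralizer ({k} : Set G) = K := by
  have hK1 : K ≠ ⊥ := fun e => hk1 (Subgroup.mem_bot.mp (e ▸ hk))
  obtain ⟨heq, hne, hP, -⟩ := kappa_hall_facts hG hpl hM hK hK1
  have hKc : K ≤ Subgroup.centralizer ({k} : Set G) := fun a ha => Subgroup.mem_centralizer_singleton_iff.mpr (by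
    haveI := (kappa_hall hG hpl hM).2 K hK
    letI := IsCyclic.commGroup (α := K)
    exact congrArg Subtype.val (mul_comm (⟨a, ha⟩ : K) ⟨k, hk⟩))
  obtain ⟨p, hp, hd⟩ := Nat.exists_prime_and_dvd (show orderOf k ≠ 1 by rwa [ne_eq, orderOf_eq_one_iff])
  haveI := Fact.mk hp
  set z := k ^ (orderOf k / p)
  have hz : orderOf z = p := orderOf_pow_orderOf_div (orderOf_pos k).ne' hd
  set P := Subgroup.zpowers z with hPdef
  have hPc : Nat.card P = p := by rw [Nat.card_zpowers, hz]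
  have hPK : P ≤ K := Subgroup.zpowers_le.mpr (pow_mem hk _)
  have hpt : p ∈ tau1 M := heq ▸ hK.2.1 p hp (hPc ▸ Subgroup.card_dvd_of_le hPK)
  have hne' : sigmaCore M ⊓ Subgroup.centralizer (P : Set G) ≠ ⊥ := by rw [hP p P hPc hPK]; exact hne
  refine (eq_of_le_of_relIndex_free (le_inf hKE hKc) fun q hq hd' => ?_).symm
  haveI := Fact.mk hq
  have hqX : q ∣ Nat.card ↥(E ⊓ Subgroup.centralizer ({k} : Set G)) :=
    hd'.trans (Dvd.intro_left _ (Core.card_mul_relIndex (le_inf hKE hKc)))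
  have hqσ := complIn_notMem_sigma hG hM hE hq (hqX.trans (Subgroup.card_dvd_of_le inf_le_left))
  obtain ⟨u, hu⟩ := exists_prime_orderOf_dvd_card' q hqX
  set Q := Subgroup.zpowers (u : G)
  have hQ : Nat.card Q = q := by rw [Nat.card_zpowers, Subgroup.orderOf_coe, hu]
  have hQM : Q ≤ M := Subgroup.zpowers_le.mpr (hE.1 u.2.1)
  have hQP : Q ≤ Subgroup.centralizer (P : Set G) := Subgroup.zpowers_le.mpr (by
    rw [← centralizer_singleton_eq hPdef.symm, Subgroup.mem_centralizer_singleton_iff]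
    exact ((show Commute (u : G) k from Subgroup.mem_centralizer_singleton_iff.mp u.2.2).pow_right _).eq)
  rcases mem_classes hG hM hq (hQ ▸ Subgroup.card_dvd_of_le hQM) with h | h | h | h
  · exact hqσ h
  · exact hK.2.2 q hq (heq ▸ h) (hd'.trans (Dvd.intro _
      (Subgroup.relIndex_mul_relIndex K _ M (le_inf hKE hKc) (inf_le_left.trans hE.1))))
  · exact hne' (tau12_regular hG hpl hM hpt hPc (hPK.trans hK.1) h hQM hQ hQP)
  · refine hne' (le_bot_iff.mp ?_)
    rw [← tau3_regular hG hpl hM h hQ hQM]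
    exact cent_tau1_le hG hpl hM hpt hPc (hPK.trans hK.1) hQ hQM hqσ hQP

/-- `C_M(k) = K C_{M_σ}(K)` for `1 ≠ k ∈ K`. -/
theorem inf_centralizer_kappa {M K : Subgroup G} (hM : IsCoatom M) (hK : IsPiHallOf (kappa M) K M) {k : G}
    (hk : k ∈ K) (hk1 : k ≠ 1) :
    M ⊓ Subgroup.centralizer ({k} : Set G) = K ⊔ (sigmaCore M ⊓ Subgroup.centralizer (K : Set G)) := by
  have hK1 : K ≠ ⊥ := fun e => hk1 (Subgroup.mem_bot.mp (e ▸ hk))
  obtain ⟨-, -, -, hC⟩ := kappa_hall_facts hG hpl hM hK hK1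
  obtain ⟨E, hE, hKE⟩ := exists_compl_ge hG hM hK.1 (fun q hq hd => (hK.2.1 q hq hd).2.2.1)
  refine le_antisymm ?_ (sup_le ?_ ?_)
  · rintro m ⟨hm, hmk⟩
    obtain ⟨e, he, d, hd, rfl⟩ := hE.2.2.2 m hm
    have hc : e * d * k = k * (e * d) := Subgroup.mem_centralizer_singleton_iff.mp hmk
    have h1 : k⁻¹ * (e⁻¹ * k * e) = k⁻¹ * d * k * d⁻¹ := by
      rw [show e⁻¹ * k * e = d * k * d⁻¹ from by
        calc e⁻¹ * k * e = e⁻¹ * (k * (e * d)) * d⁻¹ := by group
          _ = e⁻¹ * (e * d * k) * d⁻¹ := by rw [hc]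
          _ = d * k * d⁻¹ := by group]
      group
    have h2 : k⁻¹ * (e⁻¹ * k * e) ∈ E ⊓ sigmaCore M := Subgroup.mem_inf.mpr
      ⟨mul_mem (inv_mem (hKE hk)) (mul_mem (mul_mem (inv_mem he) (hKE hk)) he), by
        rw [h1]
        refine mul_mem ?_ (inv_mem hd)
        have := (Subgroup.mem_normalizer_iff.mp (le_normalizer_sigmaCore M (inv_mem (hK.1 hk))) d).mp hd
        rwa [inv_inv] at this⟩
    rw [hE.2.2.1, Subgroup.mem_bot, inv_mul_eq_one] at h2
    have hek : e * k = k * e := by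
      conv_lhs => rw [h2]
      group
    have hdk : d * k = k * d := by
      refine mul_left_cancel (a := e) ?_
      rw [← mul_assoc, hc, ← mul_assoc, ← mul_assoc, hek]
    refine mul_mem (Subgroup.mem_sup_left ?_) (Subgroup.mem_sup_right ?_)
    · rw [← compl_centralizer_eq hG hpl hM hK hE hKE hk hk1]
      exact ⟨he, Subgroup.mem_centralizer_singleton_iff.mpr hek⟩
    · rw [← hC k hk hk1]
      exact ⟨hd, Subgroup.mem_centralizer_singleton_iff.mpr hdk⟩
  · exact le_inf hK.1 ((compl_centralizer_eq hG hpl hM hK hE hKE hk hk1).ge.trans inf_le_right)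
  · exact le_inf (inf_le_left.trans (sigmaCore_le M)) ((hC k hk hk1).ge.trans inf_le_right)

/-- A complement over `K ≠ 1` is `K U` with `U` normal, abelian and regular under `K`. -/
theorem exists_normal_kappa_compl {M K E : Subgroup G} (hM : IsCoatom M) (hK : IsPiHallOf (kappa M) K M)
    (hK1 : K ≠ ⊥) (hE : IsComplIn E (sigmaCore M) M) (hKE : K ≤ E) :
    ∃ U : Subgroup G, U ≤ E ∧ E ≤ Subgroup.normalizer (U : Set G) ∧ IsMulCommutative U ∧
      IsPiHallOf {q | q.Prime ∧ q ∉ kappa M ∧ q ∉ sigma M} U M ∧ K ⊓ U = ⊥ ∧ (∀ e ∈ E, ∃ a ∈ U, ∃ b ∈ K, e = a * b) ∧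
      ∀ k ∈ K, k ≠ 1 → U ⊓ Subgroup.centralizer ({k} : Set G) = ⊥ := by
  obtain ⟨heq, -, -, -⟩ := kappa_hall_facts hG hpl hM hK hK1
  haveI := Core.BG.isSolvable_proper hG (fun e => hM.1 (top_le_iff.mp (e ▸ hE.1)) : E ≠ ⊤)
  set π : Set ℕ := (tau1 M)ᶜ
  have hcom : Core.IsPiNat π (Nat.card ↥(commutator E)) := fun q hq hd ht => by
    refine ht.2.2.2.1 (dvd_trans ?_ (Subgroup.card_dvd_of_le (Subgroup.commutator_mono hE.1 hE.1)))
    rwa [← E.map_subtype_commutator, Core.card_map_subtype]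
  obtain ⟨T, hT, hTc⟩ := Core.exists_isPiHall_ge_of_isSolvable hcom
  haveI : T.Normal := Subgroup.Normal.of_commutator_le _ hTc
  set U := T.map E.subtype with hU
  have hUE : U ≤ E := Subgroup.map_subtype_le _
  have hEU : E ≤ Subgroup.normalizer (U : Set G) := le_normalizer_map_of_normal T
  have hUπ : ∀ q : ℕ, q.Prime → q ∣ Nat.card U → q ∉ tau1 M ∧ q ∉ sigma M := fun q hq hd =>
    ⟨hT.1 q hq (by rwa [hU, Core.card_map_subtype] at hd),
      complIn_notMem_sigma hG hM hE hq (hd.trans (Subgroup.card_dvd_of_le hUE))⟩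
  have hKU : K ⊓ U = ⊥ := Coprime.inf_eq_bot_of_coprime (Nat.coprime_of_dvd fun q hq h1 h2 =>
    (hUπ q hq h1).1 (heq ▸ hK.2.1 q hq h2))
  have hUi : ∀ q : ℕ, q.Prime → q ∣ U.relIndex E → q ∈ tau1 M := fun q hq hd => by
    by_contra hc
    refine hT.2 q hq hc ?_
    rwa [hU, Subgroup.relIndex, show Subgroup.subgroupOf (T.map E.subtype) E = T from
      Subgroup.comap_map_eq_self_of_injective E.subtype_injective _] at hd
  have hKN : K ≤ Subgroup.normalizer (U : Set G) := hKE.trans hEU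
  have hEsup : U ⊔ K = E := by
    refine Subgroup.eq_of_le_of_card_ge (sup_le hUE hKE) (Nat.le_of_dvd Nat.card_pos ?_)
    rw [Coprime.card_sup hKN (by rw [inf_comm]; exact hKU), ← Core.card_mul_relIndex hUE]
    refine mul_dvd_mul_left _ (Nat.Coprime.dvd_of_dvd_mul_right (n := K.relIndex E) ?_ ?_)
    · refine Nat.coprime_of_dvd fun q hq h1 h2 => ?_
      exact hK.2.2 q hq (heq ▸ hUi q hq h1) (h2.trans (Dvd.intro _ (Subgroup.relIndex_mul_relIndex K E M hKE hE.1)))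
    · rw [Core.card_mul_relIndex hKE]
      exact Dvd.intro_left _ (Core.card_mul_relIndex hUE)
  have hreg : ∀ k ∈ K, k ≠ 1 → U ⊓ Subgroup.centralizer ({k} : Set G) = ⊥ := fun k hk hk1 => by
    rw [eq_bot_iff, ← hKU]
    exact le_inf ((inf_le_inf_right _ hUE).trans (compl_centralizer_eq hG hpl hM hK hE hKE hk hk1).le) inf_le_left
  have hnil : Group.IsNilpotent U := by
    obtain ⟨q, hq, hd⟩ := Nat.exists_prime_and_dvd fun e => hK1 (Subgroup.eq_bot_of_card_eq _ e)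
    haveI := Fact.mk hq
    obtain ⟨k, hk⟩ := exists_prime_orderOf_dvd_card' q hd
    refine Core.BG.isNilpotent_of_fpf_prime hq (x := (k : G)) (by rw [Subgroup.orderOf_coe, hk]) (hKN k.2)
      (hreg k k.2 fun e => hq.one_lt.ne (by rw [← hk, ← Subgroup.orderOf_coe, e, orderOf_one]))
  refine ⟨U, hUE, hEU, isMulCommutative_of_nilpotent_le hG hpl hM (hUE.trans hE.1) fun q hq hd => (hUπ q hq hd).2,
    ⟨hUE.trans hE.1, fun q hq hd => ⟨hq, fun hκ => (hUπ q hq hd).1 (heq ▸ hκ), (hUπ q hq hd).2⟩,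
      fun q hq ⟨_, hκ, hσ⟩ hd => ?_⟩, hKU, fun e he => ?_, hreg⟩
  · rw [← Subgroup.relIndex_mul_relIndex U E M hUE hE.1] at hd
    rcases hq.dvd_mul.mp hd with h | h
    · exact hκ (heq ▸ hUi q hq h)
    · exact hσ (complIn_index_isPiNat hG hE q hq h)
  · obtain ⟨a, ha, b, hb, hab⟩ := Coprime.exists_mul_of_mem_sup hKN (hEsup.ge he)
    exact ⟨a, ha, b, hb, hab.symm⟩

end Cfsg.Agent.OddLocal.Sigma
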