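import Cfsg.Agent.OddLocal.Sigma.TauTwo

/-! Lines of an elementary subgroup of order `p ^ 2` and the action of a `p`-element normalizing it. -/

set_option autoImplicit false
set_option linter.style.haveILetI false
set_option linter.unusedSectionVars false

namespace Cfsg.Agent.OddLocal.Sigma

open Cfsg
open scoped commutatorElement

variable {G : Type*} [Group G] [Finite G] {p : ℕ} [hp : Fact p.Prime]

theorem card_le_of_lt_sq {A B : Subgroup G} (hA : Nat.card A = p ^ 2) (hB : B < A) : Nat.card B ≤ p := by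
  obtain ⟨k, hk⟩ := IsPGroup.iff_card.mp ((IsPGroup.of_card hA).to_le hB.le)
  have hlt : Nat.card B < Nat.card A := Set.Finite.card_lt_card (Set.toFinite _) hB
  rw [hk, hA] at hlt
  rw [hk]
  have h2 := (Nat.pow_lt_pow_iff_right hp.out.one_lt).mp hlt
  exact (Nat.pow_le_pow_right hp.out.pos (show k ≤ 1 by omega)).trans (pow_one p).le

theorem ne_bot_of_card_prime {X : Subgroup G} (hX : Nat.card X = p) : X ≠ ⊥ := fun e =>
  hp.out.one_lt.ne (by rw [← hX, e, Subgroup.card_bot])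

theorem zpowers_eq_of_card_prime {X : Subgroup G} (hX : Nat.card X = p) {x : G} (hx : x ∈ X) (hx1 : x ≠ 1) :
    Subgroup.zpowers x = X := by
  refine Subgroup.eq_of_le_of_card_ge (Subgroup.zpowers_le.mpr hx) ?_
  have hd : Nat.card (Subgroup.zpowers x) ∣ p := hX ▸ Subgroup.card_dvd_of_le (Subgroup.zpowers_le.mpr hx)
  rw [hX]
  exact (((Nat.dvd_prime hp.out).mp hd).resolve_left fun e =>
    hx1 (Subgroup.zpowers_eq_bot.mp (Subgroup.card_eq_one.mp e))).ge

theorem eq_of_card_prime {X Y : Subgroup G} (hX : Nat.card X = p) (hY : Nat.card Y = p) {x : G} (hxX : x ∈ X)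
    (hxY : x ∈ Y) (hx1 : x ≠ 1) : X = Y :=
  (zpowers_eq_of_card_prime hX hxX hx1).symm.trans (zpowers_eq_of_card_prime hY hxY hx1)

theorem sup_eq_of_ne {A X Y : Subgroup G} (hA : Nat.card A = p ^ 2) (hX : Nat.card X = p) (hY : Nat.card Y = p)
    (hXA : X ≤ A) (hYA : Y ≤ A) (hne : X ≠ Y) : X ⊔ Y = A := by
  by_contra h
  have hc := card_le_of_lt_sq hA (lt_of_le_of_ne (sup_le hXA hYA) h)
  exact hne ((Subgroup.eq_of_le_of_card_ge (le_sup_left : X ≤ X ⊔ Y) (hc.trans hX.ge)).trans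
    (Subgroup.eq_of_le_of_card_ge (le_sup_right : Y ≤ X ⊔ Y) (hc.trans hY.ge)).symm)

/-- A `p`-element moving `A` fixes one line and permutes the others transitively. -/
theorem transvection {A : Subgroup G} (hAe : IsElementaryAbelian p A) (hA2 : Nat.card A = p ^ 2) {S : Subgroup G}
    (hS : IsPGroup p S) (hAS : A ≤ S) {u : G} (huS : u ∈ S) (huN : u ∈ Subgroup.normalizer (A : Set G))
    (huC : u ∉ Subgroup.centralizer (A : Set G)) :
    Nat.card ↥(A ⊓ Subgroup.centralizer ({u} : Set G)) = p ∧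
      ∀ X Y : Subgroup G, X ≤ A → Y ≤ A → Nat.card X = p → Nat.card Y = p →
        X ≠ A ⊓ Subgroup.centralizer ({u} : Set G) → Y ≠ A ⊓ Subgroup.centralizer ({u} : Set G) →
        ∃ j : ℕ, Y = cj (u ^ j) X := by
  set Z := A ⊓ Subgroup.centralizer ({u} : Set G) with hZdef
  set T := S ⊓ Subgroup.normalizer (A : Set G)
  have hAT : A ≤ T := le_inf hAS Subgroup.le_normalizer
  haveI : Group.IsNilpotent T := (hS.to_le inf_le_left).isNilpotent
  set U := Subgroup.zpowers u
  have hUT : U ≤ T := Subgroup.zpowers_le.mpr ⟨huS, huN⟩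
  set W := ⁅A, U⁆
  have hA1 : A ≠ ⊥ := fun e => by
    rw [e, Subgroup.card_bot] at hA2
    exact absurd hA2.symm (Nat.one_lt_pow two_ne_zero hp.out.one_lt).ne'
  have hUN : U ≤ Subgroup.normalizer (A : Set G) := Subgroup.zpowers_le.mpr huN
  have hWA : W ≤ A := Coprime.commutator_le_of_le_normalizer hUN
  have hWlt : W < A := lt_of_le_of_ne hWA fun e =>
    hA1 (Transfer.eq_bot_of_le_commutator hAT (e.ge.trans (Subgroup.commutator_mono le_rfl hUT)))
  have hUW : U ≤ Subgroup.normalizer (W : Set G) := Subgroup.normalizer_commutator_ge_right A U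
  have hWU : ⁅W, U⁆ = ⊥ := by
    by_contra hne
    have hle : ⁅W, U⁆ ≤ W := Coprime.commutator_le_of_le_normalizer hUW
    have hcW := card_le_of_lt_sq hA2 hWlt
    obtain ⟨k, hk⟩ := IsPGroup.iff_card.mp ((IsPGroup.of_card hA2).to_le (hle.trans hWA))
    have hk0 : k ≠ 0 := fun e => hne (Subgroup.eq_bot_of_card_eq _ (by rw [hk, e, pow_zero]))
    have heq : ⁅W, U⁆ = W := Subgroup.eq_of_le_of_card_ge hle
      (hcW.trans (hk ▸ Nat.le_self_pow hk0 p))
    exact hne (heq.trans (Transfer.eq_bot_of_le_commutator (hWA.trans hAT)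
      (heq.ge.trans (Subgroup.commutator_mono le_rfl hUT))))
  have hWZ : W ≤ Z := le_inf hWA fun w hw => Subgroup.mem_centralizer_singleton_iff.mpr
    (Subgroup.mem_centralizer_iff.mp (Subgroup.commutator_eq_bot_iff_le_centralizer.mp hWU hw) u
      (Subgroup.mem_zpowers u)).symm
  have hZlt : Z < A := lt_of_le_of_ne inf_le_left fun e => huC (Subgroup.mem_centralizer_iff.mpr fun a ha =>
    Subgroup.mem_centralizer_singleton_iff.mp ((e.ge ha).2))
  have hW1 : W ≠ ⊥ := fun e => huC ((Subgroup.le_centralizer_iff.mp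
    (Subgroup.commutator_eq_bot_iff_le_centralizer.mp e)) (Subgroup.mem_zpowers u))
  have hZc : Nat.card Z = p := by
    refine le_antisymm (card_le_of_lt_sq hA2 hZlt) ?_
    obtain ⟨k, hk⟩ := IsPGroup.iff_card.mp ((IsPGroup.of_card hA2).to_le hZlt.le)
    have hk0 : k ≠ 0 := fun e => hW1 (le_bot_iff.mp
      ((Subgroup.eq_bot_of_card_eq Z (by rw [hk, e, pow_zero])) ▸ hWZ))
    exact hk ▸ Nat.le_self_pow hk0 p
  refine ⟨hZc, fun X Y hXA hYA hX hY hXZ hYZ => ?_⟩
  obtain ⟨a, ha, ha1⟩ := X.bot_or_exists_ne_one.resolve_left (ne_bot_of_card_prime hX)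
  set c := ⁅u, a⁆ with hcdef
  have hcW : c ∈ W := by
    rw [show W = ⁅U, A⁆ from Subgroup.commutator_comm A U]
    exact Subgroup.commutator_mem_commutator (Subgroup.mem_zpowers u) (hXA ha)
  have hcZ : c ∈ Z := hWZ hcW
  have huc : u * c = c * u := (Subgroup.mem_centralizer_singleton_iff.mp hcZ.2).symm
  have hc1 : c ≠ 1 := fun e => hXZ (eq_of_card_prime hX hZc ha ⟨hXA ha,
    Subgroup.mem_centralizer_singleton_iff.mpr (commutatorElement_eq_one_iff_mul_comm.mp e).symm⟩ ha1)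
  have hac : Commute a c := PLocal.comm_of_EA hAe (hXA ha) (hWA hcW)
  have hstep : ∀ j : ℕ, u ^ j * a * (u ^ j)⁻¹ = a * c ^ j := by
    intro j
    induction j with
    | zero => simp
    | succ j ih =>
      have h1 : u * a * u⁻¹ = c * a := by rw [hcdef, commutatorElement_def]; group
      have h2 : u * c ^ j * u⁻¹ = c ^ j := by
        rw [((show Commute u c from huc).pow_right j).eq, mul_inv_cancel_right]
      calc u ^ (j + 1) * a * (u ^ (j + 1))⁻¹ = u * (u ^ j * a * (u ^ j)⁻¹) * u⁻¹ := by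
            rw [pow_succ', mul_inv_rev]; simp only [mul_assoc]
        _ = (u * a * u⁻¹) * (u * c ^ j * u⁻¹) := by rw [ih]; group
        _ = a * c ^ (j + 1) := by rw [h1, h2, ← hac.eq, pow_succ', ← mul_assoc]
  have hsup : Y ⊔ Z = A := sup_eq_of_ne hA2 hY hZc hYA inf_le_left hYZ
  obtain ⟨v, hv, z, hz, hvz⟩ := Coprime.exists_mul_of_mem_sup (N := Y) (A := Z)
    ((inf_le_left.trans ((Subgroup.le_centralizer_iff_isMulCommutative.mpr hAe.1).trans
      (Subgroup.centralizer_le hYA))).trans (Subgroup.centralizer_le_normalizer _)) (hsup.ge (hXA ha))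
  obtain ⟨j, hj⟩ := (mem_powers_iff_mem_zpowers.mpr
    ((zpowers_eq_of_card_prime hZc hcZ hc1).ge (inv_mem hz)) : z⁻¹ ∈ Submonoid.powers c)
  have hv1 : v ≠ 1 := fun e => hXZ (eq_of_card_prime hX hZc ha (by rw [← hvz, e, one_mul]; exact hz) ha1)
  have hv' : v = a * c ^ j := by
    simp only at hj
    rw [hj, ← hvz, mul_inv_cancel_right]
  refine ⟨j, eq_of_card_prime hY (by rw [card_cj, hX]) hv ⟨a, ha, ?_⟩ hv1⟩
  rw [hv', ← hstep j]
  rfl

end Cfsg.Agent.OddLocal.Sigma
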