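import Cfsg.Agent.OddLocal.Sigma.Hall
import Cfsg.Agent.OddLocal.FixOrderP
import Cfsg.Agent.Coprime.Action
import Cfsg.Agent.Transfer.PGroupNormal

/-! Uniqueness from rank two inside `M_α`, and the primes outside `σ(M)`. -/

set_option autoImplicit false
set_option linter.style.haveILetI false
set_option linter.unusedSectionVars false

namespace Cfsg.Agent.OddLocal.Sigma

open Cfsg

variable {G : Type*} [Group G] [Finite G]

/-- `M` is the only maximal subgroup containing `X`. -/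
def Only (M X : Subgroup G) : Prop := ∀ L : Subgroup G, IsCoatom L → X ≤ L → L = M

theorem Only.mono {M X Y : Subgroup G} (h : Only M X) (hXY : X ≤ Y) : Only M Y :=
  fun L hL hY => h L hL (hXY.trans hY)

theorem Only.le {M X : Subgroup G} (h : Only M X) (hX : X ≠ ⊤) : X ≤ M := by
  obtain ⟨L, hL, hle⟩ := (eq_top_or_exists_le_coatom X).resolve_left hX
  exact (h L hL hle) ▸ hle

theorem only_of_unique {M X : Subgroup G} (hX : InUniqueMaximal X) (hM : IsCoatom M) (hXM : X ≤ M) :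
    Only M X := fun _ hL hXL => hX.unique ⟨hL, hXL⟩ ⟨hM, hXM⟩

theorem exists_ea_sq_of_rank {p : ℕ} [hp : Fact p.Prime] {K : Subgroup G} (hr2 : PRankLE p 2 K)
    (hr1 : ¬ PRankLE p 1 K) : ∃ A : Subgroup G, A ≤ K ∧ IsElementaryAbelian p A ∧ Nat.card A = p ^ 2 := by
  obtain ⟨E, hE, hEK, hE2⟩ := Core.BG.exists_ea_of_not_pRankLE hr1
  refine ⟨E, hEK, hE, le_antisymm ?_ hE2⟩
  have he := PLocal.isEA_comap hE K.subtype K.subtype_injective
  have hc := hr2 _ he.1 he.2
  change Nat.card ↥(E.subgroupOf K) ≤ p ^ 2 at hc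
  rwa [Core.card_subgroupOf hEK] at hc

theorem card_ea_le {p k : ℕ} {K A : Subgroup G} (hr : PRankLE p k K) (hA : IsElementaryAbelian p A)
    (hAK : A ≤ K) : Nat.card A ≤ p ^ k := by
  have he := PLocal.isEA_comap hA K.subtype K.subtype_injective
  have hc := hr _ he.1 he.2
  change Nat.card ↥(A.subgroupOf K) ≤ p ^ k at hc
  rwa [Core.card_subgroupOf hAK] at hc

theorem not_pRankLE_of_ea {p k : ℕ} {K A : Subgroup G} (hA : IsElementaryAbelian p A) (hAK : A ≤ K)
    (hc : p ^ k < Nat.card A) : ¬ PRankLE p k K := fun h => absurd (card_ea_le h hA hAK) (not_le.mpr hc)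

/-- `Ω₁(Z(S))`. -/
def omegaCenter (p : ℕ) (S : Subgroup G) : Subgroup G where
  carrier := {x | x ∈ S ⊓ Subgroup.centralizer (S : Set G) ∧ x ^ p = 1}
  one_mem' := ⟨one_mem _, one_pow p⟩
  mul_mem' := fun {a b} ha hb => ⟨mul_mem ha.1 hb.1, by
    have hab : Commute a b := (Subgroup.mem_centralizer_iff.mp hb.1.2 a ha.1.1)
    rw [hab.mul_pow, ha.2, hb.2, one_mul]⟩
  inv_mem' := fun {a} ha => ⟨inv_mem ha.1, by rw [inv_pow, ha.2, inv_one]⟩

theorem omegaCenter_le (p : ℕ) (S : Subgroup G) : omegaCenter p S ≤ S := fun _ hx => hx.1.1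

theorem omegaCenter_ea (p : ℕ) (S : Subgroup G) : IsElementaryAbelian p (omegaCenter p S) :=
  ⟨⟨⟨fun a b => Subtype.ext (Subgroup.mem_centralizer_iff.mp b.2.1.2 a.1 a.2.1.1)⟩⟩, fun _ ha => ha.2⟩

theorem le_normalizer_omegaCenter (p : ℕ) (S : Subgroup G) :
    Subgroup.normalizer (S : Set G) ≤ Subgroup.normalizer (omegaCenter p S : Set G) := fun n hn =>
  Coprime.mem_normalizer_of_conj_mem fun x hx => ⟨⟨(Subgroup.mem_normalizer_iff.mp hn x).mp hx.1.1,
    Subgroup.mem_centralizer_iff.mpr fun y hy => by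
      have h := Subgroup.mem_centralizer_iff.mp hx.1.2 (n⁻¹ * y * n) ((Subgroup.mem_normalizer_iff''.mp hn y).mp hy)
      calc y * (n * x * n⁻¹) = n * (n⁻¹ * y * n * x) * n⁻¹ := by group
        _ = n * (x * (n⁻¹ * y * n)) * n⁻¹ := by rw [h]
        _ = _ := by group⟩, by rw [conj_pow, hx.2, mul_one, mul_inv_cancel]⟩

theorem omegaCenter_ne_bot {p : ℕ} [hp : Fact p.Prime] {S : Subgroup G} (hS : IsPGroup p S) (h1 : S ≠ ⊥) :
    omegaCenter p S ≠ ⊥ := by
  haveI : Nontrivial S := (Subgroup.nontrivial_iff_ne_bot S).mpr h1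
  haveI := hS.center_nontrivial
  obtain ⟨c, hc⟩ : ∃ c : Subgroup.center S, orderOf c = p := by
    refine exists_prime_orderOf_dvd_card' p ?_
    obtain ⟨k, hk⟩ := IsPGroup.iff_card.mp (hS.to_subgroup (Subgroup.center S))
    rcases Nat.eq_zero_or_pos k with rfl | hk0
    · rw [pow_zero] at hk
      exact absurd hk (Finite.one_lt_card (α := Subgroup.center S)).ne'
    · exact hk ▸ dvd_pow_self p hk0.ne'
  intro hb
  have hmem : ((c : S) : G) ∈ omegaCenter p S := ⟨⟨c.1.2, Subgroup.mem_centralizer_iff.mpr fun y hy =>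
    congrArg Subtype.val (Subgroup.mem_center_iff.mp c.2 ⟨y, hy⟩)⟩, by
      rw [← SubgroupClass.coe_pow, ← SubgroupClass.coe_pow, ← hc, pow_orderOf_eq_one]; rfl⟩
  rw [hb, Subgroup.mem_bot] at hmem
  rw [show c = 1 from Subtype.ext (Subtype.ext hmem), orderOf_one] at hc
  exact hp.out.one_lt.ne hc

variable (hG : IsMinSimpleOddOrder G)
include hG

/-- Ten point three. -/
theorem unique_centralizer {M : Subgroup G} (hM : IsCoatom M) {X : Subgroup G} (hXM : X ≤ M)
    (hXα : ∀ p : ℕ, p.Prime → p ∣ Nat.card X → p ∉ alpha M)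
    (hr : ¬ RankLE 1 ↥(alphaCore M ⊓ Subgroup.centralizer (X : Set G))) :
    InUniqueMaximal (M ⊓ Subgroup.centralizer (X : Set G)) := by
  simp only [RankLE, not_forall] at hr
  obtain ⟨q, hq, hr⟩ := hr
  haveI := Fact.mk hq
  obtain ⟨E, hE, hEK, hE2⟩ := Core.BG.exists_ea_of_not_pRankLE hr
  have hαM : alphaCore M ≤ M := Subgroup.map_subtype_le _
  have hEα : E ≤ alphaCore M := hEK.trans inf_le_left
  have hEC : E ≤ Subgroup.centralizer (X : Set G) := hEK.trans inf_le_right
  have hKtop : M ⊓ Subgroup.centralizer (X : Set G) ≠ ⊤ := fun h => hM.1 (top_le_iff.mp (h ▸ inf_le_left))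
  have hEK' : E ≤ M ⊓ Subgroup.centralizer (X : Set G) := le_inf (hEα.trans hαM) hEC
  by_cases hE3 : q ^ 3 ≤ Nat.card E
  · exact Core.BG.inUniqueMaximal_of_le hG (Core.BG.ea_three_unique hG hE hE3) hEK' hKtop
  have hEp : IsPGroup q E := Components.ea_isPGroup hE
  obtain ⟨k, hk⟩ := IsPGroup.iff_card.mp hEp
  have hk2 : k = 2 := by
    rw [hk] at hE3 hE2
    have h1 := (Nat.pow_le_pow_iff_right hq.one_lt).mp hE2
    by_contra h
    exact hE3 (Nat.pow_le_pow_right hq.pos (by omega))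
  subst hk2
  have hqE : q ∣ Nat.card E := hk ▸ dvd_pow_self q two_ne_zero
  have hqα : q ∈ alpha M := (alphaCore_hallOf hG hM).2.1 q hq (hqE.trans (Subgroup.card_dvd_of_le hEα))
  have hq2 : q ≠ 2 := ne_two_of_dvd hG (hqE.trans (Subgroup.card_subgroup_dvd_card E))
  have hcop : (Nat.card X).Coprime (Nat.card (alphaCore M)) :=
    Nat.coprime_of_dvd fun r hr' h1 h2 => hXα r hr' h1 ((alphaCore_hallOf hG hM).2.1 r hr' h2)
  have hXN : X ≤ Subgroup.normalizer (alphaCore M : Set G) :=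
    hXM.trans (Core.BG.le_normalizer_piCoreOf (alpha M) M)
  haveI : Group.IsSolvable X :=
    haveI := Core.BG.isSolvable_proper hG hM.1
    Group.isSolvable_of_isSolvable_injective (Subgroup.inclusion_injective hXM)
  obtain ⟨P, hEP, hPα, hP, hPidx, hXP⟩ := Coprime.exists_invariant_sylow_ge hXN hcop (p := q) hEα hEp
    ((Subgroup.le_centralizer_iff.mp hEC).trans (Subgroup.centralizer_le_normalizer _))
  have hPM : P ≤ M := hPα.trans hαM
  have hP3 : ¬ PRankLE q 2 P := fun h => hqα.2 (Core.BG.pRankLE_of_sylow hP hPM (fun T hT hPT hTM => by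
    refine le_antisymm (Subgroup.relIndex_eq_one.mp ?_) hPT
    obtain ⟨j, hj⟩ := IsPGroup.iff_card.mp hT
    have hd : P.relIndex T ∣ q ^ j := hj ▸ Subgroup.relIndex_dvd_card P T
    obtain ⟨i, -, hi⟩ := (Nat.dvd_prime_pow hq).mp hd
    rcases Nat.eq_zero_or_pos i with rfl | hi0
    · rw [hi, pow_zero]
    · exfalso
      have h1 : q ∣ P.relIndex M := (hi ▸ dvd_pow_self q hi0.ne').trans
        ⟨_, (Subgroup.relIndex_mul_relIndex P T M hPT hTM).symm⟩
      rw [← Subgroup.relIndex_mul_relIndex P (alphaCore M) M hPα hαM] at h1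
      exact (hq.dvd_mul.mp h1).elim hPidx ((alphaCore_hallOf hG hM).2.2 q hq hqα)) h)
  by_cases hC : PRankLE q 2 ↥(P ⊓ Subgroup.centralizer (E : Set G))
  · -- `X` centralizes `P`
    have hXC : X ≤ Subgroup.centralizer (P : Set G) :=
      OddLocal.le_centralizer_of_fixed_order_p_centralizer hq2 P E X hP hEP hE.1 hE.2 hXP
        (hq.coprime_iff_not_dvd.mpr fun hd => hXα q hq hd hqα).symm (fun x hx hxo => by
          have hxp : x ^ q = 1 := hxo ▸ pow_orderOf_eq_one x
          have hin : E ⊔ Subgroup.zpowers x ≤ P ⊓ Subgroup.centralizer (E : Set G) := sup_le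
            (le_inf hEP (Subgroup.le_centralizer_iff_isMulCommutative.mpr hE.1)) (Subgroup.zpowers_le.mpr hx)
          have heq : E = E ⊔ Subgroup.zpowers x := Subgroup.eq_of_le_of_card_ge le_sup_left
            (hk.symm ▸ card_ea_le hC (RankTwo.ea_insert hE hxp hx.2) hin)
          have hxE : x ∈ E := heq.ge (Subgroup.mem_sup_right (Subgroup.mem_zpowers x))
          exact fun z hz => Subgroup.mem_centralizer_singleton_iff.mpr
            (Subgroup.mem_centralizer_iff.mp (hEC hxE) z hz))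
    obtain ⟨F, hF, hFP, hF3⟩ := Core.BG.exists_ea_of_not_pRankLE hP3
    exact Core.BG.inUniqueMaximal_of_le hG (Core.BG.ea_three_unique hG hF hF3)
      (le_inf (hFP.trans hPM) (hFP.trans (Subgroup.le_centralizer_iff.mp hXC))) hKtop
  · have hr1 : ¬ RankLE 1 E := fun h => not_pRankLE_of_ea hE le_rfl (by
      rw [hk]; exact Nat.pow_lt_pow_right hq.one_lt one_lt_two) (h q hq)
    have hr2 : ¬ RankLE 2 (Subgroup.centralizer (E : Set G)) := fun h =>
      hC (Components.pRankLE_of_le inf_le_right (h q hq))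
    have hEtop : E ≠ ⊤ := fun h => hKtop (top_le_iff.mp (h ▸ hEK'))
    exact Core.BG.inUniqueMaximal_of_le hG (Core.BG.uniqueness_theorem hG hEtop hr1 (Or.inr hr2)) hEK' hKtop

omit hG in
theorem mem_centerMap {M : Subgroup G} {P : Subgroup M} {x : G}
    (hx : x ∈ P.map M.subtype ⊓ Subgroup.centralizer ((P.map M.subtype : Subgroup G) : Set G)) :
    x ∈ ((Subgroup.center ↥P).map P.subtype).map M.subtype := by
  obtain ⟨y, hy, rfl⟩ := hx.1
  refine ⟨y, ⟨⟨y, hy⟩, Subgroup.mem_center_iff.mpr fun z => Subtype.ext (Subtype.ext ?_), rfl⟩, rfl⟩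
  exact Subgroup.mem_centralizer_iff.mp hx.2 (z : M) ⟨z, z.2, rfl⟩

omit hG in
/-- The Sylow subgroups outside `σ(M)` have normalizers outside `M`. -/
theorem not_normalizer_sylow_le {M : Subgroup G} {p : ℕ} [hp : Fact p.Prime] (hpM : p ∣ Nat.card M)
    (hσ : p ∉ sigma M) (P : Sylow p M) :
    ¬ Subgroup.normalizer (((P : Subgroup M).map M.subtype : Subgroup G) : Set G) ≤ M :=
  fun h => hσ ⟨hp.out, hpM, P, h⟩

/-- Ten point four. -/
theorem exists_central_zgroup {M : Subgroup G} (hM : IsCoatom M) {p : ℕ} [hp : Fact p.Prime]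
    (hpM : p ∣ Nat.card M) (hσ : p ∉ sigma M) (P : Sylow p M) :
    ∃ x : G, x ∈ ((Subgroup.center ↥(P : Subgroup M)).map (P : Subgroup M).subtype).map M.subtype ∧
      orderOf x = p ∧ IsZGroup ↥(alphaCore M ⊓ Subgroup.centralizer ({x} : Set G)) ∧
      ¬ (Subgroup.centralizer ({x} : Set G) ≤ M ∧ Only M (Subgroup.centralizer ({x} : Set G))) := by
  set S := (P : Subgroup M).map M.subtype with hS
  obtain ⟨x, hx, hxne, hxU⟩ : ∃ x ∈ omegaCenter p S, x ≠ 1 ∧
      ¬ (Subgroup.centralizer ({x} : Set G) ≤ M ∧ Only M (Subgroup.centralizer ({x} : Set G))) := by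
    by_contra hcon
    push Not at hcon
    refine not_normalizer_sylow_le hpM hσ P fun n hn => ?_
    have hS1 : S ≠ ⊥ := by
      intro h
      have hc := P.card_eq_multiplicity
      have hS' : Nat.card (P : Subgroup M) = 1 := by
        rw [← Core.card_map_subtype, ← hS, h, Subgroup.card_bot]
      rw [hS'] at hc
      have := (hp.out.factorization_pos_of_dvd Nat.card_pos.ne' hpM)
      exact absurd hc.symm (Nat.one_lt_pow this.ne' hp.out.one_lt).ne'
    obtain ⟨x, hx, hx1⟩ := (Subgroup.bot_or_exists_ne_one (omegaCenter p S)).resolve_left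
      (omegaCenter_ne_bot (P.isPGroup'.map _) hS1)
    have hnx := (Subgroup.mem_normalizer_iff.mp (le_normalizer_omegaCenter p S hn) x).mp hx
    obtain ⟨hxM, -⟩ := hcon x hx hx1
    obtain ⟨-, hnU⟩ := hcon _ hnx fun e => hx1 (by
      rw [show x = n⁻¹ * (n * x * n⁻¹) * n by group, e]; group)
    refine mem_of_cj_eq hG hM (hnU _ (isCoatom_cj hM n) fun z hz => ?_)
    rw [mem_cj]
    refine hxM (Subgroup.mem_centralizer_singleton_iff.mpr ?_)
    have hz' := Subgroup.mem_centralizer_singleton_iff.mp hz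
    calc n⁻¹ * z * n * x = n⁻¹ * (z * (n * x * n⁻¹)) * n := by group
      _ = n⁻¹ * (n * x * n⁻¹ * z) * n := by rw [hz']
      _ = x * (n⁻¹ * z * n) := by group
  refine ⟨x, mem_centerMap hx.1, orderOf_eq_prime hx.2 hxne, ?_, hxU⟩
  set K := alphaCore M ⊓ Subgroup.centralizer ({x} : Set G) with hK
  refine ⟨fun r hr R => ?_⟩
  haveI := Fact.mk hr
  by_contra hnc
  refine hxU ?_
  have hxM' : x ∈ M := Subgroup.map_subtype_le _ hx.1.1
  have hr2 : r ≠ 2 := by
    refine ne_two_of_dvd hG ?_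
    obtain ⟨k, hk⟩ := IsPGroup.iff_card.mp R.isPGroup'
    have hk0 : k ≠ 0 := by
      rintro rfl
      haveI : Subsingleton (R : Subgroup K) :=
        (Nat.card_eq_one_iff_unique.mp (by rw [hk, pow_zero])).1
      exact hnc isCyclic_of_subsingleton
    exact (dvd_pow_self r hk0).trans (hk ▸ (Subgroup.card_subgroup_dvd_card (R : Subgroup K)).trans
      (Subgroup.card_subgroup_dvd_card K))
  obtain ⟨A, -, hA, hA2⟩ := Transfer.PNormal.exists_normal_ea_sq hr2 R.isPGroup' hnc
  have hC : Subgroup.centralizer ((Subgroup.zpowers x : Subgroup G) : Set G) =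
      Subgroup.centralizer ({x} : Set G) := by
    rw [Subgroup.zpowers_eq_closure, Subgroup.centralizer_closure]
  have h1 := unique_centralizer hG hM (X := Subgroup.zpowers x) (Subgroup.zpowers_le.mpr hxM')
    (fun q hq hd hqα => hσ (by
      rw [Nat.card_zpowers, orderOf_eq_prime hx.2 hxne] at hd
      rw [← (Nat.prime_dvd_prime_iff_eq hq hp.out).mp hd]
      exact alpha_subset_sigma hG hM hqα))
    (fun h => by
      rw [hC] at h
      have h2 := Components.pRankLE_of_injective (R : Subgroup K).subtype_injective (h r hr) A hA.1 hA.2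
      rw [hA2] at h2
      exact absurd ((Nat.pow_le_pow_iff_right hr.one_lt).mp h2) (by norm_num))
  rw [hC] at h1
  have honly := (only_of_unique h1 hM inf_le_left).mono (inf_le_right (a := M))
  exact ⟨honly.le (Core.BG.centralizer_singleton_ne_top hG hxne), honly⟩

/-- Ten point five: elementary subgroups of order `p ^ 2` are maximal in `G`. -/
theorem ea_sq_maximal {M : Subgroup G} (hM : IsCoatom M) {p : ℕ} [hp : Fact p.Prime] (hσ : p ∉ sigma M)
    {A : Subgroup G} (hAM : A ≤ M) (hA : IsElementaryAbelian p A) (hA2 : Nat.card A = p ^ 2)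
    {B : Subgroup G} (hB : IsElementaryAbelian p B) (hAB : A ≤ B) : B = A := by
  by_contra hne
  have hlt : Nat.card A < Nat.card B := Set.Finite.card_lt_card (Set.toFinite _) (SetLike.coe_ssubset_coe.mpr (lt_of_le_of_ne hAB (Ne.symm hne)))
  have hr1 : ¬ RankLE 1 A := fun h => not_pRankLE_of_ea hA le_rfl (by
      rw [hA2]; exact Nat.pow_lt_pow_right hp.out.one_lt one_lt_two) (h p hp.out)
  have hr2 : ¬ RankLE 2 (Subgroup.centralizer (A : Set G)) := fun h => not_pRankLE_of_ea hB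
    ((Subgroup.le_centralizer_iff_isMulCommutative.mpr hB.1).trans (Subgroup.centralizer_le hAB))
    (hA2 ▸ hlt) (h p hp.out)
  have hAp : IsPGroup p A := Components.ea_isPGroup hA
  have hAtop : A ≠ ⊤ := fun h => hM.1 (top_le_iff.mp (h ▸ hAM))
  have honly := only_of_unique (Core.BG.uniqueness_theorem hG hAtop hr1 (Or.inr hr2)) hM hAM
  obtain ⟨P, hP⟩ := (hAp.comap_subtype : IsPGroup p (A.subgroupOf M)).exists_le_sylow
  set S := (P : Subgroup M).map M.subtype
  have hAS : A ≤ S := fun x hx => ⟨⟨x, hAM hx⟩, hP (Subgroup.mem_subgroupOf.mpr hx), rfl⟩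
  have hS1 : S ≠ ⊥ := fun h => hr1 fun r hr E hE hEe => by
    haveI : Subsingleton A := by rw [show A = ⊥ from le_bot_iff.mp (h ▸ hAS)]; infer_instance
    rw [Nat.card_of_subsingleton (1 : E)]
    exact Nat.one_le_pow _ _ hr.pos
  refine not_normalizer_sylow_le ((dvd_pow_self p two_ne_zero).trans (hA2 ▸ Subgroup.card_dvd_of_le hAM)) hσ P ?_
  exact (honly.mono (hAS.trans Subgroup.le_normalizer)).le
    (Core.BG.normalizer_ne_top_of_isPGroup hG hS1 (P.isPGroup'.map _))

theorem not_ideal {M : Subgroup G} (hM : IsCoatom M) {p : ℕ} [hp : Fact p.Prime] (hσ : p ∉ sigma M)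
    (hr2 : PRankLE p 2 M) (hr1 : ¬ PRankLE p 1 M) : ¬ IsIdealPrime p G := by
  intro h
  obtain ⟨A, hAM, hA, hA2⟩ := exists_ea_sq_of_rank hr2 hr1
  obtain ⟨P, hP⟩ := (Components.ea_isPGroup hA).exists_le_sylow
  obtain ⟨B, -, hB, hAB⟩ := h.2.2 P A hP hA hA2
  exact hAB.ne (ea_sq_maximal hG hM hσ hAM hA hA2 hB hAB.le).symm

/-- A subgroup of order `p` with normalizer in `M` lies in an elementary subgroup of order `p ^ 2`. -/
theorem exists_ea_over {M : Subgroup G} (hM : IsCoatom M) {p : ℕ} [hp : Fact p.Prime] (hσ : p ∉ sigma M)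
    {X : Subgroup G} (hX : Nat.card X = p) (hNX : Subgroup.normalizer (X : Set G) ≤ M) :
    ∃ A : Subgroup G, A ≤ M ∧ IsElementaryAbelian p A ∧ Nat.card A = p ^ 2 ∧ X ≤ A := by
  have hXM : X ≤ M := Subgroup.le_normalizer.trans hNX
  have hXp : IsPGroup p X := IsPGroup.of_card (by rw [hX, pow_one])
  haveI := isCyclic_of_prime_card hX
  have hXe : IsElementaryAbelian p X := ⟨inferInstance, fun a ha => by
    have h := congrArg Subtype.val (pow_card_eq_one' (x := (⟨a, ha⟩ : X)))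
    simpa [hX] using h⟩
  obtain ⟨P, hP⟩ := (hXp.comap_subtype : IsPGroup p (X.subgroupOf M)).exists_le_sylow
  set S := (P : Subgroup M).map M.subtype
  have hXS : X ≤ S := fun x hx => ⟨⟨x, hXM hx⟩, hP (Subgroup.mem_subgroupOf.mpr hx), rfl⟩
  have hX1 : X ≠ ⊥ := fun h => hp.out.one_lt.ne (by rw [← hX, h, Subgroup.card_bot])
  have hpM : p ∣ Nat.card M := hX ▸ Subgroup.card_dvd_of_le hXM
  set Z := omegaCenter p S
  have hA : IsElementaryAbelian p (X ⊔ Z) := PLocal.isEA_sup hXe (omegaCenter_ea p S)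
    (Subgroup.le_centralizer_iff.mp (fun z hz => Subgroup.centralizer_le hXS hz.1.2))
  have hAM : X ⊔ Z ≤ M := sup_le hXM ((omegaCenter_le p S).trans (Subgroup.map_subtype_le _))
  have hle := card_ea_le (pRankLE_two_of_notMem_sigma hG hM hp.out hσ) hA hAM
  obtain ⟨k, hk⟩ := IsPGroup.iff_card.mp (Components.ea_isPGroup hA)
  refine ⟨X ⊔ Z, hAM, hA, le_antisymm hle ?_, le_sup_left⟩
  rw [hk]
  refine Nat.pow_le_pow_right hp.out.pos ?_
  by_contra hk2
  have hXA : X = X ⊔ Z := Subgroup.eq_of_le_of_card_ge le_sup_left (by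
    rw [hk, hX]; calc p ^ k ≤ p ^ 1 := Nat.pow_le_pow_right hp.out.pos (by omega)
      _ = p := pow_one p)
  have hZX : Z ≤ X := le_sup_right.trans hXA.ge
  have hZ : Z = X := by
    refine Subgroup.eq_of_le_of_card_ge hZX ?_
    have hd := Subgroup.card_dvd_of_le hZX
    rw [hX] at hd ⊢
    rcases (Nat.dvd_prime hp.out).mp hd with h | h
    · exact absurd (Subgroup.card_eq_one.mp h)
        (omegaCenter_ne_bot (P.isPGroup'.map _) fun h' => hX1 (le_bot_iff.mp (h' ▸ hXS)))
    · exact h.ge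
  exact not_normalizer_sylow_le hpM hσ P (by
    refine (le_normalizer_omegaCenter p S).trans ?_
    show Subgroup.normalizer (Z : Set G) ≤ M
    rw [hZ]; exact hNX)

end Cfsg.Agent.OddLocal.Sigma
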