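import Cfsg.Agent.OddLocal.Sigma.Beta
import Cfsg.Agent.OddLocal.Sigma.Rank

/-! Maximal elementary subgroups of order `p ^ 2` and their invariant `σ`-subgroups. -/

set_option autoImplicit false
set_option linter.style.haveILetI false
set_option linter.unusedSectionVars false

namespace Cfsg.Agent.OddLocal.Sigma

open Cfsg
open Cfsg.Agent.Core (IsPiNat)
open scoped commutatorElement

variable {G : Type*} [Group G] [Finite G]

/-! ### `M_σ` -/

theorem sigmaCore_le (M : Subgroup G) : sigmaCore M ≤ M := Subgroup.map_subtype_le _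

theorem le_normalizer_sigmaCore (M : Subgroup G) : M ≤ Subgroup.normalizer (sigmaCore M : Set G) :=
  Core.BG.le_normalizer_piCoreOf (sigma M) M

theorem mem_sigma_of_dvd {M : Subgroup G} {q : ℕ} (hq : q.Prime) (h : q ∣ Nat.card (sigmaCore M)) :
    q ∈ sigma M :=
  Core.BG.isPiNat_piCoreOf (sigma M) M q hq h

theorem inf_sigmaCore_eq_bot {M R : Subgroup G} (h : ∀ q : ℕ, q.Prime → q ∣ Nat.card R → q ∉ sigma M) :
    R ⊓ sigmaCore M = ⊥ :=
  Subgroup.inf_eq_bot_of_coprime (Nat.coprime_of_dvd fun q hq h1 h2 => h q hq h1 (mem_sigma_of_dvd hq h2))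

theorem notMem_sigma_of_pGroup {M R : Subgroup G} {r : ℕ} [hr : Fact r.Prime] (hR : IsPGroup r R)
    (hσ : r ∉ sigma M) : ∀ q : ℕ, q.Prime → q ∣ Nat.card R → q ∉ sigma M := fun q hq hd => by
  obtain ⟨k, hk⟩ := IsPGroup.iff_card.mp hR
  rw [hk] at hd
  rwa [(Nat.prime_dvd_prime_iff_eq hq hr.out).mp (hq.dvd_of_dvd_pow hd)]

theorem mem_of_pGroup {r : ℕ} [hr : Fact r.Prime] {R : Subgroup G} (hR : IsPGroup r R) {π : Set ℕ}
    (hπ : r ∈ π) : ∀ q : ℕ, q.Prime → q ∣ Nat.card R → q ∈ π := fun q hq hd => by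
  obtain ⟨k, hk⟩ := IsPGroup.iff_card.mp hR
  rw [hk] at hd
  rwa [(Nat.prime_dvd_prime_iff_eq hq hr.out).mp (hq.dvd_of_dvd_pow hd)]

theorem coprime_of_pGroups {p r : ℕ} [hp : Fact p.Prime] [hr : Fact r.Prime] (h : p ≠ r)
    {A R : Subgroup G} (hA : IsPGroup p A) (hR : IsPGroup r R) : (Nat.card A).Coprime (Nat.card R) := by
  obtain ⟨k, hk⟩ := IsPGroup.iff_card.mp hA
  obtain ⟨j, hj⟩ := IsPGroup.iff_card.mp hR
  rw [hk, hj]
  exact Nat.Coprime.pow _ _ ((Nat.coprime_primes hp.out hr.out).mpr h)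

theorem not_dvd_of_pGroup {p r : ℕ} [hp : Fact p.Prime] [hr : Fact r.Prime] (h : p ≠ r) {R : Subgroup G}
    (hR : IsPGroup r R) : ¬ p ∣ Nat.card R := fun hd => by
  obtain ⟨k, hk⟩ := IsPGroup.iff_card.mp hR
  exact h ((Nat.prime_dvd_prime_iff_eq hp.out hr.out).mp (hp.out.dvd_of_dvd_pow (hk ▸ hd)))

variable (hG : IsMinSimpleOddOrder G)
include hG

theorem le_sigmaCore {M R : Subgroup G} (hM : IsCoatom M) (hRM : R ≤ M)
    (hR : ∀ q : ℕ, q.Prime → q ∣ Nat.card R → q ∈ sigma M) : R ≤ sigmaCore M := by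
  have h : R.subgroupOf M ≤ piCore (sigma M) M := Core.le_of_coprime_index (Nat.coprime_of_dvd
    fun q hq h1 h2 => (sigmaCore_hall hG hM).2 q hq (hR q hq (by rwa [Core.card_subgroupOf hRM] at h1)) h2)
  exact fun x hx => ⟨⟨x, hRM hx⟩, h (Subgroup.mem_subgroupOf.mpr hx), rfl⟩

/-- `M_σ` is not trivial. -/
theorem sigmaCore_ne_bot {M : Subgroup G} (hM : IsCoatom M) : sigmaCore M ≠ ⊥ := by
  intro h
  haveI := Core.BG.isSolvable_proper hG hM.1
  have hnoσ : ∀ q : ℕ, q.Prime → q ∉ sigma M := fun q hq hσ => by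
    have hc : Nat.card (piCore (sigma M) M) = 1 := by
      rw [← Core.card_map_subtype]
      show Nat.card (sigmaCore M) = 1
      rw [h, Subgroup.card_bot]
    have hd : q ∣ (piCore (sigma M) M).index := by
      have h1 := hσ.2.1
      rw [← Subgroup.card_mul_index (piCore (sigma M) M), hc, one_mul] at h1
      exact h1
    exact (sigmaCore_hall hG hM).2 q hq hσ hd
  have hM1 : Nat.card M ≠ 1 := fun hc => coatom_ne_bot hG hM (Subgroup.card_eq_one.mp hc)
  obtain ⟨p, hpm, hmax⟩ := (Nat.card M).primeFactors.exists_max_image id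
    (Nat.nonempty_primeFactors.mpr (by have := Nat.card_pos (α := M); omega))
  have hp := (Nat.mem_primeFactors.mp hpm).1
  have hpM := (Nat.mem_primeFactors.mp hpm).2.1
  haveI := Fact.mk hp
  obtain ⟨P⟩ := (inferInstance : Nonempty (Sylow p M))
  have hodd := odd_of_dvd hG (Subgroup.card_subgroup_dvd_card M)
  have hP : ∀ q : ℕ, q.Prime → q ≠ p → q ∣ Nat.card M → (P : Subgroup M) ≤ pPrimeCore q M := by
    intro q hq hqp hqM
    haveI := Fact.mk hq
    have hsm := RankTwo.oddAutSmall_core_of_pRankLE (ne_two_of_dvd hG (hqM.trans (Subgroup.card_subgroup_dvd_card M)))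
      (pRankLE_two_of_notMem_sigma hG hM hq (hnoσ q hq))
    refine Core.le_of_coprime_index ?_
    obtain ⟨k, hk⟩ := IsPGroup.iff_card.mp P.isPGroup'
    rw [hk]
    refine (hp.coprime_iff_not_dvd.mpr fun hd => hqp ?_).pow_left k
    exact le_antisymm (hmax q (Nat.mem_primeFactors.mpr ⟨hq, hqM, Nat.card_pos.ne'⟩))
      ((RankTwo.five hodd hqM hsm).1 p hp hd)
  have hN : (P : Subgroup M).Normal := by
    let I := {q : Nat.Primes // (q : ℕ) ≠ p ∧ (q : ℕ) ∣ Nat.card M}
    set N := ⨅ q : I, pPrimeCore (q.1 : ℕ) M with hNdef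
    haveI : N.Normal := Subgroup.normal_iInf_normal fun q => inferInstance
    have hPN : (P : Subgroup M) ≤ N := le_iInf fun q => hP _ q.1.2 q.2.1 q.2.2
    have hNp : IsPGroup p N := IsPGroup.of_card (Nat.eq_prime_pow_of_unique_prime_dvd Nat.card_pos.ne'
      fun {q} hq hd => by
        by_contra hqp
        have hle : N ≤ pPrimeCore q M :=
          iInf_le _ (⟨⟨q, hq⟩, hqp, hd.trans (Subgroup.card_subgroup_dvd_card N)⟩ : I)
        exact haveI := Fact.mk hq
          Core.not_dvd_card_pPrimeCore q M (hd.trans (Subgroup.card_dvd_of_le hle)))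
    rw [← P.3 hNp hPN]
    infer_instance
  refine hnoσ p hp ⟨hp, hpM, P, ?_⟩
  have hle : M ≤ Subgroup.normalizer (((P : Subgroup M).map M.subtype : Subgroup G) : Set G) :=
    fun x hx => Coprime.mem_normalizer_of_conj_mem (by
      rintro _ ⟨y, hy, rfl⟩
      exact ⟨⟨x, hx⟩ * y * ⟨x, hx⟩⁻¹, hN.conj_mem y hy _, rfl⟩)
  have hne : (P : Subgroup M).map M.subtype ≠ ⊥ := fun hb => by
    rw [Subgroup.map_eq_bot_iff_of_injective _ M.subtype_injective] at hb
    have hc := P.card_eq_multiplicity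
    rw [hb, Subgroup.card_bot] at hc
    exact absurd hc.symm (Nat.one_lt_pow (hp.factorization_pos_of_dvd Nat.card_pos.ne' hpM).ne' hp.one_lt).ne'
  exact ((hM.le_iff.mp hle).resolve_left
    (Core.BG.normalizer_ne_top_of_isPGroup hG hne (P.isPGroup'.map _))).le

omit hG

/-! ### Maximal elementary subgroups of order `p ^ 2` -/

/-- An elementary subgroup of order `p ^ 2` containing all elements of order `p` of its centralizer. -/
structure MaxEA (p : ℕ) (A : Subgroup G) : Prop where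
  ea : IsElementaryAbelian p A
  card : Nat.card A = p ^ 2
  full : ∀ x ∈ Subgroup.centralizer (A : Set G), x ^ p = 1 → x ∈ A

namespace MaxEA

variable {p : ℕ} [hp : Fact p.Prime] {A : Subgroup G} (hA : MaxEA p A)
include hA

theorem isPGroup : IsPGroup p A := Components.ea_isPGroup hA.ea

theorem le_centralizer : A ≤ Subgroup.centralizer (A : Set G) :=
  Subgroup.le_centralizer_iff_isMulCommutative.mpr hA.ea.1

theorem dvd : p ∣ Nat.card A := hA.card ▸ dvd_pow_self p two_ne_zero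

theorem dvd_of_le {M : Subgroup G} (h : A ≤ M) : p ∣ Nat.card M := hA.dvd.trans (Subgroup.card_dvd_of_le h)

theorem ne_bot : A ≠ ⊥ := fun h => by
  have := hA.dvd
  rw [h, Subgroup.card_bot] at this
  exact hp.out.not_dvd_one this

theorem not_rankLE_one : ¬ RankLE 1 A := fun h => not_pRankLE_of_ea hA.ea le_rfl (by
  rw [hA.card]; exact Nat.pow_lt_pow_right hp.out.one_lt one_lt_two) (h p hp.out)

theorem not_pRankLE_one {M : Subgroup G} (h : A ≤ M) : ¬ PRankLE p 1 M :=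
  not_pRankLE_of_ea hA.ea h (by rw [hA.card]; exact Nat.pow_lt_pow_right hp.out.one_lt one_lt_two)

theorem orderOf {a : G} (ha : a ∈ A) (ha1 : a ≠ 1) : orderOf a = p := orderOf_eq_prime (hA.ea.2 a ha) ha1

theorem card_zpowers {a : G} (ha : a ∈ A) (ha1 : a ≠ 1) : Nat.card (Subgroup.zpowers a) = p := by
  rw [Nat.card_zpowers, hA.orderOf ha ha1]

theorem map (g : G) : MaxEA p (cj g A) where
  ea := PLocal.isEA_map hA.ea _
  card := by rw [card_cj, hA.card]
  full x hx hxp := by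
    refine mem_cj.mpr (hA.full _ (Subgroup.mem_centralizer_iff.mpr fun a ha => ?_) ?_)
    · have h := Subgroup.mem_centralizer_iff.mp hx (g * a * g⁻¹) ⟨a, ha, rfl⟩
      calc a * (g⁻¹ * x * g) = g⁻¹ * (g * a * g⁻¹ * x) * g := by group
        _ = g⁻¹ * (x * (g * a * g⁻¹)) * g := by rw [h]
        _ = g⁻¹ * x * g * a := by group
    · have h := conj_pow (a := g⁻¹) (b := x) (i := p)
      rw [inv_inv] at h
      rw [h, hxp, mul_one, inv_mul_cancel]

theorem p_ne_two (hG : IsMinSimpleOddOrder G) : p ≠ 2 :=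
  ne_two_of_dvd hG (hA.dvd.trans (Subgroup.card_subgroup_dvd_card A))

theorem transHyp (hG : IsMinSimpleOddOrder G) : TransitivityHypothesis A :=
  Core.BG.transitivityHypothesis_of_full hG (hA.dvd.trans (Subgroup.card_subgroup_dvd_card A)) hA.isPGroup
    hA.ne_bot hA.full

theorem not_ideal : ¬ IsIdealPrime p G := fun h => by
  obtain ⟨P, hP⟩ := hA.isPGroup.exists_le_sylow
  obtain ⟨B, -, hB, hAB⟩ := h.2.2 P A hP hA.ea hA.card
  refine hAB.not_ge fun b hb => hA.full b (Subgroup.centralizer_le hAB.le ?_) (hB.2 b hb)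
  exact Subgroup.le_centralizer_iff_isMulCommutative.mpr hB.1 hb

theorem notMem_beta (L : Subgroup G) : p ∉ beta L := fun h => hA.not_ideal h.2

/-- A coprime invariant subgroup is generated by the fixed points of the elements of `A`. -/
theorem le_of_forall_inf_centralizer_le {X K : Subgroup G} (hX : ¬ p ∣ Nat.card X)
    (hAX : A ≤ Subgroup.normalizer (X : Set G))
    (h : ∀ a ∈ A, a ≠ 1 → X ⊓ Subgroup.centralizer ({a} : Set G) ≤ K) : X ≤ K := by
  refine (Components.le_iSup_hyperplanes hA.ea hX hAX).le.trans (iSup_le fun B => ?_)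
  have hne : (B : Subgroup G) ≠ ⊥ := fun hb => by
    have h2 := B.2.2
    rw [hb, Subgroup.relIndex_bot_left, hA.card] at h2
    have := (Nat.pow_le_pow_iff_right hp.out.one_lt).mp (h2.trans (pow_one p).ge)
    omega
  obtain ⟨a, ha, ha1⟩ := (B : Subgroup G).bot_or_exists_ne_one.resolve_left hne
  exact (inf_le_inf_left X (Subgroup.centralizer_le (by simpa using ha))).trans (h a (B.2.1 ha) ha1)

end MaxEA

theorem MaxEA.of_notMem_sigma (hG : IsMinSimpleOddOrder G) {M : Subgroup G} (hM : IsCoatom M) {p : ℕ}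
    [hp : Fact p.Prime] (hσ : p ∉ sigma M) {A : Subgroup G} (hAM : A ≤ M) (hA : IsElementaryAbelian p A)
    (hA2 : Nat.card A = p ^ 2) : MaxEA p A := by
  refine ⟨hA, hA2, fun x hx hxp => ?_⟩
  exact (ea_sq_maximal hG hM hσ hAM hA hA2 (RankTwo.ea_insert hA hxp hx) le_sup_left).le
    (Subgroup.mem_sup_right (Subgroup.mem_zpowers x))

/-- If `A` is not a uniqueness subgroup it is maximal. -/
theorem MaxEA.of_not_unique (hG : IsMinSimpleOddOrder G) {p : ℕ}
    [hp : Fact p.Prime] {A : Subgroup G} (hA : IsElementaryAbelian p A)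
    (hA2 : Nat.card A = p ^ 2) (htop : A ≠ ⊤) (h : ¬ InUniqueMaximal A) : MaxEA p A := by
  refine ⟨hA, hA2, fun x hx hxp => ?_⟩
  by_contra hxA
  have hr1 : ¬ RankLE 1 A := fun h1 => not_pRankLE_of_ea hA le_rfl (by
    rw [hA2]; exact Nat.pow_lt_pow_right hp.out.one_lt one_lt_two) (h1 p hp.out)
  refine h (Core.BG.uniqueness_theorem hG htop hr1 (Or.inr fun h2 => ?_))
  have hlt : A < A ⊔ Subgroup.zpowers x := lt_of_le_of_ne le_sup_left fun e =>
    hxA (e.ge (Subgroup.mem_sup_right (Subgroup.mem_zpowers x)))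
  have hc : Nat.card A < Nat.card ↥(A ⊔ Subgroup.zpowers x) := Set.Finite.card_lt_card (Set.toFinite _) hlt
  exact not_pRankLE_of_ea (RankTwo.ea_insert hA hxp hx)
    (sup_le (Subgroup.le_centralizer_iff_isMulCommutative.mpr hA.1) (Subgroup.zpowers_le.mpr hx))
    (hA2 ▸ hc) (h2 p hp.out)

/-! ### Invariant Sylow subgroups -/

theorem maxInv_of_sylow {q : ℕ} [hq : Fact q.Prime] {A : Subgroup G} (T : Sylow q G)
    (hAT : A ≤ Subgroup.normalizer ((T : Subgroup G) : Set G)) :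
    (T : Subgroup G) ∈ maxInvSubgroups ⊤ A {q} :=
  ⟨Core.BG.inv_of_isPGroup hq.out T.isPGroup' hAT,
    fun _ hR hle => T.3 (Core.BG.isPGroup_of_inv hq.out hR) hle⟩

variable (hG : IsMinSimpleOddOrder G)
  (hpl : ∀ (p : ℕ) [Fact p.Prime] (H : Subgroup G), H ≠ ⊤ → PLengthLE p 1 H)
include hG

theorem normalizer_sylow_le' {M : Subgroup G} {q : ℕ} [hq : Fact q.Prime] (hσ : q ∈ sigma M)
    (T : Sylow q G) (hT : (T : Subgroup G) ≤ M) : Subgroup.normalizer ((T : Subgroup G) : Set G) ≤ M := by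
  have h := normalizer_sylow_le hσ (T.subtype hT)
  rwa [Sylow.coe_subtype, Subgroup.subgroupOf_map_subtype, inf_eq_left.mpr hT] at h

include hpl

/-- An invariant `σ(L)`-subgroup lies in an invariant Sylow subgroup of `G` inside `L`. -/
theorem exists_inv_sylow {p : ℕ} [hp : Fact p.Prime] {A L : Subgroup G} (hA : MaxEA p A) (hL : IsCoatom L)
    (hAL : A ≤ L) {q : ℕ} [hq : Fact q.Prime] (hqσ : q ∈ sigma L) (hqp : q ≠ p) {R : Subgroup G}
    (hR : IsPGroup q R) (hRL : R ≤ L) (hAR : A ≤ Subgroup.normalizer (R : Set G)) :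
    ∃ T : Sylow q G, R ≤ (T : Subgroup G) ∧ (T : Subgroup G) ≤ L ∧
      A ≤ Subgroup.normalizer ((T : Subgroup G) : Set G) := by
  haveI := Core.BG.isSolvable_proper hG hL.1
  have hnpc : HasNormalPComplement p ↥(sigmaCore L) :=
    Transfer.hasNormalPComplement_of_le (sigmaCore_le_derived hG hL) (derived_npc hG hpl hL (hA.notMem_beta L))
  set K := pResidual p ↥(sigmaCore L) with hKdef
  set N := K.map (sigmaCore L).subtype with hNdef
  have hNp : ¬ p ∣ Nat.card N := by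
    rw [Core.card_map_subtype]
    exact hp.out.coprime_iff_not_dvd.mp (Transfer.hasNormalPComplement_iff_coprime_pResidual.mp hnpc).symm
  have hmem : ∀ x ∈ sigmaCore L, (orderOf x).Coprime p → x ∈ N := fun x hx hc =>
    ⟨⟨x, hx⟩, Transfer.mem_pResidual_of_coprime (by rwa [Subgroup.orderOf_mk]), rfl⟩
  have hcopq : ∀ {X : Subgroup G}, IsPGroup q X → ∀ x ∈ X, (orderOf x).Coprime p := fun {X} hX x hx => by
    obtain ⟨k, hk⟩ := IsPGroup.iff_card.mp hX
    exact Nat.Coprime.coprime_dvd_left (hk ▸ Subgroup.orderOf_dvd_natCard X hx)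
      (((Nat.coprime_primes hq.out hp.out).mpr hqp).pow_left k)
  have hAN : A ≤ Subgroup.normalizer (N : Set G) := fun a ha => Coprime.mem_normalizer_of_conj_mem (by
    intro y hy
    have ha' := le_normalizer_sigmaCore L (hAL ha)
    obtain ⟨y, hy, rfl⟩ := hy
    let e : ↥(sigmaCore L) ≃* ↥(sigmaCore L) :=
      (sigmaCore L).normalizerMonoidHom ⟨a, ha'⟩
    refine ⟨e y, ?_, rfl⟩
    exact (Transfer.pResidual_map_equiv e).le ⟨y, hy, rfl⟩)
  have hRσ : R ≤ sigmaCore L := le_sigmaCore hG hL hRL (mem_of_pGroup hR hqσ)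
  haveI : Group.IsSolvable A := Coprime.isSolvable_of_isPGroup hA.isPGroup
  have hcop : (Nat.card A).Coprime (Nat.card N) := Components.ea_coprime hA.ea hNp
  obtain ⟨T₀, hRT, hTN, hT, hTi, hAT⟩ := Coprime.exists_invariant_sylow_ge hAN hcop
    (p := q) (R := R) (fun x hx => hmem x (hRσ hx) (hcopq hR x hx)) hR hAR
  obtain ⟨S, hS, -⟩ := exists_sylow_le hqσ
  have hSσ := le_sigmaCore hG hL hS (mem_of_pGroup S.isPGroup' hqσ)
  have hSN : (S : Subgroup G) ≤ N := fun x hx => hmem x (hSσ hx) (hcopq S.isPGroup' x hx)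
  obtain ⟨V, hV⟩ := hT.exists_le_sylow
  have heq : T₀ = (V : Subgroup G) := by
    refine Subgroup.eq_of_le_of_card_ge hV ?_
    rw [V.card_eq_multiplicity, ← S.card_eq_multiplicity]
    refine Nat.le_of_dvd Nat.card_pos ?_
    have hd : Nat.card (S : Subgroup G) ∣ Nat.card T₀ * T₀.relIndex N := by
      rw [Core.card_mul_relIndex hTN]
      exact Subgroup.card_dvd_of_le hSN
    refine (Nat.Coprime.dvd_of_dvd_mul_right ?_ hd)
    obtain ⟨j, hj⟩ := IsPGroup.iff_card.mp S.isPGroup'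
    rw [hj]
    exact (hq.out.coprime_iff_not_dvd.mpr hTi).pow_left j
  exact ⟨V, heq ▸ hRT, heq ▸ (hTN.trans ((Subgroup.map_subtype_le _).trans (sigmaCore_le L))),
    heq ▸ hAT⟩

/-- Two maximal subgroups sharing an invariant `σ`-subgroup share an invariant Sylow subgroup of `G`. -/
theorem exists_common_sylow {p : ℕ} [hp : Fact p.Prime] {A M L : Subgroup G} (hA : MaxEA p A)
    (hM : IsCoatom M) (hL : IsCoatom L) (hAM : A ≤ M) (hAL : A ≤ L)
    (hCL : Subgroup.centralizer (A : Set G) ≤ L) {q : ℕ} [hq : Fact q.Prime] (hqM : q ∈ sigma M)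
    (hqL : q ∈ sigma L) (hqp : q ≠ p) {R : Subgroup G} (hR : IsPGroup q R) (hR1 : R ≠ ⊥) (hRM : R ≤ M)
    (hRL : R ≤ L) (hAR : A ≤ Subgroup.normalizer (R : Set G)) :
    ∃ T : Sylow q G, (T : Subgroup G) ≤ M ∧ (T : Subgroup G) ≤ L ∧
      A ≤ Subgroup.normalizer ((T : Subgroup G) : Set G) := by
  obtain ⟨T, hRT, hTM, hAT⟩ := exists_inv_sylow hG hpl hA hM hAM hqM hqp hR hRM hAR
  obtain ⟨U, hRU, hUL, hAU⟩ := exists_inv_sylow hG hpl hA hL hAL hqL hqp hR hRL hAR
  obtain ⟨k, hk, he⟩ := Core.BG.conj_of_inf_ne_bot hG (hA.transHyp hG) hq.out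
    (not_dvd_of_pGroup hqp hA.isPGroup) _ (U : Subgroup G) (T : Subgroup G) (maxInv_of_sylow U hAU)
    (maxInv_of_sylow T hAT) (fun h => hR1 (le_bot_iff.mp (h ▸ le_inf hRU hRT))) rfl
  refine ⟨T, hTM, ?_, hAT⟩
  rw [← he]
  rintro _ ⟨u, hu, rfl⟩
  have hkL := hCL (Core.BG.piCoreOf_le _ _ hk)
  exact L.mul_mem (L.mul_mem hkL (hUL hu)) (L.inv_mem hkL)

end Cfsg.Agent.OddLocal.Sigma
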