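import Cfsg.Agent.OddLocal.Sigma.Exceptional
import Cfsg.Agent.OddLocal.FixOrderP

/-! An elementary subgroup of order `p ^ 2` centralizes the invariant `σ(M)'`-subgroups of coprime order. -/

set_option autoImplicit false
set_option linter.style.haveILetI false
set_option linter.unusedSectionVars false

namespace Cfsg.Agent.OddLocal.Sigma

open Cfsg
open scoped commutatorElement

variable {G : Type*} [Group G] [Finite G]

/-- `O_r(M)` as a subgroup of `G`. -/
abbrev pCoreMap (r : ℕ) (M : Subgroup G) : Subgroup G := (pCore r M).map M.subtype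

theorem le_normalizer_pCoreMap (r : ℕ) (M : Subgroup G) : M ≤ Subgroup.normalizer (pCoreMap r M : Set G) :=
  fun x hx => Coprime.mem_normalizer_of_conj_mem (by
    rintro _ ⟨y, hy, rfl⟩
    exact ⟨⟨x, hx⟩ * y * ⟨x, hx⟩⁻¹, (inferInstance : (pCore r M).Normal).conj_mem y hy _, rfl⟩)

theorem conj_mem_centralizer {H : Subgroup G} {x y : G} (hx : x ∈ Subgroup.normalizer (H : Set G))
    (hy : y ∈ Subgroup.centralizer (H : Set G)) : x * y * x⁻¹ ∈ Subgroup.centralizer (H : Set G) := by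
  refine Subgroup.mem_centralizer_iff.mpr fun h hh => ?_
  have h1 := Subgroup.mem_centralizer_iff.mp hy (x⁻¹ * h * x) ((Subgroup.mem_normalizer_iff''.mp hx h).mp hh)
  calc h * (x * y * x⁻¹) = x * (x⁻¹ * h * x * y) * x⁻¹ := by group
    _ = x * (y * (x⁻¹ * h * x)) * x⁻¹ := by rw [h1]
    _ = x * y * x⁻¹ * h := by group

variable (hG : IsMinSimpleOddOrder G)
include hG

/-- An `r`-subgroup of `M'` centralizing `M_σ` lies in `O_r(M)`. -/
theorem le_pCoreMap {M : Subgroup G} (hM : IsCoatom M) {r : ℕ} [hr : Fact r.Prime] {V : Subgroup G}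
    (hV : IsPGroup r V) (hVM : V ≤ ⁅M, M⁆) (hVC : V ≤ Subgroup.centralizer (sigmaCore M : Set G)) :
    V ≤ pCoreMap r M := by
  haveI := Core.BG.isSolvable_proper hG hM.1
  obtain ⟨h1, -⟩ := core_data (X := M) (odd_of_dvd hG (Subgroup.card_subgroup_dvd_card M)) (sigma M)
    fun q hq hn => pRankLE_two_of_notMem_sigma hG hM hq hn
  set N := piCore (sigma M) M
  haveI : (Subgroup.centralizer (N : Set M)).Normal := Subgroup.normal_centralizer
  set K := commutator M ⊓ Subgroup.centralizer (N : Set M)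
  let f : K →* M ⧸ N := (QuotientGroup.mk' N).comp K.subtype
  have hrange : f.range ≤ fittingSubgroup (M ⧸ N) := by
    refine le_trans ?_ h1
    rintro _ ⟨x, rfl⟩
    have hmap : (commutator M).map (QuotientGroup.mk' N) = commutator (M ⧸ N) := by
      rw [commutator_def, Subgroup.map_commutator,
        Subgroup.map_top_of_surjective _ (QuotientGroup.mk'_surjective N), ← commutator_def]
    exact hmap.le ⟨x, x.2.1, rfl⟩
  haveI : Group.IsNilpotent f.range := Core.isNilpotent_of_le hrange (Core.isNilpotent_fittingSubgroup _)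
  haveI : Group.IsNilpotent K := by
    refine Subgroup.isNilpotent_of_ker_le_center f.rangeRestrict ?_
    rintro x hx
    rw [MonoidHom.ker_rangeRestrict, MonoidHom.mem_ker] at hx
    have hxN : (x : M) ∈ N := (QuotientGroup.eq_one_iff _).mp hx
    exact Subgroup.mem_center_iff.mpr fun y => Subtype.ext
      (Subgroup.mem_centralizer_iff.mp y.2.2 _ hxN).symm
  have hVM' : V ≤ M := hVM.trans (Subgroup.commutator_le.mpr fun a ha b hb =>
    mul_mem (mul_mem (mul_mem ha hb) (inv_mem ha)) (inv_mem hb))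
  have hle : V.subgroupOf M ≤ K := by
    intro x hx
    refine ⟨?_, Subgroup.mem_centralizer_iff.mpr fun y hy => Subtype.ext
      (Subgroup.mem_centralizer_iff.mp (hVC (Subgroup.mem_subgroupOf.mp hx)) y ⟨y, hy, rfl⟩)⟩
    obtain ⟨y, hy, hye⟩ := (M.map_subtype_commutator).ge (hVM (Subgroup.mem_subgroupOf.mp hx))
    rwa [← show y = x from Subtype.ext hye]
  have hsn : (V.subgroupOf M).IsSubnormal := Subgroup.IsSubnormal.trans hle
    (FGS4.isSubnormal_of_isNilpotent _) (inferInstance : K.Normal).isSubnormal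
  exact fun x hx => ⟨⟨x, hVM' hx⟩, Core.le_pCore_of_isSubnormal hsn hV.comap_subtype
    (Subgroup.mem_subgroupOf.mpr hx), rfl⟩

/-- When `O_r(M) ≠ 1` for `r ∉ σ(M)`, the prime `r` is exceptional for `M`. -/
theorem exc_of_pCore (hpl : ∀ (p : ℕ) [Fact p.Prime] (H : Subgroup G), H ≠ ⊤ → PLengthLE p 1 H)
    {M : Subgroup G} (hM : IsCoatom M) {r : ℕ} [hr : Fact r.Prime] (hσ : r ∉ sigma M)
    (hne : pCoreMap r M ≠ ⊥) (P : Sylow r M) :
    ∃ B0 : Subgroup G, Exc M r (omegaCenter r ((P : Subgroup M).map M.subtype)) B0 ∧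
      M ≤ Subgroup.normalizer (B0 : Set G) ∧ B0 ≤ pCoreMap r M ∧
      ∀ x ∈ pCoreMap r M, x ^ r = 1 → x ∈ B0 := by
  set S := (P : Subgroup M).map M.subtype with hSdef
  have hS : IsPGroup r S := P.isPGroup'.map _
  set Rs := pCoreMap r M
  have hRsS : Rs ≤ S := Subgroup.map_mono (Core.pCore_le_sylow P)
  have hS1 : S ≠ ⊥ := fun e => hne (le_bot_iff.mp (e ▸ hRsS))
  have hSM : S ≤ M := Subgroup.map_subtype_le _
  set U := omegaCenter r Rs with hUdef
  have hUS : U ≤ S := (omegaCenter_le r Rs).trans hRsS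
  have hMU : M ≤ Subgroup.normalizer (U : Set G) :=
    (le_normalizer_pCoreMap r M).trans (le_normalizer_omegaCenter r Rs)
  have hU1 : U ≠ ⊥ := omegaCenter_ne_bot (hS.to_le hRsS) hne
  have hUN : Subgroup.normalizer (U : Set G) = M := (hM.le_iff.mp hMU).resolve_left
    (Core.BG.normalizer_ne_top_of_isPGroup hG hU1 (hS.to_le hUS))
  have hr2 := pRankLE_two_of_notMem_sigma hG hM hr.out hσ
  have hrM : r ∣ Nat.card M := by
    obtain ⟨k, hk⟩ := IsPGroup.iff_card.mp hS
    have hk0 : k ≠ 0 := fun e => hS1 (Subgroup.eq_bot_of_card_eq _ (by rw [hk, e, pow_zero]))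
    exact (dvd_pow_self r hk0).trans (hk ▸ Subgroup.card_dvd_of_le hSM)
  have hNS := not_normalizer_sylow_le hrM hσ P
  set Z := omegaCenter r S with hZdef
  have hZS : Z ≤ S := omegaCenter_le r S
  have hZe := omegaCenter_ea r S
  have hUe := omegaCenter_ea r Rs
  have hNZ := le_normalizer_omegaCenter r S
  have hnZ : ¬ M ≤ Subgroup.normalizer (Z : Set G) := fun h => hNS
    (hNZ.trans ((hM.le_iff.mp h).resolve_left
      (Core.BG.normalizer_ne_top_of_isPGroup hG (omegaCenter_ne_bot hS hS1) (hS.to_le hZS))).le)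
  have hUc : Nat.card U = r := by
    obtain ⟨k, hk⟩ := IsPGroup.iff_card.mp (hS.to_le hUS)
    have hk0 : k ≠ 0 := fun e => hU1 (Subgroup.eq_bot_of_card_eq _ (by rw [hk, e, pow_zero]))
    have hk2 : k ≤ 2 := by
      have := card_ea_le hr2 hUe (hUS.trans hSM)
      rw [hk] at this
      exact (Nat.pow_le_pow_iff_right hr.out.one_lt).mp this
    rcases (show k = 1 ∨ k = 2 by omega) with rfl | rfl
    · rw [hk, pow_one]
    exfalso
    have hUZ : U ≤ Subgroup.centralizer (Z : Set G) := fun u hu =>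
      Subgroup.mem_centralizer_iff.mpr fun z hz => (Subgroup.mem_centralizer_iff.mp hz.1.2 u (hUS hu)).symm
    have hsup : IsElementaryAbelian r (U ⊔ Z) := PLocal.isEA_sup hUe hZe hUZ
    have hZU : Z ≤ U := by
      have heq : U = U ⊔ Z := Subgroup.eq_of_le_of_card_ge le_sup_left
        (hk.symm ▸ card_ea_le hr2 hsup (sup_le (hUS.trans hSM) (hZS.trans hSM)))
      exact le_sup_right.trans heq.ge
    by_cases hcen : S ≤ Subgroup.centralizer (U : Set G)
    · refine hnZ ?_
      rw [show Z = U from le_antisymm hZU fun u hu =>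
        ⟨⟨hUS hu, Subgroup.le_centralizer_iff.mp hcen hu⟩, hUe.2 u hu⟩]
      exact hMU
    refine hnZ fun g hg => Coprime.mem_normalizer_of_conj_mem fun z hz => ?_
    haveI := Core.BG.isSolvable_proper hG hM.1
    set U' := U.subgroupOf M
    haveI : U'.Normal := Subgroup.normal_subgroupOf_of_le_normalizer hMU
    set C := Subgroup.centralizer (U' : Set M)
    haveI : C.Normal := Subgroup.normal_centralizer
    have hsm : RankTwo.OddAutSmall r U' := RankTwo.oddAutSmall_of_rankLE_two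
      (ne_two_of_dvd hG (hrM.trans (Subgroup.card_subgroup_dvd_card M))) (hS.to_le hUS).comap_subtype
      (Components.pRankLE_of_injective U'.subtype_injective hr2)
    set φ := QuotientGroup.mk' C
    have hpg : IsPGroup r ((commutator M).map φ) := by
      rintro ⟨_, x, hx, rfl⟩
      obtain ⟨j, hj⟩ := RankTwo.exists_pow_mem_centralizer
        (odd_of_dvd hG (Subgroup.card_subgroup_dvd_card M)) U' hsm hx
      exact ⟨j, Subtype.ext (by
        show φ x ^ r ^ j = 1
        rw [← map_pow]; exact (QuotientGroup.eq_one_iff _).mpr hj)⟩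
    have hle : (commutator M).map φ ≤ (P : Subgroup M).map φ := by
      haveI : ((commutator M).map φ).Normal := (inferInstance : (commutator M).Normal).map φ (QuotientGroup.mk'_surjective C)
      exact hpg.le_sylow_of_normal (P.mapSurjective (QuotientGroup.mk'_surjective C))
    set K := (P : Subgroup M) ⊔ C
    have hDK : commutator M ≤ K := fun x hx => by
      obtain ⟨y, hy, hxy⟩ := hle ⟨x, hx, rfl⟩
      have h1 : y⁻¹ * x ∈ C := (QuotientGroup.eq_one_iff _).mp
        (show φ (y⁻¹ * x) = 1 by rw [map_mul, map_inv, hxy, inv_mul_cancel])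
      rw [show x = y * (y⁻¹ * x) by group]
      exact Subgroup.mul_mem_sup hy h1
    have hU' : ∀ u : G, u ∈ U → g * u * g⁻¹ ∈ U := fun u hu => (Subgroup.mem_normalizer_iff.mp (hMU hg) u).mp hu
    have hzC : ∀ k ∈ K, (k : G) * z = z * k := fun k hk => by
      refine Subgroup.mem_centralizer_singleton_iff.mp
        (show (k : G) ∈ Subgroup.centralizer ({z} : Set G) from ?_)
      refine (sup_le (fun x hx => ?_) (fun x hx => ?_) : K ≤ (Subgroup.centralizer ({z} : Set G)).comap M.subtype) hk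
      · exact Subgroup.mem_centralizer_singleton_iff.mpr
          (Subgroup.mem_centralizer_iff.mp hz.1.2 x ⟨x, hx, rfl⟩)
      · exact Subgroup.mem_centralizer_singleton_iff.mpr (congrArg Subtype.val
          (Subgroup.mem_centralizer_iff.mp hx ⟨z, hUS.trans hSM (hZU hz)⟩
            (Subgroup.mem_subgroupOf.mpr (hZU hz)))).symm
    refine ⟨⟨hUS (hU' z (hZU hz)), Subgroup.mem_centralizer_iff.mpr fun s hs => ?_⟩,
      by rw [conj_pow, hz.2, mul_one, mul_inv_cancel]⟩
    obtain ⟨s, hs, rfl⟩ := hs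
    have hsK : (⟨g, hg⟩ : M)⁻¹ * s * ⟨g, hg⟩ ∈ K := by
      have h2 : ⁅(⟨g, hg⟩ : M)⁻¹, s⁆ ∈ K :=
        hDK (Subgroup.commutator_mem_commutator (Subgroup.mem_top _) (Subgroup.mem_top _))
      rw [show (⟨g, hg⟩ : M)⁻¹ * s * ⟨g, hg⟩ = ⁅(⟨g, hg⟩ : M)⁻¹, s⁆ * s by rw [commutatorElement_def]; group]
      exact mul_mem h2 (Subgroup.mem_sup_left hs)
    have h3 : g⁻¹ * (s : G) * g * z = z * (g⁻¹ * (s : G) * g) := by simpa using hzC _ hsK
    show (s : G) * (g * z * g⁻¹) = g * z * g⁻¹ * (s : G)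
    calc (s : G) * (g * z * g⁻¹) = g * (g⁻¹ * (s : G) * g * z) * g⁻¹ := by group
      _ = g * (z * (g⁻¹ * (s : G) * g)) * g⁻¹ := by rw [h3]
      _ = g * z * g⁻¹ * (s : G) := by group
  have hUZ : U ≤ Z := fun u hu => by
    haveI : Group.IsNilpotent S := hS.isNilpotent
    refine ⟨⟨hUS hu, ?_⟩, hUe.2 u hu⟩
    set D := ⁅U, S⁆
    have hSN : S ≤ Subgroup.normalizer (U : Set G) := hSM.trans hMU
    have hDU : D ≤ U := Coprime.commutator_le_of_le_normalizer hSN
    have hlt : D < U := lt_of_le_of_ne hDU fun e => hU1 (Transfer.eq_bot_of_le_commutator hUS e.ge)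
    have hD : D = ⊥ := by
      refine Subgroup.card_eq_one.mp ?_
      have hd := Subgroup.card_dvd_of_le hDU
      have hc : Nat.card D < Nat.card U := Set.Finite.card_lt_card (Set.toFinite _) hlt
      rw [hUc] at hd hc
      exact ((Nat.dvd_prime hr.out).mp hd).resolve_right hc.ne
    exact Subgroup.commutator_eq_bot_iff_le_centralizer.mp hD hu
  have hZc : Nat.card Z = r ^ 2 := by
    obtain ⟨k, hk⟩ := IsPGroup.iff_card.mp (hS.to_le hZS)
    have hk2 : k ≤ 2 := by
      have := card_ea_le hr2 hZe (hZS.trans hSM)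
      rw [hk] at this
      exact (Nat.pow_le_pow_iff_right hr.out.one_lt).mp this
    by_contra hne'
    have hk1 : k ≤ 1 := by
      by_contra hk1
      exact hne' (by rw [hk, show k = 2 by omega])
    refine hnZ ?_
    rw [← Subgroup.eq_of_le_of_card_ge hUZ (by
      rw [hk, hUc]; exact (Nat.pow_le_pow_right hr.out.pos hk1).trans (pow_one r).le)]
    exact hMU
  have hexc : Exc M r Z U :=
    ⟨hM, hσ, hZS.trans hSM, MaxEA.of_notMem_sigma hG hM hσ (hZS.trans hSM) hZe hZc, hUZ, hUc, hUN.le⟩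
  refine ⟨U, hexc, hMU, omegaCenter_le r Rs, fun x hx hxr => ?_⟩
  have hc := hexc.sylow_abelian_of_le hG hpl P hZS
  exact ⟨⟨hx, Subgroup.mem_centralizer_iff.mpr fun y hy =>
    congrArg Subtype.val (hc.is_comm.comm ⟨y, hRsS hy⟩ ⟨x, hRsS hx⟩)⟩, hxr⟩

variable (hpl : ∀ (p : ℕ) [Fact p.Prime] (H : Subgroup G), H ≠ ⊤ → PLengthLE p 1 H)
include hpl

/-- Invariant Sylow subgroups for the primes above `p`. -/
theorem exists_inv_sylow_large {p : ℕ} [hp : Fact p.Prime] {A H : Subgroup G} (hA : MaxEA p A) (hH : IsCoatom H)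
    (hAH : A ≤ H) {r : ℕ} [hr : Fact r.Prime] (hpr : p < r) {V : Subgroup G} (hV : IsPGroup r V) (hVH : V ≤ H)
    (hAV : A ≤ Subgroup.normalizer (V : Set G)) :
    ∃ R : Sylow r H, V ≤ (R : Subgroup H).map H.subtype ∧
      A ≤ Subgroup.normalizer (((R : Subgroup H).map H.subtype : Subgroup G) : Set G) := by
  haveI := Core.BG.isSolvable_proper hG hH.1
  set W := pPrimeCore p H
  have hidx : ¬ r ∣ W.index := fun hd => absurd
    (((beta_facts hG hpl hH).2.2.2.2 p hp.out (hA.dvd_of_le hAH) (hA.notMem_beta H)).2.2 r hr.out hd) (not_le.mpr hpr)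
  have hmem : ∀ {X : Subgroup H}, IsPGroup r X → X ≤ W := fun {X} hX => Core.le_of_coprime_index (by
    obtain ⟨k, hk⟩ := IsPGroup.iff_card.mp hX
    rw [hk]; exact (hr.out.coprime_iff_not_dvd.mpr hidx).pow_left k)
  set Wm := W.map H.subtype
  have hAW : A ≤ Subgroup.normalizer (Wm : Set G) := fun a ha => Coprime.mem_normalizer_of_conj_mem (by
    rintro _ ⟨y, hy, rfl⟩
    exact ⟨⟨a, hAH ha⟩ * y * ⟨a, hAH ha⟩⁻¹, (inferInstance : W.Normal).conj_mem y hy _, rfl⟩)
  have hWp : ¬ p ∣ Nat.card Wm := by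
    rw [Core.card_map_subtype]; exact Core.not_dvd_card_pPrimeCore p H
  haveI : Group.IsSolvable A := Coprime.isSolvable_of_isPGroup hA.isPGroup
  obtain ⟨R, hVR, hRW, hR, hRi, hAR⟩ := Coprime.exists_invariant_sylow_ge hAW (Components.ea_coprime hA.ea hWp)
    (p := r) (R := V) (fun x hx => ⟨⟨x, hVH hx⟩, hmem (hV.comap_subtype : IsPGroup r (V.subgroupOf H))
      (Subgroup.mem_subgroupOf.mpr hx), rfl⟩) hV hAV
  have hRH : R ≤ H := hRW.trans (Subgroup.map_subtype_le _)
  obtain ⟨T, hT⟩ := (hR.comap_subtype : IsPGroup r (R.subgroupOf H)).exists_le_sylow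
  have heq : (T : Subgroup H).map H.subtype = R := by
    refine le_antisymm ?_ (fun x hx => ⟨⟨x, hRH hx⟩, hT (Subgroup.mem_subgroupOf.mpr hx), rfl⟩)
    have hTW : (T : Subgroup H).map H.subtype ≤ Wm := Subgroup.map_mono (hmem T.isPGroup')
    have hle : R ≤ (T : Subgroup H).map H.subtype :=
      fun x hx => ⟨⟨x, hRH hx⟩, hT (Subgroup.mem_subgroupOf.mpr hx), rfl⟩
    refine Subgroup.relIndex_eq_one.mp ?_
    obtain ⟨k, hk⟩ := IsPGroup.iff_card.mp (T.isPGroup'.map H.subtype)
    obtain ⟨i, -, hi⟩ := (Nat.dvd_prime_pow hr.out).mp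
      (hk ▸ Subgroup.relIndex_dvd_card R ((T : Subgroup H).map H.subtype))
    rcases Nat.eq_zero_or_pos i with rfl | hi0
    · rw [hi, pow_zero]
    · exact absurd ((hi ▸ dvd_pow_self r hi0.ne').trans
        ⟨_, (Subgroup.relIndex_mul_relIndex R _ Wm hle hTW).symm⟩) hRi
  exact ⟨T, by rw [heq]; exact hVR, by rw [heq]; exact hAR⟩

/-- With two fixed point free subgroups of order `p`, the commutators centralize `M_σ`. -/
theorem Exc.commutator_le_centralizer {p : ℕ} [hp : Fact p.Prime] {M A A0 : Subgroup G} (h : Exc M p A A0)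
    {r : ℕ} [hr : Fact r.Prime] (hσ : r ∉ sigma M) (hrp : r ≠ p) {V : Subgroup G} (hV : IsPGroup r V)
    (hVM : V ≤ M) (hAV : A ≤ Subgroup.normalizer (V : Set G)) :
    ⁅V, A⁆ ≤ Subgroup.centralizer (sigmaCore M : Set G) := by
  by_cases hV1 : V = ⊥
  · rw [hV1, Subgroup.commutator_bot_left]; exact bot_le
  have hrM : r ∣ Nat.card M := by
    obtain ⟨k, hk⟩ := IsPGroup.iff_card.mp hV
    have hk0 : k ≠ 0 := fun e => hV1 (Subgroup.eq_bot_of_card_eq _ (by rw [hk, e, pow_zero]))
    exact (dvd_pow_self r hk0).trans (hk ▸ Subgroup.card_dvd_of_le hVM)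
  have hr2 : r ≠ 2 := ne_two_of_dvd hG (hrM.trans (Subgroup.card_subgroup_dvd_card M))
  obtain ⟨P, hAP⟩ := exists_sylow_map_ge h.maxEA.isPGroup h.le
  obtain ⟨n, hn, hnM⟩ := h.exists_notMem P
  have hnA := h.normalizer_sylow_le_normalizer hG hpl P hAP hn
  have hn2M : n * n ∉ M := fun hm => hnM (by
    have hodd : Odd (orderOf n) := odd_of_dvd hG (orderOf_dvd_natCard n)
    obtain ⟨j, hj⟩ := hodd
    have he : n = (n * n) ^ (j + 1) := by
      rw [← sq, ← pow_mul, show 2 * (j + 1) = orderOf n + 1 by omega, pow_succ, pow_orderOf_eq_one, one_mul]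
    rw [he]; exact M.pow_mem hm _)
  have hline : ∀ g ∈ Subgroup.normalizer (((P : Subgroup M).map M.subtype : Subgroup G) : Set G), g ∉ M →
      cj g A0 ≤ A ∧ Nat.card (cj g A0) = p ∧ sigmaCore M ⊓ Subgroup.centralizer (cj g A0 : Set G) = ⊥ :=
    fun g hg hgM => ⟨(cj_mono h.le0).trans (cj_eq_iff.mpr (h.normalizer_sylow_le_normalizer hG hpl P hAP hg)).le,
      by rw [card_cj, h.card0], h.fpf hG hpl hgM (h.le_cj_of_mem_normalizer hAP hg)⟩
  obtain ⟨h1le, h1c, h1f⟩ := hline n hn hnM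
  obtain ⟨h2le, h2c, h2f⟩ := hline (n * n) (mul_mem hn hn) hn2M
  set L1 := cj n A0
  set L2 := cj (n * n) A0
  have hne : L1 ≠ L2 := fun e => hnM (by
    have h0 : cj n A0 = A0 := by
      have e' := congrArg (cj n⁻¹) (e : cj n A0 = cj (n * n) A0)
      rw [← cj_mul, ← cj_mul, inv_mul_cancel, cj_one, inv_mul_cancel_left] at e'
      exact e'.symm
    exact h.norm (cj_eq_iff.mp h0))
  have hsup : A = L1 ⊔ L2 := by
    symm
    refine Subgroup.eq_of_le_of_card_ge (sup_le h1le h2le) ?_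
    obtain ⟨k, hk⟩ := IsPGroup.iff_card.mp (h.maxEA.isPGroup.to_le (sup_le h1le h2le))
    have hk2 : ¬ k ≤ 1 := fun hk1 => by
      have hc : Nat.card ↥(L1 ⊔ L2) ≤ p := hk ▸ (Nat.pow_le_pow_right hp.out.pos hk1).trans (pow_one p).le
      exact hne ((Subgroup.eq_of_le_of_card_ge le_sup_left (hc.trans h1c.ge)).trans
        (Subgroup.eq_of_le_of_card_ge le_sup_right (hc.trans h2c.ge)).symm)
    rw [h.maxEA.card, hk]
    exact Nat.pow_le_pow_right hp.out.pos (by omega)
  have hVσ : V ≤ Subgroup.normalizer (sigmaCore M : Set G) := hVM.trans (le_normalizer_sigmaCore M)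
  have key : ∀ L : Subgroup G, L ≤ A → Nat.card L = p →
      sigmaCore M ⊓ Subgroup.centralizer (L : Set G) = ⊥ →
      ⁅V, L⁆ ≤ Subgroup.centralizer (sigmaCore M : Set G) := by
    intro L hL hLc hLf
    rw [Subgroup.le_centralizer_iff]
    refine Core.le_of_forall_exists_sylow_le fun q hq => ?_
    haveI := Fact.mk hq
    obtain ⟨Q⟩ := (inferInstance : Nonempty (Sylow q ↥(sigmaCore M)))
    refine ⟨Q, ?_⟩
    by_cases hd : q ∣ Nat.card (sigmaCore M)
    swap
    · rw [show (Q : Subgroup ↥(sigmaCore M)) = ⊥ from Subgroup.card_eq_one.mp (by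
        rw [Q.card_eq_multiplicity, Nat.factorization_eq_zero_of_not_dvd hd, pow_zero]), Subgroup.map_bot]
      exact bot_le
    have hqσ : q ∈ sigma M := mem_sigma_of_dvd hq hd
    obtain ⟨S, hS⟩ := exists_sylow_le hqσ
    have hSσ : (S : Subgroup G) ≤ sigmaCore M := le_sigmaCore hG h.coatom hS.1 (mem_of_pGroup S.isPGroup' hqσ)
    obtain ⟨x, hx⟩ := MulAction.exists_smul_eq ↥(sigmaCore M) (S.subtype hSσ) Q
    set T := (x : G) • S with hTdef
    have hTM : (T : Subgroup G) ≤ M := by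
      rw [hTdef, Sylow.coe_subgroup_smul, Core.conj_smul_eq_map]
      rintro _ ⟨y, hy, rfl⟩
      exact M.mul_mem (M.mul_mem (sigmaCore_le M x.2) (hS.1 hy)) (M.inv_mem (sigmaCore_le M x.2))
    have hT : (Q : Subgroup ↥(sigmaCore M)).map (sigmaCore M).subtype ≤ (T : Subgroup G) := by
      rw [← hx, Sylow.coe_subgroup_smul, Core.conj_smul_eq_map, hTdef, Sylow.coe_subgroup_smul,
        Core.conj_smul_eq_map]
      rintro _ ⟨_, ⟨y, hy, rfl⟩, rfl⟩
      rw [Sylow.coe_subtype] at hy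
      exact ⟨(y : G), Subgroup.mem_subgroupOf.mp hy, rfl⟩
    have hTσ : (T : Subgroup G) ≤ sigmaCore M := le_sigmaCore hG h.coatom hTM (mem_of_pGroup T.isPGroup' hqσ)
    have hMT := le_normalizer_sylow_of_nilpotent hG h.coatom (h.isNilpotent hG hpl) hqσ T hTM
    have hfix : (T : Subgroup G) ⊓ Subgroup.centralizer (L : Set G) = ⊥ :=
      le_bot_iff.mp ((inf_le_inf_right _ hTσ).trans hLf.le)
    have hqp : q ≠ p := fun e => h.notMem (e ▸ hqσ)
    have hqr : q ≠ r := fun e => hσ (e ▸ hqσ)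
    exact hT.trans (Subgroup.le_centralizer_iff.mp (Core.BG.commutator_le_centralizer_of_fpf hr.out hp.out hqr
      hqp hrp hr2 hLc hV T.isPGroup' (hL.trans hAV) ((hL.trans h.le).trans hMT) (hVM.trans hMT) hfix))
  rw [Subgroup.commutator_le]
  intro v hv a ha
  rw [hsup] at ha
  obtain ⟨a1, ha1, a2, ha2, rfl⟩ := Coprime.exists_mul_of_mem_sup
    ((h2le.trans h.maxEA.le_centralizer).trans ((Subgroup.centralizer_le h1le).trans
      (Subgroup.centralizer_le_normalizer _))) ha
  rw [show ⁅v, a1 * a2⁆ = ⁅v, a1⁆ * (a1 * ⁅v, a2⁆ * a1⁻¹) by simp only [commutatorElement_def]; group]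
  exact mul_mem (key L1 h1le h1c h1f (Subgroup.commutator_mem_commutator hv ha1))
    (conj_mem_centralizer (h.le_normalizer (h1le ha1))
      (key L2 h2le h2c h2f (Subgroup.commutator_mem_commutator hv ha2)))

end Cfsg.Agent.OddLocal.Sigma
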