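import Cfsg.Agent.OddLocal.Sigma.Moved

/-! `A` centralizes every invariant `r`-subgroup for `r ∉ σ(M)`, `r ≠ p`. -/

set_option autoImplicit false
set_option linter.style.haveILetI false
set_option linter.unusedSectionVars false

namespace Cfsg.Agent.OddLocal.Sigma

open Cfsg
open scoped commutatorElement

variable {G : Type*} [Group G] [Finite G] (hG : IsMinSimpleOddOrder G)
  (hpl : ∀ (p : ℕ) [Fact p.Prime] (H : Subgroup G), H ≠ ⊤ → PLengthLE p 1 H)
include hG hpl

/-- If the commutators of the invariant `σ(M)'`-subgroups with `A` centralize `M_σ`, they are trivial. -/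
theorem commutator_eq_bot_of_centralizing {p : ℕ} [hp : Fact p.Prime] {M A : Subgroup G} (hA : MaxEA p A)
    (hM : IsCoatom M) (hAM : A ≤ M) {r : ℕ} [hr : Fact r.Prime] (hσ : r ∉ sigma M) (hrp : r ≠ p)
    (hC : ∀ V : Subgroup G, IsPGroup r V → V ≤ M → A ≤ Subgroup.normalizer (V : Set G) →
      ⁅V, A⁆ ≤ Subgroup.centralizer (sigmaCore M : Set G))
    {V : Subgroup G} (hV : IsPGroup r V) (hVM : V ≤ M) (hAV : A ≤ Subgroup.normalizer (V : Set G)) :
    ⁅V, A⁆ = ⊥ := by
  by_contra hne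
  haveI := Core.BG.isSolvable_proper hG hM.1
  haveI : Group.IsSolvable A := Coprime.isSolvable_of_isPGroup hA.isPGroup
  set V0 := ⁅V, A⁆ with hV0def
  have hV0V : V0 ≤ V := Coprime.commutator_le_of_le_normalizer hAV
  have hV0r : IsPGroup r V0 := hV.to_le hV0V
  have hV0fix : ⁅V0, A⁆ = V0 := Coprime.commutator_commutator_eq hAV (coprime_of_pGroups hrp.symm hA.isPGroup hV)
  have hV0R : V0 ≤ pCoreMap r M :=
    le_pCoreMap hG hM hV0r (Subgroup.commutator_mono hVM hAM) (hC V hV hVM hAV)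
  have hRs1 : pCoreMap r M ≠ ⊥ := fun e => hne (le_bot_iff.mp (e ▸ hV0R))
  have hrG : r ∣ Nat.card G := by
    obtain ⟨k, hk⟩ := IsPGroup.iff_card.mp hV0r
    have hk0 : k ≠ 0 := fun e => hne (Subgroup.eq_bot_of_card_eq _ (by rw [hk, e, pow_zero]))
    exact (dvd_pow_self r hk0).trans (hk ▸ Subgroup.card_subgroup_dvd_card V0)
  have hr2 : r ≠ 2 := ne_two_of_dvd hG hrG
  -- `p < r`
  have hpr : p < r := by
    refine lt_of_le_of_ne ?_ hrp.symm
    have hrM : r ∣ Nat.card M := by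
      obtain ⟨k, hk⟩ := IsPGroup.iff_card.mp hV0r
      have hk0 : k ≠ 0 := fun e => hne (Subgroup.eq_bot_of_card_eq _ (by rw [hk, e, pow_zero]))
      exact (dvd_pow_self r hk0).trans (hk ▸ Subgroup.card_dvd_of_le (hV0V.trans hVM))
    have hsm := RankTwo.oddAutSmall_core_of_pRankLE hr2 (pRankLE_two_of_notMem_sigma hG hM hr.out hσ)
    set W := pPrimeCore r M
    refine (RankTwo.five (odd_of_dvd hG (Subgroup.card_subgroup_dvd_card M)) hrM hsm).1 p hp.out ?_
    by_contra hd
    refine hne (le_bot_iff.mp ?_)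
    have hAW : A.subgroupOf M ≤ W := Core.le_of_coprime_index (by
      rw [Core.card_subgroupOf hAM, hA.card]
      exact (hp.out.coprime_iff_not_dvd.mpr hd).pow_left 2)
    have hAWm : A ≤ W.map M.subtype := fun a ha => ⟨⟨a, hAM ha⟩, hAW (Subgroup.mem_subgroupOf.mpr ha), rfl⟩
    have hWV : V ⊓ W.map M.subtype = ⊥ := Subgroup.inf_eq_bot_of_coprime (by
      rw [Core.card_map_subtype]
      obtain ⟨k, hk⟩ := IsPGroup.iff_card.mp hV
      rw [hk]
      exact (Core.card_pPrimeCore_coprime r M).symm.pow_left k)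
    rw [← hWV]
    refine le_inf hV0V ?_
    rw [hV0def, Subgroup.commutator_comm]
    refine (Subgroup.commutator_mono hAWm le_rfl).trans (Coprime.commutator_le_of_le_normalizer ?_)
    intro x hx
    refine Coprime.mem_normalizer_of_conj_mem ?_
    rintro _ ⟨y, hy, rfl⟩
    exact ⟨⟨x, hVM hx⟩ * y * ⟨x, hVM hx⟩⁻¹, (inferInstance : W.Normal).conj_mem y hy _, rfl⟩
  -- the elementary subgroup `B` of an invariant Sylow subgroup
  obtain ⟨R, hVR, hAR⟩ := exists_inv_sylow_large hG hpl hA hM hAM hpr hV hVM hAV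
  obtain ⟨B0, hexc, hMB0, hB0R, hB0max⟩ := exc_of_pCore hG hpl hM hσ hRs1 R
  set S := (R : Subgroup M).map M.subtype with hSdef
  set B := omegaCenter r S with hBdef
  set Rs := pCoreMap r M
  have hS : IsPGroup r S := R.isPGroup'.map _
  have hB : MaxEA r B := hexc.maxEA
  have hB0B : B0 ≤ B := hexc.le0
  have hB0c : Nat.card B0 = r := hexc.card0
  have hB0p : IsPGroup r B0 := hB.isPGroup.to_le hB0B
  have hAB : A ≤ Subgroup.normalizer (B : Set G) := hAR.trans (le_normalizer_omegaCenter r S)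
  have hAB0 : A ≤ Subgroup.normalizer (B0 : Set G) := hAM.trans hMB0
  have hBM : B ≤ M := hexc.le
  have hB0fix : ⁅B0, A⁆ = B0 := by
    have hle := Coprime.commutator_le_of_le_normalizer hAB0
    refine Subgroup.eq_of_le_of_card_ge hle ?_
    have hd := Subgroup.card_dvd_of_le hle
    rw [hB0c] at hd ⊢
    refine (((Nat.dvd_prime hr.out).mp hd).resolve_left fun e => hne ?_).ge
    have hAB0C : A ≤ Subgroup.centralizer (B0 : Set G) := by
      rw [← Subgroup.commutator_eq_bot_iff_le_centralizer, Subgroup.commutator_comm]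
      exact Subgroup.card_eq_one.mp e
    have hARs : A ≤ Subgroup.centralizer (Rs : Set G) := by
      refine OddLocal.le_centralizer_of_fixed_order_p_centralizer hr2 Rs B0 A
        (hS.to_le (Subgroup.map_mono (Core.pCore_le_sylow R))) hB0R
        (haveI := hB.ea.1; isMulCommutative_of_le hB0B) (fun x hx => hB.ea.2 x (hB0B hx))
        (hAM.trans (le_normalizer_pCoreMap r M)) ?_ fun x hx hxo a ha => ?_
      · rw [hA.card]; exact ((Nat.coprime_primes hp.out hr.out).mpr hrp.symm).pow_left 2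
      · exact Subgroup.mem_centralizer_singleton_iff.mpr (Subgroup.mem_centralizer_iff.mp (hAB0C ha) x
          (hB0max x hx.1 (by rw [← hxo]; exact pow_orderOf_eq_one x))).symm
    rw [← hV0fix, Subgroup.commutator_comm]
    exact Subgroup.commutator_eq_bot_iff_le_centralizer.mpr (hARs.trans (Subgroup.centralizer_le hV0R))
  obtain ⟨m, hm, hmM⟩ := hexc.exists_notMem R
  have hBS : B ≤ S := omegaCenter_le r S
  have hmB : m ∈ Subgroup.normalizer (B : Set G) := le_normalizer_omegaCenter r S hm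
  have hBA : ⁅B, A⁆ = B0 := by
    have hle1 : B0 ≤ ⁅B, A⁆ := hB0fix ▸ Subgroup.commutator_mono hB0B le_rfl
    have hle2 : ⁅B, A⁆ ≤ B := Coprime.commutator_le_of_le_normalizer hAB
    by_contra hne'
    have heq : ⁅B, A⁆ = B := by
      refine Subgroup.eq_of_le_of_card_ge hle2 ?_
      obtain ⟨k, hk⟩ := IsPGroup.iff_card.mp (hB.isPGroup.to_le hle2)
      have hk1 : ¬ k ≤ 1 := fun hk1 => hne' (Subgroup.eq_of_le_of_card_ge hle1 (by
        rw [hk, hB0c]; exact (Nat.pow_le_pow_right hr.out.pos hk1).trans (pow_one r).le)).symm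
      rw [hB.card, hk]
      exact Nat.pow_le_pow_right hr.out.pos (by omega)
    have hBC : B ≤ Subgroup.centralizer (sigmaCore M : Set G) := heq ▸ hC B hB.isPGroup hBM hAB
    have hBS' : B ≤ cj m M := hexc.le_cj_of_mem_normalizer hBS hm
    refine sigmaCore_ne_bot hG hM (le_bot_iff.mp ?_)
    rw [← hexc.fpf hG hpl hmM hBS']
    exact le_inf le_rfl (Subgroup.le_centralizer_iff.mp
      (((cj_mono hB0B).trans (cj_eq_iff.mpr hmB).le).trans hBC))
  set Zc := B ⊓ Subgroup.centralizer (A : Set G)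
  have hcopB : (Nat.card A).Coprime (Nat.card B) := coprime_of_pGroups hrp.symm hA.isPGroup hB.isPGroup
  have hBsplit : B = B0 ⊔ Zc := by
    conv_lhs => rw [Coprime.eq_commutator_sup_centralizer hAB hcopB, hBA]
  have hZc1 : Zc ≠ ⊥ := fun e => by
    have hc := congrArg (fun X : Subgroup G => Nat.card X) hBsplit
    simp only [e, sup_bot_eq, hB.card, hB0c] at hc
    exact absurd (Nat.pow_right_injective hr.out.two_le (hc.trans (pow_one r).symm)) (by norm_num)
  obtain ⟨a1, ha1, ha11, hfix⟩ : ∃ a ∈ A, a ≠ 1 ∧ B0 ⊓ Subgroup.centralizer ({a} : Set G) ≠ ⊥ := by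
    by_contra hcon
    push Not at hcon
    have hB01 : B0 ≠ ⊥ := fun e => hr.out.one_lt.ne (by rw [← hB0c, e, Subgroup.card_bot])
    exact hB01 (le_bot_iff.mp (hA.le_of_forall_inf_centralizer_le (not_dvd_of_pGroup hrp.symm hB0p) hAB0
      fun a ha ha1 => (hcon a ha ha1).le))
  have haB0 : B0 ≤ Subgroup.centralizer ({a1} : Set G) := by
    refine inf_eq_left.mp (Subgroup.eq_of_le_of_card_ge inf_le_left ?_)
    have hd := Subgroup.card_dvd_of_le (inf_le_left : B0 ⊓ Subgroup.centralizer ({a1} : Set G) ≤ B0)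
    rw [hB0c] at hd ⊢
    exact (((Nat.dvd_prime hr.out).mp hd).resolve_left fun e => hfix (Subgroup.card_eq_one.mp e)).ge
  set Ai := Subgroup.zpowers a1
  have hAiA : Ai ≤ A := Subgroup.zpowers_le.mpr ha1
  have hAiC : Subgroup.centralizer (Ai : Set G) = Subgroup.centralizer ({a1} : Set G) :=
    (centralizer_singleton_eq rfl).symm
  have hBAi : B ≤ Subgroup.centralizer (Ai : Set G) := by
    rw [hBsplit]
    exact sup_le (hAiC ▸ haB0) (inf_le_right.trans (Subgroup.centralizer_le hAiA))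
  have hAi1 : Ai ≠ ⊥ := fun e => ha11 (Subgroup.zpowers_eq_bot.mp e)
  obtain ⟨H, hH, hle⟩ := (eq_top_or_exists_le_coatom (Subgroup.normalizer (Ai : Set G))).resolve_left
    (Core.BG.normalizer_ne_top_of_isPGroup hG hAi1 (hA.isPGroup.to_le hAiA))
  have hCH : Subgroup.centralizer (Ai : Set G) ≤ H := (Subgroup.centralizer_le_normalizer _).trans hle
  have hAH : A ≤ H := (hA.le_centralizer.trans (Subgroup.centralizer_le hAiA)).trans hCH
  have hBH : B ≤ H := hBAi.trans hCH
  by_cases hpH : p ∈ sigma H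
  · -- nilpotency of the Hall `β(H)'`-part
    have hAσ : A ≤ sigmaCore H := le_sigmaCore hG hH hAH (mem_of_pGroup hA.isPGroup hpH)
    have hnpc : HasNormalPComplement r ↥(sigmaCore H) := Transfer.hasNormalPComplement_of_le
      (sigmaCore_le_derived hG hH) (derived_npc hG hpl hH (hB.notMem_beta H))
    set K := (pResidual r ↥(sigmaCore H)).map (sigmaCore H).subtype
    have hAK : A ≤ K := fun a ha => ⟨⟨a, hAσ ha⟩, Transfer.mem_pResidual_of_coprime (by
      rw [Subgroup.orderOf_mk]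
      refine Nat.Coprime.coprime_dvd_left (hA.card ▸ Subgroup.orderOf_dvd_natCard A ha) ?_
      exact ((Nat.coprime_primes hp.out hr.out).mpr hrp.symm).pow_left 2), rfl⟩
    have hHK : H ≤ Subgroup.normalizer (K : Set G) := fun x hx => Coprime.mem_normalizer_of_conj_mem (by
      rintro _ ⟨y, hy, rfl⟩
      let e : ↥(sigmaCore H) ≃* ↥(sigmaCore H) :=
        (sigmaCore H).normalizerMonoidHom ⟨x, le_normalizer_sigmaCore H hx⟩
      exact ⟨e y, (Transfer.pResidual_map_equiv e).le ⟨y, hy, rfl⟩, rfl⟩)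
    have h1 : B0 ⊓ K = ⊥ := Subgroup.inf_eq_bot_of_coprime (by
      rw [hB0c, Core.card_map_subtype]
      exact (Transfer.hasNormalPComplement_iff_coprime_pResidual.mp hnpc).symm)
    refine (fun e : B0 ≠ ⊥ => e ?_) (fun e => hr.out.one_lt.ne (by rw [← hB0c, e, Subgroup.card_bot]))
    rw [← h1]
    refine (inf_eq_left.mpr ?_).symm
    rw [← hB0fix, Subgroup.commutator_comm]
    exact (Subgroup.commutator_mono hAK le_rfl).trans
      (Coprime.commutator_le_of_le_normalizer ((hB0B.trans hBH).trans hHK))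
  have hexcH : Exc H p A Ai := ⟨hH, hpH, hAH, hA, hAiA, hA.card_zpowers ha1 ha11, hle⟩
  by_cases hrH : r ∈ sigma H
  · refine hZc1 (le_bot_iff.mp ?_)
    rw [← hexcH.inf_centralizer_eq_bot hG hpl]
    exact le_inf (inf_le_left.trans (le_sigmaCore hG hH hBH (mem_of_pGroup hB.isPGroup hrH))) inf_le_right
  have hB0H : B0 ≤ pCoreMap r H := by
    refine le_pCoreMap hG hH hB0p ?_ ?_
    · rw [← hB0fix]; exact Subgroup.commutator_mono (hB0B.trans hBH) hAH
    · rw [← hB0fix]; exact hexcH.commutator_le_centralizer hG hpl hrH hrp hB0p (hB0B.trans hBH) hAB0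
  have hRH1 : pCoreMap r H ≠ ⊥ := fun e => hr.out.one_lt.ne (by
    rw [← hB0c, le_bot_iff.mp (show B0 ≤ ⊥ from e ▸ hB0H), Subgroup.card_bot])
  -- an `r`-element of `C(A_i)` moving `B`
  set N := Subgroup.normalizer (B : Set G)
  have hNtop : N ≠ ⊤ := Core.BG.normalizer_ne_top_of_isPGroup hG hB.ne_bot hB.isPGroup
  haveI := Core.BG.isSolvable_proper hG hNtop
  set B' := B.subgroupOf N
  haveI : B'.Normal := Subgroup.normal_subgroupOf_of_le_normalizer le_rfl
  set C := Subgroup.centralizer (B' : Set N)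
  haveI : C.Normal := Subgroup.normal_centralizer
  have hCmem : ∀ z : N, z ∈ C ↔ (z : G) ∈ Subgroup.centralizer (B : Set G) := fun z =>
    ⟨fun hz => Subgroup.mem_centralizer_iff.mpr fun b hb => congrArg Subtype.val
      (Subgroup.mem_centralizer_iff.mp hz ⟨b, Subgroup.le_normalizer hb⟩ (Subgroup.mem_subgroupOf.mpr hb)),
     fun hz => Subgroup.mem_centralizer_iff.mpr fun b hb => Subtype.ext
      (Subgroup.mem_centralizer_iff.mp hz b (Subgroup.mem_subgroupOf.mp hb))⟩
  have hidx : r ∣ C.index := by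
    by_contra hd
    refine hmM (hexc.norm (Coprime.mem_normalizer_of_conj_mem fun y hy => ?_))
    have hrB : PRankLE r 2 B' := fun X _ _ => (Nat.le_of_dvd Nat.card_pos (Subgroup.card_subgroup_dvd_card X)).trans
      (by rw [Core.card_subgroupOf (Subgroup.le_normalizer : B ≤ N), hB.card])
    have hsm : RankTwo.OddAutSmall r B' :=
      RankTwo.oddAutSmall_of_rankLE_two hr2 hB.isPGroup.comap_subtype hrB
    have hcomm : ∀ x ∈ commutator N, x ∈ C := fun x hx => by
      obtain ⟨k, hk⟩ := RankTwo.exists_pow_mem_centralizer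
        (odd_of_dvd hG (Subgroup.card_subgroup_dvd_card N)) B' hsm hx
      refine (QuotientGroup.eq_one_iff x).mp (orderOf_eq_one_iff.mp (Nat.eq_one_of_dvd_coprimes
        ((hr.out.coprime_iff_not_dvd.mpr hd).pow_left k)
        (orderOf_dvd_of_pow_eq_one (?_ : (x : N ⧸ C) ^ r ^ k = 1))
        (by rw [Subgroup.index_eq_card]; exact orderOf_dvd_natCard _)))
      exact (QuotientGroup.eq_one_iff (x ^ r ^ k)).mpr hk
    have key : ∀ b ∈ B, ∀ a ∈ A, m * ⁅b, a⁆ * m⁻¹ = ⁅m * b * m⁻¹, a⁆ := by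
      intro b hb a ha
      have hc : ⁅m, a⁆ ∈ Subgroup.centralizer (B : Set G) := (hCmem ⁅(⟨m, hmB⟩ : N), ⟨a, hAB ha⟩⁆).mp
        (hcomm _ (Subgroup.commutator_mem_commutator (Subgroup.mem_top _) (Subgroup.mem_top _)))
      set b' := m * b * m⁻¹ with hb'def
      have hb' : b' ∈ B := (Subgroup.mem_normalizer_iff.mp hmB b).mp hb
      have h1 : ⁅b', a⁆ ∈ B := hBA.le.trans hB0B (Subgroup.commutator_mem_commutator hb' ha)
      have h2 := Subgroup.mem_centralizer_iff.mp hc b' hb'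
      have h3 := Subgroup.mem_centralizer_iff.mp hc _ h1
      set c := ⁅m, a⁆ with hcdef
      calc m * ⁅b, a⁆ * m⁻¹ = b' * (c * a) * b'⁻¹ * (c * a)⁻¹ := by
            rw [hb'def, hcdef, commutatorElement_def, commutatorElement_def]; group
        _ = c * ⁅b', a⁆ * c⁻¹ := by
            rw [show b' * (c * a) * b'⁻¹ * (c * a)⁻¹ = (b' * c) * a * b'⁻¹ * a⁻¹ * c⁻¹ by group, h2,
              commutatorElement_def]; group
        _ = ⁅b', a⁆ := by rw [← h3, mul_inv_cancel_right]
    rw [← hBA] at hy ⊢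
    refine Subgroup.closure_induction (fun z hz => ?_) ?_ (fun z w _ _ h1 h2 => ?_) (fun z _ h1 => ?_) hy
    · obtain ⟨b, hb, a, ha, rfl⟩ := hz
      rw [key b hb a ha]
      exact Subgroup.commutator_mem_commutator ((Subgroup.mem_normalizer_iff.mp hmB b).mp hb) ha
    · rw [mul_one, mul_inv_cancel]; exact one_mem _
    · rw [show m * (z * w) * m⁻¹ = (m * z * m⁻¹) * (m * w * m⁻¹) by group]; exact mul_mem h1 h2
    · rw [show m * z⁻¹ * m⁻¹ = (m * z * m⁻¹)⁻¹ by group]; exact inv_mem h1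
  obtain ⟨H1, hH1, hNH1⟩ := (eq_top_or_exists_le_coatom N).resolve_left hNtop
  haveI := Core.BG.isSolvable_proper hG hH1.1
  have hAH1 : A ≤ H1 := hAB.trans hNH1
  set W := (pPrimeCore p H1).map H1.subtype
  have hrW : ∀ X : Subgroup G, IsPGroup r X → X ≤ H1 → X ≤ W := fun X hX hXH x hx =>
    ⟨⟨x, hXH hx⟩, Core.le_of_coprime_index (by
      obtain ⟨k, hk⟩ := IsPGroup.iff_card.mp (show IsPGroup r (X.subgroupOf H1) from hX.comap_subtype)
      rw [hk]
      refine (hr.out.coprime_iff_not_dvd.mpr fun hd => absurd ?_ (not_le.mpr hpr)).pow_left k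
      exact ((beta_facts hG hpl hH1).2.2.2.2 p hp.out (hA.dvd_of_le hAH1) (hA.notMem_beta H1)).2.2 r hr.out hd)
      (Subgroup.mem_subgroupOf.mpr hx), rfl⟩
  set D := W ⊓ N
  have hAD : A ≤ Subgroup.normalizer (D : Set G) := by
    refine le_trans (le_inf ?_ (hAB.trans Subgroup.le_normalizer)) Subgroup.inf_normalizer_le_normalizer_inf
    intro a ha
    refine Coprime.mem_normalizer_of_conj_mem ?_
    rintro _ ⟨y, hy, rfl⟩
    exact ⟨⟨a, hAH1 ha⟩ * y * ⟨a, hAH1 ha⟩⁻¹, (inferInstance : (pPrimeCore p H1).Normal).conj_mem y hy _, rfl⟩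
  have hDp : ¬ p ∣ Nat.card D := fun hd => Core.not_dvd_card_pPrimeCore p H1 (by
    have h := hd.trans (Subgroup.card_dvd_of_le (inf_le_left : D ≤ W))
    rwa [Core.card_map_subtype] at h)
  obtain ⟨S1, hS1D, hS1, hS1i, hAS1⟩ := Coprime.exists_invariant_sylow hAD (Components.ea_coprime hA.ea hDp) r
  have hS1C : ¬ S1 ≤ Subgroup.centralizer (B : Set G) := by
    intro hle1
    obtain ⟨T⟩ := (inferInstance : Nonempty (Sylow r N))
    refine T.not_dvd_index (hidx.trans (Subgroup.index_dvd_of_le ?_))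
    set C' := C.map N.subtype
    have hTD : (T : Subgroup N).map N.subtype ≤ D := le_inf
      (hrW _ (T.isPGroup'.map _) ((Subgroup.map_subtype_le _).trans hNH1)) (Subgroup.map_subtype_le _)
    have hS1C' : S1 ≤ C' := fun x hx =>
      ⟨⟨x, (hS1D hx).2⟩, (hCmem _).mpr (hle1 hx), rfl⟩
    haveI : ((C'.subgroupOf D)).Normal := Subgroup.normal_subgroupOf_of_le_normalizer
      ((inf_le_right : D ≤ N).trans (fun x hx => Coprime.mem_normalizer_of_conj_mem (by
        rintro _ ⟨y, hy, rfl⟩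
        exact ⟨⟨x, hx⟩ * y * ⟨x, hx⟩⁻¹, (inferInstance : C.Normal).conj_mem y hy _, rfl⟩)))
    have hsub : ((T : Subgroup N).map N.subtype).subgroupOf D ≤ C'.subgroupOf D := Core.le_of_coprime_index (by
      rw [Core.card_subgroupOf hTD, Core.card_map_subtype]
      obtain ⟨k, hk⟩ := IsPGroup.iff_card.mp T.isPGroup'
      rw [hk]
      exact (hr.out.coprime_iff_not_dvd.mpr fun hd => hS1i (hd.trans (Subgroup.relIndex_dvd_of_le_left D hS1C'))).pow_left k)
    intro x hx
    obtain ⟨y, hy, hye⟩ := Subgroup.mem_subgroupOf.mp (hsub (Subgroup.mem_subgroupOf.mpr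
      (show ((⟨(x : G), hTD ⟨x, hx, rfl⟩⟩ : D) : G) ∈ (T : Subgroup N).map N.subtype from ⟨x, hx, rfl⟩)))
    rwa [← show y = x from Subtype.ext hye]
  obtain ⟨u, hu, huC⟩ : ∃ u ∈ S1 ⊓ Subgroup.centralizer (Ai : Set G), u ∉ Subgroup.centralizer (B : Set G) := by
    refine SetLike.not_le_iff_exists.mp fun hle1 => hS1C ?_
    haveI : Group.IsSolvable Ai := Coprime.isSolvable_of_isPGroup (hA.isPGroup.to_le hAiA)
    rw [Coprime.eq_commutator_sup_centralizer (hAiA.trans hAS1)
      (coprime_of_pGroups hrp.symm (hA.isPGroup.to_le hAiA) hS1)]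
    refine sup_le (Subgroup.commutator_le.mpr fun s hs a ha => ?_) hle1
    have haC : a ∈ Subgroup.centralizer (B : Set G) := Subgroup.le_centralizer_iff.mp hBAi ha
    rw [commutatorElement_def]
    exact mul_mem (conj_mem_centralizer (hS1D hs).2 haC) (inv_mem haC)
  -- contradiction in `H`
  set X := B ⊔ Subgroup.zpowers u
  have hXr : IsPGroup r X := IsPGroup.to_sup_of_normal_left' hB.isPGroup (hS1.to_le (Subgroup.zpowers_le.mpr hu.1))
    (Subgroup.zpowers_le.mpr (hS1D hu.1).2)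
  have hXH : X ≤ H := sup_le hBH (Subgroup.zpowers_le.mpr (hCH hu.2))
  obtain ⟨P, hXP⟩ := exists_sylow_map_ge hXr hXH
  obtain ⟨B1, hexc1, -, -, -⟩ := exc_of_pCore hG hpl hH hrH hRH1 P
  have hab := hexc1.sylow_abelian_of_le hG hpl P (omegaCenter_le r _)
  exact huC (Subgroup.mem_centralizer_iff.mpr fun b hb => congrArg Subtype.val
    (hab.is_comm.comm ⟨b, hXP (Subgroup.mem_sup_left hb)⟩
      ⟨u, hXP (Subgroup.mem_sup_right (Subgroup.mem_zpowers u))⟩))

/-- In the exceptional case `A` centralizes the invariant `r`-subgroups for `r ∉ σ(M)`, `r ≠ p`. -/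
theorem Exc.commutator_eq_bot {p : ℕ} [hp : Fact p.Prime] {M A A0 : Subgroup G} (h : Exc M p A A0) {r : ℕ}
    [hr : Fact r.Prime] (hσ : r ∉ sigma M) (hrp : r ≠ p) {V : Subgroup G} (hV : IsPGroup r V) (hVM : V ≤ M)
    (hAV : A ≤ Subgroup.normalizer (V : Set G)) : ⁅V, A⁆ = ⊥ :=
  commutator_eq_bot_of_centralizing hG hpl h.maxEA h.coatom h.le hσ hrp
    (fun _ hV' hV'M hAV' => h.commutator_le_centralizer hG hpl hσ hrp hV' hV'M hAV') hV hVM hAV

end Cfsg.Agent.OddLocal.Sigma
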