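import Cfsg.Agent.OddLocal.Sigma.Lines
import Cfsg.Agent.OddLocal.Sigma.ComplSylow
import Cfsg.Agent.OddLocal.Sigma.CentralizerAbelian

/-! The case of a non-abelian Sylow subgroup for a prime in `τ₂(M)`. -/

set_option autoImplicit false
set_option linter.style.haveILetI false
set_option linter.unusedSectionVars false

namespace Cfsg.Agent.OddLocal.Sigma

open Cfsg
open scoped commutatorElement

theorem cj_le_centralizer {G : Type*} [Group G] {X Y : Subgroup G} (h : X ≤ Subgroup.centralizer (Y : Set G))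
    {g : G} : cj g X ≤ Subgroup.centralizer (cj g Y : Set G) := by
  rintro _ ⟨x, hx, rfl⟩
  refine Subgroup.mem_centralizer_iff.mpr ?_
  rintro _ ⟨y, hy, rfl⟩
  rw [← map_mul, ← map_mul, Subgroup.mem_centralizer_iff.mp (h hx) y hy]

variable {G : Type*} [Group G] [Finite G] (hG : IsMinSimpleOddOrder G)
  (hpl : ∀ (p : ℕ) [Fact p.Prime] (H : Subgroup G), H ≠ ⊤ → PLengthLE p 1 H)
include hG hpl

namespace Exc

variable {p : ℕ} [hp : Fact p.Prime] {M A A0 : Subgroup G} (h : Exc M p A A0)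
include h

/-- A `p`-subgroup of `M` is abelian. -/
theorem isMulCommutative_of_pGroup {Q : Subgroup G} (hQ : IsPGroup p Q) (hQM : Q ≤ M) : IsMulCommutative Q := by
  obtain ⟨P, hP⟩ := exists_sylow_map_ge hQ hQM
  haveI := h.sylow_abelian hG hpl P
  refine ⟨⟨fun a b => Subtype.ext ?_⟩⟩
  obtain ⟨a', ha', hae⟩ := hP a.2
  obtain ⟨b', hb', hbe⟩ := hP b.2
  show (a : G) * b = b * a
  rw [← hae, ← hbe]
  exact congrArg (fun z : (P : Subgroup M) => ((z : M) : G))
    (IsMulCommutative.is_comm.comm (⟨a', ha'⟩ : (P : Subgroup M)) ⟨b', hb'⟩)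

/-- The `p`-element outside `M` moving `A` that comes from a non-abelian Sylow subgroup, over a given
`p`-subgroup of `M`. -/
theorem exists_mover_over (hS : ∀ S : Sylow p G, ¬ IsMulCommutative (S : Subgroup G)) {Q : Subgroup G}
    (hQ : IsPGroup p Q) (hAQ : A ≤ Q) (hQM : Q ≤ M) :
    ∃ (P : Sylow p M) (S : Sylow p G) (u : G), Q ≤ (P : Subgroup M).map M.subtype ∧
      (P : Subgroup M).map M.subtype ≤ (S : Subgroup G) ∧ (S : Subgroup G) ⊓ M ≤ (P : Subgroup M).map M.subtype ∧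
      u ∈ (S : Subgroup G) ∧
      u ∈ Subgroup.normalizer (((P : Subgroup M).map M.subtype : Subgroup G) : Set G) ∧
      u ∈ Subgroup.normalizer (A : Set G) ∧ u ∉ M ∧ u ∉ Subgroup.centralizer (A : Set G) := by
  obtain ⟨P, hQP⟩ := exists_sylow_map_ge hQ hQM
  have hAP := hAQ.trans hQP
  set P' := (P : Subgroup M).map M.subtype
  have hP' : IsPGroup p P' := P.isPGroup'.map _
  obtain ⟨S, hPS⟩ := hP'.exists_le_sylow
  have hle : (S : Subgroup G) ⊓ M ≤ P' := by
    intro y hy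
    have h1 : P.1 ≤ ((S : Subgroup G).subgroupOf M) := fun z hz =>
      Subgroup.mem_subgroupOf.mpr (hPS ⟨z, hz, rfl⟩)
    exact ⟨⟨y, hy.2⟩, P.3 S.isPGroup'.comap_subtype h1 ▸ Subgroup.mem_subgroupOf.mpr hy.1, rfl⟩
  have hlt : P' < (S : Subgroup G) := lt_of_le_of_ne hPS fun e =>
    hS S (e ▸ h.isMulCommutative_of_pGroup hG hpl hP' (Subgroup.map_subtype_le _))
  obtain ⟨u, ⟨huN, huS⟩, huP⟩ := Core.BG.exists_mem_normalizer_notMem (q := p) S.isPGroup' hlt
  have huM : u ∉ M := fun hM' => huP (hle ⟨huS, hM'⟩)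
  exact ⟨P, S, u, hQP, hPS, hle, huS, huN, h.normalizer_sylow_le_normalizer hG hpl P hAP huN, huM,
    fun hc => huM (h.centralizer_le hc)⟩

/-- The `p`-element outside `M` moving `A` that comes from a non-abelian Sylow subgroup. -/
theorem exists_mover (hS : ∀ S : Sylow p G, ¬ IsMulCommutative (S : Subgroup G)) :
    ∃ (P : Sylow p M) (S : Sylow p G) (u : G), A ≤ (P : Subgroup M).map M.subtype ∧
      (P : Subgroup M).map M.subtype ≤ (S : Subgroup G) ∧ (S : Subgroup G) ⊓ M ≤ (P : Subgroup M).map M.subtype ∧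
      u ∈ (S : Subgroup G) ∧
      u ∈ Subgroup.normalizer (((P : Subgroup M).map M.subtype : Subgroup G) : Set G) ∧
      u ∈ Subgroup.normalizer (A : Set G) ∧ u ∉ M ∧ u ∉ Subgroup.centralizer (A : Set G) :=
  h.exists_mover_over hG hpl hS h.maxEA.isPGroup le_rfl h.le

/-- Lines of `A` other than `A₀` have no fixed points and their centralizers are not in `M`. -/
theorem fpf_lines (hS : ∀ S : Sylow p G, ¬ IsMulCommutative (S : Subgroup G)) {E : Subgroup G}
    (hE : IsComplIn E (sigmaCore M) M) (hpτ : p ∈ tau2 M) (hAE : A ≤ E) :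
    sigmaCore M ≤ Subgroup.centralizer (A0 : Set G) ∧ A ⊓ Subgroup.centralizer (sigmaCore M : Set G) = A0 ∧
      ∀ X : Subgroup G, X ≤ A → Nat.card X = p → X ≠ A0 →
        sigmaCore M ⊓ Subgroup.centralizer (X : Set G) = ⊥ ∧ ¬ Subgroup.centralizer (X : Set G) ≤ M := by
  obtain ⟨P, S, u, hAP, hPS, hle, huS, huN, huA, huM, huC⟩ := h.exists_mover hG hpl hS
  obtain ⟨hZc, htr⟩ := transvection h.maxEA.ea h.maxEA.card S.isPGroup' (hAP.trans hPS) huS huA huC
  set Z := A ⊓ Subgroup.centralizer ({u} : Set G) with hZdef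
  have huZ : u ∈ Subgroup.centralizer (Z : Set G) := Subgroup.mem_centralizer_iff.mpr fun z hz =>
    Subgroup.mem_centralizer_singleton_iff.mp hz.2
  have hZ0 : A0 ≠ Z := fun e => huM (h.norm (Subgroup.centralizer_le_normalizer _ (e ▸ huZ)))
  obtain ⟨hPc⟩ := h.sylow_abelian_of_le hG hpl P hAP
  have hcases : ∀ X : Subgroup G, X ≤ A → Nat.card X = p → X ≠ A0 →
      X = Z ∨ ∃ g : G, g ∉ M ∧ A ≤ cj g M ∧ A ≤ cj g⁻¹ M ∧ X = cj g A0 := by
    intro X hXA hX hX0
    by_cases hXZ : X = Z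
    · exact Or.inl hXZ
    obtain ⟨j, hj⟩ := htr A0 X h.le0 hXA h.card0 hX hZ0 hXZ
    have hgA : u ^ j ∈ Subgroup.normalizer (A : Set G) := pow_mem huA j
    refine Or.inr ⟨u ^ j, fun hgM => hX0 ?_, (cj_eq_iff.mpr hgA).ge.trans (cj_mono h.le),
      (cj_eq_iff.mpr (inv_mem hgA)).ge.trans (cj_mono h.le), hj⟩
    have hgP : u ^ j ∈ (P : Subgroup M).map M.subtype := hle ⟨pow_mem huS j, hgM⟩
    refine hj.trans (cj_eq_iff.mpr (Subgroup.centralizer_le_normalizer _
      (Subgroup.mem_centralizer_iff.mpr fun a ha => ?_)))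
    exact congrArg Subtype.val (hPc.comm ⟨a, hAP (h.le0 ha)⟩ ⟨u ^ j, hgP⟩)
  have hfix : ∀ X : Subgroup G, X ≤ A → Nat.card X = p → X ≠ A0 →
      sigmaCore M ⊓ Subgroup.centralizer (X : Set G) = ⊥ := by
    intro X hXA hX hX0
    rcases hcases X hXA hX hX0 with rfl | ⟨g, hgM, hgA, -, rfl⟩
    · by_contra hne
      exact huM (((tau2_compl_facts hG hpl h.coatom hE hpτ ⟨hAE, h.maxEA.ea, h.maxEA.card⟩).2.2 Z
        inf_le_left hZc hne).1 huZ)
    · exact h.fpf hG hpl hgM hgA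
  have hMA0 : sigmaCore M ≤ Subgroup.centralizer (A0 : Set G) := by
    refine h.maxEA.le_of_forall_inf_centralizer_le h.not_dvd_sigmaCore h.le_normalizer fun a ha ha1 => ?_
    rw [centralizer_singleton_eq (a := a) rfl]
    by_cases e : Subgroup.zpowers a = A0
    · rw [e]; exact inf_le_right
    · rw [hfix _ (Subgroup.zpowers_le.mpr ha) (h.maxEA.card_zpowers ha ha1) e]; exact bot_le
  have hσ1 := sigmaCore_ne_bot hG h.coatom
  refine ⟨hMA0, le_antisymm ?_ (le_inf h.le0 (Subgroup.le_centralizer_iff.mp hMA0)), fun X hXA hX hX0 =>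
    ⟨hfix X hXA hX hX0, fun hCM => ?_⟩⟩
  · intro a ha
    by_cases ha1 : a = 1
    · subst ha1; exact one_mem _
    by_contra ha0
    refine hσ1 (le_bot_iff.mp (le_trans (le_inf le_rfl ?_) (hfix (Subgroup.zpowers a)
      (Subgroup.zpowers_le.mpr ha.1) (h.maxEA.card_zpowers ha.1 ha1)
      fun e => ha0 (e.le (Subgroup.mem_zpowers a))).le))
    exact Subgroup.le_centralizer_iff.mp (Subgroup.zpowers_le.mpr ha.2)
  · rcases hcases X hXA hX hX0 with rfl | ⟨g, hgM, -, hgA', rfl⟩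
    · exact huM (hCM huZ)
    · refine hσ1 (le_bot_iff.mp ?_)
      rw [← h.inf_conj_eq_bot hG hpl (fun hi => hgM (inv_mem_iff.mp hi)) hgA']
      exact le_inf le_rfl (cj_le_iff.mp (le_trans (cj_le_centralizer hMA0) hCM))

/-- `τ₂(M) = {p}`. -/
theorem tau2_eq (hS : ∀ S : Sylow p G, ¬ IsMulCommutative (S : Subgroup G)) {E : Subgroup G}
    (hE : IsComplIn E (sigmaCore M) M) (hpτ : p ∈ tau2 M) (hAE : A ≤ E) : tau2 M = {p} := by
  refine Set.eq_singleton_iff_unique_mem.mpr ⟨hpτ, fun r hrτ => by_contra fun hrp => ?_⟩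
  haveI := Fact.mk hrτ.1
  obtain ⟨B, hBE, hBe, hB2⟩ := exists_ea_le_compl hG hE hrτ
  obtain ⟨B0, hB⟩ := exists_exc hG hpl h.coatom hrτ.2.1 (hBE.trans hE.1) hBe hB2
  have hEA := h.le_normalizer_of_compl hG hpl hE hAE
  have hEB := hB.le_normalizer_of_compl hG hpl hE hBE
  have hcop : (Nat.card A).Coprime (Nat.card B) :=
    coprime_of_pGroups (Ne.symm hrp) h.maxEA.isPGroup hB.maxEA.isPGroup
  have hAB : ⁅A, B⁆ = ⊥ := le_bot_iff.mp ((le_inf (Coprime.commutator_le_of_le_normalizer (hBE.trans hEA))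
    (by rw [Subgroup.commutator_comm]; exact Coprime.commutator_le_of_le_normalizer (hAE.trans hEB))).trans
    (Subgroup.inf_eq_bot_of_coprime hcop).le)
  obtain ⟨P, S, u, hAP, hPS, -, huS, huN, huA, huM, huC⟩ := h.exists_mover hG hpl hS
  obtain ⟨hZc, -⟩ := transvection h.maxEA.ea h.maxEA.card S.isPGroup' (hAP.trans hPS) huS huA huC
  have hAS : A ≤ (S : Subgroup G) := hAP.trans hPS
  set Zs := omegaCenter p (S : Subgroup G)
  have hS1 : (S : Subgroup G) ≠ ⊥ := fun e => h.maxEA.ne_bot (le_bot_iff.mp (e ▸ hAS))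
  have hZA : Zs ≤ A := fun x hx => h.maxEA.full x (Subgroup.centralizer_le hAS hx.1.2) hx.2
  obtain ⟨H, hH, hle⟩ := (eq_top_or_exists_le_coatom (Subgroup.normalizer (Zs : Set G))).resolve_left
    (Core.BG.normalizer_ne_top_of_isPGroup hG (omegaCenter_ne_bot S.isPGroup' hS1)
      (S.isPGroup'.to_le (omegaCenter_le p _)))
  have hNS : Subgroup.normalizer ((S : Subgroup G) : Set G) ≤ H := (le_normalizer_omegaCenter p _).trans hle
  have hSH : (S : Subgroup G) ≤ H := Subgroup.le_normalizer.trans hNS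
  have hpH : p ∈ sigma H := ⟨hp.out, h.maxEA.dvd_of_le (hAS.trans hSH), S.subtype hSH, by
    rwa [Sylow.coe_subtype, Subgroup.subgroupOf_map_subtype, inf_eq_left.mpr hSH]⟩
  have hSσ : (S : Subgroup G) ≤ sigmaCore H := le_sigmaCore hG hH hSH (mem_of_pGroup S.isPGroup' hpH)
  have hBC : B ≤ Subgroup.centralizer (A : Set G) :=
    Subgroup.le_centralizer_iff.mp (Subgroup.commutator_eq_bot_iff_le_centralizer.mp hAB)
  have hBH : B ≤ H :=
    hBC.trans ((Subgroup.centralizer_le hZA).trans ((Subgroup.centralizer_le_normalizer _).trans hle))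
  by_cases hrH : r ∈ sigma H
  swap
  · obtain ⟨B1, hB1⟩ := exists_exc hG hpl hH hrH hBH hBe hB2
    refine h.maxEA.ne_bot (le_bot_iff.mp ?_)
    rw [← hB1.inf_centralizer_eq_bot hG hpl]
    exact le_inf (hAS.trans hSσ) (Subgroup.le_centralizer_iff.mp hBC)
  have hBσ : B ≤ sigmaCore H := le_sigmaCore hG hH hBH (mem_of_pGroup hB.maxEA.isPGroup hrH)
  obtain ⟨N, hNsub, hHN, hNp, hNmem⟩ := exists_residual hG hpl hH (h.maxEA.notMem_beta H)
  obtain ⟨K, -, hHK, hKr, hKmem⟩ := exists_residual hG hpl hH (hB.maxEA.notMem_beta H)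
  haveI : Group.IsSolvable (S : Subgroup G) := Coprime.isSolvable_of_isPGroup S.isPGroup'
  have hSN : (Nat.card (S : Subgroup G)).Coprime (Nat.card N) := by
    obtain ⟨k, hk⟩ := IsPGroup.iff_card.mp S.isPGroup'
    rw [hk]; exact (hp.out.coprime_iff_not_dvd.mpr hNp).pow_left k
  obtain ⟨T, hTN, hT, hTi, hST⟩ := Coprime.exists_invariant_sylow (hSH.trans hHN) hSN r
  have hSK : (S : Subgroup G) ≤ K := hKmem _ hSσ (not_dvd_of_pGroup hrp S.isPGroup')
  obtain ⟨n, hn, hnB⟩ := exists_cj_le_of_not_dvd_relIndex hTN hT hTi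
    (hNmem _ hBσ (not_dvd_of_pGroup (Ne.symm hrp) hB.maxEA.isPGroup)) hB.maxEA.isPGroup
  have hNH : N ≤ H := hNsub.trans (sigmaCore_le H)
  have hTS : ⁅T, (S : Subgroup G)⁆ = ⊥ := by
    refine le_bot_iff.mp ((le_inf (Coprime.commutator_le_of_le_normalizer hST) ?_).trans
      (Subgroup.inf_eq_bot_of_coprime (?_ : (Nat.card T).Coprime (Nat.card K))).le)
    · rw [Subgroup.commutator_comm]
      exact (Subgroup.commutator_mono hSK le_rfl).trans
        (Coprime.commutator_le_of_le_normalizer ((hTN.trans hNH).trans hHK))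
    · obtain ⟨k, hk⟩ := IsPGroup.iff_card.mp hT
      rw [hk]; exact (hrτ.1.coprime_iff_not_dvd.mpr hKr).pow_left k
  have hSB : cj n⁻¹ (S : Subgroup G) ≤ M := by
    refine le_trans ?_ hB.centralizer_le
    have hh := cj_le_centralizer (g := n⁻¹) (X := (S : Subgroup G)) (Y := cj n B)
      ((Subgroup.le_centralizer_iff.mp (Subgroup.commutator_eq_bot_iff_le_centralizer.mp hTS)).trans
        (Subgroup.centralizer_le hnB))
    rwa [← cj_mul, inv_mul_cancel, cj_one] at hh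
  have hc := h.isMulCommutative_of_pGroup hG hpl (S.isPGroup'.map _) hSB
  refine hS S ⟨⟨fun a b => Subtype.ext ((MulAut.conj n⁻¹).injective ?_)⟩⟩
  show MulAut.conj n⁻¹ ((a : G) * b) = MulAut.conj n⁻¹ ((b : G) * a)
  rw [map_mul, map_mul]
  exact congrArg Subtype.val (hc.is_comm.comm ⟨_, Subgroup.mem_map_of_mem (MulAut.conj n⁻¹).toMonoidHom a.2⟩
    ⟨_, Subgroup.mem_map_of_mem (MulAut.conj n⁻¹).toMonoidHom b.2⟩)


/-- `F(M) = M_σ × A₀`. -/
theorem fittingOf_eq (hS : ∀ S : Sylow p G, ¬ IsMulCommutative (S : Subgroup G)) {E : Subgroup G}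
    (hE : IsComplIn E (sigmaCore M) M) (hpτ : p ∈ tau2 M) (hAE : A ≤ E) :
    fittingOf M = sigmaCore M ⊔ A0 := by
  obtain ⟨hMA0, hinf, -⟩ := h.fpf_lines hG hpl hS hE hpτ hAE
  have hEA := h.le_normalizer_of_compl hG hpl hE hAE
  have hMN : M ≤ Subgroup.normalizer (A0 : Set G) := by
    intro m hm
    obtain ⟨e, he, s, hs, rfl⟩ := hE.2.2.2 m hm
    refine mul_mem (Coprime.mem_normalizer_of_conj_mem fun a ha => ?_)
      (Subgroup.centralizer_le_normalizer _ (hMA0 hs))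
    rw [← hinf] at ha ⊢
    exact ⟨(Subgroup.mem_normalizer_iff.mp (hEA he) a).mp ha.1,
      conj_mem_centralizer (le_normalizer_sigmaCore M (hE.1 he)) ha.2⟩
  refine le_antisymm ?_ (sup_le ?_ ?_)
  · rw [fittingOf, Core.fittingSubgroup_eq_iSup, Subgroup.map_iSup]
    refine iSup_le fun q => ?_
    haveI := Fact.mk q.2
    have hqp : IsPGroup (q : ℕ) ↥(pCoreMap (q : ℕ) M) := (Core.isPGroup_pCore (q : ℕ) M).map _
    by_cases hqσ : (q : ℕ) ∈ sigma M
    · exact le_sup_of_le_left (le_sigmaCore hG h.coatom (Subgroup.map_subtype_le _) (mem_of_pGroup hqp hqσ))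
    refine le_sup_of_le_right ?_
    show pCoreMap (q : ℕ) M ≤ A0
    by_cases hne : pCoreMap (q : ℕ) M = ⊥
    · rw [hne]; exact bot_le
    obtain ⟨Q⟩ := (inferInstance : Nonempty (Sylow (q : ℕ) M))
    obtain ⟨B0, hB, -⟩ := exc_of_pCore hG hpl h.coatom hqσ hne Q
    have hqτ : (q : ℕ) ∈ tau2 M := ⟨q.2, hqσ, pRankLE_two_of_notMem_sigma hG h.coatom q.2 hqσ,
      hB.maxEA.not_pRankLE_one hB.le⟩
    rw [h.tau2_eq hG hpl hS hE hpτ hAE] at hqτ
    clear hB B0 Q
    rw [show (q : ℕ) = p from hqτ] at hqp ⊢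
    obtain ⟨P, S, u, hAP, hPS, -, huS, huN, huA, huM, huC⟩ := h.exists_mover hG hpl hS
    set P' := (P : Subgroup M).map M.subtype
    obtain ⟨hPc⟩ := h.sylow_abelian_of_le hG hpl P hAP
    have hcomm : ∀ {a b : G}, a ∈ P' → b ∈ P' → Commute a b := fun {a b} ha hb =>
      congrArg Subtype.val (hPc.comm ⟨a, ha⟩ ⟨b, hb⟩)
    have hOP : pCoreMap p M ≤ P' := Subgroup.map_mono (Core.pCore_le_sylow P)
    have hOM : pCoreMap p M ≤ M := Subgroup.map_subtype_le _
    have hOC : pCoreMap p M ≤ Subgroup.centralizer (sigmaCore M : Set G) := by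
      rw [← Subgroup.commutator_eq_bot_iff_le_centralizer, ← le_bot_iff,
        ← inf_sigmaCore_eq_bot (notMem_sigma_of_pGroup ((Core.isPGroup_pCore p M).map M.subtype) h.notMem)]
      refine le_inf (Coprime.commutator_le_of_le_normalizer
        ((sigmaCore_le M).trans (le_normalizer_pCoreMap p M))) ?_
      rw [Subgroup.commutator_comm]
      exact Coprime.commutator_le_of_le_normalizer (hOM.trans (le_normalizer_sigmaCore M))
    have hord : ∀ x ∈ pCoreMap p M, x ^ p = 1 → x ∈ A0 := fun x hx hxp =>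
      hinf.le ⟨(h.pow_eq_one_iff hG hpl P hAP (hOP hx)).mp hxp, hOC hx⟩
    by_contra hnle
    obtain ⟨x₀, hx₀, hx₀A⟩ := SetLike.not_le_iff_exists.mp hnle
    -- an element outside `A₀` with `p`-th power in `A₀`
    obtain ⟨x, hx, hxA, hxp⟩ : ∃ x ∈ pCoreMap p M, x ∉ A0 ∧ x ^ p ∈ A0 := by
      obtain ⟨k, hk⟩ := hqp ⟨x₀, hx₀⟩
      have hk' : x₀ ^ p ^ k = 1 := congrArg Subtype.val hk
      clear hk
      induction k generalizing x₀ with
      | zero => exact absurd (by rw [pow_zero, pow_one] at hk'; rw [hk']; exact one_mem _) hx₀A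
      | succ k ih =>
        by_cases h2 : x₀ ^ p ∈ A0
        · exact ⟨x₀, hx₀, hx₀A, h2⟩
        · exact ih (x₀ ^ p) (pow_mem hx₀ p) h2 (by rw [← pow_mul, ← pow_succ']; exact hk')
    have ha1 : x ^ p ≠ 1 := fun e => hxA (hord x hx e)
    set a := x ^ p with hadef
    have hA0a := zpowers_eq_of_card_prime h.card0 hxp ha1
    set y := u * x * u⁻¹
    have hy : y ∈ P' := (Subgroup.mem_normalizer_iff.mp huN x).mp (hOP hx)
    have hne' : cj u A0 ≠ A0 := fun e => huM (h.norm (cj_eq_iff.mp e))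
    have hu0 : cj u A0 = Subgroup.zpowers (y ^ p) := by
      refine (zpowers_eq_of_card_prime (X := cj u A0) (x := y ^ p) (by rw [card_cj, h.card0]) ⟨a, hxp, ?_⟩ ?_).symm
      · simp [y, conj_pow, hadef]
      · rw [conj_pow]; exact fun e => ha1 (conj_eq_one_iff.mp e)
    have hsup : A0 ⊔ cj u A0 = A := sup_eq_of_ne h.maxEA.card h.card0 (by rw [card_cj, h.card0]) h.le0
      ((cj_mono h.le0).trans (cj_eq_iff.mpr huA).le) (Ne.symm hne')
    obtain ⟨e, he, hpow⟩ := h.maxEA.exists_not_pow hG hpl S (hAP.trans hPS) (hS S)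
    obtain ⟨v, hv, w, hw, hvw⟩ := Coprime.exists_mul_of_mem_sup (N := A0) (A := cj u A0)
      ((((cj_mono h.le0).trans (cj_eq_iff.mpr huA).le).trans h.le).trans hMN) (hsup.ge he)
    rw [← hA0a] at hv
    rw [hu0] at hw
    obtain ⟨i, rfl⟩ := hv
    obtain ⟨j, rfl⟩ := hw
    have hxy : x ^ i * y ^ j ∈ P' := mul_mem (zpow_mem (hOP hx) i) (zpow_mem hy j)
    refine hpow _ ⟨hPS hxy, Subgroup.mem_centralizer_iff.mpr fun b hb => hcomm (hAP hb) hxy⟩ ?_
    simp only at hvw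
    rw [((hcomm (hOP hx) hy).zpow_zpow i j).mul_pow, ← hvw, hadef, ← zpow_natCast (x ^ i) p,
      ← zpow_natCast (y ^ j) p, ← zpow_natCast x p, ← zpow_natCast y p, ← zpow_mul, ← zpow_mul, ← zpow_mul,
      ← zpow_mul, mul_comm i, mul_comm j]
  · haveI : Group.IsNilpotent (piCore (sigma M) M) := by
      haveI : Group.IsNilpotent ↥((piCore (sigma M) M).map M.subtype) := h.isNilpotent hG hpl
      exact Group.nilpotent_of_mulEquiv ((piCore (sigma M) M).equivMapOfInjective M.subtype M.subtype_injective).symm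
    exact Subgroup.map_mono (Core.le_fittingSubgroup inferInstance inferInstance)
  · have hn : (A0.subgroupOf M).Normal := Subgroup.normal_subgroupOf_of_le_normalizer hMN
    refine le_of_eq_of_le ?_ (Subgroup.map_mono (Core.le_fittingSubgroup (N := A0.subgroupOf M) hn
      ((h.maxEA.isPGroup.to_le h.le0).comap_subtype : IsPGroup p (A0.subgroupOf M)).isNilpotent))
    rw [Subgroup.subgroupOf_map_subtype, inf_eq_left.mpr (h.le0.trans h.le)]


end Exc

end Cfsg.Agent.OddLocal.Sigma
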