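import Cfsg.Agent.OddLocal.Sigma.SigmaPrime
import Cfsg.Agent.OddLocal.Sigma.SylowRankTwo
import Cfsg.Agent.OddLocal.Sigma.Lines

/-! A non-abelian `p`-subgroup lies in a unique maximal subgroup (BG 12.13). -/

set_option autoImplicit false
set_option linter.style.haveILetI false
set_option linter.unusedSectionVars false

namespace Cfsg.Agent.OddLocal.Sigma

open Cfsg
open scoped commutatorElement

variable {G : Type*} [Group G] [Finite G] (hG : IsMinSimpleOddOrder G)
  (hpl : ∀ (p : ℕ) [Fact p.Prime] (H : Subgroup G), H ≠ ⊤ → PLengthLE p 1 H)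
include hG hpl

theorem mem_sigma_of_nonabelian {M P : Subgroup G} (hM : IsCoatom M) {p : ℕ} [hp : Fact p.Prime]
    (hP : IsPGroup p P) (hPM : P ≤ M) (hPna : ¬ IsMulCommutative P) : p ∈ sigma M := by
  by_contra hσ
  haveI : Group.IsNilpotent P := hP.isNilpotent
  exact hPna (isMulCommutative_of_nilpotent_le hG hpl hM hPM (notMem_sigma_of_pGroup hP hσ))

omit hpl in
/-- `C_X(Z)` for `X` normalized by an extra-special `P₁` of exponent `p` with centre `Z`. -/
theorem inf_centralizer_le_of_cube {p : ℕ} [hp : Fact p.Prime] {P₁ X K : Subgroup G} (hc : Nat.card P₁ = p ^ 3)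
    (hna : ¬ IsMulCommutative P₁) (hexp : ∀ x ∈ P₁, x ^ p = 1)
    (hZc : Nat.card ↥(P₁ ⊓ Subgroup.centralizer (P₁ : Set G)) = p) (hX : ¬ p ∣ Nat.card X)
    (hPX : P₁ ≤ Subgroup.normalizer (X : Set G)) (hZK : P₁ ⊓ Subgroup.centralizer (P₁ : Set G) ≤ K)
    (hK : ∀ u ∈ P₁, u ∉ Subgroup.centralizer (P₁ : Set G) → ∀ x ∈ X, x * u = u * x →
      x ∈ Subgroup.centralizer ((P₁ ⊓ Subgroup.centralizer (P₁ : Set G) : Subgroup G) : Set G) → x ∈ K) :
    X ⊓ Subgroup.centralizer ((P₁ ⊓ Subgroup.centralizer (P₁ : Set G) : Subgroup G) : Set G) ≤ K := by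
  set Z := P₁ ⊓ Subgroup.centralizer (P₁ : Set G) with hZdef
  have hder := derived_eq_center_of_cube hc hna
  set H := Subgroup.centralizer (Z : Set G) with hHdef
  have hPH : P₁ ≤ H := fun u hu => Subgroup.mem_centralizer_iff.mpr fun z hz =>
    (Subgroup.mem_centralizer_iff.mp hz.2 u hu).symm
  haveI : (Z.subgroupOf H).Normal := Subgroup.normal_subgroupOf_of_le_normalizer
    (Subgroup.centralizer_le_normalizer _)
  set f := QuotientGroup.mk' (Z.subgroupOf H)
  set V := (P₁.subgroupOf H).map f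
  set Y := ((X ⊓ H).subgroupOf H).map f
  have hV : IsElementaryAbelian p V := by
    refine ⟨⟨⟨?_⟩⟩, ?_⟩
    · rintro ⟨_, a, ha, rfl⟩ ⟨_, b, hb, rfl⟩
      refine Subtype.ext (show f a * f b = f b * f a from ?_)
      rw [← commutatorElement_eq_one_iff_mul_comm, ← map_commutatorElement]
      exact (QuotientGroup.eq_one_iff _).mpr (Subgroup.mem_subgroupOf.mpr (hder.le
        (Subgroup.commutator_mem_commutator (Subgroup.mem_subgroupOf.mp ha) (Subgroup.mem_subgroupOf.mp hb))))
    · rintro _ ⟨a, ha, rfl⟩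
      rw [← map_pow, show a ^ p = 1 from Subtype.ext (hexp a (Subgroup.mem_subgroupOf.mp ha)), map_one]
  have hXH : ¬ p ∣ Nat.card ↥(X ⊓ H) := fun hd => hX (hd.trans (Subgroup.card_dvd_of_le inf_le_left))
  have hY : ¬ p ∣ Nat.card Y := fun hd => hXH (hd.trans ((Subgroup.card_map_dvd _ f).trans (by
    rw [Core.card_subgroupOf (inf_le_right : X ⊓ H ≤ H)])))
  have hZX : ∀ w ∈ Z, w ∈ X → w = 1 := fun w hw hwX => by
    have h1 : orderOf w ∣ p := orderOf_dvd_of_pow_eq_one (hexp w hw.1)
    exact orderOf_eq_one_iff.mp (((Nat.dvd_prime hp.out).mp h1).resolve_right fun e =>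
      hX (e ▸ Subgroup.orderOf_dvd_natCard X hwX))
  have hVY : V ≤ Subgroup.normalizer (Y : Set _) := by
    rintro _ ⟨a, ha, rfl⟩
    refine Subgroup.le_normalizer_map f ⟨a, ?_, rfl⟩
    refine Coprime.mem_normalizer_of_conj_mem fun x hx => ?_
    have hx' := Subgroup.mem_subgroupOf.mp hx
    exact Subgroup.mem_subgroupOf.mpr
      ⟨(Subgroup.mem_normalizer_iff.mp (hPX (Subgroup.mem_subgroupOf.mp ha)) (x : G)).mp hx'.1,
        (a * x * a⁻¹).2⟩
  have hV2 : p ^ 2 ≤ Nat.card V := by
    set g := f.comp (P₁.subgroupOf H).subtype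
    have h1 := g.ker.card_mul_index
    rw [Subgroup.index_ker, show g.range = V by rw [MonoidHom.range_comp, Subgroup.range_subtype],
      Core.card_subgroupOf hPH, hc] at h1
    have h2 : Nat.card g.ker ≤ p := by
      rw [← Core.card_map_subtype g.ker, ← hZc, ← Core.card_subgroupOf (inf_le_left.trans hPH : Z ≤ H)]
      refine Subgroup.card_le_of_le ?_
      rintro _ ⟨x, hx, rfl⟩
      exact (QuotientGroup.eq_one_iff _).mp hx
    refine Nat.le_of_mul_le_mul_left ?_ hp.out.pos
    rw [← pow_succ', ← h1]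
    exact Nat.mul_le_mul_right _ h2
  have hle : Y ≤ ((K ⊓ H).subgroupOf H).map f := by
    refine (Components.le_iSup_hyperplanes hV hY hVY).le.trans (iSup_le fun B => ?_)
    have hne : (B : Subgroup (↥H ⧸ Z.subgroupOf H)) ≠ ⊥ := fun hb => by
      have h2 := B.2.2
      rw [hb, Subgroup.relIndex_bot_left] at h2
      exact absurd ((Nat.pow_le_pow_iff_right hp.out.one_lt).mp ((hV2.trans h2).trans (pow_one p).ge))
        (by norm_num)
    obtain ⟨v, hv, hv1⟩ := (B : Subgroup (↥H ⧸ Z.subgroupOf H)).bot_or_exists_ne_one.resolve_left hne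
    obtain ⟨u, hu, rfl⟩ := B.2.1 hv
    rintro _ ⟨⟨x, hx, rfl⟩, hxv⟩
    have hx' := Subgroup.mem_subgroupOf.mp hx
    have hu' := Subgroup.mem_subgroupOf.mp hu
    have hcz : ((⁅x, u⁆ : H) : G) ∈ Z := Subgroup.mem_subgroupOf.mp ((QuotientGroup.eq_one_iff _).mp
      (show f ⁅x, u⁆ = 1 by
        rw [map_commutatorElement, commutatorElement_eq_one_iff_mul_comm]
        exact (Subgroup.mem_centralizer_iff.mp hxv _ hv).symm))
    have h1 : ⁅(x : G), (u : G)⁆ = 1 := hZX _ hcz (by
      rw [commutatorElement_def, mul_assoc, mul_assoc]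
      refine X.mul_mem hx'.1 ?_
      rw [← mul_assoc]
      exact (Subgroup.mem_normalizer_iff.mp (hPX hu') _).mp (X.inv_mem hx'.1))
    refine ⟨x, Subgroup.mem_subgroupOf.mpr ⟨hK u hu' (fun h2 => hv1 ((QuotientGroup.eq_one_iff _).mpr
      (Subgroup.mem_subgroupOf.mpr ⟨hu', h2⟩))) x hx'.1 (commutatorElement_eq_one_iff_mul_comm.mp h1) x.2, x.2⟩, rfl⟩
  intro x hx
  obtain ⟨y, hy, hye⟩ := hle ⟨⟨x, hx.2⟩, Subgroup.mem_subgroupOf.mpr hx, rfl⟩
  have h1 : y⁻¹ * (⟨x, hx.2⟩ : H) ∈ Z.subgroupOf H := (QuotientGroup.eq_one_iff _).mp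
    (show f (y⁻¹ * ⟨x, hx.2⟩) = 1 by rw [map_mul, map_inv, hye, inv_mul_cancel])
  have h2 := K.mul_mem (Subgroup.mem_subgroupOf.mp hy).1 (hZK (Subgroup.mem_subgroupOf.mp h1))
  simpa using h2

/-- One maximal subgroup lies over the normalizer of a non-abelian Sylow subgroup of rank two. -/
theorem eq_of_normalizer_sylow_le {p : ℕ} [hp : Fact p.Prime] (S : Sylow p G) (hr : PRankLE p 2 (S : Subgroup G))
    (hSna : ¬ IsMulCommutative (S : Subgroup G)) {M L : Subgroup G} (hM : IsCoatom M) (hL : IsCoatom L)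
    (hNM : Subgroup.normalizer ((S : Subgroup G) : Set G) ≤ M)
    (hNL : Subgroup.normalizer ((S : Subgroup G) : Set G) ≤ L) : M = L := by
  obtain ⟨P₁, P₂, hsup, hcomm, hnab, hPc, hPe, -, -⟩ := (sylow_rank_two hG hpl S hr).resolve_left hSna
  have hexp : ∀ x ∈ P₁, x ^ p = 1 := fun x hx =>
    congrArg Subtype.val (hPe ▸ Monoid.pow_exponent_eq_one (⟨x, hx⟩ : P₁))
  have hPS : P₁ ≤ (S : Subgroup G) := hsup ▸ le_sup_left
  set Z := P₁ ⊓ Subgroup.centralizer (P₁ : Set G) with hZdef
  obtain ⟨a, ha, haZ⟩ : ∃ a ∈ P₁, a ∉ Subgroup.centralizer (P₁ : Set G) :=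
    SetLike.not_le_iff_exists.mp fun h => hnab (Subgroup.le_centralizer_iff_isMulCommutative.mp h)
  obtain ⟨b, hb, hab⟩ : ∃ b ∈ P₁, b * a ≠ a * b := by
    simpa [Subgroup.mem_centralizer_iff] using haZ
  have ha1 : a ≠ 1 := fun e => haZ (e ▸ one_mem _)
  have hZe : IsElementaryAbelian p Z :=
    ⟨⟨⟨fun x y => Subtype.ext (Subgroup.mem_centralizer_iff.mp y.2.2 x x.2.1)⟩⟩, fun x hx => hexp x hx.1⟩
  set A := Z ⊔ Subgroup.zpowers a with hAdef
  have haCZ : a ∈ Subgroup.centralizer (Z : Set G) :=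
    Subgroup.mem_centralizer_iff.mpr fun z hz => (Subgroup.mem_centralizer_iff.mp hz.2 a ha).symm
  have hA : IsElementaryAbelian p A := RankTwo.ea_insert hZe (hexp a ha) haCZ
  have hAP : A ≤ P₁ := sup_le inf_le_left (Subgroup.zpowers_le.mpr ha)
  have hAc : Nat.card A = p ^ 2 := by
    obtain ⟨k, hk⟩ := IsPGroup.iff_card.mp (Components.ea_isPGroup hA)
    obtain ⟨j, hj⟩ := IsPGroup.iff_card.mp (Components.ea_isPGroup hZe)
    have h1 : Nat.card Z < Nat.card A := Set.Finite.card_lt_card (Set.toFinite _)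
      (show Z < A from lt_of_le_of_ne le_sup_left fun e =>
        haZ (e.ge (Subgroup.mem_sup_right (Subgroup.mem_zpowers a))).2)
    have h2 : k ≤ 2 := by
      have := card_ea_le hr hA (hAP.trans hPS)
      rw [hk] at this
      exact (Nat.pow_le_pow_iff_right hp.out.one_lt).mp this
    have h3 : j ≠ 0 := fun e => by
      have hbot : Z = ⊥ := Subgroup.eq_bot_of_card_eq _ (by rw [hj, e, pow_zero])
      have h4 := (derived_eq_center_of_cube hPc hnab).le (Subgroup.commutator_mem_commutator hb ha)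
      rw [← hZdef, hbot, Subgroup.mem_bot, commutatorElement_eq_one_iff_mul_comm] at h4
      exact hab h4
    rw [hk, hj] at h1
    have := (Nat.pow_lt_pow_iff_right hp.out.one_lt).mp h1
    rw [hk, show k = 2 by omega]
  have hbA : b ∈ Subgroup.normalizer (A : Set G) := Coprime.mem_normalizer_of_conj_mem fun x hx => by
    rw [show b * x * b⁻¹ = ⁅b, x⁆ * x by rw [commutatorElement_def]; group]
    exact mul_mem (Subgroup.mem_sup_left ((derived_eq_center_of_cube hPc hnab).le
      (Subgroup.commutator_mem_commutator hb (hAP hx)))) hx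
  have hbC : b ∉ Subgroup.centralizer (A : Set G) := fun hc =>
    hab (Subgroup.mem_centralizer_iff.mp hc a (Subgroup.mem_sup_right (Subgroup.mem_zpowers a))).symm
  obtain ⟨hZbc, htr⟩ := transvection hA hAc S.isPGroup' (hAP.trans hPS) (hPS hb) hbA hbC
  have hZb : A ⊓ Subgroup.centralizer ({b} : Set G) = Z := by
    refine (Subgroup.eq_of_le_of_card_ge ?_ ?_).symm
    · exact fun z hz => ⟨Subgroup.mem_sup_left hz, Subgroup.mem_centralizer_singleton_iff.mpr
        (Subgroup.mem_centralizer_iff.mp hz.2 b hb).symm⟩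
    · rw [hZbc]
      obtain ⟨j, hj⟩ := IsPGroup.iff_card.mp (Components.ea_isPGroup hZe)
      rw [hj]
      exact Nat.le_self_pow (fun e => hab (by
        have hbot : Z = ⊥ := Subgroup.eq_bot_of_card_eq _ (by rw [hj, e, pow_zero])
        have h4 := (derived_eq_center_of_cube hPc hnab).le (Subgroup.commutator_mem_commutator hb ha)
        rw [← hZdef, hbot, Subgroup.mem_bot, commutatorElement_eq_one_iff_mul_comm] at h4
        exact h4)) p
  rw [hZb] at hZbc htr
  -- a witness other than `Z` for `L` forces `M ≤ L`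
  have key : ∀ {M L : Subgroup G}, IsCoatom M → IsCoatom L →
      Subgroup.normalizer ((S : Subgroup G) : Set G) ≤ M → Subgroup.normalizer ((S : Subgroup G) : Set G) ≤ L →
      ∀ Y : Subgroup G, Y ≤ A → Nat.card Y = p → Y ≠ Z → Subgroup.normalizer (Y : Set G) ≤ L → M = L := by
    intro M L hM hL hNM hNL Y hYA hY hYZ hNY
    have hSM : (S : Subgroup G) ≤ M := Subgroup.le_normalizer.trans hNM
    have hSL : (S : Subgroup G) ≤ L := Subgroup.le_normalizer.trans hNL
    have hpσ := mem_sigma_of_nonabelian hG hpl hM S.isPGroup' hSM hSna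
    have hpβ : p ∉ beta M := fun hβ => by
      obtain ⟨E, hE, hEM, hE3⟩ := Core.BG.exists_ea_of_not_pRankLE hβ.1.2
      obtain ⟨x, hx⟩ := Transfer.exists_map_conj_le_sylow S (Components.ea_isPGroup hE)
      exact not_pRankLE_of_ea (PLocal.isEA_map hE _) hx
        (lt_of_lt_of_le (Nat.pow_lt_pow_right hp.out.one_lt (by norm_num)) (card_cj x E ▸ hE3)) hr
    obtain ⟨D, hDσ, hMD, hDp, hDmem⟩ := exists_residual hG hpl hM hpβ
    have hSσ : (S : Subgroup G) ≤ sigmaCore M := le_sigmaCore hG hM hSM (mem_of_pGroup S.isPGroup' hpσ)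
    have hSD : (S : Subgroup G) ≤ Subgroup.normalizer (D : Set G) := hSM.trans hMD
    have hZC : D ⊓ Subgroup.centralizer (Z : Set G) ≤ L := by
      refine inf_centralizer_le_of_cube hG hPc hnab hexp hZbc hDp (hPS.trans hSD)
        ((inf_le_left : Z ≤ P₁).trans (hPS.trans hSL)) fun u hu hun x hx hxu hxZ => ?_
      have huCZ : u ∈ Subgroup.centralizer (Z : Set G) :=
        Subgroup.mem_centralizer_iff.mpr fun z hz => (Subgroup.mem_centralizer_iff.mp hz.2 u hu).symm
      have hU := RankTwo.ea_insert hZe (hexp u hu) huCZ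
      have hUS : Z ⊔ Subgroup.zpowers u ≤ (S : Subgroup G) :=
        sup_le (inf_le_left.trans hPS) (Subgroup.zpowers_le.mpr (hPS hu))
      have hUc : Nat.card ↥(Z ⊔ Subgroup.zpowers u) = p ^ 2 := by
        obtain ⟨k, hk⟩ := IsPGroup.iff_card.mp (Components.ea_isPGroup hU)
        have h1 : Nat.card Z < Nat.card ↥(Z ⊔ Subgroup.zpowers u) := Set.Finite.card_lt_card (Set.toFinite _)
          (show Z < Z ⊔ Subgroup.zpowers u from
            lt_of_le_of_ne le_sup_left fun e => hun (e.ge (Subgroup.mem_sup_right (Subgroup.mem_zpowers u))).2)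
        have h2 : k ≤ 2 := by
          have := card_ea_le hr hU hUS
          rw [hk] at this
          exact (Nat.pow_le_pow_iff_right hp.out.one_lt).mp this
        rw [hk, hZbc] at h1
        have h3 : 1 < k := (Nat.pow_lt_pow_iff_right hp.out.one_lt).mp (by rwa [pow_one])
        rw [hk, show k = 2 by omega]
      exact centralizer_ea_sq_le hG hpl hL (hUS.trans hSL) hU hUc (Subgroup.mem_centralizer_iff.mpr fun w hw => by
        have hle : Z ⊔ Subgroup.zpowers u ≤ Subgroup.centralizer ({x} : Set G) := sup_le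
          (fun z hz => Subgroup.mem_centralizer_singleton_iff.mpr (Subgroup.mem_centralizer_iff.mp hxZ z hz))
          (Subgroup.zpowers_le.mpr (Subgroup.mem_centralizer_singleton_iff.mpr hxu.symm))
        exact Subgroup.mem_centralizer_singleton_iff.mp (hle hw))
    have hAD : A ≤ Subgroup.normalizer (D : Set G) := (hAP.trans hPS).trans hSD
    have hDL : D ≤ L := by
      refine (Components.le_iSup_hyperplanes hA hDp hAD).le.trans (iSup_le fun B => ?_)
      have hne : (B : Subgroup G) ≠ ⊥ := fun h' => by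
        have h2 := B.2.2
        rw [h', Subgroup.relIndex_bot_left, hAc] at h2
        exact absurd ((Nat.pow_le_pow_iff_right hp.out.one_lt).mp (h2.trans (pow_one p).ge)) (by norm_num)
      obtain ⟨v, hv, hv1⟩ := (B : Subgroup G).bot_or_exists_ne_one.resolve_left hne
      refine (inf_le_inf_left D (Subgroup.centralizer_le (Subgroup.zpowers_le.mpr hv : _ ≤ (B : Subgroup G)))).trans ?_
      have hvc : Nat.card (Subgroup.zpowers v) = p := by
        rw [Nat.card_zpowers, orderOf_eq_prime (hA.2 v (B.2.1 hv)) hv1]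
      by_cases hvZ : Subgroup.zpowers v = Z
      · rw [hvZ]; exact hZC
      obtain ⟨j, hj⟩ := htr Y (Subgroup.zpowers v) hYA (Subgroup.zpowers_le.mpr (B.2.1 hv)) hY hvc hYZ hvZ
      refine inf_le_right.trans ?_
      rw [hj]
      refine (Subgroup.centralizer_le_normalizer _).trans ?_
      rw [Transfer.normalizer_map_conj]
      exact (cj_mono hNY).trans (cj_eq_iff.mpr (Subgroup.le_normalizer (hSL (pow_mem (hPS hb) j)))).le
    have hσL : sigmaCore M ≤ L := Core.le_of_forall_exists_sylow_le fun q hq => by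
      haveI := Fact.mk hq
      by_cases hqp : q = p
      · subst hqp
        refine ⟨S.subtype hSσ, ?_⟩
        rw [Sylow.coe_subtype, Subgroup.subgroupOf_map_subtype, inf_eq_left.mpr hSσ]
        exact hSL
      · obtain ⟨Q⟩ := (inferInstance : Nonempty (Sylow q ↥(sigmaCore M)))
        exact ⟨Q, (hDmem _ (Subgroup.map_subtype_le _)
          (not_dvd_of_pGroup (Ne.symm hqp) (Q.isPGroup'.map _))).trans hDL⟩
    have hML : M ≤ L := by
      intro m hm
      have hle : cj m (S : Subgroup G) ≤ sigmaCore M :=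
        (cj_mono hSσ).trans (cj_eq_iff.mpr (le_normalizer_sigmaCore M hm)).le
      obtain ⟨w, hw, hwe⟩ := Coprime.exists_conj_of_sylow (H := sigmaCore M) (P := cj m (S : Subgroup G))
        (Q := (S : Subgroup G)) (S.isPGroup'.map _) S.isPGroup' hle hSσ (fun hd => (m • S).not_dvd_index
          (hd.trans (by rw [Sylow.coe_subgroup_smul, Core.conj_smul_eq_map]
                        exact Subgroup.relIndex_dvd_index_of_le hle)))
        (fun hd => S.not_dvd_index (hd.trans (Subgroup.relIndex_dvd_index_of_le hSσ)))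
      have h1 : w * m ∈ L := hNL (cj_eq_iff.mp (by rw [cj_mul]; exact hwe))
      have := L.mul_mem (L.inv_mem (hσL hw)) h1
      rwa [inv_mul_cancel_left] at this
    exact ((hM.le_iff.mp hML).resolve_left hL.1).symm
  have hcases : ∀ {M : Subgroup G}, IsCoatom M → Subgroup.normalizer ((S : Subgroup G) : Set G) ≤ M →
      M ≤ Subgroup.normalizer ((S : Subgroup G) : Set G) ∨
      ∃ Y : Subgroup G, Y ≤ A ∧ Nat.card Y = p ∧ Subgroup.normalizer (Y : Set G) ≤ M ∧
        ∀ L : Subgroup G, IsCoatom L → Subgroup.normalizer (Y : Set G) ≤ L → L = M := by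
    intro M hM hNM
    have hSM : (S : Subgroup G) ≤ M := Subgroup.le_normalizer.trans hNM
    by_cases hh : ∀ Y : Subgroup G, Y ≤ A → Nat.card Y = p →
        ¬ (Subgroup.normalizer (Y : Set G) ≤ M ∧
          ∀ L : Subgroup G, IsCoatom L → Subgroup.normalizer (Y : Set G) ≤ L → L = M)
    · obtain ⟨hσ, -, hnil⟩ := nonunique_facts hG hpl hM ((hAP.trans hPS).trans hSM) hA hAc hh
      exact Or.inl (le_normalizer_sylow_of_nilpotent hG hM hnil hσ S hSM)
    · push Not at hh
      exact Or.inr hh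
  rcases hcases hM hNM with h1 | ⟨Y, hYA, hY, hNY, hYu⟩
  · exact ((hM.le_iff.mp (h1.trans hNL)).resolve_left hL.1).symm
  rcases hcases hL hNL with h2 | ⟨Y', hY'A, hY', hNY', -⟩
  · exact (hL.le_iff.mp (h2.trans hNM)).resolve_left hM.1
  by_cases hYZ : Y = Z
  · by_cases hY'Z : Y' = Z
    · exact (hYu L hL (by rw [hYZ, ← hY'Z]; exact hNY')).symm
    · exact key hM hL hNM hNL Y' hY'A hY' hY'Z hNY'
  · exact (key hL hM hNL hNM Y hYA hY hYZ hNY).symm

/-- A non-abelian `p`-subgroup lies in exactly one maximal subgroup. -/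
theorem inUniqueMaximal_of_nonabelian {P : Subgroup G} {p : ℕ} [hp : Fact p.Prime]
    (hP : IsPGroup p P) (hPna : ¬ IsMulCommutative P) : InUniqueMaximal P := by
  have hP1 : P ≠ ⊥ := fun e => hPna (by subst e; exact ⟨⟨fun a b => Subsingleton.elim _ _⟩⟩)
  have hPtop : P ≠ ⊤ := fun e => Core.BG.normalizer_ne_top_of_isPGroup hG hP1 hP
    (top_le_iff.mp (le_trans e.ge Subgroup.le_normalizer))
  have hnc : ¬ IsCyclic P := fun h => hPna ⟨⟨fun a b => (IsCyclic.commGroup (α := P)).mul_comm a b⟩⟩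
  obtain ⟨M, hM, hPM⟩ := (eq_top_or_exists_le_coatom P).resolve_left hPtop
  refine ⟨M, ⟨hM, hPM⟩, fun L ⟨hL, hPL⟩ => ?_⟩
  have hpG : p ∣ Nat.card G := sigma_dvd (mem_sigma_of_nonabelian hG hpl hM hP hPM hPna)
  obtain ⟨U, -, hU, hUc⟩ := Transfer.PNormal.exists_normal_ea_sq (ne_two_of_dvd hG hpG) hP hnc
  have hCM : Subgroup.centralizer (P : Set G) ≤ M :=
    (Subgroup.centralizer_le (Subgroup.map_subtype_le U)).trans (centralizer_ea_sq_le hG hpl hM
      ((Subgroup.map_subtype_le U).trans hPM) (PLocal.isEA_map hU P.subtype)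
      (by rw [Core.card_map_subtype, hUc]))
  -- transport a maximal subgroup to one over the normalizer of a fixed Sylow subgroup
  obtain ⟨S, hPS⟩ := hP.exists_le_sylow
  have hSna : ¬ IsMulCommutative (S : Subgroup G) := fun hc => hPna (by haveI := hc; exact isMulCommutative_of_le hPS)
  have hS1 : (S : Subgroup G) ≠ ⊥ := fun e => hP1 (le_bot_iff.mp (e ▸ hPS))
  have hNtop : Subgroup.normalizer ((S : Subgroup G) : Set G) ≠ ⊤ :=
    Core.BG.normalizer_ne_top_of_isPGroup hG hS1 S.isPGroup'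
  by_cases hr : PRankLE p 2 (S : Subgroup G)
  · obtain ⟨R, hR, hNR⟩ := (eq_top_or_exists_le_coatom _).resolve_left hNtop
    suffices hall : ∀ L : Subgroup G, IsCoatom L → P ≤ L →
        Subgroup.centralizer (P : Set G) ≤ L → L = R from
      (hall L hL hPL ((Subgroup.centralizer_le (Subgroup.map_subtype_le U)).trans (centralizer_ea_sq_le hG hpl hL
        ((Subgroup.map_subtype_le U).trans hPL) (PLocal.isEA_map hU P.subtype)
        (by rw [Core.card_map_subtype, hUc])))).trans (hall M hM hPM hCM).symm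
    intro L hL hPL hCL
    have hσ := mem_sigma_of_nonabelian hG hpl hL hP hPL hPna
    obtain ⟨T, hTL, hNT⟩ := exists_sylow_le hσ
    obtain ⟨g, hg⟩ := MulAction.exists_smul_eq G T S
    have hgS : cj g (T : Subgroup G) = (S : Subgroup G) := by
      rw [← hg, Sylow.coe_subgroup_smul, Core.conj_smul_eq_map]
    have hNg : Subgroup.normalizer ((S : Subgroup G) : Set G) ≤ cj g L := by
      rw [← hgS, Transfer.normalizer_map_conj]
      exact cj_mono hNT
    have hgR : cj g L = R := eq_of_normalizer_sylow_le hG hpl S hr hSna (isCoatom_cj hL g) hR hNg hNR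
    obtain ⟨c, hc, e⟩ := transitive hG hL hσ _ P le_rfl hP hP1 1 g (by rwa [cj_one])
      (hPS.trans (Subgroup.le_normalizer.trans hNg))
    rw [cj_one, cj_eq_iff.mpr (Subgroup.le_normalizer (hCL hc))] at e
    rw [← hgR, e]
  · -- rank at least three
    obtain ⟨E, hE, hES, hE3⟩ := Core.BG.exists_ea_of_not_pRankLE hr
    have hStop : (S : Subgroup G) ≠ ⊤ := fun e => hNtop (top_le_iff.mp (le_trans e.ge Subgroup.le_normalizer))
    have hSu : InUniqueMaximal (S : Subgroup G) :=
      Core.BG.inUniqueMaximal_of_le hG (Core.BG.ea_three_unique hG hE hE3) hES hStop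
    obtain ⟨R, ⟨hR, hSR⟩, hu⟩ := hSu
    suffices hall : ∀ L : Subgroup G, IsCoatom L → P ≤ L →
        Subgroup.centralizer (P : Set G) ≤ L → L = R from
      (hall L hL hPL ((Subgroup.centralizer_le (Subgroup.map_subtype_le U)).trans (centralizer_ea_sq_le hG hpl hL
        ((Subgroup.map_subtype_le U).trans hPL) (PLocal.isEA_map hU P.subtype)
        (by rw [Core.card_map_subtype, hUc])))).trans (hall M hM hPM hCM).symm
    intro L hL hPL hCL
    have hσ := mem_sigma_of_nonabelian hG hpl hL hP hPL hPna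
    obtain ⟨T, hTL, -⟩ := exists_sylow_le hσ
    obtain ⟨g, hg⟩ := MulAction.exists_smul_eq G T S
    have hSg : (S : Subgroup G) ≤ cj g L := by
      rw [← hg, Sylow.coe_subgroup_smul, Core.conj_smul_eq_map]
      exact cj_mono hTL
    have hgR : cj g L = R := hu _ ⟨isCoatom_cj hL g, hSg⟩
    obtain ⟨c, hc, e⟩ := transitive hG hL hσ _ P le_rfl hP hP1 1 g (by rwa [cj_one]) (hPS.trans hSg)
    rw [cj_one, cj_eq_iff.mpr (Subgroup.le_normalizer (hCL hc))] at e
    rw [← hgR, e]

end Cfsg.Agent.OddLocal.Sigma
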