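import Cfsg.Agent.OddLocal.Sigma.Rank
import Cfsg.Agent.OddLocal.Coprime
import Cfsg.Agent.Core.PLength
import Cfsg.Agent.Core.PPrimeP

/-! Proper subgroups of a minimal simple group of odd order have `p`-length one. -/

set_option autoImplicit false
set_option linter.style.haveILetI false
set_option linter.unusedSectionVars false

namespace Cfsg.Agent.OddLocal.Sigma

open Cfsg

universe u

theorem le_pPrimePCore {X : Type*} [Group X] [Finite X] {p : ℕ} [hp : Fact p.Prime] {O W : Subgroup X}
    [W.Normal] (hO : O ≤ pPrimeCore p X) {k : ℕ} (hk : O.relIndex W ∣ p ^ k) : W ≤ pPrimePCore p X := by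
  set C := pPrimeCore p X
  rw [pPrimePCore, ← Subgroup.map_le_iff_le_comap]
  refine Core.le_pCore (Subgroup.Normal.map inferInstance _ (QuotientGroup.mk'_surjective C)) ?_
  rw [IsPGroup.iff_card]
  have hd : Nat.card (W.map (QuotientGroup.mk' C)) ∣ p ^ k := by
    rw [← Subgroup.relIndex_bot_left]
    refine dvd_trans ?_ hk
    calc (⊥ : Subgroup (X ⧸ C)).relIndex (W.map (QuotientGroup.mk' C))
        = C.relIndex W := by rw [← Subgroup.relIndex_comap, MonoidHom.comap_bot, QuotientGroup.ker_mk']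
      _ ∣ O.relIndex W := Subgroup.relIndex_dvd_of_le_left W hO
  obtain ⟨i, -, hi⟩ := (Nat.dvd_prime_pow hp.out).mp hd
  exact ⟨i, hi⟩

/-- `p`-length one passes to subgroups. -/
theorem pLengthLE_one_of_injective {X Y : Type*} [Group X] [Finite X] [Group Y] [Finite Y] {p : ℕ}
    [hp : Fact p.Prime] (f : Y →* X) (hf : Function.Injective f) (h : PLengthLE p 1 X) : PLengthLE p 1 Y := by
  rw [Core.pLengthLE_one_iff] at h ⊢
  haveI : ((pPrimePCore p X).comap f).Normal := inferInstance
  obtain ⟨k, hk⟩ := Core.relIndex_pPrimeCore_pPrimePCore (p := p) (G := X)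
  have hW : (pPrimePCore p X).comap f ≤ pPrimePCore p Y := by
    refine le_pPrimePCore (O := (pPrimeCore p X).comap f) (k := k) (Core.le_pPrimeCore inferInstance ?_) ?_
    · refine Nat.Coprime.coprime_dvd_left ?_ (Core.card_pPrimeCore_coprime p X)
      rw [← Subgroup.card_map_of_injective hf]
      exact Subgroup.card_dvd_of_le (Subgroup.map_comap_le f _)
    · rw [Subgroup.relIndex_comap, ← hk]
      exact Core.relIndex_dvd_of_le_right_of_normal (Subgroup.map_comap_le f _)
  refine Nat.Coprime.coprime_dvd_left ((Subgroup.index_dvd_of_le hW).trans ?_) h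
  rw [Subgroup.index_comap]
  exact Subgroup.relIndex_dvd_index_of_normal _ _

/-- A normal subgroup of `p'`-index and `p`-length one forces `p`-length one. -/
theorem pLengthLE_one_of_normal {X : Type*} [Group X] [Finite X] {p : ℕ} [hp : Fact p.Prime] (N : Subgroup X)
    [hN : N.Normal] (hidx : N.index.Coprime p) (h : PLengthLE p 1 N) : PLengthLE p 1 X := by
  rw [Core.pLengthLE_one_iff] at h ⊢
  set O := pPrimeCore p X
  set W := (pPrimePCore p N).map N.subtype
  haveI : (pPrimeCore p N).map N.subtype |>.Normal := Core.normal_map_subtype_of_characteristic _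
  haveI : W.Normal := Core.normal_map_subtype_of_characteristic _
  have hO : (pPrimeCore p N).map N.subtype ≤ O :=
    Core.le_pPrimeCore inferInstance (by rw [Core.card_map_subtype]; exact Core.card_pPrimeCore_coprime p N)
  have hW : W ≤ pPrimePCore p X := by
    rw [pPrimePCore, ← Subgroup.map_le_iff_le_comap]
    refine Core.le_pCore (Subgroup.Normal.map inferInstance _ (QuotientGroup.mk'_surjective O)) ?_
    obtain ⟨k, hk⟩ := Core.relIndex_pPrimeCore_pPrimePCore (p := p) (G := N)
    rw [IsPGroup.iff_card]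
    have hd : Nat.card (W.map (QuotientGroup.mk' O)) ∣ p ^ k := by
      rw [← Subgroup.relIndex_bot_left, ← hk]
      calc (⊥ : Subgroup (X ⧸ O)).relIndex (W.map (QuotientGroup.mk' O))
          = O.relIndex W := by rw [← Subgroup.relIndex_comap, MonoidHom.comap_bot, QuotientGroup.ker_mk']
        _ ∣ ((pPrimeCore p N).map N.subtype).relIndex W := Subgroup.relIndex_dvd_of_le_left W hO
        _ = (pPrimeCore p N).relIndex (pPrimePCore p N) :=
            Subgroup.relIndex_map_map_of_injective _ _ N.subtype_injective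
    obtain ⟨i, -, hi⟩ := (Nat.dvd_prime_pow hp.out).mp hd
    exact ⟨i, hi⟩
  refine Nat.Coprime.coprime_dvd_left (Subgroup.index_dvd_of_le hW) ?_
  rw [Subgroup.index_map_subtype]
  exact Nat.Coprime.mul_left h hidx

theorem pLengthLE_one_of_rank {X : Type*} [Group X] [Finite X] [Group.IsSolvable X] (hodd : Odd (Nat.card X))
    {p : ℕ} [hp : Fact p.Prime] (hr : PRankLE p 2 X) : PLengthLE p 1 X := by
  rw [Core.pLengthLE_one_iff]
  by_cases hd : p ∣ Nat.card X
  · exact (RankTwo.five hodd hd (RankTwo.oddAutSmall_core_of_pRankLE (RankTwo.ne_two_of_dvd hodd hd) hr)).2.2.2.2.2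
  · exact (hp.out.coprime_iff_not_dvd.mpr fun h => hd (h.trans (Subgroup.index_dvd_card _))).symm

/-- The statement of the `p`-length theorem for `[H,R]` (BG 3.6). -/
def CommutatorPLength : Prop :=
  ∀ (X : Type u) [Group X] [Finite X] [Group.IsSolvable X], Odd (Nat.card X) → ∀ (H R R₀ : Subgroup X) [H.Normal],
    (Nat.card H).Coprime H.index → Subgroup.IsComplement' H R → R₀ ≤ R → (Nat.card R₀).Prime →
    IsZGroup ↥(H ⊓ Subgroup.centralizer (R₀ : Set X)) → ∀ (p : ℕ) [Fact p.Prime], PLengthLE p 1 ↥⁅H, R⁆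

variable {G : Type u} [Group G] [Finite G]

theorem derived_ne {M : Subgroup G} [Group.IsSolvable M] (hM : M ≠ ⊥) : ¬ commutator M = ⊤ := by
  haveI : Nontrivial M := (Subgroup.nontrivial_iff_ne_bot M).mpr hM
  exact (Group.IsSolvable.commutator_lt_top_of_nontrivial M).ne

/-- Some prime of `M` is outside `σ(M)`. -/
theorem exists_prime_notMem_sigma (hG : IsMinSimpleOddOrder G) {M : Subgroup G} (hM : IsCoatom M) :
    ∃ q : ℕ, q.Prime ∧ q ∣ Nat.card M ∧ q ∉ sigma M := by
  by_contra hcon
  push Not at hcon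
  haveI := Core.BG.isSolvable_proper hG hM.1
  refine derived_ne (coatom_ne_bot hG hM) (Core.eq_top_of_forall_exists_sylow_le fun q hq => ?_)
  haveI := Fact.mk hq
  obtain ⟨P⟩ := (inferInstance : Nonempty (Sylow q M))
  refine ⟨P, ?_⟩
  by_cases hd : q ∣ Nat.card M
  · exact sylow_le_commutator hG hM (hcon q hq hd) P
  · rw [show (P : Subgroup M) = ⊥ from Subgroup.card_eq_one.mp (by
      rw [P.card_eq_multiplicity, Nat.factorization_eq_zero_of_not_dvd hd, pow_zero])]
    exact bot_le

theorem pLengthLE_one_coatom (hG : IsMinSimpleOddOrder G) (h36 : CommutatorPLength.{u})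
    (p : ℕ) [hp : Fact p.Prime] (K : Subgroup G) (hK : K ≠ ⊤) (hcoat : IsCoatom K) : PLengthLE p 1 K := by
  haveI := Core.BG.isSolvable_proper hG hK
  have hodd := odd_of_dvd hG (Subgroup.card_subgroup_dvd_card K)
  by_cases hr : PRankLE p 2 K
  · exact pLengthLE_one_of_rank hodd hr
  have hpα : p ∈ alpha K := ⟨hp.out, hr⟩
  obtain ⟨q, hq, hqK, hqσ⟩ := exists_prime_notMem_sigma hG hcoat
  haveI := Fact.mk hq
  obtain ⟨P⟩ := (inferInstance : Nonempty (Sylow q K))
  obtain ⟨x, hx, hxo, hxZ, -⟩ := exists_central_zgroup hG hcoat hqK hqσ P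
  have hxK : x ∈ K := Subgroup.map_subtype_le _ hx
  set H := piCore (alpha K) K
  obtain ⟨hHall, -, -⟩ := alphaCore_facts hG hcoat
  have hcop : (Nat.card H).Coprime H.index :=
    Nat.coprime_of_dvd fun r hr' h1 h2 => hHall.2 r hr' (hHall.1 r hr' h1) h2
  obtain ⟨R, hR, hxR⟩ := Core.exists_isPiHall_ge_of_isSolvable (π := (alpha K)ᶜ)
    (K := Subgroup.zpowers (⟨x, hxK⟩ : K)) (fun r hr' hd => by
      rw [Nat.card_zpowers, Subgroup.orderOf_mk, hxo] at hd
      rw [(Nat.prime_dvd_prime_iff_eq hr' hq).mp hd]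
      exact fun h => hqσ (alpha_subset_sigma hG hcoat h))
  obtain ⟨R', hR'⟩ := Subgroup.exists_right_complement'_of_coprime hcop
  have hR'c : Nat.card R' = H.index := hR'.symm.index_eq_card.symm
  have hR'H : Cfsg.IsPiHall (alpha K)ᶜ R' := by
    refine ⟨fun r hr' hd => ?_, fun r hr' hrα hd => ?_⟩
    · rw [hR'c] at hd
      exact fun h => hHall.2 r hr' h hd
    · rw [hR'.index_eq_card] at hd
      exact hrα (hHall.1 r hr' hd)
  have hcard : Nat.card R = H.index := (Core.card_eq_of_isPiHall hR hR'H).trans hR'c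
  have hcompl : Subgroup.IsComplement' H R := Core.isComplement'_of_card_eq_index hcop hcard
  have hZ : IsZGroup ↥(H ⊓ Subgroup.centralizer ((Subgroup.zpowers (⟨x, hxK⟩ : K) : Subgroup K) : Set K)) := by
    haveI := hxZ
    let f : ↥(H ⊓ Subgroup.centralizer ((Subgroup.zpowers (⟨x, hxK⟩ : K) : Subgroup K) : Set K)) →*
        ↥(alphaCore K ⊓ Subgroup.centralizer ({x} : Set G)) :=
      (K.subtype.comp (Subgroup.subtype _)).codRestrict _ fun z =>
        ⟨⟨z.1, z.2.1, rfl⟩, Subgroup.mem_centralizer_singleton_iff.mpr (congrArg Subtype.val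
          (Subgroup.mem_centralizer_iff.mp z.2.2 _ (Subgroup.mem_zpowers _)).symm)⟩
    refine IsZGroup.of_injective (f := f) fun a b h => Subtype.ext (Subtype.ext ?_)
    have h' := congrArg Subtype.val h
    exact h'
  have hHd : H ≤ commutator K := by
    refine Core.le_of_forall_exists_sylow_le fun r hr' => ?_
    haveI := Fact.mk hr'
    obtain ⟨T⟩ := (inferInstance : Nonempty (Sylow r H))
    refine ⟨T, ?_⟩
    by_cases hd : r ∣ Nat.card H
    · obtain ⟨S, hS⟩ := (T.isPGroup'.map H.subtype).exists_le_sylow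
      exact hS.trans (sylow_le_commutator hG hcoat (alpha_subset_sigma hG hcoat (hHall.1 r hr' hd)) S)
    · rw [show (T : Subgroup H) = ⊥ from Subgroup.card_eq_one.mp (by
        rw [T.card_eq_multiplicity, Nat.factorization_eq_zero_of_not_dvd hd, pow_zero]), Subgroup.map_bot]
      exact bot_le
  have h := h36 K hodd H R (Subgroup.zpowers (⟨x, hxK⟩ : K)) hcop hcompl hxR
    (by rw [Nat.card_zpowers, Subgroup.orderOf_mk, hxo]; exact hq) hZ p
  rw [← (OddLocal.hall_in_derived H R inferInstance hcop hcompl hHd).1] at h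
  exact pLengthLE_one_of_normal H (hp.out.coprime_iff_not_dvd.mpr (hHall.2 p hp.out hpα)).symm h

theorem pLengthLE_one_proper (hG : IsMinSimpleOddOrder G) (h36 : CommutatorPLength.{u})
    (p : ℕ) [hp : Fact p.Prime] (K : Subgroup G) (hK : K ≠ ⊤) : PLengthLE p 1 K := by
  obtain ⟨M, hM, hKM⟩ := (eq_top_or_exists_le_coatom K).resolve_left hK
  exact pLengthLE_one_of_injective (Subgroup.inclusion hKM) (Subgroup.inclusion_injective hKM)
    (pLengthLE_one_coatom hG h36 p M hM.1 hM)

end Cfsg.Agent.OddLocal.Sigma
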