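import Cfsg.Agent.OddLocal.Sigma.PrimeAction

/-! The partner `M*` of a maximal subgroup `M` with `κ(M) ≠ ∅` (BG 14.7). -/

set_option autoImplicit false
set_option linter.style.haveILetI false
set_option linter.unusedSectionVars false

namespace Cfsg.Agent.OddLocal.Sigma

open Cfsg
open scoped commutatorElement

variable {G : Type*} [Group G] [Finite G]

theorem isCyclic_sup_of_coprime {A B : Subgroup G} (hA : IsCyclic A) (hB : IsCyclic B)
    (hcomm : ∀ a ∈ A, ∀ b ∈ B, a * b = b * a) (hco : (Nat.card A).Coprime (Nat.card B)) :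
    IsCyclic ↥(A ⊔ B) := by
  obtain ⟨⟨a, ha⟩, hga⟩ := hA.exists_generator
  obtain ⟨⟨b, hb⟩, hgb⟩ := hB.exists_generator
  have h1 : orderOf a = Nat.card A := by
    rw [← Subgroup.orderOf_mk a ha]; exact orderOf_eq_card_of_forall_mem_zpowers hga
  have h2 : orderOf b = Nat.card B := by
    rw [← Subgroup.orderOf_mk b hb]; exact orderOf_eq_card_of_forall_mem_zpowers hgb
  have hcard : Nat.card ↥(A ⊔ B) = Nat.card A * Nat.card B := Coprime.card_sup
    (fun x hx => Subgroup.centralizer_le_normalizer _ (Subgroup.mem_centralizer_iff.mpr fun y hy => hcomm y hy x hx))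
    (Coprime.inf_eq_bot_of_coprime hco.symm)
  refine isCyclic_of_orderOf_eq_card ⟨a * b, mul_mem (Subgroup.mem_sup_left ha) (Subgroup.mem_sup_right hb)⟩ ?_
  rw [Subgroup.orderOf_mk, (show Commute a b from hcomm a ha b hb).orderOf_mul_eq_mul_orderOf_of_coprime
    (by rw [h1, h2]; exact hco), h1, h2, hcard]

theorem centralizer_eq_of_card_prime {p : ℕ} [Fact p.Prime] {P : Subgroup G} (hP : Nat.card P = p) {π : G}
    (hπ : π ∈ P) (hπ1 : π ≠ 1) : Subgroup.centralizer ({π} : Set G) = Subgroup.centralizer (P : Set G) :=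
  centralizer_singleton_eq (zpowers_eq_of_card_prime hP hπ hπ1)

variable (hG : IsMinSimpleOddOrder G)
include hG
variable (hpl : ∀ (p : ℕ) [Fact p.Prime] (H : Subgroup G), H ≠ ⊤ → PLengthLE p 1 H)
include hpl

/-- A `τ₁(M)`-subgroup of `M` is cyclic. -/
theorem isCyclic_of_tau1 {M C : Subgroup G} (hM : IsCoatom M) (hCM : C ≤ M)
    (hC : ∀ q : ℕ, q.Prime → q ∣ Nat.card C → q ∈ tau1 M) : IsCyclic C := by
  obtain ⟨E₁, -, hc, hle⟩ := exists_tau1_hall_ge hG hpl hM hCM hC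
  haveI := hc
  exact isCyclic_of_injective (Subgroup.inclusion hle) (Subgroup.inclusion_injective _)

/-- `M ∩ C(P) = K C_{M_σ}(K)` for `P ≤ K` of prime order. -/
theorem inf_centralizer_prime_kappa {M K P : Subgroup G} (hM : IsCoatom M) (hK : IsPiHallOf (kappa M) K M) {p : ℕ}
    [hp : Fact p.Prime] (hP : Nat.card P = p) (hPK : P ≤ K) :
    M ⊓ Subgroup.centralizer (P : Set G) = K ⊔ (sigmaCore M ⊓ Subgroup.centralizer (K : Set G)) := by
  obtain ⟨π, hπ, hπ1⟩ := P.bot_or_exists_ne_one.resolve_left (ne_bot_of_card_prime hP)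
  rw [← centralizer_eq_of_card_prime hP hπ hπ1]
  exact inf_centralizer_kappa hG hpl hM hK (hPK hπ) hπ1

/-- `M ∩ N(P) = M ∩ C(P)` for `P` of order in `τ₁(M)`. -/
theorem inf_normalizer_le_centralizer {M P : Subgroup G} {p : ℕ} [hp : Fact p.Prime] (hpt : p ∈ tau1 M)
    (hP : Nat.card P = p) (hPM : P ≤ M) :
    M ⊓ Subgroup.normalizer (P : Set G) ≤ Subgroup.centralizer (P : Set G) := by
  rintro g ⟨hgM, hgN⟩
  refine Subgroup.mem_centralizer_iff.mpr fun π hπ => ?_
  have h1 : g * π * g⁻¹ * π⁻¹ ∈ P := mul_mem ((Subgroup.mem_normalizer_iff.mp hgN π).mp hπ) (inv_mem hπ)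
  have h2 : g * π * g⁻¹ * π⁻¹ ∈ ⁅M, M⁆ := Subgroup.commutator_mem_commutator hgM (hPM hπ)
  by_contra hne
  refine hpt.2.2.2.1 (hP ▸ Subgroup.card_dvd_of_le (le_of_mem_generator hP h1 (fun e => hne ?_) h2))
  exact (mul_inv_eq_iff_eq_mul.mp (mul_inv_eq_one.mp e)).symm

/-- The step from `P ≤ K` of prime order to a maximal subgroup over `N(P)`. -/
structure PairStep (M K L P X : Subgroup G) (p t : ℕ) : Prop where
  nc : ∀ g : G, L ≠ cj g M
  mem_sigma : p ∈ sigma L
  kappa_prime : t ∈ kappa L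
  leX : X ≤ sigmaCore M ⊓ Subgroup.centralizer (K : Set G)
  cyclic : IsCyclic ↥(sigmaCore M ⊓ Subgroup.centralizer (K : Set G))
  onlyP : Subgroup.centralizer (P : Set G) ≤ L ∧ Only L (Subgroup.centralizer (P : Set G))
  onlyX : Subgroup.centralizer (X : Set G) ≤ M ∧ Only M (Subgroup.centralizer (X : Set G))
  inter : M ⊓ L = K ⊔ (sigmaCore M ⊓ Subgroup.centralizer (K : Set G))
  other : L ⊓ Subgroup.centralizer (X : Set G) = K ⊔ (sigmaCore M ⊓ Subgroup.centralizer (K : Set G))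
  sigma_inter : sigmaCore M ⊓ L = sigmaCore M ⊓ Subgroup.centralizer (K : Set G)
  normX : Subgroup.normalizer (X : Set G) ≤ M

theorem exists_pairStep {M K L P : Subgroup G} (hM : IsCoatom M) (hK : IsPiHallOf (kappa M) K M) (hL : IsCoatom L)
    {p : ℕ} [hp : Fact p.Prime] (hP : Nat.card P = p) (hPK : P ≤ K)
    (hNP : Subgroup.normalizer (P : Set G) ≤ L) {X : Subgroup G} {t : ℕ} [ht : Fact t.Prime] (hX : Nat.card X = t)
    (hXK : X ≤ sigmaCore M ⊓ Subgroup.centralizer (K : Set G)) : PairStep M K L P X p t := by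
  have hK1 : K ≠ ⊥ := fun e => ne_bot_of_card_prime hP (le_bot_iff.mp (e ▸ hPK))
  obtain ⟨heq, hne, hfixP, -⟩ := kappa_hall_facts hG hpl hM hK hK1
  have hPM : P ≤ M := hPK.trans hK.1
  have hpt : p ∈ tau1 M := heq ▸ hK.2.1 p hp.out (hP ▸ Subgroup.card_dvd_of_le hPK)
  set Kst := sigmaCore M ⊓ Subgroup.centralizer (K : Set G) with hKst
  set Z := K ⊔ Kst with hZdef
  have hKstP : sigmaCore M ⊓ Subgroup.centralizer (P : Set G) = Kst := hfixP p P hP hPK
  obtain ⟨hncg, -, -, -⟩ := normalizer_tau13 hG hpl hM hL (Or.inl hpt) hP hNP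
  have hpL := tau1_nonregular_mem_sigma hG hpl hM hL hpt hP hPM (hKstP ▸ hne) hNP
  have hCPL : Subgroup.centralizer (P : Set G) ≤ L := (Subgroup.centralizer_le_normalizer _).trans hNP
  have hZMC : M ⊓ Subgroup.centralizer (P : Set G) = Z := inf_centralizer_prime_kappa hG hpl hM hK hP hPK
  have hZL : Z ≤ L := hZMC.ge.trans (inf_le_right.trans hCPL)
  have hPσ : P ≤ sigmaCore L := le_sigmaCore hG hL (Subgroup.le_normalizer.trans hNP)
    (mem_of_pGroup (isPGroup_of_card_prime hP) hpL)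
  obtain ⟨π, hπ, hπ1⟩ := P.bot_or_exists_ne_one.resolve_left (ne_bot_of_card_prime hP)
  have honlyM : ∀ {q : ℕ} [Fact q.Prime] {Q : Subgroup G}, Nat.card Q = q → Q ≤ Kst →
      Subgroup.centralizer (Q : Set G) ≤ M ∧ Only M (Subgroup.centralizer (Q : Set G)) := fun {q} _ {Q} hQ hQK =>
    only_centralizer_tau1_fixed hG hpl hM hpt hP hPM hQ (hQK.trans hKstP.ge)
  -- the primes of `C_{M_σ}(K)` are in `κ(L)`
  have hclass : ∀ (q : ℕ) [Fact q.Prime] (Q : Subgroup G), Nat.card Q = q → Q ≤ Kst → q ∈ kappa L := by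
    intro q _ Q hQ hQK
    have hQL : Q ≤ L := (hQK.trans le_sup_right).trans hZL
    have hqM : q ∈ sigma M := mem_sigma_of_dvd Fact.out (hQ ▸ Subgroup.card_dvd_of_le (hQK.trans inf_le_left))
    obtain ⟨u, hu, hu1⟩ := Q.bot_or_exists_ne_one.resolve_left (ne_bot_of_card_prime hQ)
    have huπ : π * u = u * π := Subgroup.mem_centralizer_iff.mp ((hKstP.ge (hQK hu)).2) π hπ
    refine (fixed_classes hG hpl hL hQ hQL (sigma_disjoint hG hpl hM hL hncg hqM) fun e => hπ1 ?_).resolve_right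
      fun hτ => ?_
    · refine Subgroup.mem_bot.mp (e.le (Subgroup.mem_inf.mpr ⟨hPσ hπ, ?_⟩))
      rw [← centralizer_eq_of_card_prime hQ hu hu1, Subgroup.mem_centralizer_singleton_iff]
      exact huπ
    · obtain ⟨F, hF, -⟩ := exists_compl_ge hG hL hQL (fun r hr hd => eq_prime_of_dvd_card hQ hr hd ▸ hτ.2.1)
      obtain ⟨hCx, -⟩ := only_centralizer_of_tau2 hG hpl hL hF (hQL hu) hu1 (fun r hr hd => by
        rwa [eq_prime_of_dvd_card hQ hr (hd.trans (Subgroup.orderOf_dvd_natCard Q hu))])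
        ⟨hQL hu, π, hPσ hπ, hπ1, huπ.symm⟩
      rw [centralizer_eq_of_card_prime hQ hu hu1] at hCx
      exact hncg 1 (by rw [cj_one]; exact (honlyM hQ hQK).2 L hL hCx)
  have hKstc : IsCyclic Kst := by
    refine isCyclic_of_tau1 hG hpl hL (le_sup_right.trans hZL) fun q hq hd => ?_
    haveI := Fact.mk hq
    obtain ⟨u, hu⟩ := exists_prime_orderOf_dvd_card' q hd
    exact kappa_subset_tau1 hG hpl hL
      (hclass q (Subgroup.zpowers (u : G)) (by rw [Nat.card_zpowers, Subgroup.orderOf_coe, hu])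
        (Subgroup.zpowers_le.mpr u.2))
  have htκ : t ∈ kappa L := hclass t X hX hXK
  have hXL : X ≤ L := (hXK.trans le_sup_right).trans hZL
  have htτ : t ∈ tau1 L := kappa_subset_tau1 hG hpl hL htκ
  obtain ⟨K', hK', -, hXK'⟩ := exists_tau1_hall_ge hG hpl hL hXL fun q hq hd => eq_prime_of_dvd_card hX hq hd ▸ htτ
  rw [← kappa_eq_tau1 hG hpl hL ⟨t, htκ⟩] at hK'
  have hXK'ne : K' ≠ ⊥ := fun e => ne_bot_of_card_prime hX (le_bot_iff.mp (e ▸ hXK'))
  obtain ⟨-, -, hfix', -⟩ := kappa_hall_facts hG hpl hL hK' hXK'ne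
  set Kst' := sigmaCore L ⊓ Subgroup.centralizer (K' : Set G) with hKst'
  have hZ' : L ⊓ Subgroup.centralizer (X : Set G) = K' ⊔ Kst' := inf_centralizer_prime_kappa hG hpl hL hK' hX hXK'
  have hXC : X ≤ Subgroup.centralizer (P : Set G) := hXK.trans (hKstP.ge.trans inf_le_right)
  have honlyX := honlyM hX hXK
  have hPKst' : P ≤ Kst' := by
    rw [← hfix' t X hX hXK']
    exact le_inf hPσ (Subgroup.le_centralizer_iff.mp hXC)
  have hKst'c : IsCyclic Kst' := by
    have hle : Kst' ≤ M := ((le_sup_right : Kst' ≤ K' ⊔ Kst').trans (hZ'.ge.trans inf_le_right)).trans honlyX.1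
    refine isCyclic_of_tau1 hG hpl hM hle fun q hq hd => ?_
    haveI := Fact.mk hq
    obtain ⟨u₀, hu₀⟩ := exists_prime_orderOf_dvd_card' q hd
    set Q := Subgroup.zpowers (u₀ : G)
    have hQ : Nat.card Q = q := by rw [Nat.card_zpowers, Subgroup.orderOf_coe, hu₀]
    have hQK : Q ≤ Kst' := Subgroup.zpowers_le.mpr u₀.2
    have hqM : q ∉ sigma M := fun hσ => sigma_disjoint hG hpl hM hL hncg hσ
      (mem_sigma_of_dvd hq (hQ ▸ Subgroup.card_dvd_of_le (hQK.trans inf_le_left)))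
    have hQX : Q ≤ Subgroup.centralizer (X : Set G) := hQK.trans
      ((hfix' t X hX hXK').ge.trans inf_le_right)
    obtain ⟨x, hx, hx1⟩ := X.bot_or_exists_ne_one.resolve_left (ne_bot_of_card_prime hX)
    refine kappa_subset_tau1 hG hpl hM ((fixed_classes hG hpl hM hQ (hQK.trans hle) hqM fun e => hx1 ?_).resolve_right
      fun hτ => ?_)
    · exact Subgroup.mem_bot.mp (e.le (Subgroup.mem_inf.mpr ⟨(hXK hx).1, Subgroup.le_centralizer_iff.mp hQX hx⟩))
    · obtain ⟨E, hE, -⟩ := exists_compl_ge hG hM (hQK.trans hle) (fun r hr hd => eq_prime_of_dvd_card hQ hr hd ▸ hqM)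
      obtain ⟨u, hu, hu1⟩ := Q.bot_or_exists_ne_one.resolve_left (ne_bot_of_card_prime hQ)
      obtain ⟨hCu, -⟩ := only_centralizer_of_tau2 hG hpl hM hE (hQK.trans hle hu) hu1 (fun r hr hd => by
        rwa [eq_prime_of_dvd_card hQ hr (hd.trans (Subgroup.orderOf_dvd_natCard Q hu))])
        ⟨hQK.trans hle hu, x, (hXK hx).1, hx1, (Subgroup.mem_centralizer_iff.mp (hQX hu) x hx).symm⟩
      rw [centralizer_eq_of_card_prime hQ hu hu1] at hCu
      exact hncg 1 (by
        rw [cj_one]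
        exact ((only_centralizer_tau1_fixed hG hpl hL htτ hX hXL hQ
          (hQK.trans (hfix' t X hX hXK').ge)).2 M hM hCu).symm)
  have hKcomm : ∀ {A B : Subgroup G}, B ≤ A → IsCyclic A → A ≤ Subgroup.centralizer (B : Set G) :=
    fun {A} {B} hBA hA => by
      haveI := hA
      refine (Subgroup.le_centralizer_iff_isMulCommutative.mpr ⟨⟨fun a b => ?_⟩⟩).trans (Subgroup.centralizer_le hBA)
      letI := IsCyclic.commGroup (α := A)
      exact mul_comm a b
  have hZX : Z ≤ Subgroup.centralizer (X : Set G) :=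
    sup_le (Subgroup.le_centralizer_iff.mp (hXK.trans inf_le_right)) (hKcomm hXK hKstc)
  have hother : L ⊓ Subgroup.centralizer (X : Set G) = Z := by
    refine le_antisymm ?_ (le_inf hZL hZX)
    rw [← hZMC]
    refine le_inf (inf_le_right.trans honlyX.1) ?_
    rw [hZ']
    exact sup_le (Subgroup.le_centralizer_iff.mp (hPKst'.trans inf_le_right)) (hKcomm hPKst' hKst'c)
  have hσL : sigmaCore M ⊓ L = Kst := by
    refine le_antisymm ?_ (le_inf inf_le_left (le_sup_right.trans hZL))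
    rw [← hKstP]
    refine le_inf inf_le_left fun m hm => Subgroup.mem_centralizer_iff.mpr fun a ha => ?_
    have hbot : sigmaCore M ⊓ sigmaCore L = ⊥ := Coprime.inf_eq_bot_of_coprime (Nat.coprime_of_dvd
      fun q hq h1 h2 => by
        haveI := Fact.mk hq
        exact sigma_disjoint hG hpl hM hL hncg (mem_sigma_of_dvd hq h2) (mem_sigma_of_dvd hq h1))
    have h1 : m * a * m⁻¹ * a⁻¹ ∈ sigmaCore M ⊓ sigmaCore L := Subgroup.mem_inf.mpr ⟨by
      rw [show m * a * m⁻¹ * a⁻¹ = m * (a * m⁻¹ * a⁻¹) by group]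
      exact mul_mem hm.1 ((Subgroup.mem_normalizer_iff.mp (le_normalizer_sigmaCore M (hPM ha)) _).mp (inv_mem hm.1)),
      mul_mem ((Subgroup.mem_normalizer_iff.mp (le_normalizer_sigmaCore L hm.2) a).mp (hPσ ha)) (inv_mem (hPσ ha))⟩
    rw [hbot, Subgroup.mem_bot] at h1
    exact (mul_inv_eq_iff_eq_mul.mp (mul_inv_eq_one.mp h1)).symm
  refine ⟨hncg, hpL, htκ, hXK, hKstc, ⟨hCPL, (only_centralizer_tau1_fixed hG hpl hL htτ hX hXL hP
    (le_inf hPσ (Subgroup.le_centralizer_iff.mp hXC))).2⟩, honlyX, ?_, hother, hσL,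
    (honlyX.2.mono (Subgroup.centralizer_le_normalizer _)).le
      (Core.BG.normalizer_ne_top_of_isPGroup hG (ne_bot_of_card_prime hX) (isPGroup_of_card_prime hX))⟩
  refine le_antisymm (fun g hg => ?_) (le_inf (sup_le hK.1 (inf_le_left.trans (sigmaCore_le M))) hZL)
  refine hother.le ?_
  refine Subgroup.mem_inf.mpr ⟨hg.2, inf_normalizer_le_centralizer hG hpl htτ hX hXL (Subgroup.mem_inf.mpr ⟨hg.2, ?_⟩)⟩
  have hN : g ∈ Subgroup.normalizer (Kst : Set G) := Coprime.mem_normalizer_of_conj_mem fun y hy => hσL.le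
    (Subgroup.mem_inf.mpr ⟨(Subgroup.mem_normalizer_iff.mp (le_normalizer_sigmaCore M hg.1) y).mp hy.1,
      L.mul_mem (L.mul_mem hg.2 ((hσL.ge hy).2)) (L.inv_mem hg.2)⟩)
  exact cj_eq_iff.mp (OddLocal.eq_of_card_eq_of_isCyclic hKstc ((cj_mono hXK).trans (cj_eq_iff.mpr hN).le) hXK
    (card_cj _ _))

/-- The properties of the partner. -/
structure IsPartner (M K L : Subgroup G) : Prop where
  coatom : IsCoatom L
  nc : ∀ g : G, L ≠ cj g M
  eq_K : K = sigmaCore L ⊓ Subgroup.centralizer ((sigmaCore M ⊓ Subgroup.centralizer (K : Set G)) : Set G)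
  hall : IsPiHallOf (kappa L) (sigmaCore M ⊓ Subgroup.centralizer (K : Set G)) L
  onlyP : ∀ (p : ℕ) [Fact p.Prime] (P : Subgroup G), Nat.card P = p → P ≤ K →
    Subgroup.centralizer (P : Set G) ≤ L ∧ Only L (Subgroup.centralizer (P : Set G))
  onlyX : ∀ (t : ℕ) [Fact t.Prime] (X : Subgroup G), Nat.card X = t →
    X ≤ sigmaCore M ⊓ Subgroup.centralizer (K : Set G) →
    Subgroup.centralizer (X : Set G) ≤ M ∧ Only M (Subgroup.centralizer (X : Set G))
  inter : M ⊓ L = K ⊔ (sigmaCore M ⊓ Subgroup.centralizer (K : Set G))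
  cyclic : IsCyclic ↥(K ⊔ (sigmaCore M ⊓ Subgroup.centralizer (K : Set G)))
  le_sigma : K ≤ sigmaCore L

/-- Existence of the partner. -/
theorem exists_partner {M K : Subgroup G} (hM : IsCoatom M) (hK : IsPiHallOf (kappa M) K M) (hK1 : K ≠ ⊥) :
    ∃ L : Subgroup G, IsPartner M K L := by
  classical
  obtain ⟨heq, hne, hfixP, -⟩ := kappa_hall_facts hG hpl hM hK hK1
  set Kst := sigmaCore M ⊓ Subgroup.centralizer (K : Set G) with hKst
  obtain ⟨p, hp, hpK⟩ := Nat.exists_prime_and_dvd fun e => hK1 (Subgroup.eq_bot_of_card_eq _ e)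
  haveI := Fact.mk hp
  obtain ⟨π₀, hπ₀⟩ := exists_prime_orderOf_dvd_card' p hpK
  set P := Subgroup.zpowers (π₀ : G)
  have hP : Nat.card P = p := by rw [Nat.card_zpowers, Subgroup.orderOf_coe, hπ₀]
  have hPK : P ≤ K := Subgroup.zpowers_le.mpr π₀.2
  obtain ⟨t, ht, htd⟩ := Nat.exists_prime_and_dvd fun e => hne (Subgroup.eq_bot_of_card_eq _ e)
  haveI := Fact.mk ht
  obtain ⟨x₀, hx₀⟩ := exists_prime_orderOf_dvd_card' t htd
  set X := Subgroup.zpowers (x₀ : G)
  have hX : Nat.card X = t := by rw [Nat.card_zpowers, Subgroup.orderOf_coe, hx₀]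
  have hXK : X ≤ Kst := Subgroup.zpowers_le.mpr x₀.2
  obtain ⟨L, hL, hNP⟩ := (eq_top_or_exists_le_coatom (Subgroup.normalizer (P : Set G))).resolve_left
    (Core.BG.normalizer_ne_top_of_isPGroup hG (ne_bot_of_card_prime hP) (isPGroup_of_card_prime hP))
  have s := exists_pairStep hG hpl hM hK hL hP hPK hNP hX hXK
  set Z := K ⊔ Kst with hZ
  have hKM : ∀ q : ℕ, q.Prime → q ∣ Nat.card K → q ∉ sigma M := fun q hq hd => (hK.2.1 q hq hd).2.2.1
  have hKc : IsCyclic K := (kappa_hall hG hpl hM).2 K hK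
  have hKKst : K ⊓ Kst = ⊥ := Coprime.inf_eq_bot_of_coprime (Nat.coprime_of_dvd fun q hq h1 h2 =>
    hKM q hq h2 (mem_sigma_of_dvd hq (h1.trans (Subgroup.card_dvd_of_le inf_le_left))))
  have hKstK : Kst ≤ Subgroup.centralizer (K : Set G) := inf_le_right
  have hZcard : Nat.card Z = Nat.card Kst * Nat.card K := by
    rw [hZ, sup_comm, Coprime.card_sup ((Subgroup.le_centralizer_iff.mp hKstK).trans
      (Subgroup.centralizer_le_normalizer _)) (by rw [inf_comm]; exact hKKst)]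
  -- every prime of `K` is in `σ(L)`
  have hall : ∀ q : ℕ, q.Prime → q ∣ Nat.card K → q ∈ sigma L := by
    by_contra hcon
    push Not at hcon
    obtain ⟨q, hq, hqK, hqL⟩ := hcon
    haveI := Fact.mk hq
    -- `|K|` is not prime
    have hnp : ¬ (Nat.card K).Prime := fun hpr => hqL (by
      rw [(Nat.prime_dvd_prime_iff_eq hq hpr).mp hqK, ← (Nat.prime_dvd_prime_iff_eq hp hpr).mp hpK]
      exact s.mem_sigma)
    haveI : Fintype (Subgroup G) := Fintype.ofFinite _
    set 𝓖 : Finset (Subgroup G) := Finset.univ.filter fun L' => IsCoatom L' ∧ ∃ (r : ℕ) (R : Subgroup G),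
      r.Prime ∧ Nat.card R = r ∧ R ≤ K ∧ Subgroup.normalizer (R : Set G) ≤ L'
    have hgood : ∀ L' ∈ 𝓖, ∃ (r : ℕ) (R : Subgroup G), r.Prime ∧ IsCoatom L' ∧ Nat.card R = r ∧ R ≤ K ∧
        PairStep M K L' R X r t := by
      intro L' hL'
      obtain ⟨-, hL'c, r, R, hr, hR, hRK, hN⟩ := Finset.mem_filter.mp hL'
      haveI := Fact.mk hr
      exact ⟨r, R, hr, hL'c, hR, hRK, exists_pairStep hG hpl hM hK hL'c hR hRK hN hX hXK⟩
    have hZle : ∀ L' ∈ 𝓖, Z ≤ L' := fun L' hL' => by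
      obtain ⟨r, R, -, -, -, -, s'⟩ := hgood L' hL'
      exact s'.inter.ge.trans inf_le_right
    have hsame : ∀ L₁ ∈ 𝓖, ∀ L₂ ∈ 𝓖, ∀ {v : ℕ} [Fact v.Prime], v ∈ sigma L₁ → v ∈ sigma L₂ → L₁ = L₂ := by
      intro L₁ h₁ L₂ h₂ v _ hv1 hv2
      obtain ⟨r₁, R₁, hr₁, hc₁, hR₁, hR₁K, s₁⟩ := hgood L₁ h₁
      obtain ⟨r₂, R₂, -, hc₂, -, -, -⟩ := hgood L₂ h₂
      haveI := Fact.mk hr₁
      by_cases hconj : ∀ g : G, L₂ ≠ cj g L₁
      · exact absurd hv2 (sigma_disjoint hG hpl hc₁ hc₂ hconj hv1)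
      push Not at hconj
      obtain ⟨g, rfl⟩ := hconj
      obtain ⟨c, hc, e⟩ := transitive hG hc₁ s₁.mem_sigma _ R₁ le_rfl (isPGroup_of_card_prime hR₁)
        (ne_bot_of_card_prime hR₁) 1 g (by rw [cj_one]; exact (hR₁K.trans le_sup_left).trans (hZle _ h₁))
        ((hR₁K.trans le_sup_left).trans (hZle _ h₂))
      rw [cj_one, cj_eq_iff.mpr (Subgroup.le_normalizer (s₁.onlyP.1 hc))] at e
      exact e.symm
    have hmemG : ∀ (r : ℕ) [Fact r.Prime] (R : Subgroup G), Nat.card R = r → R ≤ K →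
        ∃ L' ∈ 𝓖, r ∈ sigma L' := by
      intro r _ R hR hRK
      obtain ⟨L', hL', hN⟩ := (eq_top_or_exists_le_coatom (Subgroup.normalizer (R : Set G))).resolve_left
        (Core.BG.normalizer_ne_top_of_isPGroup hG (ne_bot_of_card_prime hR) (isPGroup_of_card_prime hR))
      exact ⟨L', Finset.mem_filter.mpr ⟨Finset.mem_univ _, hL', r, R, Fact.out, hR, hRK, hN⟩,
        (exists_pairStep hG hpl hM hK hL' hR hRK hN hX hXK).mem_sigma⟩
    have hncM : ∀ L' ∈ 𝓖, ∀ g : G, L' ≠ cj g M := fun L' hL' => by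
      obtain ⟨r, R, -, -, -, -, s'⟩ := hgood L' hL'
      exact s'.nc
    have hLG : L ∈ 𝓖 := Finset.mem_filter.mpr ⟨Finset.mem_univ _, hL, p, P, hp, hP, hPK, hNP⟩
    obtain ⟨u₀, hu₀⟩ := exists_prime_orderOf_dvd_card' q hqK
    have hQ : Nat.card (Subgroup.zpowers (u₀ : G)) = q := by rw [Nat.card_zpowers, Subgroup.orderOf_coe, hu₀]
    have hQK : Subgroup.zpowers (u₀ : G) ≤ K := Subgroup.zpowers_le.mpr u₀.2
    -- the Hall `κ`-subgroup of a member over `X` and `Z`
    have hmember : ∀ L' ∈ 𝓖, ∃ K' : Subgroup G, IsPiHallOf (kappa L') K' L' ∧ X ≤ K' ∧ ¬ (Nat.card K').Prime ∧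
        K' ⊔ (sigmaCore L' ⊓ Subgroup.centralizer (K' : Set G)) = Z := by
      intro L' hL'
      obtain ⟨r, R, hr, hc', hR, hRK, s'⟩ := hgood L' hL'
      haveI := Fact.mk hr
      have hκ := kappa_eq_tau1 hG hpl hc' ⟨t, s'.kappa_prime⟩
      -- a second prime outside `σ(L')`
      obtain ⟨v, Q, hv, hQc, hQle, hvL⟩ : ∃ (v : ℕ) (Q : Subgroup G), v.Prime ∧ Nat.card Q = v ∧ Q ≤ K ∧
          v ∉ sigma L' := by
        by_cases hqL' : q ∈ sigma L'
        · refine ⟨p, P, hp, hP, hPK, fun hpL' => ?_⟩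
          rw [hsame L' hL' L hLG hpL' s.mem_sigma] at hqL'
          exact hqL hqL'
        · exact ⟨q, _, hq, hQ, hQK, hqL'⟩
      haveI := Fact.mk hv
      have hvt : v ≠ t := fun e => hKM v hv (hQc ▸ Subgroup.card_dvd_of_le hQle)
        (e ▸ mem_sigma_of_dvd ht (hX ▸ Subgroup.card_dvd_of_le (hXK.trans inf_le_left)))
      have hQL : Q ≤ L' := (hQle.trans le_sup_left).trans (hZle L' hL')
      have hXL : X ≤ L' := (hXK.trans le_sup_right).trans (hZle L' hL')
      have hQX : Q ≤ Subgroup.centralizer (X : Set G) :=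
        hQle.trans (Subgroup.le_centralizer_iff.mp (hXK.trans inf_le_right))
      have htτ : t ∈ tau1 L' := kappa_subset_tau1 hG hpl hc' s'.kappa_prime
      obtain ⟨ρ, hρ, hρ1⟩ := R.bot_or_exists_ne_one.resolve_left (ne_bot_of_card_prime hR)
      have hρσ : ρ ∈ sigmaCore L' := le_sigmaCore hG hc' ((hRK.trans le_sup_left).trans (hZle L' hL'))
        (mem_of_pGroup (isPGroup_of_card_prime hR) s'.mem_sigma) hρ
      have hvτ : v ∈ tau1 L' := by
        refine kappa_subset_tau1 hG hpl hc' ((fixed_classes hG hpl hc' hQc hQL hvL fun e => hρ1 ?_).resolve_right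
          fun h2 => ?_)
        · refine Subgroup.mem_bot.mp (e.le (Subgroup.mem_inf.mpr ⟨hρσ, ?_⟩))
          haveI := hKc
          refine Subgroup.mem_centralizer_iff.mpr fun a ha => ?_
          letI := IsCyclic.commGroup (α := K)
          exact congrArg Subtype.val (mul_comm (⟨a, hQle ha⟩ : K) ⟨ρ, hRK hρ⟩)
        · obtain ⟨x, hx, hx1⟩ := X.bot_or_exists_ne_one.resolve_left (ne_bot_of_card_prime hX)
          obtain ⟨w, hw, hw1⟩ := Q.bot_or_exists_ne_one.resolve_left (ne_bot_of_card_prime hQc)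
          -- `X` is regular on the `τ₂`-elements
          refine hρ1 (Subgroup.mem_bot.mp ((tau12_regular hG hpl hc' htτ hX hXL h2 hQL hQc hQX).le
            (Subgroup.mem_inf.mpr ⟨hρσ, ?_⟩)))
          exact (s'.other.ge (Subgroup.mem_sup_left (hRK hρ))).2
      have hXQ : ∀ r' : ℕ, r'.Prime → r' ∣ Nat.card ↥(X ⊔ Q) → r' ∈ tau1 L' := fun r' hr' hd => by
        rw [Coprime.card_sup (hQX.trans (Subgroup.centralizer_le_normalizer _))
          (Coprime.inf_eq_bot_of_coprime (coprime_of_pGroups hvt (isPGroup_of_card_prime hQc)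
            (isPGroup_of_card_prime hX)))] at hd
        rcases hr'.dvd_mul.mp hd with h | h
        · exact eq_prime_of_dvd_card hX hr' h ▸ htτ
        · exact eq_prime_of_dvd_card hQc hr' h ▸ hvτ
      obtain ⟨K', hK', -, hle⟩ := exists_tau1_hall_ge hG hpl hc' (sup_le hXL hQL) hXQ
      rw [← hκ] at hK'
      refine ⟨K', hK', le_sup_left.trans hle, fun hpr => hvt ?_, ?_⟩
      · rw [(Nat.prime_dvd_prime_iff_eq hv hpr).mp (hQc ▸ Subgroup.card_dvd_of_le (le_sup_right.trans hle)),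
          (Nat.prime_dvd_prime_iff_eq ht hpr).mp (hX ▸ Subgroup.card_dvd_of_le (le_sup_left.trans hle))]
      · rw [← inf_centralizer_prime_kappa hG hpl hc' hK' hX (le_sup_left.trans hle)]
        exact s'.other
    have hcomplL : ∀ L' ∈ 𝓖, L' ≤ sigmaCore L' ⊔ Z := by
      intro L' hL'
      obtain ⟨r, R, hr, hc', -, -, -⟩ := hgood L' hL'
      obtain ⟨K', hK', hXK', hnp', hZ'⟩ := hmember L' hL'
      obtain ⟨U, hU⟩ := exists_decomp hG hpl hc' ((kappa_hall hG hpl hc').2 K' hK') hK'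
      have hK'1 : K' ≠ ⊥ := fun e => ne_bot_of_card_prime hX (le_bot_iff.mp (e ▸ hXK'))
      have hU1 : U = ⊥ := by_contra fun hU1 => hnp' (card_kappa_prime hG hpl hc' hU hK'1 hU1)
      intro g hg
      obtain ⟨a, ha, b, hb, rfl⟩ := hU.compl.2.2.2 g hg
      rw [hU1, Subgroup.mem_bot] at ha
      rw [ha, one_mul]
      exact sup_le ((le_sup_left.trans hZ'.le).trans le_sup_right) le_sup_left hb
    have hcomplM : M ≤ sigmaCore M ⊔ Z := by
      obtain ⟨U, hU⟩ := exists_decomp hG hpl hM hKc hK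
      have hU1 : U = ⊥ := by_contra fun hU1 => hnp (card_kappa_prime hG hpl hM hU hK1 hU1)
      intro g hg
      obtain ⟨a, ha, b, hb, rfl⟩ := hU.compl.2.2.2 g hg
      rw [hU1, Subgroup.mem_bot] at ha
      rw [ha, one_mul]
      exact (sup_le (le_sup_left.trans le_sup_right) le_sup_left : K ⊔ sigmaCore M ≤ sigmaCore M ⊔ Z) hb
    have hmem : ∀ {L' : Subgroup G}, L' ∈ insert M 𝓖 → L' = M ∨ L' ∈ 𝓖 := fun h => Finset.mem_insert.mp h
    have hMG : M ∉ 𝓖 := fun h => hncM M h 1 (cj_one M).symm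
    refine no_covered_intersection hG hpl (Z := Z) (𝓛 := insert M 𝓖) ?_ ?_ ?_ ?_ ?_ ?_ ?_ ?_ ?_
    · rw [Finset.card_insert_of_notMem hMG]
      have : 0 < 𝓖.card := Finset.card_pos.mpr ⟨L, hLG⟩
      omega
    · intro L' hL'
      rcases hmem hL' with rfl | h
      exacts [hM, (Finset.mem_filter.mp h).2.1]
    · intro L' hL'
      rcases hmem hL' with rfl | h
      exacts [s.inter.ge.trans inf_le_left, hZle L' h]
    · intro L' hL'
      rcases hmem hL' with rfl | h
      exacts [hcomplM, hcomplL L' h]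
    · intro L' hL' hle
      rcases hmem hL' with rfl | h
      · exact s.nc 1 (by
          rw [cj_one]
          exact (hM.le_iff_eq hL.1).mp (hcomplM.trans (sup_le (hle.trans (hZle L hLG)) (hZle L hLG))))
      · refine hncM L' h 1 ?_
        rw [cj_one]
        exact (((Finset.mem_filter.mp h).2.1.le_iff_eq hM.1).mp ((hcomplL L' h).trans
          (sup_le (hle.trans (s.inter.ge.trans inf_le_left)) (s.inter.ge.trans inf_le_left)))).symm
    · intro L₁ h₁ L₂ h₂ hne' g hg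
      rcases hmem h₁ with rfl | h₁'
      · rcases hmem h₂ with rfl | h₂'
        exacts [hne' rfl, hncM L₂ h₂' g hg]
      · rcases hmem h₂ with rfl | h₂'
        · exact cj_nc (hncM L₁ h₁') g hg
        · obtain ⟨r, R, hr, -, -, -, s'⟩ := hgood L₁ h₁'
          haveI := Fact.mk hr
          exact hne' (hsame L₁ h₁' L₂ h₂' s'.mem_sigma (hg ▸ mem_sigma_cj s'.mem_sigma g))
    · intro v hv hvd
      haveI := Fact.mk hv
      rw [hZcard] at hvd
      rcases hv.dvd_mul.mp hvd with h | h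
      · exact ⟨M, Finset.mem_insert_self _ _, mem_sigma_of_dvd hv (h.trans (Subgroup.card_dvd_of_le inf_le_left))⟩
      · obtain ⟨w, hw⟩ := exists_prime_orderOf_dvd_card' v h
        obtain ⟨L', hL', hvL⟩ := hmemG v (Subgroup.zpowers (w : G))
          (by rw [Nat.card_zpowers, Subgroup.orderOf_coe, hw]) (Subgroup.zpowers_le.mpr w.2)
        exact ⟨L', Finset.mem_insert_of_mem hL', hvL⟩
    · intro L' hL' e he he1 c hc
      obtain ⟨v, hv, hd⟩ := Nat.exists_prime_and_dvd (show orderOf e ≠ 1 by rwa [ne_eq, orderOf_eq_one_iff])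
      haveI := Fact.mk hv
      set u := e ^ (orderOf e / v)
      have hU : Nat.card (Subgroup.zpowers u) = v := by
        rw [Nat.card_zpowers, orderOf_pow_orderOf_div (orderOf_pos e).ne' hd]
      have hcu : c ∈ Subgroup.centralizer (Subgroup.zpowers u : Set G) := by
        rw [← centralizer_singleton_eq rfl, Subgroup.mem_centralizer_singleton_iff]
        exact ((show Commute c e from Subgroup.mem_centralizer_singleton_iff.mp hc).pow_right _).eq
      have huσ : u ∈ sigmaCore L' := pow_mem he.1 _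
      have huZ : u ∈ Z := pow_mem he.2 _
      rcases hmem hL' with rfl | h
      · refine (only_centralizer_tau1_fixed hG hpl hM (heq ▸ hK.2.1 p hp hpK) hP (hPK.trans hK.1) hU
          (Subgroup.zpowers_le.mpr (Subgroup.mem_inf.mpr ⟨huσ, ?_⟩))).1 hcu
        exact ((inf_centralizer_prime_kappa hG hpl hM hK hP hPK).ge huZ).2
      · obtain ⟨r, R, hr, hc', -, -, s'⟩ := hgood L' h
        obtain ⟨K', hK', hXK', -, -⟩ := hmember L' h
        exact (only_centralizer_tau1_fixed hG hpl hc' (kappa_subset_tau1 hG hpl hc' s'.kappa_prime) hX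
          (hXK'.trans hK'.1) hU (Subgroup.zpowers_le.mpr (Subgroup.mem_inf.mpr ⟨huσ, (s'.other.ge huZ).2⟩))).1 hcu
    · intro L₁ h₁ L₂ h₂ hne'
      rcases hmem h₁ with rfl | h₁'
      · obtain ⟨r, R, -, -, -, -, s'⟩ := hgood L₂ ((hmem h₂).resolve_left (Ne.symm hne'))
        exact s'.inter.le
      rcases hmem h₂ with rfl | h₂'
      · obtain ⟨r, R, -, -, -, -, s'⟩ := hgood L₁ h₁'
        rw [inf_comm]
        exact s'.inter.le
      obtain ⟨r₁, R₁, hr₁, hc₁, hR₁, hR₁K, s₁⟩ := hgood L₁ h₁'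
      obtain ⟨-, hc₂, r₂, R₂, hr₂, hR₂, hR₂K, hN₂⟩ := Finset.mem_filter.mp h₂'
      obtain ⟨K', hK', hXK', -, hZ'⟩ := hmember L₁ h₁'
      haveI := Fact.mk hr₁
      haveI := Fact.mk hr₂
      obtain ⟨r₂', R₂', hr₂', -, -, -, -⟩ := hgood L₂ h₂'
      have hr₂L : r₂ ∉ sigma L₁ := fun h' => hne' (hsame L₁ h₁' L₂ h₂' h'
        (exists_pairStep hG hpl hM hK hc₂ hR₂ hR₂K hN₂ hX hXK).mem_sigma)
      -- `R₂ ≤ K'` and `R₁ ≤ C_{L₁σ}(K')`
      have hcyc' := (kappa_hall hG hpl hc₁).2 K' hK'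
      have hXK'1 : K' ≠ ⊥ := fun e => ne_bot_of_card_prime hX (le_bot_iff.mp (e ▸ hXK'))
      obtain ⟨-, -, hfix', -⟩ := kappa_hall_facts hG hpl hc₁ hK' hXK'1
      have hR₂' : R₂ ≤ K' := by
        intro a ha
        have haZ : a ∈ K' ⊔ (sigmaCore L₁ ⊓ Subgroup.centralizer (K' : Set G)) :=
          hZ'.ge (Subgroup.mem_sup_left (hR₂K ha))
        rw [sup_comm] at haZ
        obtain ⟨b, hb, c, hc, rfl⟩ := Coprime.exists_mul_of_mem_sup
          ((Subgroup.le_centralizer_iff.mp inf_le_right).trans (Subgroup.centralizer_le_normalizer _)) haZ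
        have hbc : Commute b c := (Subgroup.mem_centralizer_iff.mp hb.2 c hc).symm
        by_cases hb1 : b = 1
        · rw [hb1, one_mul]; exact hc
        obtain ⟨w, hw, hwd⟩ := Nat.exists_prime_and_dvd (show orderOf b ≠ 1 by rwa [ne_eq, orderOf_eq_one_iff])
        have hwσ : w ∈ sigma L₁ := mem_sigma_of_dvd hw (hwd.trans (Subgroup.orderOf_dvd_natCard _ hb.1))
        refine absurd hwσ ?_
        have hco : (orderOf b).Coprime (orderOf c) := Nat.coprime_of_dvd fun z hz z1 z2 =>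
          (hK'.2.1 z hz (z2.trans (Subgroup.orderOf_dvd_natCard K' hc))).2.2.1
            (mem_sigma_of_dvd hz (z1.trans (Subgroup.orderOf_dvd_natCard _ hb.1)))
        have hd2 : w ∣ orderOf (b * c) := by
          rw [hbc.orderOf_mul_eq_mul_orderOf_of_coprime hco]; exact hwd.trans (dvd_mul_right _ _)
        rw [eq_prime_of_dvd_card hR₂ hw (hd2.trans (Subgroup.orderOf_dvd_natCard R₂ ha))]
        exact hr₂L
      have hR₁σ : R₁ ≤ sigmaCore L₁ ⊓ Subgroup.centralizer (K' : Set G) := by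
        rw [← hfix' t X hX hXK']
        refine le_inf (le_sigmaCore hG hc₁ ((hR₁K.trans le_sup_left).trans (hZle L₁ h₁'))
          (mem_of_pGroup (isPGroup_of_card_prime hR₁) s₁.mem_sigma)) ?_
        exact hR₁K.trans (Subgroup.le_centralizer_iff.mp (hXK.trans inf_le_right))
      exact ((exists_pairStep hG hpl hc₁ hK' hc₂ hR₂ hR₂' hN₂ hR₁ hR₁σ).inter.le.trans hZ'.le)
  have hKσ : K ≤ sigmaCore L := le_sigmaCore hG hL ((le_sup_left.trans s.inter.ge).trans inf_le_right) hall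
  have hKstL : Kst ≤ L := (le_sup_right.trans s.inter.ge).trans inf_le_right
  have hKstdisj : Kst ⊓ sigmaCore L = ⊥ := Coprime.inf_eq_bot_of_coprime (Nat.coprime_of_dvd fun q hq h1 h2 => by
    haveI := Fact.mk hq
    exact sigma_disjoint hG hpl hM hL s.nc (mem_sigma_of_dvd hq (h2.trans (Subgroup.card_dvd_of_le inf_le_left)))
      (mem_sigma_of_dvd hq h1))
  have htτ : t ∈ tau1 L := kappa_subset_tau1 hG hpl hL s.kappa_prime
  have hκL := kappa_eq_tau1 hG hpl hL ⟨t, s.kappa_prime⟩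
  -- the primes of `C_{M_σ}(K)`
  have hKstκ : ∀ q : ℕ, q.Prime → q ∣ Nat.card Kst → q ∈ kappa L := fun q hq hd => by
    haveI := Fact.mk hq
    obtain ⟨w, hw⟩ := exists_prime_orderOf_dvd_card' q hd
    exact (exists_pairStep hG hpl hM hK hL hP hPK hNP (X := Subgroup.zpowers (w : G)) (t := q)
      (by rw [Nat.card_zpowers, Subgroup.orderOf_coe, hw]) (Subgroup.zpowers_le.mpr w.2)).kappa_prime
  obtain ⟨K', hK', hc', hle'⟩ := exists_tau1_hall_ge hG hpl hL hKstL fun q hq hd => hκL ▸ hKstκ q hq hd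
  rw [← hκL] at hK'
  have hXK' : X ≤ K' := hXK.trans hle'
  have hZ' := inf_centralizer_prime_kappa hG hpl hL hK' hX hXK'
  rw [s.other] at hZ'
  obtain ⟨-, -, hfix', -⟩ := kappa_hall_facts hG hpl hL hK'
    (fun e => ne_bot_of_card_prime hX (le_bot_iff.mp (e ▸ hXK')))
  have hsplit : ∀ a ∈ Z, ∃ k ∈ K, ∃ y ∈ Kst, a = k * y := fun a ha => by
    rw [hZ, sup_comm] at ha
    obtain ⟨y, hy, k, hk, rfl⟩ := Coprime.exists_mul_of_mem_sup
      ((Subgroup.le_centralizer_iff.mp hKstK).trans (Subgroup.centralizer_le_normalizer _)) ha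
    exact ⟨k, hk, y, hy, (Subgroup.mem_centralizer_iff.mp (hKstK hy) k hk).symm⟩
  have hK'eq : K' = Kst := by
    refine le_antisymm (fun a ha => ?_) hle'
    obtain ⟨k, hk, y, hy, rfl⟩ := hsplit a (hZ'.ge (Subgroup.mem_sup_left ha))
    have hk' : k ∈ K' := by
      have := K'.mul_mem ha (K'.inv_mem (hle' hy))
      rwa [mul_inv_cancel_right] at this
    suffices hk1 : k = 1 by rw [hk1, one_mul]; exact hy
    by_contra hk1
    obtain ⟨w, hw, hwd⟩ := Nat.exists_prime_and_dvd (show orderOf k ≠ 1 by rwa [ne_eq, orderOf_eq_one_iff])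
    exact (hK'.2.1 w hw (hwd.trans (Subgroup.orderOf_dvd_natCard K' hk'))).2.2.1
      (hall w hw (hwd.trans (Subgroup.orderOf_dvd_natCard K hk)))
  rw [hK'eq] at hK' hfix' hXK'
  have hKeq : K = sigmaCore L ⊓ Subgroup.centralizer (Kst : Set G) := by
    refine le_antisymm (le_inf hKσ (Subgroup.le_centralizer_iff.mp hKstK)) ?_
    rw [← hfix' t X hX hXK]
    intro a ha
    obtain ⟨k, hk, y, hy, rfl⟩ := hsplit a (s.other.le ⟨sigmaCore_le L ha.1, ha.2⟩)
    have : y ∈ Kst ⊓ sigmaCore L := Subgroup.mem_inf.mpr ⟨hy, by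
      have := (sigmaCore L).mul_mem ((sigmaCore L).inv_mem (hKσ hk)) ha.1
      rwa [inv_mul_cancel_left] at this⟩
    rw [hKstdisj, Subgroup.mem_bot] at this
    rw [this, mul_one]; exact hk
  have honlyP : ∀ (r : ℕ) [Fact r.Prime] (R : Subgroup G), Nat.card R = r → R ≤ K →
      Subgroup.centralizer (R : Set G) ≤ L ∧ Only L (Subgroup.centralizer (R : Set G)) := fun r _ R hR hRK =>
    only_centralizer_tau1_fixed hG hpl hL htτ hX (hXK.trans hKstL) hR
      (le_inf (hRK.trans hKσ) (hRK.trans (Subgroup.le_centralizer_iff.mp (hXK.trans inf_le_right))))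
  refine ⟨L, hL, s.nc, hKeq, hK', honlyP, fun v _ Y hY hYK => ?_, s.inter, ?_, hKσ⟩
  · exact (exists_pairStep hG hpl hM hK hL hP hPK hNP hY hYK).onlyX
  · rw [sup_comm]
    refine isCyclic_sup_of_coprime s.cyclic hKc ?_ ?_
    · exact fun a ha b hb => (Subgroup.mem_centralizer_iff.mp (hKstK ha) b hb).symm
    · exact Nat.coprime_of_dvd fun q hq h1 h2 =>
        hKM q hq h2 (mem_sigma_of_dvd hq (h1.trans (Subgroup.card_dvd_of_le inf_le_left)))

/-- The partner is unique. -/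
theorem IsPartner.unique {M K L L' : Subgroup G} (hM : IsCoatom M) (hK : IsPiHallOf (kappa M) K M) (hK1 : K ≠ ⊥)
    (h : IsPartner M K L) (hL' : IsCoatom L')
    (hKeq : K = sigmaCore L' ⊓ Subgroup.centralizer ((sigmaCore M ⊓ Subgroup.centralizer (K : Set G)) : Set G))
    (hHall : IsPiHallOf (kappa L') (sigmaCore M ⊓ Subgroup.centralizer (K : Set G)) L') : L' = L := by
  obtain ⟨-, hne, -, -⟩ := kappa_hall_facts hG hpl hM hK hK1
  set Kst := sigmaCore M ⊓ Subgroup.centralizer (K : Set G) with hKst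
  obtain ⟨p, hp, hpK⟩ := Nat.exists_prime_and_dvd fun e => hK1 (Subgroup.eq_bot_of_card_eq _ e)
  haveI := Fact.mk hp
  obtain ⟨π₀, hπ₀⟩ := exists_prime_orderOf_dvd_card' p hpK
  have hP : Nat.card (Subgroup.zpowers (π₀ : G)) = p := by rw [Nat.card_zpowers, Subgroup.orderOf_coe, hπ₀]
  have hPK : Subgroup.zpowers (π₀ : G) ≤ K := Subgroup.zpowers_le.mpr π₀.2
  obtain ⟨t, ht, htd⟩ := Nat.exists_prime_and_dvd fun e => hne (Subgroup.eq_bot_of_card_eq _ e)
  haveI := Fact.mk ht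
  obtain ⟨x₀, hx₀⟩ := exists_prime_orderOf_dvd_card' t htd
  have hX : Nat.card (Subgroup.zpowers (x₀ : G)) = t := by rw [Nat.card_zpowers, Subgroup.orderOf_coe, hx₀]
  have hXK : Subgroup.zpowers (x₀ : G) ≤ Kst := Subgroup.zpowers_le.mpr x₀.2
  have hC := (only_centralizer_tau1_fixed hG hpl hL' (kappa_subset_tau1 hG hpl hL' (hHall.2.1 t ht htd)) hX
    (hXK.trans hHall.1) hP (le_inf ((hPK.trans hKeq.le).trans inf_le_left)
      (hPK.trans (Subgroup.le_centralizer_iff.mp (hXK.trans inf_le_right))))).1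
  exact (h.onlyP p _ hP hPK).2 L' hL' hC

end Cfsg.Agent.OddLocal.Sigma
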