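import Cfsg.Agent.OddLocal.Sigma.PartnerFacts
import Cfsg.Agent.Transfer.Burnside

/-! Counting the conjugates of `Ẑ` (BG 14.7): the classes with `κ ≠ ∅` are those of `M` and `M*`. -/

set_option autoImplicit false
set_option linter.style.haveILetI false
set_option linter.unusedSectionVars false

namespace Cfsg.Agent.OddLocal.Sigma

open Cfsg
open scoped commutatorElement

variable {G : Type*} [Group G] [Finite G]

theorem Split.ncard_zHat {π : Set ℕ} {K Y : Subgroup G} (h : Split π K Y) :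
    Set.ncard (zHat K Y) = (Nat.card K - 1) * (Nat.card Y - 1) := by
  have himg : zHat K Y = (fun x : G × G => x.1 * x.2) '' (((K : Set G) \ {1}) ×ˢ ((Y : Set G) \ {1})) := by
    ext a
    rw [h.mem_zHat]
    constructor
    · rintro ⟨k, hk, hk1, y, hy, hy1, rfl⟩
      exact ⟨(k, y), ⟨⟨hk, hk1⟩, hy, hy1⟩, rfl⟩
    · rintro ⟨⟨k, y⟩, ⟨⟨hk, hk1⟩, hy, hy1⟩, rfl⟩
      exact ⟨k, hk, hk1, y, hy, hy1, rfl⟩
  have hinj : Set.InjOn (fun x : G × G => x.1 * x.2) (((K : Set G) \ {1}) ×ˢ ((Y : Set G) \ {1})) := by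
    rintro ⟨k, y⟩ ⟨⟨hk, -⟩, hy, -⟩ ⟨k', y'⟩ ⟨⟨hk', -⟩, hy', -⟩ e
    obtain ⟨e1, e2⟩ := h.eq_of_mul_eq hk hy hk' hy' e
    exact Prod.ext e1 e2
  rw [himg, hinj.ncard_image, Set.ncard_prod, Set.ncard_diff_singleton_of_mem K.one_mem,
    Set.ncard_diff_singleton_of_mem Y.one_mem, ← Nat.card_coe_set_eq, ← Nat.card_coe_set_eq]
  rfl

/-- The conjugates of `Ẑ`. -/
def zClass (K Y : Subgroup G) : Set G := {a : G | ∃ g : G, ∃ z ∈ zHat K Y, a = g * z * g⁻¹}

theorem ncard_zClass {K Y : Subgroup G} (hconj : ∀ z ∈ zHat K Y, ∀ g : G, g * z * g⁻¹ ∈ zHat K Y → g ∈ K ⊔ Y)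
    (hself : ∀ z ∈ zHat K Y, ∀ g ∈ K ⊔ Y, g * z * g⁻¹ = z) :
    Set.ncard (zClass K Y) = (K ⊔ Y).index * Set.ncard (zHat K Y) := by
  rw [← Nat.card_coe_set_eq, ← Nat.card_coe_set_eq, Subgroup.index, ← Nat.card_prod]
  symm
  refine Nat.card_eq_of_bijective (f := fun x => ⟨x.1.out * x.2.1 * x.1.out⁻¹, x.1.out, x.2.1, x.2.2, rfl⟩)
    ⟨?_, ?_⟩
  · rintro ⟨q, z, hz⟩ ⟨q', z', hz'⟩ e
    have e' : q.out * z * q.out⁻¹ = q'.out * z' * q'.out⁻¹ := congrArg Subtype.val e
    have h1 : (q'.out⁻¹ * q.out) * z * (q'.out⁻¹ * q.out)⁻¹ = z' := by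
      rw [show (q'.out⁻¹ * q.out) * z * (q'.out⁻¹ * q.out)⁻¹ = q'.out⁻¹ * (q.out * z * q.out⁻¹) * q'.out by group,
        e']
      group
    have h2 := hconj z hz _ (h1 ▸ hz')
    have h3 : q' = q := by
      rw [← QuotientGroup.out_eq' q', ← QuotientGroup.out_eq' q]
      exact QuotientGroup.eq.mpr h2
    subst h3
    have h4 : z = z' := by rw [← h1, inv_mul_cancel, one_mul, inv_one, mul_one]
    subst h4
    rfl
  · rintro ⟨_, g, z, hz, rfl⟩
    obtain ⟨n, hn⟩ := QuotientGroup.mk_out_eq_mul (K ⊔ Y) g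
    refine ⟨⟨QuotientGroup.mk g, z, hz⟩, Subtype.ext ?_⟩
    show (QuotientGroup.mk g : G ⧸ (K ⊔ Y)).out * z * (QuotientGroup.mk g : G ⧸ (K ⊔ Y)).out⁻¹ = g * z * g⁻¹
    rw [hn]
    conv_rhs => rw [← hself z hz (n : G) n.2]
    group

variable (hG : IsMinSimpleOddOrder G)
include hG

theorem three_le_of_dvd {n : ℕ} (hn : n ∣ Nat.card G) (h1 : n ≠ 1) : 3 ≤ n ∧ n ≠ 4 := by
  have hodd : ¬ 2 ∣ n := fun h => (Nat.not_even_iff_odd.mpr hG.1) (even_iff_two_dvd.mpr (h.trans hn))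
  have h0 : n ≠ 0 := fun e => Nat.card_pos.ne' (Nat.eq_zero_of_zero_dvd (e ▸ hn))
  omega

/-- An abelian Sylow subgroup is not central in its normalizer. -/
theorem normalizer_sylow_not_le_centralizer {p : ℕ} [hp : Fact p.Prime] (S : Sylow p G) (hd : p ∣ Nat.card G) :
    ¬ Subgroup.normalizer ((S : Subgroup G) : Set G) ≤ Subgroup.centralizer ((S : Subgroup G) : Set G) := by
  intro hNC
  obtain ⟨P, N, hN, hc⟩ := Transfer.hasNormalPComplement_of_normalizer_le_centralizer S hNC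
  obtain ⟨c, hcP⟩ := MulAction.exists_smul_eq G S P
  haveI := hG.2.1
  rcases hN.eq_bot_or_eq_top with h | h
  · have hP : (P : Subgroup G) = ⊤ := Subgroup.eq_top_of_card_eq _ (by
      rw [← hc.card_mul, h, Subgroup.card_bot, one_mul])
    have hS : (S : Subgroup G) = ⊤ := Subgroup.eq_top_of_card_eq _ (by
      rw [Nat.card_congr (Sylow.equiv S P).toEquiv, hP, Subgroup.card_top])
    refine hG.2.2.1 ⟨⟨fun a b => ?_⟩⟩
    have ha : a ∈ Subgroup.centralizer ((S : Subgroup G) : Set G) := hNC (Subgroup.le_normalizer (hS ▸ Subgroup.mem_top a))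
    exact ((Subgroup.mem_centralizer_iff.mp ha) b (hS ▸ Subgroup.mem_top b)).symm
  · have h1 := hc.card_mul
    rw [h, Subgroup.card_top] at h1
    have hP1 : Nat.card (P : Subgroup G) = 1 := by
      conv_rhs at h1 => rw [← Nat.mul_one (Nat.card G)]
      exact Nat.eq_of_mul_eq_mul_left Nat.card_pos h1
    have h2 := S.dvd_card_of_dvd_card hd
    rw [Nat.card_congr (Sylow.equiv S P).toEquiv, hP1] at h2
    exact hp.out.not_dvd_one h2

variable (hpl : ∀ (p : ℕ) [Fact p.Prime] (H : Subgroup G), H ≠ ⊤ → PLengthLE p 1 H)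
include hpl

namespace IsPartner

variable {M K L : Subgroup G}

theorem ncard_class (hK : IsPiHallOf (kappa M) K M) (h : IsPartner M K L) :
    Nat.card K * Nat.card ↥(sigmaCore M ⊓ Subgroup.centralizer (K : Set G)) *
        Set.ncard (zClass K (sigmaCore M ⊓ Subgroup.centralizer (K : Set G))) =
      (Nat.card K - 1) * (Nat.card ↥(sigmaCore M ⊓ Subgroup.centralizer (K : Set G)) - 1) * Nat.card G := by
  have hs := h.split hG hpl hK
  rw [ncard_zClass (fun z hz g hg => h.zHat_conj hG hpl hK hz hg)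
    (fun z hz g hg => h.zHat_conj_self hG hpl hz hg), hs.ncard_zHat,
    ← Subgroup.index_mul_card (K ⊔ (sigmaCore M ⊓ Subgroup.centralizer (K : Set G))), hs.card_sup]
  ring

/-- More than half of `G` is conjugate into `Ẑ`. -/
theorem card_lt_two_mul (hM : IsCoatom M) (hK : IsPiHallOf (kappa M) K M) (hK1 : K ≠ ⊥) (h : IsPartner M K L) :
    Nat.card G < 2 * Set.ncard (zClass K (sigmaCore M ⊓ Subgroup.centralizer (K : Set G))) := by
  have hs := h.split hG hpl hK
  have h1 := h.ncard_class hG hpl hK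
  set Y := sigmaCore M ⊓ Subgroup.centralizer (K : Set G) with hY
  obtain ⟨ha, ha4⟩ := three_le_of_dvd hG (Subgroup.card_subgroup_dvd_card K)
    (fun e => hK1 (Subgroup.eq_bot_of_card_eq _ e))
  obtain ⟨hb, hb4⟩ := three_le_of_dvd hG (Subgroup.card_subgroup_dvd_card Y)
    (fun e => kst_ne hG hpl hM hK hK1 (Subgroup.eq_bot_of_card_eq _ e))
  have hne : Nat.card Y ≠ Nat.card K := fun e => by
    have hco := hs.coprime
    rw [e, Nat.coprime_self] at hco
    omega
  have hpos : 0 < Nat.card G := Nat.card_pos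
  generalize Nat.card K = a at *
  generalize Nat.card Y = b at *
  generalize Set.ncard (zClass K Y) = n at *
  generalize Nat.card G = g at *
  obtain ⟨a, rfl⟩ : ∃ i, a = i + 3 := ⟨a - 3, by omega⟩
  obtain ⟨b, rfl⟩ : ∃ i, b = i + 3 := ⟨b - 3, by omega⟩
  have ha2 : a + 3 - 1 = a + 2 := by omega
  have hb2 : b + 3 - 1 = b + 2 := by omega
  rw [ha2, hb2] at h1
  have hab : (a + 3) * (b + 3) < 2 * ((a + 2) * (b + 2)) := by
    have : 2 ≤ a + b := by omega
    nlinarith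
  by_contra hcon
  push Not at hcon
  nlinarith [Nat.mul_lt_mul_of_pos_right hab hpos, Nat.mul_le_mul_left ((a + 3) * (b + 3)) hcon]

/-- `M = M_σ Z` and `M* = M*_σ Z` cannot both hold. -/
theorem not_both_trivial (hM : IsCoatom M) (hK : IsPiHallOf (kappa M) K M) (h : IsPartner M K L)
    (hMZ : M ≤ sigmaCore M ⊔ (K ⊔ (sigmaCore M ⊓ Subgroup.centralizer (K : Set G))))
    (hLZ : L ≤ sigmaCore L ⊔ (K ⊔ (sigmaCore M ⊓ Subgroup.centralizer (K : Set G)))) : False := by
  classical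
  have hs := h.split hG hpl hK
  set Y := sigmaCore M ⊓ Subgroup.centralizer (K : Set G) with hY
  set Z := K ⊔ Y with hZ
  have hne : M ≠ L := fun e => h.nc 1 (by rw [cj_one, e])
  have hZM : Z ≤ M := h.inter.ge.trans inf_le_left
  have hZL : Z ≤ L := h.inter.ge.trans inf_le_right
  have hmem : ∀ {L' : Subgroup G}, L' ∈ ({M, L} : Finset (Subgroup G)) → L' = M ∨ L' = L := fun h => by
    rcases Finset.mem_insert.mp h with h | h
    exacts [Or.inl h, Or.inr (Finset.mem_singleton.mp h)]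
  refine no_covered_intersection hG hpl (Z := Z) (𝓛 := {M, L}) ?_ ?_ ?_ ?_ ?_ ?_ ?_ ?_ ?_
  · rw [Finset.card_pair hne]
  · intro L' hL'
    rcases hmem hL' with rfl | rfl
    exacts [hM, h.coatom]
  · intro L' hL'
    rcases hmem hL' with rfl | rfl
    exacts [hZM, hZL]
  · intro L' hL'
    rcases hmem hL' with rfl | rfl
    exacts [hMZ, hLZ]
  · intro L' hL' hle
    rcases hmem hL' with rfl | rfl
    · exact hne ((hM.le_iff_eq h.coatom.1).mp (hMZ.trans (sup_le (hle.trans hZL) hZL))).symm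
    · exact hne ((h.coatom.le_iff_eq hM.1).mp (hLZ.trans (sup_le (hle.trans hZM) hZM)))
  · intro L₁ h₁ L₂ h₂ hne' g hg
    rcases hmem h₁ with rfl | rfl <;> rcases hmem h₂ with rfl | rfl
    exacts [hne' rfl, h.nc g hg, cj_nc h.nc g hg, hne' rfl]
  · intro v hv hvd
    rw [hZ, hs.card_sup] at hvd
    rcases hv.dvd_mul.mp hvd with h' | h'
    · exact ⟨L, by simp, mem_sigma_of_dvd hv (h'.trans (Subgroup.card_dvd_of_le h.le_sigma))⟩
    · exact ⟨M, by simp, hs.right v hv h'⟩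
  · intro L' hL' e he he1 c hc
    obtain ⟨v, hv, hd, X, hX, hXe⟩ := exists_prime_le_zpowers he1
    haveI := Fact.mk hv
    have hcX : c ∈ Subgroup.centralizer (X : Set G) := by
      refine Subgroup.centralizer_le hXe (Subgroup.mem_centralizer_iff.mpr ?_)
      rintro _ ⟨i, rfl⟩
      exact ((show Commute c e from Subgroup.mem_centralizer_singleton_iff.mp hc).zpow_right i).eq.symm
    obtain ⟨k, hk, y, hy, rfl⟩ := hs.exists_mul he.2
    rcases hmem hL' with e1 | e1 <;> rw [e1] at he ⊢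
    · have hk1 : k = 1 := by
        have hkσ : k ∈ sigmaCore M := by
          have := (sigmaCore M).mul_mem (Subgroup.mem_inf.mp he).1 ((sigmaCore M).inv_mem (Subgroup.mem_inf.mp hy).1)
          rwa [mul_inv_cancel_right] at this
        by_contra hk1
        obtain ⟨w, hw, hwd⟩ := Nat.exists_prime_and_dvd (show orderOf k ≠ 1 by rwa [ne_eq, orderOf_eq_one_iff])
        exact hs.part_left hk w hw hwd (mem_sigma_of_dvd hw (hwd.trans (Subgroup.orderOf_dvd_natCard _ hkσ)))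
      rw [hk1, one_mul] at hXe
      exact (h.onlyX v X hX (hXe.trans (Subgroup.zpowers_le.mpr hy))).1 hcX
    · have hy1 : y = 1 := by
        have hyσ : y ∈ sigmaCore L := by
          have := mul_mem (inv_mem (h.le_sigma hk)) he.1
          rwa [inv_mul_cancel_left] at this
        by_contra hy1
        obtain ⟨w, hw, hwd⟩ := Nat.exists_prime_and_dvd (show orderOf y ≠ 1 by rwa [ne_eq, orderOf_eq_one_iff])
        haveI := Fact.mk hw
        exact sigma_disjoint hG hpl hM h.coatom h.nc (hs.part_right hy w hw hwd)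
          (mem_sigma_of_dvd hw (hwd.trans (Subgroup.orderOf_dvd_natCard _ hyσ)))
      rw [hy1, mul_one] at hXe
      exact (h.onlyP v X hX (hXe.trans (Subgroup.zpowers_le.mpr hk))).1 hcX
  · intro L₁ h₁ L₂ h₂ hne'
    rcases hmem h₁ with rfl | rfl <;> rcases hmem h₂ with rfl | rfl
    exacts [absurd rfl hne', h.inter.le, (inf_comm _ _).le.trans h.inter.le, absurd rfl hne']

/-- The classes of maximal subgroups with `κ ≠ ∅`. -/
theorem classes (hM : IsCoatom M) (hK : IsPiHallOf (kappa M) K M) (hK1 : K ≠ ⊥) (h : IsPartner M K L)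
    {H : Subgroup G} (hH : IsCoatom H) (hHκ : (kappa H).Nonempty) :
    ∃ g : G, H = cj g M ∨ H = cj g L := by
  obtain ⟨⟨K₂, hK₂⟩, -⟩ := kappa_hall hG hpl hH
  have hK₂1 : K₂ ≠ ⊥ := by
    rintro rfl
    obtain ⟨p, hp⟩ := hHκ
    refine hK₂.2.2 p hp.1 hp ?_
    rw [Subgroup.relIndex_bot_left]
    exact hp.2.1
  obtain ⟨L₂, h₂⟩ := exists_partner hG hpl hH hK₂ hK₂1
  set Y := sigmaCore M ⊓ Subgroup.centralizer (K : Set G) with hY
  set Y₂ := sigmaCore H ⊓ Subgroup.centralizer (K₂ : Set G) with hY₂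
  obtain ⟨a, ⟨g₁, z₁, hz₁, rfl⟩, g₂, z₂, hz₂, e⟩ : (zClass K Y ∩ zClass K₂ Y₂).Nonempty := by
    rw [← Set.ncard_pos]
    have h1 : Nat.card G < 2 * Set.ncard (zClass K Y) := h.card_lt_two_mul hG hpl hM hK hK1
    have h2 : Nat.card G < 2 * Set.ncard (zClass K₂ Y₂) := h₂.card_lt_two_mul hG hpl hH hK₂ hK₂1
    have h3 := Set.ncard_union_add_ncard_inter (zClass K Y) (zClass K₂ Y₂)
    have h4 : Set.ncard (zClass K Y ∪ zClass K₂ Y₂) ≤ Nat.card G := by
      rw [← Set.ncard_univ]; exact Set.ncard_le_ncard (Set.subset_univ _)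
    omega
  have hord : orderOf z₁ = orderOf z₂ := by rw [← orderOf_conj_eq g₁ z₁, e, orderOf_conj_eq]
  have hs := h.split hG hpl hK
  have hs₂ := h₂.split hG hpl hK₂
  obtain ⟨k, hk, hk1, y, hy, hy1, rfl⟩ := hs.mem_zHat.mp hz₁
  obtain ⟨k', hk', -, y', hy', -, rfl⟩ := hs₂.mem_zHat.mp hz₂
  rw [(show Commute k y from hs.comm k hk y hy).orderOf_mul_eq_mul_orderOf_of_coprime (hs.coprime_orderOf hk hy),
    (show Commute k' y' from hs₂.comm k' hk' y' hy').orderOf_mul_eq_mul_orderOf_of_coprime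
      (hs₂.coprime_orderOf hk' hy')] at hord
  have hwhich : ∀ q : ℕ, q.Prime → q ∣ orderOf k * orderOf y → q ∈ sigma H ∨ q ∈ sigma L₂ := fun q hq hd => by
    rcases hq.dvd_mul.mp (hord ▸ hd) with h' | h'
    · exact Or.inr (mem_sigma_of_dvd hq
        (h'.trans (Subgroup.orderOf_dvd_natCard _ (h₂.le_sigma hk'))))
    · exact Or.inl (hs₂.part_right hy' q hq h')
  have hconj : ∀ {A B : Subgroup G}, IsCoatom A → IsCoatom B → ∀ {q : ℕ}, q.Prime → q ∈ sigma A → q ∈ sigma B →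
      ∃ g : G, B = cj g A := fun {A B} hA hB {q} hq h1 h2 => by
    haveI := Fact.mk hq
    by_contra hcon
    push Not at hcon
    exact sigma_disjoint hG hpl hA hB hcon h1 h2
  obtain ⟨p, hp, hpd⟩ := Nat.exists_prime_and_dvd (show orderOf k ≠ 1 by rwa [ne_eq, orderOf_eq_one_iff])
  obtain ⟨q, hq, hqd⟩ := Nat.exists_prime_and_dvd (show orderOf y ≠ 1 by rwa [ne_eq, orderOf_eq_one_iff])
  have hpL : p ∈ sigma L := mem_sigma_of_dvd hp (hpd.trans (Subgroup.orderOf_dvd_natCard _ (h.le_sigma hk)))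
  have hqM : q ∈ sigma M := hs.part_right hy q hq hqd
  rcases hwhich p hp (hpd.trans (dvd_mul_right _ _)) with hp' | hp'
  · exact (hconj h.coatom hH hp hpL hp').imp fun g hg => Or.inr hg
  rcases hwhich q hq (hqd.trans (dvd_mul_left _ _)) with hq' | hq'
  · exact (hconj hM hH hq hqM hq').imp fun g hg => Or.inl hg
  obtain ⟨a, ha⟩ := hconj h₂.coatom h.coatom hp hp' hpL
  obtain ⟨b, hb⟩ := hconj h₂.coatom hM hq hq' hqM
  exact absurd (by rw [hb, ← cj_mul, inv_mul_cancel_right, ← ha]) (h.nc (a * b⁻¹))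

end IsPartner

end Cfsg.Agent.OddLocal.Sigma
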