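import Cfsg.Agent.OddLocal.Sigma.Partner

/-! Consequences of the existence of the partner (BG 14.7): `Ẑ` and the class of `M*`. -/

set_option autoImplicit false
set_option linter.style.haveILetI false
set_option linter.unusedSectionVars false

namespace Cfsg.Agent.OddLocal.Sigma

open Cfsg
open scoped commutatorElement

variable {G : Type*} [Group G] [Finite G]

/-- `Ẑ`, the elements of `K ⊔ Y` outside both factors. -/
def zHat (K Y : Subgroup G) : Set G := (↑(K ⊔ Y) : Set G) \ ((K : Set G) ∪ ↑Y)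

/-- `K × Y`, with `Y` a `π`-group and `K` a `π'`-group. -/
structure Split (π : Set ℕ) (K Y : Subgroup G) : Prop where
  comm : ∀ k ∈ K, ∀ y ∈ Y, k * y = y * k
  left : ∀ q : ℕ, q.Prime → q ∣ Nat.card K → q ∉ π
  right : ∀ q : ℕ, q.Prime → q ∣ Nat.card Y → q ∈ π

namespace Split

variable {π : Set ℕ} {K Y : Subgroup G}

theorem coprime (h : Split π K Y) : (Nat.card Y).Coprime (Nat.card K) :=
  Nat.coprime_of_dvd fun q hq h1 h2 => h.left q hq h2 (h.right q hq h1)

theorem inf_eq_bot (h : Split π K Y) : K ⊓ Y = ⊥ := Coprime.inf_eq_bot_of_coprime h.coprime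

theorem exists_mul (h : Split π K Y) {a : G} (ha : a ∈ K ⊔ Y) : ∃ k ∈ K, ∃ y ∈ Y, a = k * y := by
  obtain ⟨k, hk, y, hy, rfl⟩ := Coprime.exists_mul_of_mem_sup
    (fun y hy => Subgroup.centralizer_le_normalizer _
      (Subgroup.mem_centralizer_iff.mpr fun k hk => h.comm k hk y hy)) ha
  exact ⟨k, hk, y, hy, rfl⟩

theorem card_sup (h : Split π K Y) : Nat.card ↥(K ⊔ Y) = Nat.card K * Nat.card Y :=
  Coprime.card_sup (fun y hy => Subgroup.centralizer_le_normalizer _
    (Subgroup.mem_centralizer_iff.mpr fun k hk => h.comm k hk y hy)) h.inf_eq_bot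

theorem part_right (h : Split π K Y) {a : G} (ha : a ∈ Y) : ∀ q : ℕ, q.Prime → q ∣ orderOf a → q ∈ π :=
  fun q hq hd => h.right q hq (hd.trans (Subgroup.orderOf_dvd_natCard Y ha))

theorem part_left (h : Split π K Y) {a : G} (ha : a ∈ K) : ∀ q : ℕ, q.Prime → q ∣ orderOf a → q ∉ π :=
  fun q hq hd => h.left q hq (hd.trans (Subgroup.orderOf_dvd_natCard K ha))

theorem coprime_orderOf (h : Split π K Y) {k y : G} (hk : k ∈ K) (hy : y ∈ Y) :
    (orderOf k).Coprime (orderOf y) :=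
  Nat.coprime_of_dvd fun q hq h1 h2 => h.part_left hk q hq h1 (h.part_right hy q hq h2)

theorem right_mem_zpowers (h : Split π K Y) {k y : G} (hk : k ∈ K) (hy : y ∈ Y) :
    y ∈ Subgroup.zpowers (k * y) := by
  obtain ⟨n, hn⟩ := exists_pow_part (show Commute y k from (h.comm k hk y hy).symm) (h.coprime_orderOf hk hy).symm
  rw [h.comm k hk y hy]
  exact ⟨(n : ℤ), (zpow_natCast _ _).trans hn⟩

theorem left_mem_zpowers (h : Split π K Y) {k y : G} (hk : k ∈ K) (hy : y ∈ Y) :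
    k ∈ Subgroup.zpowers (k * y) := by
  obtain ⟨n, hn⟩ := exists_pow_part (show Commute k y from h.comm k hk y hy) (h.coprime_orderOf hk hy)
  exact ⟨(n : ℤ), (zpow_natCast _ _).trans hn⟩

theorem eq_of_mul_eq (h : Split π K Y) {k y k' y' : G} (hk : k ∈ K) (hy : y ∈ Y) (hk' : k' ∈ K) (hy' : y' ∈ Y)
    (e : k * y = k' * y') : k = k' ∧ y = y' := by
  have hy2 := part_unique (π := π) (show Commute y k from (h.comm k hk y hy).symm)
    (show Commute y' k' from (h.comm k' hk' y' hy').symm) (by rw [← h.comm k hk y hy, ← h.comm k' hk' y' hy', e])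
    (h.part_right hy) (h.part_left hk) (h.part_right hy') (h.part_left hk')
  exact ⟨mul_right_cancel (b := y) (by rw [e, hy2]), hy2⟩

theorem mem_zHat (h : Split π K Y) {a : G} :
    a ∈ zHat K Y ↔ ∃ k ∈ K, k ≠ 1 ∧ ∃ y ∈ Y, y ≠ 1 ∧ a = k * y := by
  constructor
  · rintro ⟨ha, hn⟩
    obtain ⟨k, hk, y, hy, rfl⟩ := h.exists_mul ha
    refine ⟨k, hk, fun e => hn (Or.inr ?_), y, hy, fun e => hn (Or.inl ?_), rfl⟩
    · simpa [e] using hy
    · simpa [e] using hk
  · rintro ⟨k, hk, hk1, y, hy, hy1, rfl⟩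
    refine ⟨mul_mem (Subgroup.mem_sup_left hk) (Subgroup.mem_sup_right hy), ?_⟩
    rintro (h' | h')
    · exact hy1 ((h.eq_of_mul_eq hk hy h' Y.one_mem (by rw [mul_one])).2)
    · exact hk1 ((h.eq_of_mul_eq hk hy K.one_mem h' (by rw [one_mul])).1)

theorem parts_conj (h : Split π K Y) {k y k' y' g : G} (hk : k ∈ K) (hy : y ∈ Y) (hk' : k' ∈ K) (hy' : y' ∈ Y)
    (e : g * (k * y) * g⁻¹ = k' * y') : g * k * g⁻¹ = k' ∧ g * y * g⁻¹ = y' := by
  have hy2 : g * y * g⁻¹ = y' := part_unique (π := π)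
    (show Commute (g * y * g⁻¹) (g * k * g⁻¹) from (show Commute y k from (h.comm k hk y hy).symm).map (MulAut.conj g))
    (show Commute y' k' from (h.comm k' hk' y' hy').symm)
    (by rw [← h.comm k' hk' y' hy', ← e, h.comm k hk y hy]; group)
    (fun q hq hd => h.part_right hy q hq (by rwa [orderOf_conj_eq] at hd))
    (fun q hq hd => h.part_left hk q hq (by rwa [orderOf_conj_eq] at hd)) (h.part_right hy') (h.part_left hk')
  refine ⟨mul_right_cancel (b := y') ?_, hy2⟩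
  rw [← e, ← hy2]
  group

end Split

/-- A conjugation preserving a cyclic subgroup element-wise up to membership normalizes its small subgroups. -/
theorem mem_normalizer_of_isCyclic {A B : Subgroup G} (hA : IsCyclic A) (hB : B ≤ A) {g : G} (h : cj g B ≤ A) :
    g ∈ Subgroup.normalizer (B : Set G) :=
  cj_eq_iff.mp (OddLocal.eq_of_card_eq_of_isCyclic hA h hB (card_cj g B))

/-- A prime order subgroup inside `zpowers a` for `a ≠ 1`. -/
theorem exists_prime_le_zpowers {a : G} (ha : a ≠ 1) :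
    ∃ q : ℕ, q.Prime ∧ q ∣ orderOf a ∧ ∃ X : Subgroup G, Nat.card X = q ∧ X ≤ Subgroup.zpowers a := by
  obtain ⟨q, hq, hd⟩ := Nat.exists_prime_and_dvd (show orderOf a ≠ 1 by rwa [ne_eq, orderOf_eq_one_iff])
  exact ⟨q, hq, hd, Subgroup.zpowers (a ^ (orderOf a / q)),
    by rw [Nat.card_zpowers, orderOf_pow_orderOf_div (orderOf_pos a).ne' hd],
    Subgroup.zpowers_le.mpr (pow_mem (Subgroup.mem_zpowers a) _)⟩

variable (hG : IsMinSimpleOddOrder G)
include hG
variable (hpl : ∀ (p : ℕ) [Fact p.Prime] (H : Subgroup G), H ≠ ⊤ → PLengthLE p 1 H)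
include hpl

theorem mem_of_fixed_le_cj {M X : Subgroup G} (hM : IsCoatom M) {t : ℕ} [Fact t.Prime] (hX : Nat.card X = t)
    (hXσ : X ≤ sigmaCore M) (hC : Subgroup.centralizer (X : Set G) ≤ M) {g : G} (hg : X ≤ cj g M) : g ∈ M := by
  obtain ⟨c, hc, e⟩ := transitive hG hM
    (mem_sigma_of_dvd Fact.out (hX ▸ Subgroup.card_dvd_of_le hXσ)) _ X le_rfl (isPGroup_of_card_prime hX)
    (ne_bot_of_card_prime hX) 1 g (by rw [cj_one]; exact hXσ.trans (sigmaCore_le M)) hg
  rw [cj_one, cj_eq_iff.mpr (Subgroup.le_normalizer (hC hc))] at e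
  exact (normalizer_coatom hG hM).le (cj_eq_iff.mp e)

namespace IsPartner

variable {M K L : Subgroup G}

theorem kappa_ne (hK : IsPiHallOf (kappa M) K M) (hK1 : K ≠ ⊥) : (kappa M).Nonempty := by
  obtain ⟨p, hp, hpK⟩ := Nat.exists_prime_and_dvd fun e => hK1 (Subgroup.eq_bot_of_card_eq _ e)
  exact ⟨p, hK.2.1 p hp hpK⟩

theorem split (hK : IsPiHallOf (kappa M) K M) (_h : IsPartner M K L) :
    Split (sigma M) K (sigmaCore M ⊓ Subgroup.centralizer (K : Set G)) where
  comm k hk y hy := Subgroup.mem_centralizer_iff.mp hy.2 k hk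
  left q hq hd := (hK.2.1 q hq hd).2.2.1
  right q hq hd := mem_sigma_of_dvd hq (hd.trans (Subgroup.card_dvd_of_le inf_le_left))

theorem kst_ne (hM : IsCoatom M) (hK : IsPiHallOf (kappa M) K M) (hK1 : K ≠ ⊥) :
    sigmaCore M ⊓ Subgroup.centralizer (K : Set G) ≠ ⊥ :=
  (kappa_hall_facts hG hpl hM hK hK1).2.1

theorem eq_K' (h : IsPartner M K L) :
    K = sigmaCore L ⊓ Subgroup.centralizer (↑(sigmaCore M ⊓ Subgroup.centralizer (K : Set G)) : Set G) := h.eq_K

/-- The partner relation is symmetric. -/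
theorem symm (hK : IsPiHallOf (kappa M) K M) (hM : IsCoatom M) (h : IsPartner M K L) :
    IsPartner L (sigmaCore M ⊓ Subgroup.centralizer (K : Set G)) M := by
  refine ⟨hM, cj_nc h.nc, ?_, ?_, ?_, ?_, ?_, ?_, inf_le_left⟩
  · show _ = sigmaCore M ⊓ Subgroup.centralizer
      (↑(sigmaCore L ⊓ Subgroup.centralizer (↑(sigmaCore M ⊓ Subgroup.centralizer (K : Set G)) : Set G)) : Set G)
    rw [← h.eq_K' hG hpl]
  · rw [← h.eq_K' hG hpl]; exact hK
  · intro t _ X hX hXK; exact h.onlyX t X hX hXK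
  · rw [← h.eq_K' hG hpl]; intro p _ P hP hPK; exact h.onlyP p P hP hPK
  · rw [← h.eq_K' hG hpl, inf_comm, h.inter, sup_comm]
  · rw [← h.eq_K' hG hpl, sup_comm]; exact h.cyclic

theorem mem_M_of_cj (hM : IsCoatom M) (hK : IsPiHallOf (kappa M) K M) (h : IsPartner M K L) {z : G}
    (hz : z ∈ zHat K (sigmaCore M ⊓ Subgroup.centralizer (K : Set G))) {g : G} (hg : z ∈ cj g M) : g ∈ M := by
  obtain ⟨k, hk, -, y, hy, hy1, rfl⟩ := (h.split hG hpl hK).mem_zHat.mp hz
  obtain ⟨t, ht, -, X, hX, hXy⟩ := exists_prime_le_zpowers hy1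
  haveI := Fact.mk ht
  have hXK := hXy.trans (Subgroup.zpowers_le.mpr hy)
  refine mem_of_fixed_le_cj hG hpl hM hX (hXK.trans inf_le_left) (h.onlyX t X hX hXK).1 (hXy.trans ?_)
  exact Subgroup.zpowers_le.mpr (Subgroup.zpowers_le.mpr hg ((h.split hG hpl hK).right_mem_zpowers hk hy))

/-- `Ẑ` meets a conjugate of itself only through `Z`. -/
theorem zHat_conj (hK : IsPiHallOf (kappa M) K M) (h : IsPartner M K L) {z g : G}
    (hz : z ∈ zHat K (sigmaCore M ⊓ Subgroup.centralizer (K : Set G)))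
    (hg : g * z * g⁻¹ ∈ zHat K (sigmaCore M ⊓ Subgroup.centralizer (K : Set G))) :
    g ∈ K ⊔ (sigmaCore M ⊓ Subgroup.centralizer (K : Set G)) := by
  set Y := sigmaCore M ⊓ Subgroup.centralizer (K : Set G) with hY
  have hs := h.split hG hpl hK
  obtain ⟨k, hk, hk1, y, hy, hy1, rfl⟩ := hs.mem_zHat.mp hz
  obtain ⟨k', hk', -, y', hy', -, e⟩ := hs.mem_zHat.mp hg
  obtain ⟨e1, e2⟩ := hs.parts_conj hk hy hk' hy' e
  have hcyc := h.cyclic
  rw [← h.inter]
  have key : ∀ {a a' : G} {A : Subgroup G}, A ≤ K ⊔ Y → a ∈ A → a' ∈ A → g * a * g⁻¹ = a' → ∀ {X : Subgroup G},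
      X ≤ Subgroup.zpowers a → g ∈ Subgroup.normalizer (X : Set G) := by
    intro a a' A hA ha ha' ea X hX
    refine mem_normalizer_of_isCyclic hcyc (hX.trans ((Subgroup.zpowers_le.mpr ha).trans hA)) ?_
    refine ((cj_mono hX).trans ?_).trans hA
    rw [cj_le_iff, Subgroup.zpowers_le, mem_cj, inv_inv, ea]
    exact ha'
  refine ⟨?_, ?_⟩
  · obtain ⟨t, ht, -, X, hX, hXy⟩ := exists_prime_le_zpowers hy1
    haveI := Fact.mk ht
    exact ((h.onlyX t X hX (hXy.trans (Subgroup.zpowers_le.mpr hy))).2.mono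
      (Subgroup.centralizer_le_normalizer _)).le
        (Core.BG.normalizer_ne_top_of_isPGroup hG (ne_bot_of_card_prime hX) (isPGroup_of_card_prime hX))
      (key le_sup_right hy hy' e2 hXy)
  · obtain ⟨p, hp, -, P, hP, hPk⟩ := exists_prime_le_zpowers hk1
    haveI := Fact.mk hp
    exact ((h.onlyP p P hP (hPk.trans (Subgroup.zpowers_le.mpr hk))).2.mono
      (Subgroup.centralizer_le_normalizer _)).le
        (Core.BG.normalizer_ne_top_of_isPGroup hG (ne_bot_of_card_prime hP) (isPGroup_of_card_prime hP))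
      (key le_sup_left hk hk' e1 hPk)

theorem zHat_nonempty (hM : IsCoatom M) (hK : IsPiHallOf (kappa M) K M) (hK1 : K ≠ ⊥) (h : IsPartner M K L) :
    (zHat K (sigmaCore M ⊓ Subgroup.centralizer (K : Set G))).Nonempty := by
  obtain ⟨k, hk, hk1⟩ := K.bot_or_exists_ne_one.resolve_left hK1
  obtain ⟨y, hy, hy1⟩ := (Subgroup.bot_or_exists_ne_one _).resolve_left (kst_ne hG hpl hM hK hK1)
  exact ⟨k * y, (h.split hG hpl hK).mem_zHat.mpr ⟨k, hk, hk1, y, hy, hy1, rfl⟩⟩

theorem mem_comm (h : IsPartner M K L) {a b : G} (ha : a ∈ K ⊔ (sigmaCore M ⊓ Subgroup.centralizer (K : Set G)))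
    (hb : b ∈ K ⊔ (sigmaCore M ⊓ Subgroup.centralizer (K : Set G))) : a * b = b * a := by
  haveI := h.cyclic
  letI := IsCyclic.commGroup (α := ↥(K ⊔ (sigmaCore M ⊓ Subgroup.centralizer (K : Set G))))
  exact congrArg Subtype.val (mul_comm (⟨a, ha⟩ : ↥(K ⊔ (sigmaCore M ⊓ Subgroup.centralizer (K : Set G)))) ⟨b, hb⟩)

theorem zHat_conj_self (h : IsPartner M K L) {z g : G}
    (hz : z ∈ zHat K (sigmaCore M ⊓ Subgroup.centralizer (K : Set G)))
    (hg : g ∈ K ⊔ (sigmaCore M ⊓ Subgroup.centralizer (K : Set G))) : g * z * g⁻¹ = z := by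
  rw [h.mem_comm hG hpl hg hz.1, mul_inv_cancel_right]

theorem normalizer_zHat (hM : IsCoatom M) (hK : IsPiHallOf (kappa M) K M) (hK1 : K ≠ ⊥) (h : IsPartner M K L) :
    Subgroup.normalizer (zHat K (sigmaCore M ⊓ Subgroup.centralizer (K : Set G))) =
      K ⊔ (sigmaCore M ⊓ Subgroup.centralizer (K : Set G)) := by
  refine le_antisymm (fun g hg => ?_) fun g hg => ?_
  · obtain ⟨z, hz⟩ := h.zHat_nonempty hG hpl hM hK hK1
    exact h.zHat_conj hG hpl hK hz ((Subgroup.mem_set_normalizer_iff.mp hg z).mp hz)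
  · refine Subgroup.mem_set_normalizer_iff.mpr fun z => ⟨fun hz => by rwa [h.zHat_conj_self hG hpl hz hg], fun hz => ?_⟩
    have h2 := h.zHat_conj_self hG hpl hz (inv_mem hg)
    have h3 : g⁻¹ * (g * z * g⁻¹) * g⁻¹⁻¹ = z := by group
    rw [h3] at h2
    exact h2 ▸ hz

theorem centralizer_zHat (hK : IsPiHallOf (kappa M) K M) (h : IsPartner M K L) {z : G}
    (hz : z ∈ zHat K (sigmaCore M ⊓ Subgroup.centralizer (K : Set G))) :
    Subgroup.centralizer ({z} : Set G) = K ⊔ (sigmaCore M ⊓ Subgroup.centralizer (K : Set G)) := by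
  refine le_antisymm (fun g hg => h.zHat_conj hG hpl hK hz ?_)
    fun g hg => Subgroup.mem_centralizer_singleton_iff.mpr (h.mem_comm hG hpl hg hz.1)
  rwa [Subgroup.mem_centralizer_singleton_iff.mp hg, mul_inv_cancel_right]

end IsPartner

end Cfsg.Agent.OddLocal.Sigma
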