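import Cfsg.Agent.OddLocal.Sigma.KappaTau2

/-! A Frobenius group `U K` acting coprimely with all non-identity elements of `K` fixing the same points:
if `|K|` is not prime then `U` acts trivially. -/

set_option autoImplicit false
set_option linter.style.haveILetI false
set_option linter.unusedSectionVars false

namespace Cfsg.Agent.OddLocal.Sigma

open Cfsg
open scoped commutatorElement

/-- Independence of the twists `u ↦ f i u`: in a vanishing product all factors are fixed by `U`. -/
theorem fixed_of_twisted_prod_eq_one {V U : Type*} [CommGroup V] [Finite V] [CommGroup U] [Finite U]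
    (ρ : U →* MulAut V) (hcop : (Nat.card U).Coprime (Nat.card V)) {ι : Type*} [DecidableEq ι] (f : ι → U →* U)
    (s : Finset ι) : (∀ i ∈ s, ∀ j ∈ s, i ≠ j → ∀ c : U, ∃ a : U, f i a * (f j a)⁻¹ = c) →
      ∀ w : ι → V, (∀ u : U, ∏ i ∈ s, ρ (f i u) (w i) = 1) → ∀ i ∈ s, ∀ u : U, ρ u (w i) = w i := by
  induction s using Finset.strongInduction with
  | _ s ih =>
    intro hsurj w h i hi
    by_cases hsing : ∃ j ∈ s, j ≠ i
    swap
    · push Not at hsing
      have hs : s = {i} := Finset.eq_singleton_iff_unique_mem.mpr ⟨hi, hsing⟩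
      have h1 := h 1
      rw [hs, Finset.prod_singleton, map_one, map_one, MulAut.one_apply] at h1
      intro u
      rw [h1, map_one]
    obtain ⟨j, hj, hji⟩ := hsing
    intro c
    have hz : ∀ u : U, ρ u (ρ c (w i) * (w i)⁻¹) = ρ c (w i) * (w i)⁻¹ := by
      obtain ⟨a, ha⟩ := hsurj i hi j hj (Ne.symm hji) c
      have hsplit : ∀ u : U, ∏ l ∈ s.erase j, ρ (f l u) (ρ (f l a) (w l) * (ρ (f j a) (w l))⁻¹) = 1 := by
        intro u
        have e1 : ∏ l ∈ s, ρ (f l u) (ρ (f l a) (w l)) = 1 := by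
          rw [← h (u * a)]
          exact Finset.prod_congr rfl fun l _ => by rw [map_mul (f l), map_mul ρ, MulAut.mul_apply]
        have e2 : ∏ l ∈ s, ρ (f l u) (ρ (f j a) (w l)) = 1 := by
          have h3 := congrArg (ρ (f j a)) (h u)
          rw [map_prod, map_one] at h3
          rw [← h3]
          refine Finset.prod_congr rfl fun l _ => ?_
          rw [← MulAut.mul_apply, ← map_mul, mul_comm, map_mul, MulAut.mul_apply]
        rw [Finset.prod_erase _ (by rw [mul_inv_cancel, map_one])]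
        rw [Finset.prod_congr rfl fun l _ => by rw [map_mul (ρ (f l u)), map_inv (ρ (f l u))],
          Finset.prod_mul_distrib, Finset.prod_inv_distrib, e1, e2, inv_one, mul_one]
      intro u
      have h4 := ih _ (Finset.erase_ssubset hj)
        (fun l hl l' hl' => hsurj l (Finset.mem_of_mem_erase hl) l' (Finset.mem_of_mem_erase hl')) _ hsplit i
        (Finset.mem_erase.mpr ⟨Ne.symm hji, hi⟩) u
      have h5 : ρ (f i a) (w i) * (ρ (f j a) (w i))⁻¹ = ρ (f j a) (ρ c (w i) * (w i)⁻¹) := by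
        rw [map_mul (ρ (f j a)), map_inv (ρ (f j a)), ← MulAut.mul_apply, ← map_mul, ← ha,
          mul_comm (f i a), mul_inv_cancel_left]
      rw [h5, ← MulAut.mul_apply, ← map_mul, mul_comm u, map_mul ρ, MulAut.mul_apply] at h4
      exact (ρ (f j a)).injective h4
    set z := ρ c (w i) * (w i)⁻¹ with hzdef
    have hpow : ∀ n : ℕ, ρ (c ^ n) (w i) = z ^ n * w i := by
      intro n
      induction n with
      | zero => simp
      | succ n ihn =>
        rw [pow_succ', map_mul, MulAut.mul_apply, ihn, map_mul, map_pow (ρ c), hz c, pow_succ, mul_assoc,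
          show z * w i = ρ c (w i) by rw [hzdef, inv_mul_cancel_right]]
    have hc := hpow (orderOf c)
    rw [pow_orderOf_eq_one, map_one, MulAut.one_apply] at hc
    have hz1 : z ^ orderOf c = 1 := by simpa using hc.symm
    have h6 := pow_gcd_eq_one.mpr ⟨hz1, pow_card_eq_one' (x := z)⟩
    rw [(Nat.Coprime.coprime_dvd_left (orderOf_dvd_natCard c) hcop).gcd_eq_one, pow_one] at h6
    exact mul_inv_eq_one.mp h6

variable {G : Type*} [Group G] [Finite G]

/-- If `U K` is Frobenius and `C_S(P) = C_S(K)` for a proper non-trivial `P ≤ K` then `U` centralizes `S`. -/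
theorem le_centralizer_of_prime_action {ℓ : ℕ} [hℓ : Fact ℓ.Prime] {U K P : Subgroup G} [IsMulCommutative U]
    (hKU : K ≤ Subgroup.normalizer (U : Set G)) (hPK : P ≤ K) (hlt : ¬ K ≤ P)
    (hcop : (Nat.card U).Coprime ℓ) (hcopK : (Nat.card P).Coprime ℓ) [Group.IsSolvable P] [Group.IsSolvable U]
    (hfpf : ∀ g ∈ K, g ≠ 1 → U ⊓ Subgroup.centralizer ({g} : Set G) = ⊥) :
    ∀ S : Subgroup G, IsPGroup ℓ S → U ≤ Subgroup.normalizer (S : Set G) → K ≤ Subgroup.normalizer (S : Set G) →
      (∀ x ∈ S, x ∈ Subgroup.centralizer (P : Set G) → x ∈ Subgroup.centralizer (K : Set G)) →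
      U ≤ Subgroup.centralizer (S : Set G) := by
  classical
  intro S
  induction hn : Nat.card S using Nat.strong_induction_on generalizing S with
  | _ n ih =>
    intro hS hUS hKS hfix
    subst hn
    by_cases hS1 : S = ⊥
    · subst hS1
      intro u _
      exact Subgroup.mem_centralizer_iff.mpr fun g hg => by rw [Subgroup.mem_bot.mp hg, one_mul, mul_one]
    set D := ⁅S, S⁆ with hDdef
    have hDS : D ≤ S := Subgroup.commutator_le.mpr fun a ha b hb =>
      mul_mem (mul_mem (mul_mem ha hb) (inv_mem ha)) (inv_mem hb)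
    have hDlt : Nat.card D < Nat.card S := by
      haveI : Group.IsSolvable S := Coprime.isSolvable_of_isPGroup hS
      haveI : Nontrivial S := (Subgroup.nontrivial_iff_ne_bot S).mpr hS1
      refine lt_of_le_of_ne (Subgroup.card_le_of_le hDS) fun e => ?_
      have h1 : ⁅S, S⁆ = S := Subgroup.eq_of_le_of_card_ge hDS e.ge
      exact (Group.IsSolvable.commutator_lt_top_of_nontrivial S).ne (Subgroup.map_injective S.subtype_injective
        (by rw [Subgroup.map_subtype_commutator, ← MonoidHom.range_eq_map, Subgroup.range_subtype, h1]))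
    have hND : Subgroup.normalizer (S : Set G) ≤ Subgroup.normalizer (D : Set G) := fun g hg =>
      Coprime.mem_normalizer_of_conj_mem fun y hy => by
        have h1 : g * y * g⁻¹ ∈ (⁅S, S⁆).map (MulAut.conj g).toMonoidHom := ⟨y, hy, rfl⟩
        rw [Subgroup.map_commutator] at h1
        exact Subgroup.commutator_mono (cj_eq_iff.mpr hg).le (cj_eq_iff.mpr hg).le h1
    have hUD := ih _ hDlt D rfl (hS.to_le hDS) (hUS.trans hND) (hKS.trans hND) fun x hx => hfix x (hDS hx)
    obtain ⟨j, hj⟩ := IsPGroup.iff_card.mp hS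
    have hcopS : (Nat.card U).Coprime (Nat.card S) := hj ▸ hcop.pow_right j
    have hcopP : (Nat.card P).Coprime (Nat.card S) := hj ▸ hcopK.pow_right j
    -- the action on `S / [S, S]`
    let V := Abelianization S
    let ψ : ↥(Subgroup.normalizer (S : Set G)) →* MulAut V :=
      { toFun := fun g => MulEquiv.abelianizationCongr (S.normalizerMonoidHom g)
        map_one' := by
          refine MulEquiv.ext fun v => QuotientGroup.induction_on v fun x => ?_
          show Abelianization.of (S.normalizerMonoidHom 1 x) = Abelianization.of x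
          rw [map_one]; rfl
        map_mul' := fun g g' => by
          refine MulEquiv.ext fun v => QuotientGroup.induction_on v fun x => ?_
          show Abelianization.of (S.normalizerMonoidHom (g * g') x) = _
          rw [map_mul]; rfl }
    letI : CommGroup U := { (inferInstance : Group U) with mul_comm := (inferInstance : IsMulCommutative U).is_comm.comm }
    let ρ : U →* MulAut V := ψ.comp (Subgroup.inclusion hUS)
    let κ : K → MulAut V := fun g => ψ ⟨g, hKS g.2⟩
    let f : K → U →* U := fun g =>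
      { toFun := fun u => ⟨(g : G) * u * (g : G)⁻¹, (Subgroup.mem_normalizer_iff.mp (hKU g.2) u).mp u.2⟩
        map_one' := Subtype.ext (show (g : G) * 1 * (g : G)⁻¹ = 1 by simp)
        map_mul' := fun a b => Subtype.ext (show (g : G) * (a * b) * (g : G)⁻¹ =
          (g : G) * a * (g : G)⁻¹ * ((g : G) * b * (g : G)⁻¹) by group) }
    have hκρ : ∀ (g : K) (u : U) (v : V), κ g (ρ u v) = ρ (f g u) (κ g v) := fun g u v => by
      rw [← MulAut.mul_apply, ← MulAut.mul_apply]
      congr 1
      show ψ _ * ψ _ = ψ _ * ψ _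
      rw [← map_mul, ← map_mul]
      exact congrArg ψ (Subtype.ext (show (g : G) * u = (g : G) * u * (g : G)⁻¹ * g by group))
    have hκmul : ∀ (g g' : K) (v : V), κ (g * g') v = κ g (κ g' v) := fun g g' v => by
      rw [← MulAut.mul_apply]
      congr 1
      show ψ _ = ψ _ * ψ _
      rw [← map_mul]
      rfl
    obtain ⟨k, hkK, hkP⟩ := SetLike.not_le_iff_exists.mp hlt
    let g : P ⊕ P → K := Sum.elim (fun π => ⟨π, hPK π.2⟩) (fun π => ⟨k, hkK⟩ * ⟨π, hPK π.2⟩)
    have hg : Function.Injective g := by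
      rintro (a | a) (b | b) e
      · exact congrArg Sum.inl (Subtype.ext (congrArg (fun z : K => (z : G)) e))
      · refine absurd ?_ hkP
        have e' : (a : G) = k * b := congrArg (fun z : K => (z : G)) e
        rw [show k = (a : G) * (b : G)⁻¹ by rw [e', mul_inv_cancel_right]]
        exact P.mul_mem a.2 (P.inv_mem b.2)
      · refine absurd ?_ hkP
        have e' : k * (a : G) = b := congrArg (fun z : K => (z : G)) e
        rw [show k = (b : G) * (a : G)⁻¹ by rw [← e', mul_inv_cancel_right]]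
        exact P.mul_mem b.2 (P.inv_mem a.2)
      · have e' : k * (a : G) = k * b := congrArg (fun z : K => (z : G)) e
        exact congrArg Sum.inr (Subtype.ext (mul_left_cancel e'))
    haveI : Fintype P := Fintype.ofFinite P
    have hN : ∀ v : V, κ ⟨k, hkK⟩ (∏ π : P, κ ⟨π, hPK π.2⟩ v) = ∏ π : P, κ ⟨π, hPK π.2⟩ v := by
      intro v
      obtain ⟨x, hx⟩ : ∃ x : S, (QuotientGroup.mk x : V) = ∏ π : P, κ ⟨π, hPK π.2⟩ v :=
        QuotientGroup.mk_surjective _
      have hfixP : ∀ π₀ : P, κ ⟨π₀, hPK π₀.2⟩ (∏ π : P, κ ⟨π, hPK π.2⟩ v) = ∏ π : P, κ ⟨π, hPK π.2⟩ v := by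
        intro π₀
        rw [map_prod]
        refine Fintype.prod_equiv (Equiv.mulLeft π₀) _ _ fun π => ?_
        rw [← hκmul]
        rfl
      have hDc : ∀ y : S, (y : G) ∈ D ↔ (QuotientGroup.mk y : V) = 1 := fun y => by
        rw [QuotientGroup.eq_one_iff, hDdef, ← Subgroup.map_subtype_commutator, Subgroup.mem_map_iff_mem
          S.subtype_injective |> fun h => show ((y : G) ∈ _ ↔ _) from h]
      obtain ⟨d, hd, c, hc, hxdc⟩ := Coprime.exists_mul_centralizer (N := S) (M := D) (A := P) (hPK.trans hKS)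
        hcopP hDS ((hPK.trans hKS).trans hND) x.2 fun π hπ => by
          have hmem : π * (x : G) * π⁻¹ ∈ S := (Subgroup.mem_normalizer_iff.mp (hKS (hPK hπ)) x).mp x.2
          refine (hDc ⟨⁅(x : G), π⁆, by
            rw [commutatorElement_def]
            rw [show (x : G) * π * (x : G)⁻¹ * π⁻¹ = x * (π * (x : G)⁻¹ * π⁻¹) by group]
            exact S.mul_mem x.2 ((Subgroup.mem_normalizer_iff.mp (hKS (hPK hπ)) _).mp (S.inv_mem x.2))⟩).mpr ?_
          have h1 := hfixP ⟨π, hπ⟩
          rw [← hx] at h1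
          have h2 : (QuotientGroup.mk (⟨π * (x : G) * π⁻¹, hmem⟩ : S) : V) = QuotientGroup.mk x := h1
          rw [show (⟨⁅(x : G), π⁆, _⟩ : S) = x * (⟨π * (x : G) * π⁻¹, hmem⟩ : S)⁻¹ from Subtype.ext
            (show ⁅(x : G), π⁆ = x * (π * (x : G) * π⁻¹)⁻¹ by rw [commutatorElement_def]; group),
            QuotientGroup.mk_mul, QuotientGroup.mk_inv, h2, mul_inv_cancel]
      have hxc : (QuotientGroup.mk x : V) = QuotientGroup.mk (⟨c, hc.1⟩ : S) := by
        rw [show x = ⟨d, hDS hd⟩ * ⟨c, hc.1⟩ from Subtype.ext hxdc, QuotientGroup.mk_mul,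
          (hDc ⟨d, hDS hd⟩).mp hd, one_mul]
      rw [← hx, hxc]
      show Abelianization.of (S.normalizerMonoidHom _ _) = Abelianization.of _
      refine congrArg _ (Subtype.ext (show k * c * k⁻¹ = c from mul_inv_eq_iff_eq_mul.mpr ?_))
      exact Subgroup.mem_centralizer_iff.mp (hfix c hc.1 hc.2) k hkK
    have hfixV : ∀ (v : V) (u : U), ρ u v = v := by
      intro v u
      let w : P ⊕ P → V := Sum.elim (fun π => κ (g (Sum.inl π)) v) (fun π => (κ (g (Sum.inr π)) v)⁻¹)
      have hprod : ∀ u : U, ∏ i, ρ (f (g i) u) (w i) = 1 := by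
        intro u
        rw [Fintype.prod_sum_type]
        simp only [w, g, Sum.elim_inl, Sum.elim_inr, map_inv, Finset.prod_inv_distrib]
        have h1 : ∀ π : P, ρ (f (⟨k, hkK⟩ * ⟨π, hPK π.2⟩) u) (κ (⟨k, hkK⟩ * ⟨π, hPK π.2⟩) v) =
            κ ⟨k, hkK⟩ (κ ⟨π, hPK π.2⟩ (ρ u v)) := fun π => by rw [← hκρ, hκmul]
        simp only [h1, ← hκρ, ← map_prod, hN, mul_inv_cancel]
      have hV : (Nat.card U).Coprime (Nat.card V) :=
        hcopS.coprime_dvd_right (Subgroup.card_quotient_dvd_card _)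
      have := fixed_of_twisted_prod_eq_one ρ hV (fun i => f (g i)) Finset.univ (fun i _ i' _ hne c => by
        have hinj : Function.Injective fun a : U => f (g i) a * (f (g i') a)⁻¹ := by
          intro a b e
          simp only at e
          have e2 : f (g i) (a * b⁻¹) = f (g i') (a * b⁻¹) := by
            rw [map_mul, map_mul, map_inv, map_inv]
            have := mul_inv_eq_iff_eq_mul.mp e
            rw [this]
            have key : ∀ A B C : U, A * B⁻¹ * C * A⁻¹ = C * B⁻¹ := fun A B C => by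
              rw [mul_right_comm A, mul_right_comm (A * C), mul_comm A C, mul_inv_cancel_right]
            exact key _ _ _
          by_contra hab
          have hgne : ((g i' : K) : G)⁻¹ * (g i : K) ≠ 1 := fun h0 =>
            hne (hg (Subtype.ext (inv_mul_eq_one.mp h0).symm))
          have hmem : ((a * b⁻¹ : U) : G) ∈ U ⊓ Subgroup.centralizer ({((g i' : K) : G)⁻¹ * (g i : K)} : Set G) := by
            refine Subgroup.mem_inf.mpr ⟨(a * b⁻¹).2, Subgroup.mem_centralizer_singleton_iff.mpr ?_⟩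
            have e3 : ((g i : K) : G) * (a * b⁻¹ : U) * ((g i : K) : G)⁻¹ =
                ((g i' : K) : G) * (a * b⁻¹ : U) * ((g i' : K) : G)⁻¹ := congrArg (fun z : U => (z : G)) e2
            calc ((a * b⁻¹ : U) : G) * (((g i' : K) : G)⁻¹ * (g i : K))
                = ((g i' : K) : G)⁻¹ * ((g i' : K) * (a * b⁻¹ : U) * ((g i' : K) : G)⁻¹) * (g i : K) := by group
              _ = ((g i' : K) : G)⁻¹ * ((g i : K) * (a * b⁻¹ : U) * ((g i : K) : G)⁻¹) * (g i : K) := by rw [e3]
              _ = ((g i' : K) : G)⁻¹ * (g i : K) * (a * b⁻¹ : U) := by group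
          rw [hfpf _ (K.mul_mem (K.inv_mem (g i').2) (g i).2) hgne, Subgroup.mem_bot] at hmem
          exact hab (mul_inv_eq_one.mp (Subtype.ext hmem))
        exact (Finite.injective_iff_surjective.mp hinj) c) w (fun u => hprod u) (Sum.inl 1) (Finset.mem_univ _) u
      have hone : κ (g (Sum.inl (1 : P))) v = v := by
        show ψ _ v = v
        rw [show (⟨((g (Sum.inl (1 : P)) : K) : G), hKS (g (Sum.inl (1 : P))).2⟩ :
          ↥(Subgroup.normalizer (S : Set G))) = 1 from rfl, map_one, MulAut.one_apply]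
      simp only [w, Sum.elim_inl, hone] at this
      exact this
    have hSU : ⁅S, U⁆ ≤ D := Subgroup.commutator_le.mpr fun s hs u hu => by
      have h1 : (QuotientGroup.mk (S.normalizerMonoidHom ⟨u, hUS hu⟩ ⟨s, hs⟩) : V) = QuotientGroup.mk ⟨s, hs⟩ :=
        hfixV (QuotientGroup.mk ⟨s, hs⟩) ⟨u, hu⟩
      have h2 : (⟨s, hs⟩ : S) * (S.normalizerMonoidHom ⟨u, hUS hu⟩ ⟨s, hs⟩)⁻¹ ∈ commutator S := by
        rw [← QuotientGroup.eq_one_iff, QuotientGroup.mk_mul, QuotientGroup.mk_inv, h1, mul_inv_cancel]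
      rw [hDdef, ← Subgroup.map_subtype_commutator]
      refine ⟨_, h2, ?_⟩
      show s * (u * s * u⁻¹)⁻¹ = ⁅s, u⁆
      rw [commutatorElement_def]; group
    refine Subgroup.le_centralizer_iff.mp (Subgroup.commutator_eq_bot_iff_le_centralizer.mp ?_)
    refine Coprime.commutator_eq_bot_of_commutator_commutator hUS hcopS (le_bot_iff.mp ?_)
    exact (Subgroup.commutator_mono hSU le_rfl).trans
      (Subgroup.commutator_eq_bot_iff_le_centralizer.mpr (Subgroup.le_centralizer_iff.mp hUD)).le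

variable (hG : IsMinSimpleOddOrder G)
include hG
variable (hpl : ∀ (p : ℕ) [Fact p.Prime] (H : Subgroup G), H ≠ ⊤ → PLengthLE p 1 H)
include hpl

/-- If `U ≠ 1` then `|K|` is prime. -/
theorem card_kappa_prime {M K U : Subgroup G} (hM : IsCoatom M) (h : IsSigmaDecomposition M K U) (hK1 : K ≠ ⊥)
    (hU1 : U ≠ ⊥) : (Nat.card K).Prime := by
  by_contra hnp
  obtain ⟨hE, hUp, -⟩ := decomp_facts hG hpl hM h
  obtain ⟨p, hp, hpK⟩ := Nat.exists_prime_and_dvd fun e => hK1 (Subgroup.eq_bot_of_card_eq _ e)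
  haveI := Fact.mk hp
  obtain ⟨z, hz⟩ := exists_prime_orderOf_dvd_card' p hpK
  set P := Subgroup.zpowers (z : G)
  have hP : Nat.card P = p := by rw [Nat.card_zpowers, Subgroup.orderOf_coe, hz]
  have hPK : P ≤ K := Subgroup.zpowers_le.mpr z.2
  have hlt : ¬ K ≤ P := fun hle => hnp (by rw [le_antisymm hle hPK, hP]; exact hp)
  haveI := decomp_abelian hG hpl hM h hK1
  obtain ⟨-, -, hfixP, -⟩ := kappa_hall_facts hG hpl hM h.hall hK1
  haveI : Group.IsSolvable P := Coprime.isSolvable_of_isPGroup (isPGroup_of_card_prime hP)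
  haveI : Group.IsSolvable U := Core.BG.isSolvable_proper hG fun e => hM.1 (top_le_iff.mp (e ▸ h.compl.1))
  haveI : Group.IsSolvable ↥(U ⊔ K) := Core.BG.isSolvable_proper hG fun e => hM.1 (top_le_iff.mp (e ▸ hE.1))
  have hcop : (Nat.card ↥(U ⊔ K)).Coprime (Nat.card (sigmaCore M)) := Nat.coprime_of_dvd fun q hq h1 h2 =>
    complIn_notMem_sigma hG hM hE hq h1 (mem_sigma_of_dvd hq h2)
  have hUC : sigmaCore M ≤ Subgroup.centralizer (U : Set G) := by
    refine Coprime.le_of_forall_invariant_sylow fun ℓ hℓ => ?_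
    haveI := Fact.mk hℓ
    obtain ⟨S, hSσ, hS, hSi, hES⟩ :=
      Coprime.exists_invariant_sylow (hE.1.trans (le_normalizer_sigmaCore M)) hcop ℓ
    refine ⟨S, hSσ, ?_, hSi⟩
    by_cases hS1 : S = ⊥
    · rw [hS1]; exact bot_le
    have hℓσ : ℓ ∈ sigma M := mem_sigma_of_dvd hℓ ((dvd_card_of_ne_bot hS hS1).trans (Subgroup.card_dvd_of_le hSσ))
    refine Subgroup.le_centralizer_iff.mp (le_centralizer_of_prime_action h.normal hPK hlt
      ((hℓ.coprime_iff_not_dvd.mpr fun hd => (hUp ℓ hℓ hd).1 hℓσ).symm)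
      ((hℓ.coprime_iff_not_dvd.mpr fun hd => ?_).symm)
      (fun g hg hg1 => decomp_regular hG hpl hM h hg hg1) S hS (le_sup_left.trans hES) (le_sup_right.trans hES)
      fun x hx hxP => ((hfixP p P hP hPK).le (Subgroup.mem_inf.mpr ⟨hSσ hx, hxP⟩)).2)
    exact (h.hall.2.1 ℓ hℓ (hd.trans (Subgroup.card_dvd_of_le hPK))).2.2.1 hℓσ
  obtain ⟨u, hu, hu1⟩ := U.bot_or_exists_ne_one.resolve_left hU1
  obtain ⟨q, hq, hd⟩ := Nat.exists_prime_and_dvd (show orderOf u ≠ 1 by rwa [ne_eq, orderOf_eq_one_iff])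
  haveI := Fact.mk hq
  obtain ⟨y, hy, hy1⟩ := (sigmaCore M).bot_or_exists_ne_one.resolve_left (sigmaCore_ne_bot hG hM)
  obtain ⟨hqσ, hqκ⟩ := hUp q hq (hd.trans (Subgroup.orderOf_dvd_natCard U hu))
  have hqτ : q ∈ tau2 M := (fixed_elt_classes hG hpl hM (h.compl.1 hu) hy hy1
    (Subgroup.mem_centralizer_iff.mp (hUC hy) u hu) hq hd hqσ).resolve_left hqκ
  obtain ⟨A, hAE, hAe, hA2⟩ := exists_ea_le_compl hG hE hqτ
  obtain ⟨A0, hexc⟩ := exists_exc hG hpl hM hqσ (hAE.trans hE.1) hAe hA2
  have hAU : A ≤ U := fun a ha => by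
    obtain ⟨a', ha', b, hb, rfl⟩ := Coprime.exists_mul_of_mem_sup h.normal (hAE ha)
    suffices hb1 : b = 1 by rw [hb1, mul_one]; exact ha'
    haveI : (U.subgroupOf (U ⊔ K)).Normal :=
      Subgroup.normal_subgroupOf_of_le_normalizer (sup_le Subgroup.le_normalizer h.normal)
    set φ := QuotientGroup.mk' (U.subgroupOf (U ⊔ K))
    have hφ : φ ⟨a' * b, hAE ha⟩ = φ ⟨b, Subgroup.mem_sup_right hb⟩ := by
      rw [show (⟨a' * b, hAE ha⟩ : ↥(U ⊔ K)) = ⟨a', Subgroup.mem_sup_left ha'⟩ * ⟨b, Subgroup.mem_sup_right hb⟩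
        from rfl, map_mul, show φ ⟨a', Subgroup.mem_sup_left ha'⟩ = 1 from (QuotientGroup.eq_one_iff _).mpr ha',
        one_mul]
    have hbk : b ^ q ∈ U := by
      have h1 : φ ⟨b, Subgroup.mem_sup_right hb⟩ ^ q = 1 := by
        rw [← hφ, ← map_pow, show (⟨a' * b, hAE ha⟩ : ↥(U ⊔ K)) ^ q = 1 from Subtype.ext (hAe.2 _ ha), map_one]
      rw [← map_pow] at h1
      exact Subgroup.mem_subgroupOf.mp ((QuotientGroup.eq_one_iff _).mp h1)
    have h2 : b ^ q = 1 := Subgroup.mem_bot.mp (((decomp_facts hG hpl hM h).2.2).le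
      (Subgroup.mem_inf.mpr ⟨pow_mem hb _, hbk⟩))
    by_contra hb1
    exact hqτ.2.2.2 (kappa_subset_tau1 hG hpl hM (h.hall.2.1 q hq
      (orderOf_eq_prime h2 hb1 ▸ Subgroup.orderOf_dvd_natCard K hb))).2.2.2.2
  refine hy1 (Subgroup.mem_bot.mp ?_)
  rw [← hexc.inf_centralizer_eq_bot hG hpl]
  exact ⟨hy, Subgroup.centralizer_le hAU (hUC hy)⟩

end Cfsg.Agent.OddLocal.Sigma
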