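import Cfsg.Agent.OddLocal.Sigma.SigmaCentral

/-! A common Sylow subgroup of two non-conjugate maximal subgroups (toward BG 13.4, 13.9). -/

set_option autoImplicit false
set_option linter.style.haveILetI false
set_option linter.unusedSectionVars false

namespace Cfsg.Agent.OddLocal.Sigma

open Cfsg
open scoped commutatorElement

variable {G : Type*} [Group G] [Finite G] (hG : IsMinSimpleOddOrder G)
  (hpl : ∀ (p : ℕ) [Fact p.Prime] (H : Subgroup G), H ≠ ⊤ → PLengthLE p 1 H)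
include hG hpl

/-- A Sylow subgroup of `G` is generated by its commutators with its normalizer. -/
theorem sylow_le_commutator_normalizer {q : ℕ} [hq : Fact q.Prime] (T : Sylow q G) :
    (T : Subgroup G) ≤ ⁅(T : Subgroup G), Subgroup.normalizer ((T : Subgroup G) : Set G)⁆ := by
  set N := Subgroup.normalizer ((T : Subgroup G) : Set G)
  haveI : ((T : Subgroup G).subgroupOf N).Normal := Subgroup.normal_subgroupOf_of_le_normalizer le_rfl
  have hidx : ¬ q ∣ ((T : Subgroup G).subgroupOf N).index := fun hd => T.not_dvd_index (hd.trans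
    ⟨_, (Subgroup.relIndex_mul_index (Subgroup.le_normalizer : (T : Subgroup G) ≤ N)).symm⟩)
  have hcop : (Nat.card ((T : Subgroup G).subgroupOf N)).Coprime ((T : Subgroup G).subgroupOf N).index := by
    obtain ⟨k, hk⟩ := IsPGroup.iff_card.mp T.isPGroup'
    rw [Core.card_subgroupOf Subgroup.le_normalizer, hk]
    exact ((hq.out.coprime_iff_not_dvd).mpr hidx).pow_left k
  obtain ⟨V', hV'⟩ := Subgroup.exists_right_complement'_of_coprime hcop
  set V := V'.map N.subtype
  have hV : IsComplIn (T : Subgroup G) V N := by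
    refine ⟨Subgroup.le_normalizer, Subgroup.map_subtype_le _, ?_, fun n hn => ?_⟩
    · rw [eq_bot_iff]
      rintro _ ⟨hx, y, hy, rfl⟩
      exact Subgroup.mem_bot.mpr (congrArg Subtype.val
        (Subgroup.mem_bot.mp (hV'.disjoint.le_bot ⟨Subgroup.mem_subgroupOf.mpr hx, hy⟩)))
    · obtain ⟨⟨a, b⟩, hab, -⟩ := hV'.existsUnique ⟨n, hn⟩
      exact ⟨(a : N), Subgroup.mem_subgroupOf.mp a.2, (b : N), ⟨b, b.2, rfl⟩, (congrArg Subtype.val hab).symm⟩
  exact (sylow_eq_commutator hG hpl T V hV).1.le.trans (Subgroup.commutator_mono le_rfl hV.2.1)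

variable {M H : Subgroup G} (hM : IsCoatom M) (hH : IsCoatom H) (hnc : ∀ g : G, H ≠ cj g M) {q : ℕ}
  [hq : Fact q.Prime] (hqM : q ∈ sigma M) (hqH : q ∈ sigma H) (T : Sylow q G)
  (hTM : (T : Subgroup G) ≤ M) (hTH : (T : Subgroup G) ≤ H)
include hM hH hnc hqM hqH hTM hTH

/-- A common Sylow subgroup is abelian, and its normalizer is in both. -/
theorem shared_sylow : IsMulCommutative (T : Subgroup G) ∧ (T : Subgroup G) ≠ ⊥ ∧
    Subgroup.normalizer ((T : Subgroup G) : Set G) ≤ M ⊓ H := by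
  refine ⟨?_, fun e => ?_, le_inf (normalizer_sylow_le' hG hqM T hTM) (normalizer_sylow_le' hG hqH T hTH)⟩
  · by_contra hna
    exact hnc 1 (by
      rw [cj_one]
      exact (inUniqueMaximal_of_nonabelian hG hpl T.isPGroup' hna).unique ⟨hH, hTH⟩ ⟨hM, hTM⟩)
  · refine T.not_dvd_index ?_
    rw [e, Subgroup.index_bot]
    exact sigma_dvd hqM

/-- A prime acting non-trivially on the common Sylow subgroup is in `τ₁(M) ∩ τ₁(H)`. -/
theorem mem_tau1_of_mover {s : ℕ} [hs : Fact s.Prime] {Q : Subgroup G} (hQ : IsPGroup s Q)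
    (hQN : Q ≤ Subgroup.normalizer ((T : Subgroup G) : Set G))
    (hQC : ¬ Q ≤ Subgroup.centralizer ((T : Subgroup G) : Set G)) :
    s ∈ tau1 M ∩ tau1 H ∧ s ≠ q := by
  obtain ⟨hab, -, hN⟩ := shared_sylow hG hpl hM hH hnc hqM hqH T hTM hTH
  have hsq : s ≠ q := fun e => by
    subst e
    refine hQC fun x hx => ?_
    have h1 : IsPGroup s ↥((T : Subgroup G) ⊔ Q) := IsPGroup.to_sup_of_normal_left' T.isPGroup' hQ hQN
    have h2 : Q ≤ (T : Subgroup G) := le_sup_right.trans (T.3 h1 le_sup_left).le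
    exact (Subgroup.le_centralizer_iff_isMulCommutative.mpr hab) (h2 hx)
  have hnc' : ∀ g : G, M ≠ cj g H := fun g e => hnc g⁻¹ (by rw [e, ← cj_mul, inv_mul_cancel, cj_one])
  have key : ∀ {M' H' : Subgroup G}, IsCoatom M' → IsCoatom H' → (∀ g : G, H' ≠ cj g M') → q ∈ sigma M' →
      q ∈ sigma H' → (T : Subgroup G) ≤ M' → (T : Subgroup G) ≤ H' → Q ≤ M' ⊓ H' → s ∉ sigma M' := by
    intro M' H' hM' hH' hnc'' hqM' hqH' hTM' hTH' hQI hσ
    refine hQC (Subgroup.le_centralizer_iff.mp (Subgroup.commutator_eq_bot_iff_le_centralizer.mp ?_))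
    have hTd : (T : Subgroup G) ≤ ⁅M', M'⁆ := (le_sigmaCore hG hM' hTM' (mem_of_pGroup T.isPGroup' hqM')).trans
      (sigmaCore_le_derived hG hM')
    have hQd : Q ≤ ⁅M', M'⁆ := le_derived_of_pGroup hG hM' (Or.inl hσ) hQ (hQI.trans inf_le_left)
    have h1 := commutator_le_betaCore hG hpl hM' hTd (not_dvd_of_pGroup hsq T.isPGroup') hQd hQ
    have h2 : ⁅(T : Subgroup G), Q⁆ ≤ (T : Subgroup G) := Coprime.commutator_le_of_le_normalizer hQN
    refine Subgroup.card_eq_one.mp (Nat.eq_one_iff_not_exists_prime_dvd.mpr fun r hr hd => ?_)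
    have hrq : r = q := mem_of_pGroup (π := {r | r = q}) T.isPGroup' rfl r hr
      (hd.trans (Subgroup.card_dvd_of_le h2))
    subst hrq
    exact notMem_beta_of_sigma hG hpl hH' hM' (fun g e => hnc'' g⁻¹ (by rw [e, ← cj_mul, inv_mul_cancel, cj_one]))
      hqH' (Core.BG.isPiNat_piCoreOf (beta M') M' r hr (hd.trans (Subgroup.card_dvd_of_le h1)))
  have hσM := key hM hH hnc hqM hqH hTM hTH (hQN.trans hN)
  have hσH := key hH hM hnc' hqH hqM hTH hTM ((hQN.trans hN).trans (inf_comm _ _).le)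
  refine ⟨⟨?_, ?_⟩, hsq⟩
  · by_contra hτ
    refine hQC (Subgroup.le_centralizer_iff.mp ?_)
    refine le_trans (le_inf (le_sigmaCore hG hH hTH (mem_of_pGroup T.isPGroup' hqH)) hTM) ?_
    exact Subgroup.le_centralizer_iff.mp (le_centralizer_sigmaCore_inf hG hpl hH hM hnc' hσH hτ hQ
      ((hQN.trans hN).trans (inf_comm _ _).le))
  · by_contra hτ
    refine hQC (Subgroup.le_centralizer_iff.mp ?_)
    refine le_trans (le_inf (le_sigmaCore hG hM hTM (mem_of_pGroup T.isPGroup' hqM)) hTH) ?_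
    exact Subgroup.le_centralizer_iff.mp (le_centralizer_sigmaCore_inf hG hpl hM hH hnc hσM hτ hQ (hQN.trans hN))

/-- An abelian `τ₁(M) ∩ τ₁(H)`-group carries all the action on the common Sylow subgroup. -/
theorem exists_tau1_generators {N₀ : Subgroup G} (hN₀ : N₀ ≤ Subgroup.normalizer ((T : Subgroup G) : Set G))
    (hgen : (T : Subgroup G) ≤ ⁅(T : Subgroup G), N₀⁆) :
    ∃ V : Subgroup G, V ≤ N₀ ∧ IsMulCommutative V ∧
      (∀ s : ℕ, s.Prime → s ∣ Nat.card V → s ∈ tau1 M ∩ tau1 H ∧ s ≠ q) ∧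
      (T : Subgroup G) ≤ ⁅(T : Subgroup G), V⁆ := by
  obtain ⟨hab, hT1, hN⟩ := shared_sylow hG hpl hM hH hnc hqM hqH T hTM hTH
  have hN₀M : N₀ ≤ M := hN₀.trans (hN.trans inf_le_left)
  haveI : Group.IsSolvable N₀ := Core.BG.isSolvable_proper hG fun e => hM.1 (top_le_iff.mp (e ▸ hN₀M))
  obtain ⟨V', hV'⟩ := Core.exists_isPiHall_of_isSolvable (G := N₀) {s | s ∈ tau1 M ∩ tau1 H ∧ s ≠ q}
  set V := V'.map N₀.subtype
  have hVN : V ≤ N₀ := Subgroup.map_subtype_le _
  have hVπ : ∀ s : ℕ, s.Prime → s ∣ Nat.card V → s ∈ tau1 M ∩ tau1 H ∧ s ≠ q := fun s hs hd =>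
    hV'.1 s hs (by rwa [Core.card_map_subtype] at hd)
  have hVab : IsMulCommutative V := by
    refine Subgroup.le_centralizer_iff_isMulCommutative.mp (Subgroup.commutator_eq_bot_iff_le_centralizer.mp
      (Subgroup.card_eq_one.mp (Nat.eq_one_iff_not_exists_prime_dvd.mpr fun s hs hd => ?_)))
    have hVV : ⁅V, V⁆ ≤ V := Subgroup.commutator_le.mpr fun a ha b hb =>
      mul_mem (mul_mem (mul_mem ha hb) (inv_mem ha)) (inv_mem hb)
    exact (hVπ s hs (hd.trans (Subgroup.card_dvd_of_le hVV))).1.1.2.2.2.1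
      (hd.trans (Subgroup.card_dvd_of_le (Subgroup.commutator_mono (hVN.trans hN₀M) (hVN.trans hN₀M))))
  refine ⟨V, hVN, hVab, hVπ, ?_⟩
  set C := N₀ ⊓ Subgroup.centralizer ((T : Subgroup G) : Set G)
  have hle : N₀ ≤ C ⊔ V := by
    refine Core.le_of_forall_exists_sylow_le fun s hs => ?_
    haveI := Fact.mk hs
    by_cases hπ : s ∈ tau1 M ∩ tau1 H ∧ s ≠ q
    · obtain ⟨Q⟩ := (inferInstance : Nonempty (Sylow s V'))
      set Q' := (Q : Subgroup V').map V'.subtype
      have hQ'i : ¬ s ∣ Q'.index := fun hd => by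
        rw [← Subgroup.relIndex_mul_index (Subgroup.map_subtype_le (Q : Subgroup V'))] at hd
        rcases hs.dvd_mul.mp hd with h | h
        · refine Q.not_dvd_index ?_
          rwa [Subgroup.relIndex, Subgroup.subgroupOf,
            Subgroup.comap_map_eq_self_of_injective V'.subtype_injective] at h
        · exact hV'.2 s hs hπ h
      refine ⟨(Q.isPGroup'.map V'.subtype).toSylow hQ'i, ?_⟩
      exact (Subgroup.map_mono (Subgroup.map_subtype_le _)).trans le_sup_right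
    · obtain ⟨Q⟩ := (inferInstance : Nonempty (Sylow s N₀))
      refine ⟨Q, le_sup_of_le_left (le_inf (Subgroup.map_subtype_le _) ?_)⟩
      by_contra hQC
      exact hπ (mem_tau1_of_mover hG hpl hM hH hnc hqM hqH T hTM hTH (Q.isPGroup'.map N₀.subtype)
        ((Subgroup.map_subtype_le _).trans hN₀) hQC)
  refine hgen.trans (Subgroup.commutator_le.mpr fun t ht n hn => ?_)
  have hVC : V ≤ Subgroup.normalizer (C : Set G) := fun v hv => Coprime.mem_normalizer_of_conj_mem fun c hc =>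
    ⟨N₀.mul_mem (N₀.mul_mem (hVN hv) hc.1) (N₀.inv_mem (hVN hv)),
      conj_mem_centralizer (hN₀ (hVN hv)) hc.2⟩
  obtain ⟨c, hc, v, hv, rfl⟩ := Coprime.exists_mul_of_mem_sup hVC (hle hn)
  have h1 : c * t * c⁻¹ = t := by
    rw [← Subgroup.mem_centralizer_iff.mp hc.2 t ht, mul_inv_cancel_right]
  have hz : ⁅t, v⁆ ∈ (T : Subgroup G) := Coprime.commutator_le_of_le_normalizer (hVN.trans hN₀)
    (Subgroup.commutator_mem_commutator ht hv)
  have h2 : c * ⁅t, v⁆ * c⁻¹ = ⁅t, v⁆ := by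
    rw [← Subgroup.mem_centralizer_iff.mp hc.2 _ hz, mul_inv_cancel_right]
  have h3 : ⁅t, c⁆ = 1 := by
    rw [commutatorElement_eq_one_iff_mul_comm]
    exact Subgroup.mem_centralizer_iff.mp hc.2 t ht
  rw [show ⁅t, c * v⁆ = ⁅t, c⁆ * (c * ⁅t, v⁆ * c⁻¹) by simp only [commutatorElement_def]; group, h2, h3, one_mul]
  exact Subgroup.commutator_mem_commutator ht hv

end Cfsg.Agent.OddLocal.Sigma
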