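import Cfsg.Agent.OddLocal.Sigma.SigmaNormalizer

/-! `σ(M)'`-groups centralize `M_σ ∩ H` (BG 13.1–13.3). -/

set_option autoImplicit false
set_option linter.style.haveILetI false
set_option linter.unusedSectionVars false

namespace Cfsg.Agent.OddLocal.Sigma

open Cfsg
open scoped commutatorElement

variable {G : Type*} [Group G] [Finite G] (hG : IsMinSimpleOddOrder G)
include hG

/-- A cyclic Sylow subgroup of `E` gives `p ∈ τ₁(M) ∪ τ₃(M)`. -/
theorem mem_tau13_of_cyclic {M E : Subgroup G} (hM : IsCoatom M) (hE : IsComplIn E (sigmaCore M) M) {p : ℕ}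
    [hp : Fact p.Prime] {S : Subgroup G} (hS : IsPGroup p S) (hSE : S ≤ E) (hS1 : S ≠ ⊥) (hSi : ¬ p ∣ S.relIndex E)
    (hSc : IsCyclic S) : p ∈ tau1 M ∪ tau3 M := by
  have hd : p ∣ Nat.card E := by
    obtain ⟨k, hk⟩ := IsPGroup.iff_card.mp hS
    refine dvd_trans ?_ (Subgroup.card_dvd_of_le hSE)
    rw [hk]
    exact dvd_pow_self p fun e => hS1 (Subgroup.eq_bot_of_card_eq _ (by rw [hk, e, pow_zero]))
  have hσ := complIn_notMem_sigma hG hM hE hp.out hd
  have hSiM : ¬ p ∣ S.relIndex M := fun h => by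
    rw [← Subgroup.relIndex_mul_relIndex S E M hSE hE.1] at h
    rcases hp.out.dvd_mul.mp h with h1 | h1
    · exact hSi h1
    · exact hσ (complIn_index_isPiNat hG hE p hp.out h1)
  have hr : PRankLE p 1 M := fun A hAc hAe => by
    have hA : IsElementaryAbelian p (A.map M.subtype) := PLocal.isEA_map ⟨hAc, hAe⟩ M.subtype
    obtain ⟨m, -, hm⟩ := exists_cj_le_of_not_dvd_relIndex (hSE.trans hE.1) hS hSiM (Subgroup.map_subtype_le A)
      (Components.ea_isPGroup hA)
    haveI := hSc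
    haveI : IsCyclic (cj m (A.map M.subtype)) := isCyclic_of_injective (Subgroup.inclusion hm)
      (Subgroup.inclusion_injective hm)
    have hA' : IsElementaryAbelian p (cj m (A.map M.subtype)) := PLocal.isEA_map hA _
    have h1 : Nat.card (cj m (A.map M.subtype)) ∣ p := by
      rw [← IsCyclic.exponent_eq_card]
      exact Monoid.exponent_dvd_of_forall_pow_eq_one fun b => Subtype.ext (hA'.2 b b.2)
    rw [card_cj, Core.card_map_subtype] at h1
    rw [pow_one]
    exact Nat.le_of_dvd hp.out.pos h1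
  by_cases hD : p ∣ Nat.card ↥⁅M, M⁆
  · exact Or.inr ⟨hp.out, hσ, hD, hr⟩
  · exact Or.inl ⟨hp.out, hσ, hd.trans (Subgroup.card_dvd_of_le hE.1), hD, hr⟩

/-- A `p`-subgroup lies in the derived group for `p ∈ σ(H)`, and for `p ∈ τ₃(H)`. -/
theorem le_derived_of_pGroup {H : Subgroup G} (hH : IsCoatom H) {p : ℕ} [hp : Fact p.Prime]
    (h : p ∈ sigma H ∨ p ∈ tau3 H) {P : Subgroup G} (hP : IsPGroup p P) (hPH : P ≤ H) : P ≤ ⁅H, H⁆ := by
  haveI := Core.BG.isSolvable_proper hG hH.1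
  obtain ⟨Q, hQ⟩ := exists_sylow_map_ge hP hPH
  refine hQ.trans ?_
  rw [← H.map_subtype_commutator]
  refine Subgroup.map_mono ?_
  rcases h with h | ⟨-, -, hd, hr⟩
  · exact sylow_le_commutator hG hH h Q
  · haveI : IsCyclic Q := sylow_isCyclic_of_rankOne hG hr le_rfl Q
    have hidx : ¬ p ∣ (commutator H).index := by
      refine (Sylow.not_dvd_card_commutator_or_not_dvd_index_commutator Q).resolve_left fun h => h ?_
      rwa [← Core.card_map_subtype, H.map_subtype_commutator]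
    refine Core.le_of_coprime_index ?_
    obtain ⟨k, hk⟩ := IsPGroup.iff_card.mp Q.isPGroup'
    rw [hk]
    exact (hp.out.coprime_iff_not_dvd.mpr hidx).pow_left k

/-- A prime of `|H|` is in `σ(H)`, `τ₁(H)`, `τ₂(H)` or `τ₃(H)`. -/
theorem mem_classes {H : Subgroup G} (hH : IsCoatom H) {p : ℕ} (hp : p.Prime) (hd : p ∣ Nat.card H) :
    p ∈ sigma H ∨ p ∈ tau1 H ∨ p ∈ tau2 H ∨ p ∈ tau3 H := by
  by_cases hσ : p ∈ sigma H
  · exact Or.inl hσ
  by_cases hr : PRankLE p 1 H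
  · by_cases hD : p ∣ Nat.card ↥⁅H, H⁆
    · exact Or.inr (Or.inr (Or.inr ⟨hp, hσ, hD, hr⟩))
    · exact Or.inr (Or.inl ⟨hp, hσ, hd, hD, hr⟩)
  · exact Or.inr (Or.inr (Or.inl ⟨hp, hσ, pRankLE_two_of_notMem_sigma hG hH hp hσ, hr⟩))

variable (hpl : ∀ (p : ℕ) [Fact p.Prime] (H : Subgroup G), H ≠ ⊤ → PLengthLE p 1 H)
include hpl

/-- In `H'` elements of coprime orders commute modulo `H_β`. -/
theorem commutator_le_betaCore {H U V : Subgroup G} (hH : IsCoatom H) {p : ℕ} [hp : Fact p.Prime]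
    (hU : U ≤ ⁅H, H⁆) (hUp : ¬ p ∣ Nat.card U) (hV : V ≤ ⁅H, H⁆) (hVp : IsPGroup p V) :
    ⁅U, V⁆ ≤ piCoreOf (beta H) H := by
  set D := commutator H
  let I := {r : Nat.Primes // (r : ℕ) ∉ beta H}
  set N : Subgroup H := D ⊓ ⨅ r : I, (pPrimeCore (r.1 : ℕ) D).map D.subtype with hN
  haveI : ∀ r : I, ((pPrimeCore (r.1 : ℕ) D).map D.subtype).Normal := fun r =>
    Core.normal_map_subtype_of_characteristic _
  haveI : (⨅ r : I, (pPrimeCore (r.1 : ℕ) D).map D.subtype).Normal := Subgroup.normal_iInf_normal inferInstance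
  haveI : N.Normal := inferInstance
  have hle : N ≤ piCore (beta H) H := Core.le_piCore inferInstance fun r hr hd => by
    by_contra hrβ
    have h1 : N ≤ (pPrimeCore r D).map D.subtype := inf_le_right.trans (iInf_le _ (⟨⟨r, hr⟩, hrβ⟩ : I))
    have h2 := hd.trans (Subgroup.card_dvd_of_le h1)
    rw [Core.card_map_subtype] at h2
    exact hr.one_lt.ne' (Nat.eq_one_of_dvd_coprimes (Core.card_pPrimeCore_coprime r D) h2 dvd_rfl)
  refine Subgroup.commutator_le.mpr fun u hu v hv => ?_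
  obtain ⟨u', hu', hue⟩ := (H.map_subtype_commutator).ge (hU hu)
  obtain ⟨v', hv', hve⟩ := (H.map_subtype_commutator).ge (hV hv)
  refine ⟨⁅u', v'⁆, hle ⟨?_, ?_⟩, by rw [map_commutatorElement, hue, hve]⟩
  · exact D.mul_mem (D.mul_mem (D.mul_mem hu' hv') (D.inv_mem hu')) (D.inv_mem hv')
  refine Subgroup.mem_iInf.mpr fun r => ⟨⁅(⟨u', hu'⟩ : D), ⟨v', hv'⟩⁆, ?_, rfl⟩
  haveI := Fact.mk r.1.2
  have hres : pResidual (r.1 : ℕ) D ≤ pPrimeCore (r.1 : ℕ) D := Core.le_pPrimeCore inferInstance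
    (Transfer.hasNormalPComplement_iff_coprime_pResidual.mp (commutator_npc hG hpl hH r.2))
  have hKn : (pPrimeCore (r.1 : ℕ) D).Normal := inferInstance
  have hord : ∀ (w : D), orderOf w = orderOf ((w : H) : G) := fun w => by
    rw [Subgroup.orderOf_coe, Subgroup.orderOf_coe]
  by_cases hrp : (r.1 : ℕ) = p
  · have h1 : (⟨u', hu'⟩ : D) ∈ pPrimeCore (r.1 : ℕ) D := hres (Transfer.mem_pResidual_of_coprime (by
      rw [hord, hrp]
      refine (hp.out.coprime_iff_not_dvd.mpr fun hd => hUp ?_).symm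
      exact hd.trans (by rw [show ((u' : H) : G) = u from hue]; exact Subgroup.orderOf_dvd_natCard U hu)))
    rw [commutatorElement_def, mul_assoc, mul_assoc, ← mul_assoc (⟨v', hv'⟩ : D)]
    exact mul_mem h1 (hKn.conj_mem _ (inv_mem h1) _)
  · have h1 : (⟨v', hv'⟩ : D) ∈ pPrimeCore (r.1 : ℕ) D := hres (Transfer.mem_pResidual_of_coprime (by
      rw [hord, show ((v' : H) : G) = v from hve]
      obtain ⟨j, hj⟩ := hVp ⟨v, hv⟩
      refine Nat.Coprime.coprime_dvd_left (orderOf_dvd_of_pow_eq_one (congrArg Subtype.val hj)) ?_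
      exact ((Nat.coprime_primes hp.out r.1.2).mpr (Ne.symm hrp)).pow_left j))
    rw [commutatorElement_def]
    exact mul_mem (hKn.conj_mem _ h1 _) (inv_mem h1)

/-- `H = H_β N_H(T)` for a Sylow `r`-subgroup `T` of `H'`. -/
theorem le_betaCore_sup_normalizer_derived {H T : Subgroup G} (hH : IsCoatom H) {r : ℕ} [hr : Fact r.Prime]
    (hT : IsPGroup r T) (hTD : T ≤ ⁅H, H⁆) (hTi : ¬ r ∣ T.relIndex ⁅H, H⁆) :
    H ≤ piCoreOf (beta H) H ⊔ (H ⊓ Subgroup.normalizer (T : Set G)) := by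
  set D := commutator H
  let I := {s : Nat.Primes // (s : ℕ) ∉ insert r (beta H)}
  set N : Subgroup H := D ⊓ ⨅ s : I, (pPrimeCore (s.1 : ℕ) D).map D.subtype with hN
  haveI : ∀ s : I, ((pPrimeCore (s.1 : ℕ) D).map D.subtype).Normal := fun s =>
    Core.normal_map_subtype_of_characteristic _
  haveI : (⨅ s : I, (pPrimeCore (s.1 : ℕ) D).map D.subtype).Normal := Subgroup.normal_iInf_normal inferInstance
  haveI : N.Normal := inferInstance
  have hNπ : Core.IsPiNat (insert r (beta H)) (Nat.card N) := fun s hs hd => by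
    by_contra hsβ
    have h1 : N ≤ (pPrimeCore s D).map D.subtype := inf_le_right.trans (iInf_le _ (⟨⟨s, hs⟩, hsβ⟩ : I))
    have h2 := hd.trans (Subgroup.card_dvd_of_le h1)
    rw [Core.card_map_subtype] at h2
    exact hs.one_lt.ne' (Nat.eq_one_of_dvd_coprimes (Core.card_pPrimeCore_coprime s D) h2 dvd_rfl)
  have hDH : ⁅H, H⁆ ≤ H := Subgroup.commutator_le.mpr fun a ha b hb =>
    mul_mem (mul_mem (mul_mem ha hb) (inv_mem ha)) (inv_mem hb)
  set T' := T.subgroupOf H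
  have hT'D : T' ≤ D := fun x hx => by
    obtain ⟨y, hy, e⟩ := (H.map_subtype_commutator).ge (hTD (Subgroup.mem_subgroupOf.mp hx))
    rwa [← show y = x from Subtype.ext e]
  have hT'N : T' ≤ N := le_inf hT'D (le_iInf fun s => fun x hx => by
    haveI := Fact.mk s.1.2
    refine ⟨⟨x, hT'D hx⟩, ?_, rfl⟩
    have hsβ : (s.1 : ℕ) ∉ beta H := fun h => s.2 (Set.mem_insert_of_mem _ h)
    refine Core.le_pPrimeCore inferInstance
      (Transfer.hasNormalPComplement_iff_coprime_pResidual.mp (commutator_npc hG hpl hH hsβ))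
      (Transfer.mem_pResidual_of_coprime ?_)
    rw [Subgroup.orderOf_mk]
    obtain ⟨j, hj⟩ := (hT.comap_subtype : IsPGroup r T') ⟨x, hx⟩
    refine Nat.Coprime.coprime_dvd_left (orderOf_dvd_of_pow_eq_one (congrArg Subtype.val hj)) ?_
    exact ((Nat.coprime_primes hr.out s.1.2).mpr fun e => s.2 (Set.mem_insert_iff.mpr (Or.inl e.symm))).pow_left j)
  have hTiN : ¬ r ∣ T'.relIndex N := fun hd => hTi (by
    rw [← Subgroup.relIndex_map_map_of_injective T' N H.subtype_injective,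
      Subgroup.map_subgroupOf_eq_of_le (hTD.trans hDH)] at hd
    refine hd.trans ⟨_, (Subgroup.relIndex_mul_relIndex T (N.map H.subtype) ⁅H, H⁆ ?_ ?_).symm⟩
    · exact (Subgroup.map_subgroupOf_eq_of_le (hTD.trans hDH)).ge.trans (Subgroup.map_mono hT'N)
    · rw [← H.map_subtype_commutator]
      exact Subgroup.map_mono inf_le_left)
  set T'' : Sylow r N := ((hT.comap_subtype : IsPGroup r T').comap_subtype :
    IsPGroup r (T'.subgroupOf N)).toSylow hTiN
  have hT''map : (T'' : Subgroup N).map N.subtype = T' := Subgroup.map_subgroupOf_eq_of_le hT'N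
  set Nb := piCore (beta H) H
  have hNle : N ≤ Nb ⊔ T' := Core.le_of_forall_exists_sylow_le fun q hq => by
    haveI := Fact.mk hq
    by_cases hqr : q = r
    · subst hqr
      exact ⟨T'', hT''map.le.trans le_sup_right⟩
    · obtain ⟨Q⟩ := (inferInstance : Nonempty (Sylow q N))
      refine ⟨Q, le_sup_of_le_left ?_⟩
      by_cases hd : q ∣ Nat.card N
      · have hqβ : q ∈ beta H := (Set.mem_insert_iff.mp (hNπ q hq hd)).resolve_left hqr
        refine Core.le_of_coprime_index (Nat.coprime_of_dvd fun s hs h1 h2 => ?_)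
        have hsq : s = q := mem_of_pGroup (G := H) (Q.isPGroup'.map N.subtype) (π := {s | s = q}) rfl s hs h1
        exact (betaCore_hall hG hpl hH).2 q hq hqβ (hsq ▸ h2)
      · rw [show (Q : Subgroup N) = ⊥ from Subgroup.card_eq_one.mp (by
          rw [Q.card_eq_multiplicity, Nat.factorization_eq_zero_of_not_dvd hd, pow_zero]), Subgroup.map_bot]
        exact bot_le
  have htop : Nb ⊔ Subgroup.normalizer (T' : Set H) = ⊤ := by
    have h1 := Sylow.normalizer_sup_eq_top T''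
    rw [hT''map] at h1
    exact top_le_iff.mp (h1.ge.trans (sup_le le_sup_right (hNle.trans (sup_le_sup_left Subgroup.le_normalizer _))))
  have h1 := congrArg (Subgroup.map H.subtype) htop
  rw [Subgroup.map_sup, ← MonoidHom.range_eq_map, Subgroup.range_subtype] at h1
  refine h1.ge.trans (sup_le_sup (le_of_eq rfl) (le_inf (Subgroup.map_subtype_le _) ?_))
  refine (Subgroup.le_normalizer_map H.subtype).trans ?_
  rw [Subgroup.map_subgroupOf_eq_of_le (hTD.trans hDH)]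

variable {M H : Subgroup G} (hM : IsCoatom M) (hH : IsCoatom H) {p : ℕ} [hp : Fact p.Prime]
include hM hH

/-- For `p ∈ τ₂(H)` the group `M_σ ∩ H ∩ H'` is trivial. -/
theorem inf_derived_eq_bot (hnc : ∀ g : G, H ≠ cj g M) (hpτ : p ∈ tau2 H) (hpM : p ∣ Nat.card M)
    (hpσ : p ∉ sigma M) : sigmaCore M ⊓ H ⊓ ⁅H, H⁆ = ⊥ := by
  by_contra hne
  obtain ⟨F, hF, -⟩ := exists_compl_ge hG hH (bot_le : (⊥ : Subgroup G) ≤ H) (fun q hq hd => by
    rw [Subgroup.card_bot] at hd; exact absurd hd hq.not_dvd_one)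
  obtain ⟨A, hAF, hAe, hAc⟩ := exists_ea_le_compl hG hF hpτ
  obtain ⟨A0, hexc⟩ := exists_exc hG hpl hH hpτ.2.1 (hAF.trans hF.1) hAe hAc
  haveI := hexc.isNilpotent hG hpl
  obtain ⟨r, hr, hd⟩ := Nat.exists_prime_and_dvd (fun e => hne (Subgroup.eq_bot_of_card_eq _ e))
  haveI := Fact.mk hr
  obtain ⟨x, hx⟩ := exists_prime_orderOf_dvd_card' r hd
  have hxσ : (x : G) ∈ sigmaCore M := x.2.1.1
  have hrM : r ∈ sigma M := mem_sigma_of_dvd hr (by
    rw [← hx, ← Subgroup.orderOf_coe]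
    exact Subgroup.orderOf_dvd_natCard _ hxσ)
  have hrH := notMem_sigma_of_nilpotent hG hM hH hnc hrM
  set R := Subgroup.zpowers (x : G)
  have hRr : Nat.card R = r := by rw [Nat.card_zpowers, Subgroup.orderOf_coe, hx]
  have hRp : IsPGroup r R := IsPGroup.of_card (by rw [hRr, pow_one])
  obtain ⟨m, hm, hmR⟩ := exists_cj_le_compl hG hH hF (Subgroup.zpowers_le.mpr x.2.1.2)
    (notMem_sigma_of_pGroup hRp hrH)
  set X := cj m R
  have hDH : ⁅H, H⁆ ≤ sigmaCore H ⊔ ⁅F, F⁆ := derived_le_sup hF.1 (sigmaCore_le H) (le_normalizer_sigmaCore H)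
    fun h hh => by
      obtain ⟨a, ha, b, hb, rfl⟩ := hF.2.2.2 h hh
      exact mul_mem (Subgroup.mem_sup_right ha) (Subgroup.mem_sup_left hb)
  have hXD : X ≤ ⁅F, F⁆ := fun y hy => by
    have hyH' : y ∈ ⁅H, H⁆ := by
      obtain ⟨z, hz, rfl⟩ := hy
      have hzH' : z ∈ ⁅H, H⁆ := (Subgroup.zpowers_le.mpr x.2.2) hz
      have hconj : m * z * m⁻¹ = ⁅m, z⁆ * z := by rw [commutatorElement_def]; group
      show m * z * m⁻¹ ∈ ⁅H, H⁆
      rw [hconj]
      exact mul_mem (Subgroup.commutator_mem_commutator hm ((Subgroup.zpowers_le.mpr x.2.1.2) hz)) hzH'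
    have hFF : ⁅F, F⁆ ≤ F := Subgroup.commutator_le.mpr fun a ha b hb =>
      mul_mem (mul_mem (mul_mem ha hb) (inv_mem ha)) (inv_mem hb)
    obtain ⟨s, hs, f, hf, e⟩ := Coprime.exists_mul_of_mem_sup
      ((hFF.trans hF.1).trans (le_normalizer_sigmaCore H)) (hDH hyH')
    have hs1 : s = 1 := Subgroup.mem_bot.mp (hF.2.2.1.le ⟨by
      rw [show s = y * f⁻¹ by rw [← e]; group]
      exact F.mul_mem (hmR hy) (F.inv_mem (hFF hf)), hs⟩)
    rwa [← e, hs1, one_mul]
  have hrp : r ≠ p := fun e => hpσ (e ▸ hrM)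
  have hNA : F ≤ Subgroup.normalizer (A : Set G) := hexc.le_normalizer_of_compl hG hpl hF hAF
  have hAX : A ≤ Subgroup.normalizer (X : Set G) := by
    refine le_trans ?_ (Subgroup.centralizer_le_normalizer (X : Set G))
    refine Subgroup.le_centralizer_iff.mp fun y hy => ?_
    refine mem_centralizer_of_mem_derived_normalizer hG hexc.maxEA.isPGroup hexc.maxEA.ne_bot ?_
      (Subgroup.commutator_mono hNA hNA (hXD hy)) ?_
    · intro B hBc hBe
      calc Nat.card B ≤ Nat.card A := Subgroup.card_le_card_group B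
        _ = p ^ 2 := hAc
    · refine Nat.Coprime.coprime_dvd_left ((Subgroup.orderOf_dvd_natCard X hy).trans (by rw [card_cj, hRr])) ?_
      exact (Nat.coprime_primes hr hp.out).mpr hrp
  refine no_ea_normalizer hG hpl (isCoatom_cj hM m) hH (mem_sigma_cj hrM m) (hRp.map _)
    (fun e => ne_bot_of_card_prime (p := r) (X := X) (by rw [card_cj, hRr]) e)
    (cj_mono ((Subgroup.zpowers_le.mpr hxσ).trans (sigmaCore_le M))) (p := p)
    (by rwa [card_cj]) (fun h => hpσ (mem_sigma_of_cj hG h)) hexc.maxEA.not_ideal (hnc m)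
    (hmR.trans hF.1) hAe hAc (hAF.trans hF.1) hAX

/-- A `p`-subgroup of `M ∩ H` centralizes `M_σ ∩ H` for `p ∉ σ(M) ∪ τ₁(H)`. -/
theorem le_centralizer_sigmaCore_inf (hnc : ∀ g : G, H ≠ cj g M) (hpσ : p ∉ sigma M) (hpτ : p ∉ tau1 H)
    {P : Subgroup G} (hP : IsPGroup p P) (hPI : P ≤ M ⊓ H) :
    P ≤ Subgroup.centralizer ((sigmaCore M ⊓ H : Subgroup G) : Set G) := by
  by_cases hP1 : P = ⊥
  · rw [hP1]; exact bot_le
  obtain ⟨k, hk⟩ := IsPGroup.iff_card.mp hP
  have hpP : p ∣ Nat.card P := hk ▸ dvd_pow_self p fun e => hP1 (Subgroup.eq_bot_of_card_eq _ (by rw [hk, e, pow_zero]))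
  have hPD : P ≤ Subgroup.normalizer ((sigmaCore M ⊓ H : Subgroup G) : Set G) := fun x hx =>
    Coprime.mem_normalizer_of_conj_mem fun y hy =>
      ⟨(Subgroup.mem_normalizer_iff.mp (le_normalizer_sigmaCore M (hPI hx).1) y).mp hy.1,
        H.mul_mem (H.mul_mem (hPI hx).2 hy.2) (H.inv_mem (hPI hx).2)⟩
  set D := sigmaCore M ⊓ H
  have h1D : ⁅D, P⁆ ≤ D := Coprime.commutator_le_of_le_normalizer hPD
  have h1H : ⁅D, P⁆ ≤ ⁅H, H⁆ := Subgroup.commutator_mono inf_le_right (hPI.trans inf_le_right)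
  rcases mem_classes hG hH hp.out (hpP.trans (Subgroup.card_dvd_of_le (hPI.trans inf_le_right))) with
    h | h | h | h
  rotate_left
  · exact absurd h hpτ
  · refine Subgroup.le_centralizer_iff.mp (Subgroup.commutator_eq_bot_iff_le_centralizer.mp (le_bot_iff.mp ?_))
    rw [← inf_derived_eq_bot hG hpl hM hH hnc h (hpP.trans (Subgroup.card_dvd_of_le (hPI.trans inf_le_left))) hpσ]
    exact le_inf h1D h1H
  all_goals
    have hPH' : P ≤ ⁅H, H⁆ := le_derived_of_pGroup hG hH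
      (by first | exact Or.inl h | exact Or.inr h) hP (hPI.trans inf_le_right)
    have hDσ : ∀ q : ℕ, q.Prime → q ∣ Nat.card D → q ∈ sigma M := fun q hq hd =>
      mem_sigma_of_dvd hq (hd.trans (Subgroup.card_dvd_of_le inf_le_left))
    haveI : Group.IsSolvable P := Coprime.isSolvable_of_isPGroup hP
    have hcop : (Nat.card P).Coprime (Nat.card D) := by
      rw [hk]
      exact (hp.out.coprime_iff_not_dvd.mpr fun hd => hpσ (hDσ p hp.out hd)).pow_left k
    have h2 : ⁅⁅D, P⁆, P⁆ ≤ piCoreOf (beta H) H := commutator_le_betaCore hG hpl hH h1H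
      (fun hd => hpσ (hDσ p hp.out (hd.trans (Subgroup.card_dvd_of_le h1D)))) hPH' hP
    have h3 : ⁅⁅D, P⁆, P⁆ = ⊥ := by
      refine Subgroup.card_eq_one.mp (Nat.eq_one_iff_not_exists_prime_dvd.mpr fun q hq hd => ?_)
      haveI := Fact.mk hq
      have hqM := hDσ q hq (hd.trans (Subgroup.card_dvd_of_le ((Subgroup.commutator_mono h1D le_rfl).trans h1D)))
      exact notMem_beta_of_sigma hG hpl hM hH hnc hqM
        (Core.BG.isPiNat_piCoreOf (beta H) H q hq (hd.trans (Subgroup.card_dvd_of_le h2)))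
    exact Subgroup.le_centralizer_iff.mp (Subgroup.commutator_eq_bot_iff_le_centralizer.mp
      (Coprime.commutator_eq_bot_of_commutator_commutator hPD hcop h3))

/-- `p ∈ τ₁(M) ∩ π(H) - τ₁(H)` is ideal once `M_σ ∩ H ∩ H' ≠ 1`. -/
theorem ideal_of_inf_derived (hnc : ∀ g : G, H ≠ cj g M) (hpt : p ∈ tau1 M) (hpτ : p ∉ tau1 H)
    (hpH : p ∣ Nat.card H) (hne : sigmaCore M ⊓ H ⊓ ⁅H, H⁆ ≠ ⊥) : IsIdealPrime p G := by
  by_contra hI
  obtain ⟨-, hpσ, hpM, hpD, -⟩ := hpt
  have hpH' : p ∣ Nat.card ↥⁅H, H⁆ := by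
    rcases mem_classes hG hH hp.out hpH with h | h | h | h
    · obtain ⟨x, hx⟩ := exists_prime_orderOf_dvd_card' p hpH
      have hx' : Nat.card (Subgroup.zpowers (x : G)) = p := by rw [Nat.card_zpowers, Subgroup.orderOf_coe, hx]
      refine hx'.symm.dvd.trans (Subgroup.card_dvd_of_le (le_derived_of_pGroup hG hH (Or.inl h)
        (IsPGroup.of_card (by rw [hx', pow_one])) (Subgroup.zpowers_le.mpr x.2)))
    · exact absurd h hpτ
    · exact absurd (inf_derived_eq_bot hG hpl hM hH hnc h hpM hpσ) hne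
    · exact h.2.2.1
  obtain ⟨r, hr, hd⟩ := Nat.exists_prime_and_dvd (fun e => hne (Subgroup.eq_bot_of_card_eq _ e))
  haveI := Fact.mk hr
  have hrM : r ∈ sigma M := mem_sigma_of_dvd hr (hd.trans (Subgroup.card_dvd_of_le (inf_le_left.trans inf_le_left)))
  obtain ⟨T₀⟩ := (inferInstance : Nonempty (Sylow r ↥⁅H, H⁆))
  set T := (T₀ : Subgroup ↥⁅H, H⁆).map ⁅H, H⁆.subtype with hTdef
  have hTD : T ≤ ⁅H, H⁆ := Subgroup.map_subtype_le _
  have hT : IsPGroup r T := T₀.isPGroup'.map _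
  have hTi : ¬ r ∣ T.relIndex ⁅H, H⁆ := by
    rw [hTdef, Subgroup.relIndex, Subgroup.subgroupOf,
      Subgroup.comap_map_eq_self_of_injective ⁅H, H⁆.subtype_injective]
    exact T₀.not_dvd_index
  have hT1 : T ≠ ⊥ := fun e => hTi (by
    rw [e, Subgroup.relIndex_bot_left]
    exact hd.trans (Subgroup.card_dvd_of_le inf_le_right))
  obtain ⟨g, hg⟩ := exists_cj_le hrM hT
  have hle := le_betaCore_sup_normalizer_derived hG hpl hH hT hTD hTi
  have hd2 : p ∣ Nat.card ↥⁅H ⊓ Subgroup.normalizer (T : Set G), H ⊓ Subgroup.normalizer (T : Set G)⁆ :=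
    dvd_of_le_piCoreOf_sup ((Subgroup.commutator_mono inf_le_left inf_le_left).trans
      (Subgroup.commutator_le.mpr fun a ha b hb => mul_mem (mul_mem (mul_mem ha hb) (inv_mem ha)) (inv_mem hb)))
      (derived_le_sup inf_le_left (Core.BG.piCoreOf_le _ _) (Core.BG.le_normalizer_piCoreOf _ _) hle)
      hp.out (fun hb => hI hb.2) hpH'
  exact not_dvd_derived_normalizer hG hpl (isCoatom_cj hM g) hH (mem_sigma_cj hrM g) hT hT1 hg
    (by rwa [card_cj]) (fun h => hpσ (mem_sigma_of_cj hG h)) hI (by rwa [card_derived_cj]) hd2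

omit hH in
/-- A maximal subgroup over `N(P)` for `P` of order `p ∈ τ₁(M) ∪ τ₃(M)`. -/
theorem normalizer_tau13 (hH : IsCoatom H) (hpt : p ∈ tau1 M ∪ tau3 M) {P : Subgroup G} (hP : Nat.card P = p)
    (hNP : Subgroup.normalizer (P : Set G) ≤ H) :
    (∀ g : G, H ≠ cj g M) ∧ (p ∈ sigma H ∨ p ∈ tau2 H) ∧ p ∉ tau1 H ∧ p ∣ Nat.card H := by
  have hr1 : PRankLE p 1 M := hpt.elim (fun h => h.2.2.2.2) fun h => h.2.2.2
  have hpσ : p ∉ sigma M := hpt.elim (fun h => h.2.1) fun h => h.2.1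
  have hpH : p ∣ Nat.card H := hP ▸ Subgroup.card_dvd_of_le (Subgroup.le_normalizer.trans hNP)
  have hnc : ∀ g : G, H ≠ cj g M := fun g e => by
    have hσH : p ∉ sigma H := fun h => hpσ (mem_sigma_of_cj hG (e ▸ h))
    obtain ⟨A, hAH, hA, hAc, -⟩ := exists_ea_over hG hH hσH hP hNP
    refine not_pRankLE_of_ea (K := M) (PLocal.isEA_map hA (MulAut.conj g⁻¹).toMonoidHom) ?_ ?_ hr1
    · exact cj_le_iff.mpr (by rw [inv_inv, ← e]; exact hAH)
    · rw [show Nat.card (A.map (MulAut.conj g⁻¹).toMonoidHom) = Nat.card A from card_cj _ _, hAc]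
      exact Nat.pow_lt_pow_right hp.out.one_lt one_lt_two
  have hcl : p ∈ sigma H ∨ p ∈ tau2 H := by
    by_cases hσ : p ∈ sigma H
    · exact Or.inl hσ
    · obtain ⟨A, hAH, hA, hAc, -⟩ := exists_ea_over hG hH hσ hP hNP
      exact Or.inr ⟨hp.out, hσ, pRankLE_two_of_notMem_sigma hG hH hp.out hσ, not_pRankLE_of_ea hA hAH
        (by rw [hAc]; exact Nat.pow_lt_pow_right hp.out.one_lt one_lt_two)⟩
  refine ⟨hnc, hcl, fun h1 => ?_, hpH⟩
  rcases hcl with h | h
  · exact h1.2.1 h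
  · exact h.2.2.2 h1.2.2.2.2

omit hH in
/-- A cyclic Sylow subgroup of `E` has constant centralizer in `M_σ`. -/
theorem inf_centralizer_eq_of_cyclic {E : Subgroup G} (hE : IsComplIn E (sigmaCore M) M) {S : Subgroup G}
    (hS : IsPGroup p S) (hSE : S ≤ E) (hSi : ¬ p ∣ S.relIndex E) (hSc : IsCyclic S) {x : G} (hx : x ∈ S) (hx1 : x ≠ 1) :
    sigmaCore M ⊓ Subgroup.centralizer ({x} : Set G) = sigmaCore M ⊓ Subgroup.centralizer (S : Set G) := by
  refine le_antisymm ?_ (inf_le_inf_left _ (Subgroup.centralizer_le (Set.singleton_subset_iff.mpr hx)))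
  have hS1 : S ≠ ⊥ := fun e => hx1 (Subgroup.mem_bot.mp (e ▸ hx))
  have hpt := mem_tau13_of_cyclic hG hM hE hS hSE hS1 hSi hSc
  obtain ⟨y, hy⟩ : ∃ y : Subgroup.zpowers x, orderOf y = p := by
    refine exists_prime_orderOf_dvd_card' p ?_
    obtain ⟨k, hk⟩ := IsPGroup.iff_card.mp (hS.to_le (Subgroup.zpowers_le.mpr hx))
    rw [hk]
    exact dvd_pow_self p fun e => hx1 (Subgroup.zpowers_eq_bot.mp
      (Subgroup.eq_bot_of_card_eq _ (by rw [hk, e, pow_zero])))
  set P := Subgroup.zpowers (y : G)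
  have hP : Nat.card P = p := by rw [Nat.card_zpowers, Subgroup.orderOf_coe, hy]
  have hPx : P ≤ Subgroup.zpowers x := Subgroup.zpowers_le.mpr y.2
  obtain ⟨L, hL, hNL⟩ := (eq_top_or_exists_le_coatom (Subgroup.normalizer (P : Set G))).resolve_left
    (Core.BG.normalizer_ne_top_of_isPGroup hG (ne_bot_of_card_prime hP) (IsPGroup.of_card (by rw [hP, pow_one])))
  obtain ⟨hnc, -, hnτ, -⟩ := normalizer_tau13 hG hpl hM hL hpt hP hNL
  have hCL : Subgroup.centralizer (P : Set G) ≤ L := (Subgroup.centralizer_le_normalizer _).trans hNL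
  have hSC : S ≤ Subgroup.centralizer (P : Set G) := by
    haveI := hSc
    exact Subgroup.le_centralizer_iff.mp (((hPx.trans (Subgroup.zpowers_le.mpr hx))).trans
      (Subgroup.le_centralizer_iff_isMulCommutative.mpr inferInstance))
  have h := le_centralizer_sigmaCore_inf hG hpl hM hL hnc
    (hpt.elim (fun h => h.2.1) fun h => h.2.1) hnτ hS
    (le_inf (hSE.trans hE.1) (hSC.trans hCL))
  rintro z ⟨hz, hzx⟩
  refine ⟨hz, Subgroup.le_centralizer_iff.mp h ⟨hz, hCL ?_⟩⟩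
  refine Subgroup.centralizer_le hPx ?_
  rwa [← centralizer_singleton_eq (rfl : Subgroup.zpowers x = _)]

end Cfsg.Agent.OddLocal.Sigma
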