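import Cfsg.Agent.OddLocal.Sigma.TauTwoElements
import Cfsg.Agent.OddLocal.Sigma.NonabelianUnique

/-! `σ(M)`-subgroups are conjugate into `M_σ` (BG 12.15–12.17). -/

set_option autoImplicit false
set_option linter.style.haveILetI false
set_option linter.unusedSectionVars false

namespace Cfsg.Agent.OddLocal.Sigma

open Cfsg
open Cfsg.Agent.Core (IsPiNat)
open scoped commutatorElement

variable {G : Type*} [Group G] [Finite G] (hG : IsMinSimpleOddOrder G)
include hG

/-- A `σ(M)'`-subgroup lies in a complement of `M_σ`. -/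
theorem exists_compl_ge {M : Subgroup G} (hM : IsCoatom M) {K : Subgroup G} (hKM : K ≤ M)
    (hK : ∀ q : ℕ, q.Prime → q ∣ Nat.card K → q ∉ sigma M) :
    ∃ E : Subgroup G, IsComplIn E (sigmaCore M) M ∧ K ≤ E := by
  haveI := Core.BG.isSolvable_proper hG hM.1
  obtain ⟨H, hH, hKH⟩ := Core.exists_isPiHall_ge (π := (sigma M)ᶜ) Core.isPiSeparable_of_isSolvable
    Core.hallSolvable_of_isSolvable (K := K.subgroupOf M) (fun q hq hd => hK q hq
      (by rwa [Core.card_subgroupOf hKM] at hd))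
  set N := piCore (sigma M) M
  have hN := sigmaCore_hall hG hM
  have hcop : (Nat.card N).Coprime (Nat.card H) := Nat.coprime_of_dvd fun q hq h1 h2 => hH.1 q hq h2 (hN.1 q hq h1)
  have hcard : Nat.card N * Nat.card H = Nat.card M := by
    rw [← N.card_mul_index]
    congr 1
    refine Nat.dvd_antisymm ?_ ?_
    · exact hcop.symm.dvd_of_dvd_mul_left
        ((Subgroup.card_subgroup_dvd_card H).trans N.card_mul_index.symm.dvd)
    · exact (Nat.coprime_of_dvd fun q hq h1 h2 => hH.2 q hq (fun h3 => hN.2 q hq h3 h1) h2).dvd_of_dvd_mul_right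
        ((Subgroup.index_dvd_card N).trans H.card_mul_index.symm.dvd)
  have hcompl : Subgroup.IsComplement' N H := Subgroup.isComplement'_of_coprime hcard hcop
  refine ⟨H.map M.subtype, ⟨Subgroup.map_subtype_le _, sigmaCore_le M, ?_, fun m hm => ?_⟩, fun x hx =>
    ⟨⟨x, hKM hx⟩, hKH (Subgroup.mem_subgroupOf.mpr hx), rfl⟩⟩
  · rw [eq_bot_iff]
    rintro _ ⟨⟨y, hy, rfl⟩, z, hz, hzy⟩
    have := hcompl.disjoint.le_bot ⟨Subtype.ext hzy ▸ hz, hy⟩
    rw [Subgroup.mem_bot] at this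
    simp [this]
  · obtain ⟨⟨⟨a, ha⟩, ⟨b, hb⟩⟩, hab⟩ := hcompl.symm.2 ⟨m, hm⟩
    exact ⟨a, ⟨a, ha, rfl⟩, b, ⟨b, hb, rfl⟩, congrArg Subtype.val hab.symm⟩

variable (hpl : ∀ (p : ℕ) [Fact p.Prime] (H : Subgroup G), H ≠ ⊤ → PLengthLE p 1 H)
include hpl

/-- `M = M_β N_M(T)` for a Sylow `r`-subgroup `T`, `r ∈ σ(M) − β(M)`. -/
theorem le_betaCore_sup_normalizer {M : Subgroup G} (hM : IsCoatom M) {r : ℕ} [hr : Fact r.Prime]
    (hσ : r ∈ sigma M) (T : Sylow r G) (hTM : (T : Subgroup G) ≤ M) :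
    M ≤ piCoreOf (beta M) M ⊔ (M ⊓ Subgroup.normalizer ((T : Subgroup G) : Set G)) := by
  set D := commutator M
  let I := {s : Nat.Primes // (s : ℕ) ∉ insert r (beta M)}
  set N : Subgroup M := D ⊓ ⨅ s : I, (pPrimeCore (s.1 : ℕ) D).map D.subtype with hN
  haveI : ∀ s : I, ((pPrimeCore (s.1 : ℕ) D).map D.subtype).Normal := fun s =>
    Core.normal_map_subtype_of_characteristic _
  haveI : (⨅ s : I, (pPrimeCore (s.1 : ℕ) D).map D.subtype).Normal := Subgroup.normal_iInf_normal inferInstance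
  haveI : N.Normal := inferInstance
  set W := piCore (insert r (beta M)) M
  have hNW : N ≤ W := Core.le_piCore inferInstance fun s hs hd => by
    by_contra hsβ
    have h1 : N ≤ (pPrimeCore s D).map D.subtype := inf_le_right.trans (iInf_le _ (⟨⟨s, hs⟩, hsβ⟩ : I))
    have h2 := hd.trans (Subgroup.card_dvd_of_le h1)
    rw [Core.card_map_subtype] at h2
    exact hs.one_lt.ne' (Nat.eq_one_of_dvd_coprimes (Core.card_pPrimeCore_coprime s D) h2 dvd_rfl)
  set T' := T.subtype hTM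
  have hTD : (T' : Subgroup M) ≤ D := sylow_le_commutator hG hM hσ T'
  have hTW : (T' : Subgroup M) ≤ W := le_trans (le_inf hTD (le_iInf fun s => fun x hx => by
    haveI := Fact.mk s.1.2
    refine ⟨⟨x, hTD hx⟩, ?_, rfl⟩
    have hsβ : (s.1 : ℕ) ∉ beta M := fun h => s.2 (Set.mem_insert_of_mem _ h)
    refine Core.le_pPrimeCore inferInstance
      (Transfer.hasNormalPComplement_iff_coprime_pResidual.mp (commutator_npc hG hpl hM hsβ))
      (Transfer.mem_pResidual_of_coprime ?_)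
    rw [Subgroup.orderOf_mk]
    obtain ⟨j, hj⟩ := T'.isPGroup' ⟨x, hx⟩
    refine Nat.Coprime.coprime_dvd_left (orderOf_dvd_of_pow_eq_one (congrArg Subtype.val hj)) ?_
    exact ((Nat.coprime_primes hr.out s.1.2).mpr fun e => s.2 (Set.mem_insert_iff.mpr (Or.inl e.symm))).pow_left j)) hNW
  set Nb := piCore (beta M) M
  have hWle : W ≤ Nb ⊔ (T' : Subgroup M) := Core.le_of_forall_exists_sylow_le fun q hq => by
    haveI := Fact.mk hq
    by_cases hqr : q = r
    · subst hqr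
      refine ⟨T'.subtype hTW, ?_⟩
      rw [Sylow.coe_subtype, Subgroup.subgroupOf_map_subtype, inf_eq_left.mpr hTW]
      exact le_sup_right
    · obtain ⟨Q⟩ := (inferInstance : Nonempty (Sylow q W))
      refine ⟨Q, le_sup_of_le_left ?_⟩
      by_cases hd : q ∣ Nat.card W
      · have hqβ : q ∈ beta M := (Set.mem_insert_iff.mp (Core.isPiNat_card_piCore _ M q hq hd)).resolve_left hqr
        refine Core.le_of_coprime_index (Nat.coprime_of_dvd fun s hs h1 h2 => ?_)
        have hsq : s = q := mem_of_pGroup (G := M) (Q.isPGroup'.map W.subtype) (π := {s | s = q}) rfl s hs h1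
        exact (betaCore_hall hG hpl hM).2 q hq hqβ (hsq ▸ h2)
      · rw [show (Q : Subgroup W) = ⊥ from Subgroup.card_eq_one.mp (by
          rw [Q.card_eq_multiplicity, Nat.factorization_eq_zero_of_not_dvd hd, pow_zero]), Subgroup.map_bot]
        exact bot_le
  have htop : Nb ⊔ Subgroup.normalizer ((T' : Subgroup M) : Set M) = ⊤ := by
    refine top_le_iff.mp ((Sylow.normalizer_sup_eq_top' T' hTW).ge.trans (sup_le le_sup_right ?_))
    exact hWle.trans (sup_le_sup_left Subgroup.le_normalizer _)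
  have h1 := congrArg (Subgroup.map M.subtype) htop
  rw [Subgroup.map_sup, ← MonoidHom.range_eq_map, Subgroup.range_subtype] at h1
  refine h1.ge.trans (sup_le_sup (le_of_eq rfl) (le_inf (Subgroup.map_subtype_le _) ?_))
  refine (Subgroup.le_normalizer_map M.subtype).trans ?_
  rw [Sylow.coe_subtype, Subgroup.subgroupOf_map_subtype, inf_eq_left.mpr hTM]

/-- A maximal subgroup over `N(X)` other than `M` is not conjugate to `M`. -/
theorem not_conj_of_normalizer_le {M L X : Subgroup G} (hM : IsCoatom M) {q : ℕ} [hq : Fact q.Prime]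
    (hσ : q ∈ sigma M) (hX : IsPGroup q X) (hX1 : X ≠ ⊥) (hXM : X ≤ M) (hne : L ≠ M)
    (hNX : Subgroup.normalizer (X : Set G) ≤ L) : ∀ g : G, L ≠ cj g M := by
  intro g hg
  obtain ⟨c, hc, e⟩ := transitive hG hM hσ _ X le_rfl hX hX1 1 g (by rwa [cj_one])
    (hg ▸ Subgroup.le_normalizer.trans hNX)
  rw [cj_one, ← hg] at e
  have hcL : c ∈ L := hNX (Subgroup.centralizer_le_normalizer _ hc)
  refine hne ?_
  have h2 : cj c⁻¹ L = M := by rw [e, ← cj_mul, inv_mul_cancel, cj_one]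
  rw [← h2, cj_eq_iff.mpr (Subgroup.le_normalizer (inv_mem hcL))]

/-- `N(S) ≤ M` and `S` is a Sylow subgroup of `L`. -/
theorem sylow_inter_facts {M L X : Subgroup G} (hM : IsCoatom M) {q : ℕ} [hq : Fact q.Prime] (hσ : q ∈ sigma M)
    (hX1 : X ≠ ⊥) (hNX : Subgroup.normalizer (X : Set G) ≤ L) (S : Sylow q ↥(M ⊓ L))
    (hXS : X ≤ (S : Subgroup ↥(M ⊓ L)).map (M ⊓ L).subtype) :
    Subgroup.normalizer (((S : Subgroup ↥(M ⊓ L)).map (M ⊓ L).subtype : Subgroup G) : Set G) ≤ M ∧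
      ¬ q ∣ ((S : Subgroup ↥(M ⊓ L)).map (M ⊓ L).subtype).relIndex L := by
  set T := (S : Subgroup ↥(M ⊓ L)).map (M ⊓ L).subtype with hTdef
  have hT : IsPGroup q T := S.isPGroup'.map _
  have hTI : T ≤ M ⊓ L := Subgroup.map_subtype_le _
  have hmax : ∀ Q : Subgroup G, IsPGroup q Q → T ≤ Q → Q ≤ M ⊓ L → Q ≤ T := fun Q hQ hTQ hQI x hx => by
    have h1 : S.1 ≤ Q.subgroupOf (M ⊓ L) := fun w hw => Subgroup.mem_subgroupOf.mpr (hTQ ⟨w, hw, rfl⟩)
    exact ⟨⟨x, hQI hx⟩, S.3 hQ.comap_subtype h1 ▸ Subgroup.mem_subgroupOf.mpr hx, rfl⟩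
  have hN : Subgroup.normalizer (T : Set G) ≤ M := by
    by_cases hc : IsCyclic T
    swap
    · exact normalizer_le_of_noncyclic hG hpl hM hσ hT (hTI.trans inf_le_left) hc
    have hNL : Subgroup.normalizer (T : Set G) ≤ L := fun n hn => hNX (cj_eq_iff.mp
      (OddLocal.eq_of_card_eq_of_isCyclic hc ((cj_mono hXS).trans (cj_eq_iff.mpr hn).le) hXS (card_cj _ _)))
    obtain ⟨P, hP⟩ := exists_sylow_map_ge hT (hTI.trans inf_le_left)
    have hPT : (P : Subgroup M).map M.subtype = T := by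
      by_contra hne
      obtain ⟨x, ⟨hxN, hxP⟩, hxT⟩ := Core.BG.exists_mem_normalizer_notMem (q := q)
        (P.isPGroup'.map M.subtype) (lt_of_le_of_ne hP (Ne.symm hne))
      exact hxT ((hmax (T ⊔ Subgroup.zpowers x) (IsPGroup.to_sup_of_normal_left' hT
        ((P.isPGroup'.map M.subtype).to_le (Subgroup.zpowers_le.mpr hxP)) (Subgroup.zpowers_le.mpr hxN))
        le_sup_left (sup_le hTI (Subgroup.zpowers_le.mpr ⟨Subgroup.map_subtype_le _ hxP, hNL hxN⟩)))
        (Subgroup.mem_sup_right (Subgroup.mem_zpowers x)))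
    exact hPT ▸ normalizer_sylow_le hσ P
  refine ⟨hN, fun hd => ?_⟩
  obtain ⟨P, hP⟩ := exists_sylow_map_ge hT (hTI.trans inf_le_right)
  have hlt : T < (P : Subgroup L).map L.subtype := by
    refine lt_of_le_of_ne hP fun e => P.not_dvd_index ?_
    rw [e] at hd
    rwa [← Subgroup.relIndex_top_right, ← Subgroup.relIndex_map_map_of_injective (P : Subgroup L) ⊤
      L.subtype_injective, ← MonoidHom.range_eq_map, Subgroup.range_subtype]
  obtain ⟨x, ⟨hxN, hxP⟩, hxT⟩ := Core.BG.exists_mem_normalizer_notMem (q := q) (P.isPGroup'.map L.subtype) hlt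
  exact hxT ((hmax (T ⊔ Subgroup.zpowers x) (IsPGroup.to_sup_of_normal_left' hT
    ((P.isPGroup'.map L.subtype).to_le (Subgroup.zpowers_le.mpr hxP)) (Subgroup.zpowers_le.mpr hxN))
    le_sup_left (sup_le hTI (Subgroup.zpowers_le.mpr ⟨hN hxN, Subgroup.map_subtype_le _ hxP⟩)))
    (Subgroup.mem_sup_right (Subgroup.mem_zpowers x)))

/-- A prime in `σ(M)` and `σ(L)` for non-conjugate `M`, `L` is not in `β(L)`. -/
theorem notMem_beta_of_sigma {M L : Subgroup G} (hM : IsCoatom M) (hL : IsCoatom L)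
    (hnc : ∀ g : G, L ≠ cj g M) {r : ℕ} [hr : Fact r.Prime] (hσM : r ∈ sigma M) : r ∉ beta L := fun hβ => by
  obtain ⟨E, hE, hEL, hE3⟩ := Core.BG.exists_ea_of_not_pRankLE hβ.1.2
  obtain ⟨g, hg⟩ := exists_cj_le hσM (Components.ea_isPGroup hE)
  exact hnc g ((Core.BG.ea_three_unique hG hE hE3).unique ⟨hL, hEL⟩ ⟨isCoatom_cj hM g, hg⟩)

/-- A `σ(M)`-subgroup is conjugate into `M`. -/
theorem exists_cj_le_of_sigma {M : Subgroup G} (hM : IsCoatom M) {Y : Subgroup G} (hY1 : Y ≠ ⊥)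
    (hY : ∀ p : ℕ, p.Prime → p ∣ Nat.card Y → p ∈ sigma M) : ∃ g : G, cj g Y ≤ M := by
  have hYtop : Y ≠ ⊤ := fun e => by
    have hall := sigmaCore_hallOf hG hM
    have hH := isPiHall_sigma_of_hallOf hG (π := sigma M) (fun _ h => h) hall
    have hidx : (sigmaCore M).index = 1 := Nat.eq_one_iff_not_exists_prime_dvd.mpr fun q hq hd =>
      hH.2 q hq (hY q hq (e ▸ (by rw [Subgroup.card_top]; exact hd.trans (Subgroup.index_dvd_card _)))) hd
    exact hM.1 (top_le_iff.mp ((Subgroup.index_eq_one.mp hidx).ge.trans (sigmaCore_le M)))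
  haveI := Core.BG.isSolvable_proper hG hYtop
  haveI : Nontrivial Y := (Subgroup.nontrivial_iff_ne_bot Y).mpr hY1
  obtain ⟨⟨q, hq⟩, hne⟩ : ∃ q : Nat.Primes, pCore (q : ℕ) Y ≠ ⊥ := by
    by_contra hall
    push Not at hall
    exact Core.fittingSubgroup_ne_bot (G := Y) (by rw [Core.fittingSubgroup_eq_iSup]; simp [hall])
  haveI := Fact.mk hq
  set X := pCoreMap q Y
  have hXY : X ≤ Y := Subgroup.map_subtype_le _
  have hXp : IsPGroup q X := (Core.isPGroup_pCore q Y).map _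
  have hX1 : X ≠ ⊥ := fun e => hne (by rwa [Subgroup.map_eq_bot_iff_of_injective _ Y.subtype_injective] at e)
  have hqY : q ∣ Nat.card Y := by
    obtain ⟨k, hk⟩ := IsPGroup.iff_card.mp hXp
    exact (dvd_pow_self q fun e => hX1 (Subgroup.eq_bot_of_card_eq _ (by rw [hk, e, pow_zero]))).trans
      (hk ▸ Subgroup.card_dvd_of_le hXY)
  obtain ⟨g₀, hg₀⟩ := exists_cj_le (hY q hq hqY) hXp
  set M₁ := cj g₀ M
  have hM₁ : IsCoatom M₁ := isCoatom_cj hM g₀
  have hσ₁ : q ∈ sigma M₁ := mem_sigma_cj (hY q hq hqY) g₀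
  obtain ⟨L, hL, hNL⟩ := (eq_top_or_exists_le_coatom (Subgroup.normalizer (X : Set G))).resolve_left
    (Core.BG.normalizer_ne_top_of_isPGroup hG hX1 hXp)
  have hYL : Y ≤ L := (le_normalizer_pCoreMap q Y).trans hNL
  by_cases heq : L = M₁
  · exact ⟨g₀⁻¹, cj_le_iff.mpr (by rw [inv_inv]; exact hYL.trans heq.le)⟩
  have hnc := not_conj_of_normalizer_le hG hpl hM₁ hσ₁ hXp hX1 hg₀ heq hNL
  have hncM : ∀ g : G, L ≠ cj g M := fun g e => hnc (g * g₀⁻¹) (by
    show L = cj (g * g₀⁻¹) (cj g₀ M)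
    rwa [← cj_mul, inv_mul_cancel_right])
  haveI := Core.BG.isSolvable_proper hG hL.1
  by_cases hex : ∃ r, r.Prime ∧ r ∣ Nat.card Y ∧ r ∈ sigma L
  · obtain ⟨r, hr, hrY, hrL⟩ := hex
    haveI := Fact.mk hr
    obtain ⟨T, hTL, hNT⟩ := exists_sylow_le hrL
    obtain ⟨h, hh⟩ := exists_cj_le (hY r hr hrY) T.isPGroup'
    set M₂ := cj h M
    have hNT₂ := normalizer_sylow_le' hG (mem_sigma_cj (hY r hr hrY) h) T hh
    set H := M₂ ⊓ L
    have hLH : L ≤ piCoreOf (beta L) L ⊔ H :=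
      (le_betaCore_sup_normalizer hG hpl hL hrL T hTL).trans
        (sup_le_sup_left (le_inf (inf_le_right.trans hNT₂) inf_le_left) _)
    have hHL : H ≤ L := inf_le_right
    have hidx : IsPiNat (beta L) (H.relIndex L) := by
      refine (Core.BG.isPiNat_piCoreOf (beta L) L).of_dvd ?_
      have heq' : (piCore (beta L) L) ⊔ H.subgroupOf L = ⊤ := top_le_iff.mp fun x _ => by
        have h1 : (piCore (beta L) L ⊔ H.subgroupOf L).map L.subtype = L := by
          refine le_antisymm (Subgroup.map_subtype_le _) ?_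
          rw [Subgroup.map_sup, Subgroup.subgroupOf_map_subtype, inf_eq_left.mpr hHL]
          exact hLH
        obtain ⟨y, hy, hye⟩ := h1.ge x.2
        rwa [← show y = x from Subtype.ext hye]
      have h2 := Core.card_sup_dvd_mul (H.subgroupOf L) (piCore (beta L) L)
      rw [sup_comm, heq', Subgroup.card_top, ← (H.subgroupOf L).card_mul_index] at h2
      rw [Subgroup.relIndex, show Nat.card ↥(piCoreOf (beta L) L) = Nat.card (piCore (beta L) L) from
        Core.card_map_subtype _]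
      exact Nat.dvd_of_mul_dvd_mul_left Nat.card_pos h2
    haveI : Group.IsSolvable H := Core.BG.isSolvable_proper hG fun e => hL.1 (top_le_iff.mp (e ▸ hHL))
    obtain ⟨K, hK⟩ := Core.exists_isPiHall_of_isSolvable (G := H) (beta L)ᶜ
    set K' := (K.map H.subtype).subgroupOf L
    have hK'L : K.map H.subtype ≤ L := (Subgroup.map_subtype_le _).trans hHL
    have hK' : IsPiHall (beta L)ᶜ K' := by
      refine ⟨fun s hs hd => hK.1 s hs (by rwa [Core.card_subgroupOf hK'L, Core.card_map_subtype] at hd),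
        fun s hs hsπ hd => ?_⟩
      have e1 : (K.map H.subtype).relIndex L = K.index * H.relIndex L := by
        rw [← Subgroup.relIndex_mul_relIndex (K.map H.subtype) H L (Subgroup.map_subtype_le _) hHL]
        congr 1
        rw [Subgroup.relIndex, Subgroup.subgroupOf, Subgroup.comap_map_eq_self_of_injective H.subtype_injective]
      rw [show K'.index = (K.map H.subtype).relIndex L from rfl, e1] at hd
      rcases hs.dvd_mul.mp hd with h1 | h1
      · exact hK.2 s hs hsπ h1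
      · exact hsπ (hidx s hs h1)
    obtain ⟨g, hg⟩ := Core.exists_le_conj_smul_of_isPiHall Core.isPiSeparable_of_isSolvable
      Core.hallSolvable_of_isSolvable hK' (K := Y.subgroupOf L) (fun s hs hd => by
        rw [Core.card_subgroupOf hYL] at hd
        haveI := Fact.mk hs
        exact notMem_beta_of_sigma hG hpl hM hL hncM (hY s hs hd))
    refine ⟨h⁻¹ * (g : G)⁻¹, ?_⟩
    rw [cj_mul, cj_le_iff, inv_inv, cj_le_iff, inv_inv]
    intro y hy
    have h1 := hg (Subgroup.mem_subgroupOf.mpr hy : (⟨y, hYL hy⟩ : L) ∈ Y.subgroupOf L)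
    rw [Core.conj_smul_eq_map] at h1
    obtain ⟨k, hk, hky⟩ := h1
    exact ⟨(k : G), (Subgroup.map_subtype_le K (Subgroup.mem_subgroupOf.mp hk)).1, congrArg Subtype.val hky⟩
  push Not at hex
  have hqL : q ∉ sigma L := hex q hq hqY
  obtain ⟨S, hXS⟩ := exists_sylow_map_ge hXp (le_inf hg₀ (Subgroup.le_normalizer.trans hNL) : X ≤ M₁ ⊓ L)
  obtain ⟨hNS, hSi⟩ := sylow_inter_facts hG hpl hM₁ hσ₁ hX1 hNL S hXS
  set T := (S : Subgroup ↥(M₁ ⊓ L)).map (M₁ ⊓ L).subtype with hTdef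
  have hT : IsPGroup q T := S.isPGroup'.map _
  have hTI : T ≤ M₁ ⊓ L := Subgroup.map_subtype_le _
  have hnc' : ¬ IsCyclic T := fun hc => by
    set P := (hT.comap_subtype : IsPGroup q (T.subgroupOf L)).toSylow hSi
    refine hqL ⟨hq, hqY.trans (Subgroup.card_dvd_of_le hYL), P, ?_⟩
    have e : (P : Subgroup L).map L.subtype = T := by
      show (T.subgroupOf L).map L.subtype = T
      rw [Subgroup.subgroupOf_map_subtype, inf_eq_left.mpr (hTI.trans inf_le_right)]
    rw [e]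
    exact fun n hn => hNL (cj_eq_iff.mp
      (OddLocal.eq_of_card_eq_of_isCyclic hc ((cj_mono hXS).trans (cj_eq_iff.mpr hn).le) hXS (card_cj _ _)))
  obtain ⟨U, -, hU, hUc⟩ := Transfer.PNormal.exists_normal_ea_sq
    (ne_two_of_dvd hG (hqY.trans (Subgroup.card_subgroup_dvd_card Y))) hT hnc'
  set A := U.map T.subtype
  have hAT : A ≤ T := Subgroup.map_subtype_le _
  have hAe : IsElementaryAbelian q A := PLocal.isEA_map hU T.subtype
  have hAc : Nat.card A = q ^ 2 := by rw [Core.card_map_subtype, hUc]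
  have hAL : A ≤ L := (hAT.trans hTI).trans inf_le_right
  obtain ⟨A0, hexc⟩ := exists_exc hG hpl hL hqL hAL hAe hAc
  obtain ⟨E, hE, hAE⟩ := exists_compl_ge hG hL hAL (notMem_sigma_of_pGroup hexc.maxEA.isPGroup hqL)
  have hEM : E ≤ M₁ := (hexc.le_normalizer_of_compl hG hpl hE hAE).trans (normalizer_le_of_noncyclic hG hpl hM₁ hσ₁
    hexc.maxEA.isPGroup ((hAT.trans hTI).trans inf_le_left) fun hc => by
      haveI := hc
      have h1 : Nat.card A ∣ q := by
        rw [← IsCyclic.exponent_eq_card]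
        exact Monoid.exponent_dvd_of_forall_pow_eq_one fun b => Subtype.ext (hAe.2 b b.2)
      rw [hAc] at h1
      have := Nat.le_of_dvd hq.pos h1
      nlinarith [hq.two_le])
  obtain ⟨m, -, hmE⟩ := exists_cj_le_compl hG hL hE hYL hex
  exact ⟨g₀⁻¹ * m, by rw [cj_mul, cj_le_iff, inv_inv]; exact hmE.trans hEM⟩

end Cfsg.Agent.OddLocal.Sigma
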