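import Cfsg.Agent.OddLocal.Sigma.SigmaCoreStructure
import Cfsg.Agent.Coprime.PxQ

/-! Consequences of the structure of `M_σ` (BG 15.1, 15.2). -/

set_option autoImplicit false
set_option linter.style.haveILetI false
set_option linter.unusedSectionVars false

namespace Cfsg.Agent.OddLocal.Sigma

open Cfsg
open scoped commutatorElement

variable {G : Type*} [Group G] [Finite G]

/-- A coprime operator group fixing a non-identity element of a cyclic `t`-group centralizes it. -/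
theorem le_centralizer_of_isCyclic_of_fixed {t : ℕ} [ht : Fact t.Prime] {S A : Subgroup G} (hS : IsPGroup t S)
    (hc : IsCyclic S) (hAS : A ≤ Subgroup.normalizer (S : Set G)) [Group.IsSolvable A]
    (hcop : (Nat.card A).Coprime (Nat.card S)) {y : G} (hy : y ∈ S) (hy1 : y ≠ 1)
    (hyA : y ∈ Subgroup.centralizer (A : Set G)) : S ≤ Subgroup.centralizer (A : Set G) := by
  haveI := hc
  haveI : IsMulCommutative S := ⟨⟨fun a b => by letI := IsCyclic.commGroup (α := S); exact mul_comm a b⟩⟩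
  have hdisj := Coprime.commutator_inf_centralizer_eq_bot (V := S) (A := A) hAS inferInstance hcop
  have h0 : ⁅S, A⁆ = ⊥ := by
    by_contra hne
    have hle : ⁅S, A⁆ ≤ S := Coprime.commutator_le_of_le_normalizer hAS
    have ht0 : t ∣ Nat.card ↥⁅S, A⁆ := by
      obtain ⟨k, hk⟩ := IsPGroup.iff_card.mp (hS.to_le hle)
      rw [hk]
      exact dvd_pow_self t fun e => hne (Subgroup.eq_bot_of_card_eq _ (by rw [hk, e, pow_zero]))
    obtain ⟨a, ha⟩ := exists_prime_orderOf_dvd_card' t ht0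
    obtain ⟨q, hq, hqy, X, hX, hXy⟩ := exists_prime_le_zpowers hy1
    haveI := Fact.mk hq
    have hXS : X ≤ S := hXy.trans (Subgroup.zpowers_le.mpr hy)
    have hqt : q = t := by
      obtain ⟨k, hk⟩ := IsPGroup.iff_card.mp hS
      exact (Nat.prime_dvd_prime_iff_eq hq ht.out).mp (hq.dvd_of_dvd_pow (hk ▸ hX ▸ Subgroup.card_dvd_of_le hXS))
    have hA1 : Nat.card (Subgroup.zpowers (a : G)) = t := by rw [Nat.card_zpowers, Subgroup.orderOf_coe, ha]
    have e := OddLocal.eq_of_card_eq_of_isCyclic hc ((Subgroup.zpowers_le.mpr a.2).trans hle) hXS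
      (hA1.trans (hX.trans hqt).symm)
    have h1 : (a : G) ∈ ⁅S, A⁆ ⊓ Subgroup.centralizer (A : Set G) :=
      Subgroup.mem_inf.mpr ⟨a.2, (Subgroup.zpowers_le.mpr hyA) (hXy (e ▸ Subgroup.mem_zpowers (a : G)))⟩
    rw [hdisj, Subgroup.mem_bot] at h1
    rw [← Subgroup.orderOf_coe, h1, orderOf_one] at ha
    exact ht.out.one_lt.ne ha
  exact Subgroup.commutator_eq_bot_iff_le_centralizer.mp h0

variable (hG : IsMinSimpleOddOrder G)
include hG
variable (hpl : ∀ (p : ℕ) [Fact p.Prime] (H : Subgroup G), H ≠ ⊤ → PLengthLE p 1 H)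
include hpl

theorem fittingHallOf_ne_bot {M : Subgroup G} (hM : IsCoatom M) : fittingHallOf M ≠ ⊥ := by
  intro e
  by_cases hn : Group.IsNilpotent (sigmaCore M)
  · exact sigmaCore_ne_bot hG hM (le_bot_iff.mp (e ▸ sigmaCore_le_fittingHallOf hG hpl hM hn))
  · obtain ⟨⟨K, hK⟩, hc⟩ := kappa_hall hG hpl hM
    obtain ⟨U, hU⟩ := exists_decomp hG hpl hM (hc K hK) hK
    obtain ⟨Q, hQ⟩ := exists_qData hG hpl hM hU hn
    have h1 := hQ.fixed_le.trans (qData_le_fittingHallOf hG hpl hM hQ)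
    rw [e, le_bot_iff] at h1
    exact hQ.prime.one_lt.ne' (by rw [h1, Subgroup.card_bot])

/-- The derived group of `M / M_F` is nilpotent. -/
theorem derived_quotient_nilpotent {M : Subgroup G} (hM : IsCoatom M) :
    Group.IsNilpotent ↥((commutator M).map (QuotientGroup.mk' (fittingHall M))) := by
  haveI := Core.BG.isSolvable_proper hG hM.1
  set f := QuotientGroup.mk' (fittingHall M) with hf
  by_cases hn : Group.IsNilpotent (sigmaCore M)
  · obtain ⟨E, hE, -⟩ := exists_compl_ge hG hM (bot_le : (⊥ : Subgroup G) ≤ M)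
      (fun r hr hd => absurd (by rwa [Subgroup.card_bot] at hd) hr.not_dvd_one)
    have htop : (E.subgroupOf M).map f = ⊤ := by
      rw [eq_top_iff]
      intro x _
      obtain ⟨x, rfl⟩ := QuotientGroup.mk'_surjective (fittingHall M) x
      obtain ⟨a, ha, b, hb, e⟩ := hE.2.2.2 x x.2
      refine ⟨⟨a, hE.1 ha⟩, Subgroup.mem_subgroupOf.mpr ha, QuotientGroup.eq.mpr ?_⟩
      obtain ⟨z, hz, hze⟩ := sigmaCore_le_fittingHallOf hG hpl hM hn hb
      have : (⟨a, hE.1 ha⟩ : M)⁻¹ * x = z := Subtype.ext (by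
        show a⁻¹ * (x : G) = _
        rw [e, inv_mul_cancel_left]; exact hze.symm)
      rw [this]; exact hz
    have hcomm : (commutator M).map f = (⁅E.subgroupOf M, E.subgroupOf M⁆).map f := by
      rw [commutator_def, Subgroup.map_commutator, Subgroup.map_commutator, htop,
        Subgroup.map_top_of_surjective f (QuotientGroup.mk'_surjective _)]
    have hmap : (⁅E.subgroupOf M, E.subgroupOf M⁆).map M.subtype = ⁅E, E⁆ := by
      rw [Subgroup.map_commutator, Subgroup.subgroupOf_map_subtype, inf_eq_left.mpr hE.1]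
    haveI : Group.IsNilpotent ↥((⁅E.subgroupOf M, E.subgroupOf M⁆).map M.subtype) := by
      rw [hmap]; exact complIn_derived_nilpotent hG hM hE
    rw [hcomm]
    exact Core.isNilpotent_map (Group.nilpotent_of_mulEquiv
      ((⁅E.subgroupOf M, E.subgroupOf M⁆).equivMapOfInjective M.subtype M.subtype_injective).symm) f
  obtain ⟨⟨K, hK⟩, hc⟩ := kappa_hall hG hpl hM
  obtain ⟨U, hU⟩ := exists_decomp hG hpl hM (hc K hK) hK
  obtain ⟨hU0, hK1⟩ := decomp_of_not_nilpotent hG hpl hM hU hn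
  obtain ⟨Q, hQ⟩ := exists_qData hG hpl hM hU hn
  obtain ⟨-, -, hfixP, -⟩ := kappa_hall_facts hG hpl hM hK hK1
  obtain ⟨p, hp, P, hP, hPK⟩ := exists_prime_le hK1
  haveI := Fact.mk hp
  obtain ⟨π, hπ, hπ1⟩ := P.bot_or_exists_ne_one.resolve_left (ne_bot_of_card_prime hP)
  have hπo : orderOf π = p := by rw [← Nat.card_zpowers, zpowers_eq_of_card_prime hP hπ hπ1, hP]
  have hPM : P ≤ M := hPK.trans hK.1
  set πM : M := ⟨π, hPM hπ⟩
  set S := (sigmaCore M).subgroupOf M
  have hder : commutator M ≤ S := by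
    intro x hx
    rw [Subgroup.mem_subgroupOf]
    refine derived_le_of_abelian_supplement (le_normalizer_sigmaCore M) (sigmaCore_le M) hK.1 ?_ ?_ ?_
    · haveI := hc K hK
      exact ⟨⟨fun a b => by letI := IsCyclic.commGroup (α := K); exact mul_comm a b⟩⟩
    · intro g hg
      obtain ⟨a, ha, b, hb, rfl⟩ := hU.compl.2.2.2 g hg
      rw [hU0, Subgroup.mem_bot] at ha
      rwa [ha, one_mul, sup_comm]
    · rw [← M.map_subtype_commutator]; exact ⟨x, hx, rfl⟩
  have hpσ : p ∉ sigma M := (hK.2.1 p hp (hP ▸ Subgroup.card_dvd_of_le hPK)).2.2.1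
  have hFσ : fittingHallOf M ≤ sigmaCore M := fittingHallOf_le_sigmaCore hG hpl hM
  haveI hnil : Group.IsNilpotent (S.map f) := by
    have ho : orderOf (f πM) = p := by
      have h1 : orderOf (f πM) ∣ p := by
        rw [← hπo, ← Subgroup.orderOf_mk π (hPM hπ)]
        exact orderOf_map_dvd f πM
      rcases (Nat.dvd_prime hp).mp h1 with h2 | h2
      · exfalso
        rw [orderOf_eq_one_iff, QuotientGroup.mk'_apply, QuotientGroup.eq_one_iff] at h2
        have h3 : π ∈ sigmaCore M := hFσ ⟨πM, h2, rfl⟩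
        exact hpσ (mem_sigma_of_dvd hp (hπo ▸ Subgroup.orderOf_dvd_natCard _ h3))
      · exact h2
    refine Core.BG.isNilpotent_of_fpf_prime hp ho ?_ ?_
    · haveI : S.Normal :=
        (Subgroup.normal_subgroupOf_iff_le_normalizer (sigmaCore_le M)).mpr (le_normalizer_sigmaCore M)
      haveI : (S.map f).Normal := Subgroup.Normal.map inferInstance f (QuotientGroup.mk'_surjective _)
      rw [Subgroup.normalizer_eq_top]; exact Subgroup.mem_top _
    · rw [Subgroup.eq_bot_iff_forall]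
      intro w hw
      obtain ⟨⟨s, hs, rfl⟩, hwc⟩ := Subgroup.mem_inf.mp hw
      have hwc' : Commute (f s) (f πM) := Subgroup.mem_centralizer_singleton_iff.mp hwc
      rw [QuotientGroup.mk'_apply, QuotientGroup.eq_one_iff]
      haveI : Group.IsSolvable P := Coprime.isSolvable_of_isPGroup (isPGroup_of_card_prime hP)
      obtain ⟨z, hz, c, hc', e⟩ := Coprime.exists_mul_centralizer (N := sigmaCore M) (M := fittingHallOf M) (A := P)
        (hPM.trans (le_normalizer_sigmaCore M))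
        (Nat.coprime_of_dvd fun r hr h1 h2 => hpσ (by
          rw [hP] at h1
          rw [← (Nat.prime_dvd_prime_iff_eq hr hp).mp h1]
          exact mem_sigma_of_dvd hr h2))
        hFσ (hPM.trans fun m hm => Coprime.mem_normalizer_of_conj_mem fun y hy => by
          obtain ⟨y', hy', rfl⟩ := hy
          exact ⟨⟨m, hm⟩ * y' * ⟨m, hm⟩⁻¹, (fittingHall_normal M).conj_mem y' hy' _, rfl⟩)
        (Subgroup.mem_subgroupOf.mp hs) (fun a ha => by
          obtain ⟨i, hi⟩ := Subgroup.mem_zpowers_iff.mp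
            ((zpowers_eq_of_card_prime hP hπ hπ1).ge ha)
          refine ⟨⁅s, ⟨a, hPM ha⟩⁆, ?_, rfl⟩
          show ⁅s, (⟨a, hPM ha⟩ : M)⁆ ∈ fittingHall M
          rw [← QuotientGroup.eq_one_iff]
          show f ⁅s, ⟨a, hPM ha⟩⁆ = 1
          rw [map_commutatorElement, commutatorElement_eq_one_iff_mul_comm,
            show (⟨a, hPM ha⟩ : M) = πM ^ i from Subtype.ext hi.symm, map_zpow]
          exact (hwc'.zpow_right i).eq)
      have hcF : c ∈ fittingHallOf M :=
        qData_le_fittingHallOf hG hpl hM hQ (hQ.fixed_le ((hfixP p P hP hPK).le hc'))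
      obtain ⟨y, hy, hye⟩ := mul_mem hz hcF
      rwa [show s = y from Subtype.ext (e.trans hye.symm)]
  exact Core.isNilpotent_of_le (Subgroup.map_mono hder) hnil

/-- A Sylow subgroup of a member is not cyclic over `C_{M_σ}(K)`. -/
theorem not_isCyclic_over_fixed {M K S : Subgroup G} (hM : IsCoatom M) (hK : IsPiHallOf (kappa M) K M) (hK1 : K ≠ ⊥)
    {t : ℕ} [Fact t.Prime] (hS : IsPGroup t S) (hSσ : S ≤ sigmaCore M) (hKS : K ≤ Subgroup.normalizer (S : Set G))
    (hSi : ¬ t ∣ S.relIndex (sigmaCore M)) {y : G} (hy : y ∈ S) (hy1 : y ≠ 1)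
    (hyY : y ∈ sigmaCore M ⊓ Subgroup.centralizer (K : Set G)) : ¬ IsCyclic S := by
  intro hc
  haveI : Group.IsSolvable K := Core.BG.isSolvable_proper hG fun e => hM.1 (top_le_iff.mp (e.ge.trans hK.1))
  have h1 : S ≤ sigmaCore M ⊓ Subgroup.centralizer (K : Set G) := le_inf hSσ
    (le_centralizer_of_isCyclic_of_fixed hS hc hKS (Nat.coprime_of_dvd fun r hr h1 h2 =>
      (hK.2.1 r hr h1).2.2.1 (mem_sigma_of_dvd hr (h2.trans (Subgroup.card_dvd_of_le hSσ)))) hy hy1
      (Subgroup.mem_inf.mp hyY).2)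
  obtain ⟨L, hL⟩ := exists_partner hG hpl hM hK hK1
  have htσ : t ∈ sigma M := by
    obtain ⟨q, hq, hqd, -⟩ := exists_prime_le_zpowers hy1
    obtain ⟨k, hk⟩ := IsPGroup.iff_card.mp hS
    have hqS := hqd.trans (Subgroup.orderOf_dvd_natCard S hy)
    rw [hk] at hqS
    rw [← (Nat.prime_dvd_prime_iff_eq hq Fact.out).mp (hq.dvd_of_dvd_pow hqS)]
    exact mem_sigma_of_dvd hq (hqd.trans (Subgroup.orderOf_dvd_natCard _ (hSσ hy)))
  set T : Sylow t (sigmaCore M) := (hS.comap_subtype : IsPGroup t (S.subgroupOf (sigmaCore M))).toSylow hSi with hT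
  obtain ⟨T', hT'⟩ := exists_sylow_eq_map hG hpl hM htσ T
  have e : (T' : Subgroup G) = S := by
    rw [hT']
    show (S.subgroupOf (sigmaCore M)).map (sigmaCore M).subtype = S
    rw [Subgroup.subgroupOf_map_subtype, inf_eq_left.mpr hSσ]
  refine hL.sylow_not_le hG hpl hM hK hK1 T' ?_ (e.le.trans h1)
  obtain ⟨q, hq, hqd, -⟩ := exists_prime_le_zpowers hy1
  obtain ⟨k, hk⟩ := IsPGroup.iff_card.mp hS
  have hqS := hqd.trans (Subgroup.orderOf_dvd_natCard S hy)
  rw [hk] at hqS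
  rw [← (Nat.prime_dvd_prime_iff_eq hq Fact.out).mp (hq.dvd_of_dvd_pow hqS)]
  exact hqd.trans (Subgroup.orderOf_dvd_natCard _ hyY)

theorem fixed_le_fittingHallOf {M K U : Subgroup G} (hM : IsCoatom M) (h : IsSigmaDecomposition M K U) (hK1 : K ≠ ⊥) :
    sigmaCore M ⊓ Subgroup.centralizer (K : Set G) ≤ fittingHallOf M ∧ ¬ IsCyclic (fittingHallOf M) := by
  have hKσ : (Nat.card K).Coprime (Nat.card (sigmaCore M)) := Nat.coprime_of_dvd fun r hr h1 h2 =>
    (h.hall.2.1 r hr h1).2.2.1 (mem_sigma_of_dvd hr h2)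
  have hKN : K ≤ Subgroup.normalizer (sigmaCore M : Set G) := h.hall.1.trans (le_normalizer_sigmaCore M)
  haveI : Group.IsSolvable K := Core.BG.isSolvable_proper hG fun e => hM.1 (top_le_iff.mp (e.ge.trans h.hall.1))
  set Y := sigmaCore M ⊓ Subgroup.centralizer (K : Set G) with hY
  have hY1 : Y ≠ ⊥ := IsPartner.kst_ne hG hpl hM h.hall hK1
  obtain ⟨t, ht, X, hX, hXY⟩ := exists_prime_le hY1
  haveI := Fact.mk ht
  obtain ⟨y, hy, hy1⟩ := X.bot_or_exists_ne_one.resolve_left (ne_bot_of_card_prime hX)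
  by_cases hn : Group.IsNilpotent (sigmaCore M)
  · have hle := sigmaCore_le_fittingHallOf hG hpl hM hn
    refine ⟨inf_le_left.trans hle, fun hc => ?_⟩
    obtain ⟨S, hXS, hSσ, hSp, hSi, hKS⟩ := Coprime.exists_invariant_sylow_ge hKN hKσ (R := X)
      (hXY.trans inf_le_left) (isPGroup_of_card_prime hX)
      (fun k hk => Coprime.mem_normalizer_of_conj_mem fun x hx => by
        rw [Subgroup.mem_centralizer_iff.mp (Subgroup.mem_inf.mp (hXY hx)).2 k hk, mul_inv_cancel_right]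
        exact hx)
    haveI := hc
    exact not_isCyclic_over_fixed hG hpl hM h.hall hK1 hSp hSσ hKS hSi (hXS hy) hy1 (hXY hy)
      (isCyclic_of_injective (Subgroup.inclusion (hSσ.trans hle)) (Subgroup.inclusion_injective _))
  · obtain ⟨Q, hQ⟩ := exists_qData hG hpl hM h hn
    haveI := Fact.mk hQ.prime
    have hle := qData_le_fittingHallOf hG hpl hM hQ
    refine ⟨hQ.fixed_le.trans hle, fun hc => ?_⟩
    haveI := hc
    exact not_isCyclic_over_fixed hG hpl hM h.hall hK1 hQ.pgroup hQ.le (h.hall.1.trans hQ.normal) hQ.sylow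
      (hQ.fixed_le (hXY hy)) hy1 (hXY hy)
      (isCyclic_of_injective (Subgroup.inclusion hle) (Subgroup.inclusion_injective _))

/-- `M' = U M_σ` and `C_{M_σ}(K) ≤ M''`. -/
theorem derived_eq_and_fixed_le {M K U : Subgroup G} (hM : IsCoatom M) (h : IsSigmaDecomposition M K U)
    (hK1 : K ≠ ⊥) : ⁅M, M⁆ = U ⊔ sigmaCore M ∧
      sigmaCore M ⊓ Subgroup.centralizer (K : Set G) ≤ ⁅⁅M, M⁆, ⁅M, M⁆⁆ := by
  obtain ⟨-, -, -, hfix⟩ := kappa_hall_facts hG hpl hM h.hall hK1
  obtain ⟨-, hUp, -⟩ := decomp_facts hG hpl hM h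
  haveI : IsMulCommutative K := by
    haveI := h.cyclic
    exact ⟨⟨fun a b => by letI := IsCyclic.commGroup (α := K); exact mul_comm a b⟩⟩
  haveI : Group.IsSolvable K := Core.BG.isSolvable_proper hG fun e => hM.1 (top_le_iff.mp (e.ge.trans h.hall.1))
  have hUM : U ⊔ sigmaCore M ≤ M := sup_le h.compl.1 (sigmaCore_le M)
  have hgen : ∀ g ∈ M, g ∈ (U ⊔ sigmaCore M) ⊔ K := fun g hg => by
    obtain ⟨k, hk, n, hn, rfl⟩ := exists_kappa_mul h hg
    exact mul_mem (Subgroup.mem_sup_right hk) (Subgroup.mem_sup_left hn)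
  have hle : ⁅M, M⁆ ≤ U ⊔ sigmaCore M :=
    derived_le_of_abelian_supplement (decomp_le_normalizer h) hUM h.hall.1 inferInstance hgen
  have hKU : (Nat.card K).Coprime (Nat.card U) := Nat.coprime_of_dvd fun r hr h1 h2 =>
    (hUp r hr h2).2 (h.hall.2.1 r hr h1)
  have heq : ⁅M, M⁆ = U ⊔ sigmaCore M := by
    refine le_antisymm hle (sup_le ?_ (sigmaCore_le_derived hG hM))
    refine (Coprime.eq_commutator_sup_centralizer h.normal hKU).le.trans (sup_le ?_ ?_)
    · exact Subgroup.commutator_mono h.compl.1 h.hall.1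
    · obtain ⟨k, hk, hk1⟩ := K.bot_or_exists_ne_one.resolve_left hK1
      refine le_trans ?_ (bot_le : (⊥ : Subgroup G) ≤ _)
      rw [← decomp_regular hG hpl hM h hk hk1]
      exact inf_le_inf_left _ (Subgroup.centralizer_le (Set.singleton_subset_iff.mpr hk))
  refine ⟨heq, ?_⟩
  set D := ⁅⁅M, M⁆, ⁅M, M⁆⁆ with hD
  set T := ⁅⁅M, M⁆, K⁆ with hT
  have hM'M : ⁅M, M⁆ ≤ M := (derived_lt hG hpl hM).le
  have hMM' : M ≤ Subgroup.normalizer ((⁅M, M⁆ : Subgroup G) : Set G) := fun g hg => cj_eq_iff.mp (by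
    rw [cj, Subgroup.map_commutator, ← cj, cj_eq_iff.mpr (Subgroup.le_normalizer hg)])
  have hcopM : (Nat.card K).Coprime (Nat.card ↥⁅M, M⁆) := Nat.coprime_of_dvd fun r hr h1 h2 =>
    decomp_primes hG hpl hM h r hr (h2.trans (heq ▸ dvd_rfl)) (h.hall.2.1 r hr h1)
  -- `M' = [M', K] M''`
  have hMD : M ≤ Subgroup.normalizer (D : Set G) := fun g hg => cj_eq_iff.mp (by
    rw [hD, cj, Subgroup.map_commutator, ← cj, cj_eq_iff.mpr (hMM' hg)])
  have hM'T : ⁅M, M⁆ ≤ Subgroup.normalizer (T : Set G) := Subgroup.normalizer_commutator_ge_left _ _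
  have hKT : K ≤ Subgroup.normalizer (T : Set G) := Subgroup.normalizer_commutator_ge_right _ _
  set W := T ⊔ D with hW
  have hTM' : T ≤ ⁅M, M⁆ := Coprime.commutator_le_of_le_normalizer (h.hall.1.trans hMM')
  have hDM' : D ≤ ⁅M, M⁆ := Coprime.commutator_le_of_le_normalizer Subgroup.le_normalizer
  have hMW : M ≤ Subgroup.normalizer (W : Set G) := fun g hg => cj_eq_iff.mp (by
    have hgT : g ∈ Subgroup.normalizer (T : Set G) := by
      obtain ⟨k, hk, n, hn, rfl⟩ := exists_kappa_mul h hg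
      exact mul_mem (hKT hk) (hM'T (heq.ge hn))
    rw [hW, cj, Subgroup.map_sup, ← cj, ← cj, cj_eq_iff.mpr hgT, cj_eq_iff.mpr (hMD hg)])
  have hgen' : ∀ g ∈ M, ∃ k ∈ K, ∃ n ∈ ⁅M, M⁆, g = k * n := fun g hg => by
    obtain ⟨k, hk, n, hn, rfl⟩ := exists_kappa_mul h hg
    exact ⟨k, hk, n, heq.ge hn, rfl⟩
  have hM'W : ⁅M, M⁆ ≤ W := by
    refine Subgroup.commutator_le.mpr fun a ha b hb => ?_
    obtain ⟨k, hk, n, hn, rfl⟩ := hgen' a ha
    obtain ⟨l, hl, m, hm, rfl⟩ := hgen' b hb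
    have hconj : ∀ {g x : G}, g ∈ M → x ∈ W → g * x * g⁻¹ ∈ W := fun hg hx =>
      (Subgroup.mem_normalizer_iff.mp (hMW hg) _).mp hx
    have e1 : ⁅k * n, l * m⁆ = k * ⁅n, l * m⁆ * k⁻¹ * ⁅k, l * m⁆ := by
      simp only [commutatorElement_def]; group
    have e2 : ∀ a : G, ⁅a, l * m⁆ = ⁅a, l⁆ * (l * ⁅a, m⁆ * l⁻¹) := fun a => by
      simp only [commutatorElement_def]; group
    have hkl : ⁅k, l⁆ = 1 := commutatorElement_eq_one_iff_mul_comm.mpr
      (congrArg Subtype.val (mul_comm' (⟨k, hk⟩ : K) ⟨l, hl⟩))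
    have hkm : ⁅k, m⁆ ∈ W := by
      rw [← inv_mem_iff (H := W), commutatorElement_inv]
      exact Subgroup.mem_sup_left (Subgroup.commutator_mem_commutator hm hk)
    rw [e1, e2, e2 k, hkl, one_mul]
    exact mul_mem (hconj (h.hall.1 hk) (mul_mem (Subgroup.mem_sup_left (Subgroup.commutator_mem_commutator hn hl))
      (hconj (h.hall.1 hl) (Subgroup.mem_sup_right (Subgroup.commutator_mem_commutator hn hm)))))
      (hconj (h.hall.1 hl) hkm)
  -- fixed points of `K` in the abelian group `M' / M''`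
  intro y hy
  obtain ⟨hyσ, hyC⟩ := Subgroup.mem_inf.mp hy
  haveI : (D.subgroupOf M).Normal := (Subgroup.normal_subgroupOf_iff_le_normalizer (hDM'.trans hM'M)).mpr hMD
  set f := QuotientGroup.mk' (D.subgroupOf M) with hf
  set V := ((⁅M, M⁆).subgroupOf M).map f with hV
  set A := (K.subgroupOf M).map f with hA
  haveI : IsMulCommutative V := ⟨⟨fun a b => by
    obtain ⟨x, hx, hxe⟩ := a.2
    obtain ⟨z, hz, hze⟩ := b.2
    refine Subtype.ext ?_
    show (a : ↥M ⧸ D.subgroupOf M) * b = b * a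
    rw [← hxe, ← hze, ← commutatorElement_eq_one_iff_mul_comm, ← map_commutatorElement]
    exact (QuotientGroup.eq_one_iff _).mpr (Subgroup.mem_subgroupOf.mpr
      (Subgroup.commutator_mem_commutator (Subgroup.mem_subgroupOf.mp hx) (Subgroup.mem_subgroupOf.mp hz)))⟩⟩
  haveI : Group.IsSolvable A := by
    haveI : Group.IsSolvable (K.subgroupOf M) :=
      Group.isSolvable_of_isSolvable_injective (f := (Subgroup.subgroupOfEquivOfLe h.hall.1).toMonoidHom)
        (MulEquiv.injective _)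
    exact Group.isSolvable_of_surjective (f.subgroupMap_surjective (K.subgroupOf M))
  have hAV : A ≤ Subgroup.normalizer (V : Set _) := by
    haveI : ((⁅M, M⁆).subgroupOf M).Normal := (Subgroup.normal_subgroupOf_iff_le_normalizer hM'M).mpr hMM'
    haveI : V.Normal := Subgroup.Normal.map inferInstance f (QuotientGroup.mk'_surjective _)
    rw [Subgroup.normalizer_eq_top]; exact le_top
  have hcop : (Nat.card A).Coprime (Nat.card V) :=
    Nat.Coprime.coprime_dvd_left ((Subgroup.card_map_dvd (K.subgroupOf M) f).trans (Core.card_subgroupOf h.hall.1).dvd)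
      (Nat.Coprime.coprime_dvd_right ((Subgroup.card_map_dvd ((⁅M, M⁆).subgroupOf M) f).trans (Core.card_subgroupOf hM'M).dvd) hcopM)
  have hdisj := Coprime.commutator_inf_centralizer_eq_bot (V := V) (A := A) hAV inferInstance hcop
  have hVle : V ≤ ⁅V, A⁆ := by
    rintro _ ⟨x, hx, rfl⟩
    obtain ⟨t₁, ht₁, d, hd, e⟩ := Coprime.exists_mul_of_mem_sup
      (hDM'.trans hM'T) (hM'W (Subgroup.mem_subgroupOf.mp hx))
    have htM : t₁ ∈ M := hM'M (hTM' ht₁)
    have h1 : f x = f ⟨t₁, htM⟩ := by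
      symm
      refine QuotientGroup.eq.mpr (Subgroup.mem_subgroupOf.mpr ?_)
      show t₁⁻¹ * (x : G) ∈ D
      rw [← e, inv_mul_cancel_left]; exact hd
    rw [h1]
    have h2 : T.subgroupOf M = ⁅(⁅M, M⁆).subgroupOf M, K.subgroupOf M⁆ := by
      apply Subgroup.map_injective M.subtype_injective
      rw [Subgroup.map_commutator, Subgroup.subgroupOf_map_subtype, Subgroup.subgroupOf_map_subtype,
        Subgroup.subgroupOf_map_subtype, inf_eq_left.mpr hM'M, inf_eq_left.mpr h.hall.1,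
        inf_eq_left.mpr (hTM'.trans hM'M)]
    have h3 : f ⟨t₁, htM⟩ ∈ (T.subgroupOf M).map f := ⟨_, Subgroup.mem_subgroupOf.mpr ht₁, rfl⟩
    rw [h2, Subgroup.map_commutator] at h3
    exact h3
  set yM : M := ⟨y, sigmaCore_le M hyσ⟩
  have hyV : f yM ∈ ⁅V, A⁆ ⊓ Subgroup.centralizer (A : Set _) := by
    refine Subgroup.mem_inf.mpr ⟨hVle ⟨yM, Subgroup.mem_subgroupOf.mpr (sigmaCore_le_derived hG hM hyσ), rfl⟩,
      Subgroup.mem_centralizer_iff.mpr ?_⟩
    rintro _ ⟨k, hk, rfl⟩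
    rw [← map_mul, ← map_mul]
    exact congrArg f (Subtype.ext (Subgroup.mem_centralizer_iff.mp hyC k (Subgroup.mem_subgroupOf.mp hk)))
  rw [hdisj, Subgroup.mem_bot] at hyV
  exact Subgroup.mem_subgroupOf.mp ((QuotientGroup.eq_one_iff yM).mp hyV)

end Cfsg.Agent.OddLocal.Sigma
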