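import Cfsg.Agent.OddLocal.Sigma.PartnerRows
import Cfsg.Agent.OddLocal.Sigma.Beta
import Cfsg.Agent.OddLocal.Sigma.CentTau1
import Cfsg.Agent.OddLocal.Basic
import Cfsg.Agent.OddLocal.PLengthOne
import Cfsg.Agent.Coprime.Action
import Cfsg.Agent.Core.BG.PrimeManner

/-! The nilpotency of `M_σ` and `M_F` (BG 15.2). -/

set_option autoImplicit false
set_option linter.style.haveILetI false
set_option linter.unusedSectionVars false

namespace Cfsg.Agent.OddLocal.Sigma

open Cfsg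
open scoped commutatorElement

/-- A central normal Hall subgroup meets the derived subgroup trivially. -/
theorem inf_commutator_eq_bot_of_central {X : Type*} [Group X] [Finite X] {V : Subgroup X} [V.Normal]
    (hc : ∀ x : X, ∀ v ∈ V, x * v = v * x) (hco : (Nat.card V).Coprime V.index) :
    V ⊓ commutator X = ⊥ := by
  obtain ⟨L, hL⟩ := Subgroup.exists_right_complement'_of_coprime hco
  have htop : V ⊔ L = ⊤ := hL.sup_eq_top
  haveI hLn : L.Normal := by
    refine Subgroup.normalizer_eq_top_iff.mp (top_le_iff.mp ?_)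
    rw [← htop]
    refine sup_le (fun v hv => Subgroup.mem_normalizer_iff.mpr fun x => ?_) Subgroup.le_normalizer
    rw [← hc x v hv, mul_inv_cancel_right]
  have hle : commutator X ≤ L := by
    rw [commutator_def]
    refine Subgroup.commutator_le.mpr fun a _ b _ => ?_
    obtain ⟨v, hv, l, hl, rfl⟩ := Subgroup.mem_sup_of_normal_left.mp (htop ▸ Subgroup.mem_top a)
    obtain ⟨w, hw, k, hk, rfl⟩ := Subgroup.mem_sup_of_normal_left.mp (htop ▸ Subgroup.mem_top b)
    have e : ⁅v * l, w * k⁆ = l * k * l⁻¹ * k⁻¹ := by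
      rw [commutatorElement_def, mul_inv_rev, mul_inv_rev]
      have h1 : ∀ x : X, v⁻¹ * x = x * v⁻¹ := fun x => (hc x v⁻¹ (inv_mem hv)).symm
      have h2 : ∀ x : X, w⁻¹ * x = x * w⁻¹ := fun x => (hc x w⁻¹ (inv_mem hw)).symm
      calc v * l * (w * k) * (l⁻¹ * v⁻¹) * (k⁻¹ * w⁻¹) = v * (l * w) * k * l⁻¹ * (v⁻¹ * k⁻¹) * w⁻¹ := by group
        _ = v * (w * l) * k * l⁻¹ * (k⁻¹ * v⁻¹) * w⁻¹ := by rw [hc l w hw, h1]
        _ = v * w * (l * k * l⁻¹ * k⁻¹) * v⁻¹ * w⁻¹ := by group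
        _ = (l * k * l⁻¹ * k⁻¹) * (v * w) * v⁻¹ * w⁻¹ := by rw [hc _ (v * w) (mul_mem hv hw)]
        _ = (l * k * l⁻¹ * k⁻¹) * (v * w * v⁻¹ * w⁻¹) := by group
        _ = l * k * l⁻¹ * k⁻¹ := by rw [hc v w hw, mul_inv_cancel_right, mul_inv_cancel, mul_one]
    rw [e]
    exact mul_mem (mul_mem (mul_mem hl hk) (inv_mem hl)) (inv_mem hk)
  exact eq_bot_iff.mpr ((inf_le_inf_left V hle).trans (le_of_eq (disjoint_iff.mp hL.disjoint)))

variable {G : Type*} [Group G] [Finite G]

theorem exists_prime_le {K : Subgroup G} (hK1 : K ≠ ⊥) :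
    ∃ p : ℕ, p.Prime ∧ ∃ P : Subgroup G, Nat.card P = p ∧ P ≤ K := by
  obtain ⟨k, hk, hk1⟩ := K.bot_or_exists_ne_one.resolve_left hK1
  obtain ⟨p, hp, -, P, hP, hPk⟩ := exists_prime_le_zpowers hk1
  exact ⟨p, hp, P, hP, hPk.trans (Subgroup.zpowers_le.mpr hk)⟩

/-- `M = M_σ K` modulo which the derived group of `M` is trivial. -/
theorem derived_le_of_abelian_supplement {M N K : Subgroup G} (hN : M ≤ Subgroup.normalizer (N : Set G))
    (hNM : N ≤ M) (hKM : K ≤ M) (hK : IsMulCommutative K) (hsup : M ≤ N ⊔ K) : ⁅M, M⁆ ≤ N := by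
  refine Subgroup.commutator_le.mpr fun a ha b hb => ?_
  obtain ⟨n, hn, k, hk, rfl⟩ := Coprime.exists_mul_of_mem_sup (hKM.trans hN) (hsup ha)
  obtain ⟨n', hn', k', hk', rfl⟩ := Coprime.exists_mul_of_mem_sup (hKM.trans hN) (hsup hb)
  have hcomm : k * k' = k' * k := congrArg Subtype.val (mul_comm' (⟨k, hk⟩ : K) ⟨k', hk'⟩)
  have hc : ∀ {g x : G}, g ∈ M → x ∈ N → g * x * g⁻¹ ∈ N := fun hg hx =>
    (Subgroup.mem_normalizer_iff.mp (hN hg) _).mp hx
  have e : ⁅n * k, n' * k'⁆ = n * (k * n' * k⁻¹) * ((k * k' * k⁻¹) * n⁻¹ * k'⁻¹) * n'⁻¹ := by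
    rw [commutatorElement_def]; group
  have e2 : k * k' * k⁻¹ = k' := by rw [hcomm, mul_inv_cancel_right]
  rw [e, e2]
  exact mul_mem (mul_mem (mul_mem hn (hc (hKM hk) hn')) (hc (hKM hk') (inv_mem hn))) (inv_mem hn')

variable (hG : IsMinSimpleOddOrder G)
include hG
variable (hpl : ∀ (p : ℕ) [Fact p.Prime] (H : Subgroup G), H ≠ ⊤ → PLengthLE p 1 H)
include hpl

theorem derived_lt {M : Subgroup G} (hM : IsCoatom M) : ⁅M, M⁆ < M := by
  refine lt_of_le_of_ne (Subgroup.commutator_le.mpr fun a ha b hb =>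
    mul_mem (mul_mem (mul_mem ha hb) (inv_mem ha)) (inv_mem hb)) fun e => ?_
  haveI := Core.BG.isSolvable_proper hG hM.1
  haveI : Nontrivial M := (Subgroup.nontrivial_iff_ne_bot M).mpr fun h => sigmaCore_ne_bot hG hM
    (le_bot_iff.mp ((sigmaCore_le M).trans h.le))
  exact (Group.IsSolvable.commutator_lt_top_of_nontrivial M).ne (Subgroup.map_injective M.subtype_injective
    (by rw [Subgroup.map_subtype_commutator, ← MonoidHom.range_eq_map, Subgroup.range_subtype, e]))

/-- `M_σ` is nilpotent when `U ≠ 1`. -/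
theorem isNilpotent_sigmaCore_of_ne_bot {M K U : Subgroup G} (hM : IsCoatom M) (h : IsSigmaDecomposition M K U)
    (hU : U ≠ ⊥) : Group.IsNilpotent (sigmaCore M) := by
  obtain ⟨U₀, hU₀, hexp, hfree⟩ := decomp_free hG hpl hM h
  have hU₀1 : U₀ ≠ ⊥ := by
    rintro rfl
    refine hU ((Subgroup.eq_bot_iff_forall U).mpr fun u hu => ?_)
    have h1 : orderOf (⟨u, hu⟩ : U) ∣ 1 := by
      have h2 : Monoid.exponent (⊥ : Subgroup G) = 1 := Monoid.exp_eq_one_iff.mpr inferInstance
      rw [← h2, hexp]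
      exact Monoid.order_dvd_exponent _
    rw [Nat.dvd_one, Subgroup.orderOf_mk, orderOf_eq_one_iff] at h1
    exact h1
  obtain ⟨p, hp, P, hP, hPU⟩ := exists_prime_le hU₀1
  haveI := Fact.mk hp
  obtain ⟨u, hu, hu1⟩ := P.bot_or_exists_ne_one.resolve_left (ne_bot_of_card_prime hP)
  have huM : u ∈ M := h.compl.1 (hU₀ (hPU hu))
  have huo : orderOf u = p := by
    rw [← Nat.card_zpowers, zpowers_eq_of_card_prime hP hu hu1, hP]
  refine Core.BG.isNilpotent_of_fpf_prime hp huo (le_normalizer_sigmaCore M huM) ?_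
  rw [Subgroup.eq_bot_iff_forall]
  intro y hy
  by_contra hy1
  exact hu1 (hfree u (hPU hu) ⟨huM, y, (Subgroup.mem_inf.mp hy).1, hy1,
    (Subgroup.mem_centralizer_singleton_iff.mp (Subgroup.mem_inf.mp hy).2).symm⟩)

/-- If `M_σ` is not nilpotent then `U = 1` and `K ≠ 1`. -/
theorem decomp_of_not_nilpotent {M K U : Subgroup G} (hM : IsCoatom M) (h : IsSigmaDecomposition M K U)
    (hne : ¬ Group.IsNilpotent (sigmaCore M)) : U = ⊥ ∧ K ≠ ⊥ := by
  have hU : U = ⊥ := by_contra fun hU => hne (isNilpotent_sigmaCore_of_ne_bot hG hpl hM h hU)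
  refine ⟨hU, fun hK => ?_⟩
  have hle : M ≤ sigmaCore M := by
    intro g hg
    obtain ⟨a, ha, b, hb, rfl⟩ := h.compl.2.2.2 g hg
    rw [hU, Subgroup.mem_bot] at ha
    rw [hK, bot_sup_eq] at hb
    rw [ha, one_mul]; exact hb
  exact (derived_lt hG hpl hM).not_ge (hle.trans (sigmaCore_le_derived hG hM))

/-- The normal Sylow subgroup in a non-nilpotent `M_σ`. -/
structure QData (M K Q : Subgroup G) (q : ℕ) : Prop where
  prime : q.Prime
  card : Nat.card ↥(sigmaCore M ⊓ Subgroup.centralizer (K : Set G)) = q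
  pgroup : IsPGroup q Q
  le : Q ≤ sigmaCore M
  fixed_le : sigmaCore M ⊓ Subgroup.centralizer (K : Set G) ≤ Q
  normal : M ≤ Subgroup.normalizer (Q : Set G)
  sylow : ¬ q ∣ Q.relIndex (sigmaCore M)

theorem exists_qData {M K U : Subgroup G} (hM : IsCoatom M) (h : IsSigmaDecomposition M K U)
    (hne : ¬ Group.IsNilpotent (sigmaCore M)) :
    ∃ Q : Subgroup G, QData M K Q (Nat.card ↥(sigmaCore M ⊓ Subgroup.centralizer (K : Set G))) := by
  obtain ⟨hU, hK1⟩ := decomp_of_not_nilpotent hG hpl hM h hne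
  obtain ⟨-, -, hfixP, -⟩ := kappa_hall_facts hG hpl hM h.hall hK1
  set Y := sigmaCore M ⊓ Subgroup.centralizer (K : Set G) with hY
  set q := Nat.card Y with hq
  have hqp : q.Prime := IsPartner.card_fixed_prime hG hpl hM h hK1 hU
  haveI := Fact.mk hqp
  obtain ⟨p, hp, P, hP, hPK⟩ := exists_prime_le hK1
  haveI := Fact.mk hp
  obtain ⟨π, hπ, hπ1⟩ := P.bot_or_exists_ne_one.resolve_left (ne_bot_of_card_prime hP)
  have hπo : orderOf π = p := by rw [← Nat.card_zpowers, zpowers_eq_of_card_prime hP hπ hπ1, hP]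
  have hPM : P ≤ M := hPK.trans h.hall.1
  haveI := Core.BG.isSolvable_proper hG hM.1
  have hpσ : p ∉ sigma M := (h.hall.2.1 p hp (hP ▸ Subgroup.card_dvd_of_le hPK)).2.2.1
  have hqσ : q ∈ sigma M := mem_sigma_of_dvd hqp (Subgroup.card_dvd_of_le inf_le_left)
  have hqG : q ∣ Nat.card G := Subgroup.card_subgroup_dvd_card Y
  have hpG : p ∣ Nat.card G := hP ▸ Subgroup.card_subgroup_dvd_card P
  have hq2 : q ≠ 2 := ne_two_of_dvd hG hqG
  have hKσ : (Nat.card K).Coprime (Nat.card (sigmaCore M)) := Nat.coprime_of_dvd fun r hr h1 h2 =>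
    (h.hall.2.1 r hr h1).2.2.1 (mem_sigma_of_dvd hr h2)
  have hKN : K ≤ Subgroup.normalizer (sigmaCore M : Set G) := h.hall.1.trans (le_normalizer_sigmaCore M)
  haveI : Group.IsSolvable K := Core.BG.isSolvable_proper hG fun e => hM.1 (top_le_iff.mp (e.ge.trans h.hall.1))
  obtain ⟨Q, hYQ, hQσ, hQp, hQi, hKQ⟩ := Coprime.exists_invariant_sylow_ge hKN hKσ (R := Y) inf_le_left
    (IsPGroup.of_card (show Nat.card Y = q ^ 1 by rw [pow_one]))
    (fun k hk => Coprime.mem_normalizer_of_conj_mem fun y hy => by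
      rw [Subgroup.mem_centralizer_iff.mp (Subgroup.mem_inf.mp hy).2 k hk, mul_inv_cancel_right]
      exact hy)
  refine ⟨Q, hqp, rfl, hQp, hQσ, hYQ, ?_, hQi⟩
  have hQM : Q ≤ M := hQσ.trans (sigmaCore_le M)
  have hQiM : ¬ q ∣ (Q.subgroupOf M).index := by
    show ¬ q ∣ Q.relIndex M
    rw [← Subgroup.relIndex_mul_relIndex Q (sigmaCore M) M hQσ (sigmaCore_le M)]
    exact fun hd => (hqp.dvd_mul.mp hd).elim hQi ((sigmaCore_hallOf hG hM).2.2 q hqp hqσ)
  set S : Sylow q M := (hQp.comap_subtype : IsPGroup q (Q.subgroupOf M)).toSylow hQiM with hS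
  obtain ⟨N₀, hN₀, hN₀q, hSN, -, -⟩ := pLengthOne_facts (hpl q M hM.1) S
  haveI := hN₀
  set A := N₀.map M.subtype ⊓ sigmaCore M with hA
  have hAσ : A ≤ sigmaCore M := inf_le_right
  have hAq : (Nat.card A).Coprime q := Nat.Coprime.coprime_dvd_left
    ((Subgroup.card_dvd_of_le (inf_le_left : A ≤ N₀.map M.subtype)).trans (Core.card_map_subtype N₀).dvd) hN₀q
  have hnormal : ∀ {H : Subgroup M}, H.Normal → M ≤ Subgroup.normalizer (H.map M.subtype : Set G) :=
    fun {H} hH m hm => Coprime.mem_normalizer_of_conj_mem fun y hy => by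
      obtain ⟨z, hz, rfl⟩ := hy
      exact ⟨⟨m, hm⟩ * z * ⟨m, hm⟩⁻¹, hH.conj_mem z hz _, rfl⟩
  have hMA : M ≤ Subgroup.normalizer (A : Set G) :=
    (le_inf (hnormal hN₀) (le_normalizer_sigmaCore M)).trans Subgroup.inf_normalizer_le_normalizer_inf
  -- `A` is nilpotent
  have hAC : A ⊓ Subgroup.centralizer (P : Set G) = ⊥ := by
    rw [eq_bot_iff, ← Coprime.inf_eq_bot_of_coprime (N := A) (A := Y) (hq ▸ hAq.symm)]
    exact le_inf inf_le_left ((inf_le_inf_right _ hAσ).trans (hfixP p P hP hPK).le)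
  haveI hAnil : Group.IsNilpotent A := Core.BG.isNilpotent_of_fpf_prime hp hπo (hMA (hPM hπ)) (by
    rw [centralizer_eq_of_card_prime hP hπ hπ1]; exact hAC)
  -- `M = A N_M(Q)`
  have hQA : ∀ m ∈ M, cj m Q ≤ Q ⊔ A := by
    intro m hm
    have hW : M ≤ Subgroup.normalizer (((S : Subgroup M) ⊔ N₀).map M.subtype : Set G) := hnormal hSN
    have hSmap : (S : Subgroup M).map M.subtype = Q := by
      show (Q.subgroupOf M).map M.subtype = Q
      rw [Subgroup.subgroupOf_map_subtype, inf_eq_left.mpr hQM]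
    intro x hx
    have h1 : x ∈ ((S : Subgroup M) ⊔ N₀).map M.subtype := by
      obtain ⟨y, hy, rfl⟩ := hx
      exact (Subgroup.mem_normalizer_iff.mp (hW hm) y).mp
        (Subgroup.map_mono le_sup_left (hSmap.ge hy))
    have h2 : x ∈ sigmaCore M := by
      obtain ⟨y, hy, rfl⟩ := hx
      exact (Subgroup.mem_normalizer_iff.mp (le_normalizer_sigmaCore M hm) y).mp (hQσ hy)
    rw [Subgroup.map_sup, hSmap] at h1
    obtain ⟨n, hn, s, hs, rfl⟩ := Coprime.exists_mul_of_mem_sup (hQM.trans (hnormal hN₀))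
      (show x ∈ N₀.map M.subtype ⊔ Q by rwa [sup_comm])
    refine mul_mem (Subgroup.mem_sup_right (Subgroup.mem_inf.mpr ⟨hn, ?_⟩)) (Subgroup.mem_sup_left hs)
    have := (sigmaCore M).mul_mem h2 ((sigmaCore M).inv_mem (hQσ hs))
    rwa [mul_inv_cancel_right] at this
  have hQAd : Q.relIndex (Q ⊔ A) ∣ Q.relIndex (sigmaCore M) :=
    Dvd.intro _ (Subgroup.relIndex_mul_relIndex Q (Q ⊔ A) (sigmaCore M) le_sup_left (sup_le hQσ hAσ))
  have hQAi : ¬ q ∣ Q.relIndex (Q ⊔ A) := fun hd => hQi (hd.trans hQAd)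
  have hsplit : ∀ m ∈ M, ∃ a ∈ A, ∃ n ∈ M ⊓ Subgroup.normalizer (Q : Set G), m = a * n := by
    intro m hm
    have h1 : ¬ q ∣ (cj m Q).relIndex (Q ⊔ A) := fun hd => by
      refine hQi ?_
      have h2 : q ∣ (cj m Q).relIndex (sigmaCore M) := hd.trans (Dvd.intro _
        (Subgroup.relIndex_mul_relIndex (cj m Q) (Q ⊔ A) (sigmaCore M) (hQA m hm) (sup_le hQσ hAσ)))
      rw [cj] at h2
      rwa [← cj_eq_iff.mpr (le_normalizer_sigmaCore M hm), cj,
        Subgroup.relIndex_map_map_of_injective Q (sigmaCore M) (MulAut.conj m).injective] at h2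
    obtain ⟨w, hw, hwe⟩ := Coprime.exists_conj_of_sylow (hQp.map (MulAut.conj m).toMonoidHom) hQp (hQA m hm)
      le_sup_left h1 hQAi
    have hwe' : cj w (cj m Q) = Q := hwe
    obtain ⟨a, ha, s, hs, rfl⟩ := Coprime.exists_mul_of_mem_sup (hQM.trans hMA)
      (show w ∈ A ⊔ Q by rwa [sup_comm])
    have hwM : a * s ∈ M := mul_mem (sigmaCore_le M (hAσ ha)) (hQM hs)
    refine ⟨(s⁻¹ * a * s)⁻¹, inv_mem ?_, (s⁻¹ * (a * s)) * m, ?_, by group⟩
    · exact (Subgroup.mem_set_normalizer_iff''.mp (hMA (hQM hs)) a).mp ha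
    · refine Subgroup.mem_inf.mpr ⟨mul_mem (mul_mem (inv_mem (hQM hs)) hwM) hm, ?_⟩
      rw [mul_assoc]
      refine mul_mem (inv_mem (Subgroup.le_normalizer hs)) (cj_eq_iff.mp ?_)
      rw [cj_mul, hwe']
  -- `[Q, P]` centralizes `A`
  haveI : Group.IsSolvable P := Coprime.isSolvable_of_isPGroup (isPGroup_of_card_prime hP)
  have hpq : p ≠ q := fun e => hpσ (e ▸ hqσ)
  have hPQ : P ≤ Subgroup.normalizer (Q : Set G) := hPK.trans hKQ
  have hcQP : (Nat.card P).Coprime (Nat.card Q) := coprime_of_pGroups hpq (isPGroup_of_card_prime hP) hQp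
  have hQ1 : ⁅Q, P⁆ ≤ Q := Coprime.commutator_le_of_le_normalizer hPQ
  have hcentr : ⁅Q, P⁆ ≤ Subgroup.centralizer (A : Set G) := by
    rw [Subgroup.le_centralizer_iff]
    intro a ha
    suffices h' : ∀ (r : ℕ) [Fact r.Prime] (R : Sylow r A), ⁅Q, P⁆ ≤
        Subgroup.centralizer ((R : Subgroup A).map A.subtype : Set G) by
      exact Core.le_of_forall_exists_sylow_le (K := Subgroup.centralizer ((⁅Q, P⁆ : Subgroup G) : Set G))
        (fun r hr => by
          haveI := Fact.mk hr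
          obtain ⟨R⟩ := (inferInstance : Nonempty (Sylow r A))
          exact ⟨R, Subgroup.le_centralizer_iff.mp (h' r R)⟩) ha
    intro r _ R
    by_cases hR1 : (R : Subgroup A) = ⊥
    · rw [hR1, Subgroup.map_bot]
      intro x _
      exact Subgroup.mem_centralizer_iff.mpr fun g hg => by rw [Subgroup.mem_bot.mp hg, one_mul, mul_one]
    have hrA : r ∣ Nat.card A := by
      obtain ⟨k, hk⟩ := IsPGroup.iff_card.mp R.isPGroup'
      rcases Nat.eq_zero_or_pos k with rfl | hk0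
      · exact absurd (Subgroup.eq_bot_of_card_eq _ (hk.trans (pow_zero r))) hR1
      · exact (dvd_pow_self r hk0.ne').trans (hk ▸ Subgroup.card_subgroup_dvd_card _)
    haveI hRn : (R : Subgroup A).Normal :=
      Core.isNilpotent_iff_forall_sylow_normal.mp hAnil r inferInstance R
    have hMR : M ≤ Subgroup.normalizer ((R : Subgroup A).map A.subtype : Set G) := hMA.trans fun m hm =>
      Coprime.mem_normalizer_of_conj_mem fun y hy => by
        obtain ⟨z, hz, rfl⟩ := hy
        haveI : (R : Subgroup A).Characteristic := R.characteristic_of_normal hRn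
        exact ⟨A.normalizerMonoidHom ⟨m, hm⟩ z, Subgroup.characteristic_iff_map_le.mp inferInstance
          (A.normalizerMonoidHom ⟨m, hm⟩) ⟨z, hz, rfl⟩, rfl⟩
    have hrσ : r ∈ sigma M := mem_sigma_of_dvd Fact.out (hrA.trans (Subgroup.card_dvd_of_le hAσ))
    have hrq : r ≠ q := fun e => hqp.not_dvd_one (hAq.gcd_eq_one ▸ Nat.dvd_gcd (e ▸ hrA) dvd_rfl)
    have hrG : r ∣ Nat.card G := hrA.trans (Subgroup.card_subgroup_dvd_card A)
    refine le_centralizer_of_fix hp (ne_two_of_dvd hG hrG) hq2 hrq (fun e => hpσ (e ▸ hrσ)) hpq.symm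
      (hQp.to_le hQ1) hP (R.isPGroup'.map _) (Subgroup.normalizer_commutator_ge_right Q P)
      (hPM.trans hMR) ((hQ1.trans hQM).trans hMR) (Coprime.commutator_commutator_eq hPQ hcQP) fun x hx hxP _ => ?_
    have : x ∈ A ⊓ Subgroup.centralizer (P : Set G) := Subgroup.mem_inf.mpr ⟨Subgroup.map_subtype_le _ hx, hxP⟩
    rw [hAC, Subgroup.mem_bot] at this
    rw [this]
    exact one_mem _
  set C := Q ⊓ Subgroup.centralizer (A : Set G) with hC
  have hQeq : Q ≤ C ⊔ Y := by
    refine (Coprime.eq_commutator_sup_centralizer hPQ hcQP).le.trans ?_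
    exact sup_le ((le_inf hQ1 hcentr).trans le_sup_left)
      (((inf_le_inf_right _ hQσ).trans (hfixP p P hP hPK).le).trans le_sup_right)
  -- `Q` centralizes `A`
  have hQCA : Q ≤ Subgroup.centralizer (A : Set G) := by
    by_contra hnot
    have hYC : Y ⊓ C = ⊥ := by
      by_contra h1
      refine hnot ((hQeq.trans (sup_le le_rfl ?_)).trans inf_le_right)
      have h3 : Y ⊓ C = Y := Subgroup.eq_of_le_of_card_ge inf_le_left (by
        rcases (Nat.dvd_prime hqp).mp (hq ▸ Subgroup.card_dvd_of_le (inf_le_left : Y ⊓ C ≤ Y)) with h4 | h4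
        · exact absurd (Subgroup.eq_bot_of_card_eq _ h4) h1
        · exact h4.ge)
      exact h3.ge.trans inf_le_right
    set B := A ⊔ C with hB
    have hMcA : M ≤ Subgroup.normalizer (Subgroup.centralizer (A : Set G) : Set G) := fun g hgM => by
      have hg := hMA hgM
      refine Coprime.mem_normalizer_of_conj_mem fun c hc => Subgroup.mem_centralizer_iff.mpr fun a ha => ?_
      have h1 := Subgroup.mem_centralizer_iff.mp hc (g⁻¹ * a * g) ((Subgroup.mem_set_normalizer_iff''.mp hg a).mp ha)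
      calc a * (g * c * g⁻¹) = g * ((g⁻¹ * a * g) * c) * g⁻¹ := by group
        _ = g * (c * (g⁻¹ * a * g)) * g⁻¹ := by rw [h1]
        _ = g * c * g⁻¹ * a := by group
    have hNQC : M ⊓ Subgroup.normalizer (Q : Set G) ≤ Subgroup.normalizer (C : Set G) :=
      (le_inf inf_le_right (inf_le_left.trans hMcA)).trans Subgroup.inf_normalizer_le_normalizer_inf
    have hMC : M ≤ Subgroup.normalizer (C : Set G) := fun m hm => by
      obtain ⟨a, ha, n, hn, rfl⟩ := hsplit m hm
      refine mul_mem (Coprime.mem_normalizer_of_conj_mem fun c hc => ?_) (hNQC hn)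
      rw [Subgroup.mem_centralizer_iff.mp (Subgroup.mem_inf.mp hc).2 a ha, mul_inv_cancel_right]
      exact hc
    have hMB : M ≤ Subgroup.normalizer (B : Set G) := fun m hm => cj_eq_iff.mp (by
      rw [hB, cj, Subgroup.map_sup, ← cj, ← cj, cj_eq_iff.mpr (hMA hm), cj_eq_iff.mpr (hMC hm)])
    have hCM : C ≤ M := inf_le_left.trans hQM
    have hBM : B ≤ M := sup_le (hAσ.trans (sigmaCore_le M)) hCM
    have hYB : Y ⊓ B = ⊥ := by
      rw [eq_bot_iff, ← hYC]
      intro y hy
      refine Subgroup.mem_inf.mpr ⟨(Subgroup.mem_inf.mp hy).1, ?_⟩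
      obtain ⟨a, ha, c, hc, e⟩ := Coprime.exists_mul_of_mem_sup (hCM.trans hMA) (Subgroup.mem_inf.mp hy).2
      have haQ : a ∈ Q ⊓ A := Subgroup.mem_inf.mpr ⟨by
        have : a = y * c⁻¹ := by rw [← e, mul_inv_cancel_right]
        rw [this]
        exact mul_mem (hYQ (Subgroup.mem_inf.mp hy).1) (inv_mem (Subgroup.mem_inf.mp hc).1), ha⟩
      rw [Coprime.inf_eq_bot_of_coprime (by
        obtain ⟨k, hk⟩ := IsPGroup.iff_card.mp hQp
        rw [hk]; exact hAq.pow_right k), Subgroup.mem_bot] at haQ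
      rw [← e, haQ, one_mul]; exact hc
    haveI hBn : (B.subgroupOf M).Normal := (Subgroup.normal_subgroupOf_iff_le_normalizer hBM).mpr hMB
    set f := QuotientGroup.mk' (B.subgroupOf M) with hf
    set V := (Q.subgroupOf M).map f with hV
    have hYV : ∀ v ∈ V, ∃ y : M, (y : G) ∈ Y ∧ v = f y := by
      rintro _ ⟨x, hx, rfl⟩
      obtain ⟨c, hc, y, hy, e⟩ := Coprime.exists_mul_of_mem_sup
        (((inf_le_left : Y ≤ _).trans (sigmaCore_le M)).trans hMC) (hQeq (Subgroup.mem_subgroupOf.mp hx))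
      refine ⟨⟨y, sigmaCore_le M (Subgroup.mem_inf.mp hy).1⟩, hy, QuotientGroup.eq.mpr ?_⟩
      rw [Subgroup.mem_subgroupOf]
      show (x : G)⁻¹ * y ∈ B
      rw [← e, show (c * y)⁻¹ * y = y⁻¹ * c⁻¹ * y by group]
      exact (Subgroup.mem_set_normalizer_iff''.mp (hMB (sigmaCore_le M (Subgroup.mem_inf.mp hy).1)) _).mp
        (inv_mem (Subgroup.mem_sup_right hc))
    haveI hVn : V.Normal := by
      refine ⟨fun v hv x => ?_⟩
      obtain ⟨x, rfl⟩ := QuotientGroup.mk'_surjective (B.subgroupOf M) x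
      obtain ⟨w, hw, rfl⟩ := hv
      obtain ⟨b, hb, n, hn, e⟩ := hsplit x x.2
      set bM : M := ⟨b, sigmaCore_le M (hAσ hb)⟩
      set nM : M := ⟨n, (Subgroup.mem_inf.mp hn).1⟩
      refine ⟨nM * w * nM⁻¹, Subgroup.mem_subgroupOf.mpr ((Subgroup.mem_normalizer_iff.mp
        (Subgroup.mem_inf.mp hn).2 _).mp (Subgroup.mem_subgroupOf.mp hw)), ?_⟩
      have hb1 : f bM = 1 := (QuotientGroup.eq_one_iff bM).mpr (Subgroup.mem_subgroupOf.mpr (Subgroup.mem_sup_left hb))
      rw [show x = bM * nM from Subtype.ext e, map_mul f bM, hb1, one_mul]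
      simp only [map_mul, map_inv]
    have hfy : ∀ y : M, (y : G) ∈ Y → f y = 1 → y = 1 := fun y hy e => Subtype.ext (Subgroup.mem_bot.mp
      (hYB.le (Subgroup.mem_inf.mpr ⟨hy, Subgroup.mem_subgroupOf.mp ((QuotientGroup.eq_one_iff y).mp e)⟩)))
    have hVcard : Nat.card V = q := by
      have hYM : Y ≤ M := inf_le_left.trans (sigmaCore_le M)
      have e : V = (Y.subgroupOf M).map f := le_antisymm (fun v hv => by
        obtain ⟨y, hy, rfl⟩ := hYV v hv; exact ⟨y, Subgroup.mem_subgroupOf.mpr hy, rfl⟩)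
        (Subgroup.map_mono fun y hy => Subgroup.mem_subgroupOf.mpr (hYQ (Subgroup.mem_subgroupOf.mp hy)))
      rw [e, Nat.card_congr (Equiv.ofBijective (f.subgroupMap (Y.subgroupOf M))
        ⟨?_, f.subgroupMap_surjective _⟩).symm, Core.card_subgroupOf hYM]
      rw [← MonoidHom.ker_eq_bot_iff, Subgroup.eq_bot_iff_forall]
      exact fun y hy => Subtype.ext (hfy y (Subgroup.mem_subgroupOf.mp y.2) (congrArg Subtype.val hy))
    have hVi : ¬ q ∣ V.index := fun hd => hQiM (hd.trans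
      (Subgroup.index_map_dvd _ (QuotientGroup.mk'_surjective _)))
    -- `M` acts trivially on `V`
    let φ : (↥M ⧸ B.subgroupOf M) →* MulAut V := MulAut.conjNormal
    have hcomm : commutator (↥M ⧸ B.subgroupOf M) ≤ φ.ker := by
      have hcyc : IsCyclic V := isCyclic_of_prime_card hVcard
      rw [commutator_def, Subgroup.commutator_le]
      intro a _ b _
      rw [MonoidHom.mem_ker, map_commutatorElement, commutatorElement_eq_one_iff_mul_comm]
      refine MulEquiv.ext fun v => ?_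
      obtain ⟨i, hi⟩ := MonoidHom.map_cyclic (φ a).toMonoidHom
      obtain ⟨j, hj⟩ := MonoidHom.map_cyclic (φ b).toMonoidHom
      have hi' : ∀ w : V, φ a w = w ^ i := hi
      have hj' : ∀ w : V, φ b w = w ^ j := hj
      rw [MulAut.mul_apply, MulAut.mul_apply, hj', hi', hi', hj', ← zpow_mul, ← zpow_mul, mul_comm]
    have hσder : ∀ x : M, (x : G) ∈ sigmaCore M → f x ∈ commutator (↥M ⧸ B.subgroupOf M) := by
      intro x hx
      have h1 : x ∈ commutator M := by
        have := sigmaCore_le_derived hG hM hx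
        rw [← M.map_subtype_commutator] at this
        obtain ⟨z, hz, e⟩ := this
        rwa [← Subtype.ext e]
      rw [commutator_def, ← Subgroup.map_top_of_surjective f (QuotientGroup.mk'_surjective _),
        ← Subgroup.map_commutator]
      exact ⟨x, h1, rfl⟩
    have hcentral : ∀ x : ↥M ⧸ B.subgroupOf M, ∀ v ∈ V, x * v = v * x := by
      intro x v hv
      suffices x ∈ φ.ker by
        have h1 : x * v * x⁻¹ = v := by
          have h2 := DFunLike.congr_fun (MonoidHom.mem_ker.mp this) (⟨v, hv⟩ : V)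
          exact congrArg Subtype.val h2
        exact mul_inv_eq_iff_eq_mul.mp h1
      obtain ⟨x, rfl⟩ := QuotientGroup.mk'_surjective (B.subgroupOf M) x
      obtain ⟨u, hu, b, hb, e⟩ := h.compl.2.2.2 x x.2
      rw [hU, Subgroup.mem_bot] at hu
      rw [hu, one_mul] at e
      obtain ⟨s, hs, k, hk, e'⟩ := Coprime.exists_mul_of_mem_sup hKN (show b ∈ sigmaCore M ⊔ K by rwa [sup_comm])
      set sM : M := ⟨s, sigmaCore_le M hs⟩
      set kM : M := ⟨k, h.hall.1 hk⟩
      rw [show x = sM * kM from Subtype.ext (e.trans e'.symm), map_mul]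
      refine mul_mem (hcomm (hσder sM hs)) (MonoidHom.mem_ker.mpr (MulEquiv.ext fun w => Subtype.ext ?_))
      obtain ⟨y, hy, hwy⟩ := hYV w.1 w.2
      show f kM * (w : ↥M ⧸ B.subgroupOf M) * (f kM)⁻¹ = w
      rw [hwy, ← map_inv, ← map_mul, ← map_mul]
      congr 1
      exact Subtype.ext (mul_inv_eq_iff_eq_mul.mpr (Subgroup.mem_centralizer_iff.mp (Subgroup.mem_inf.mp hy).2 k hk))
    have hbot := inf_commutator_eq_bot_of_central hcentral
      (by rw [hVcard]; exact hqp.coprime_iff_not_dvd.mpr hVi)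
    obtain ⟨y, hy, hy1⟩ := Y.bot_or_exists_ne_one.resolve_left fun e => hqp.one_lt.ne' (by
      rw [hq, e, Subgroup.card_bot])
    set yM : M := ⟨y, sigmaCore_le M (Subgroup.mem_inf.mp hy).1⟩
    have hfy1 : f yM ∈ V ⊓ commutator (↥M ⧸ B.subgroupOf M) :=
      Subgroup.mem_inf.mpr ⟨⟨yM, Subgroup.mem_subgroupOf.mpr (hYQ hy), rfl⟩, hσder yM (Subgroup.mem_inf.mp hy).1⟩
    rw [hbot, Subgroup.mem_bot] at hfy1
    exact hy1 (congrArg Subtype.val (hfy yM hy hfy1))
  intro m hm
  obtain ⟨a, ha, n, hn, rfl⟩ := hsplit m hm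
  refine mul_mem (Coprime.mem_normalizer_of_conj_mem fun y hy => ?_) (Subgroup.mem_inf.mp hn).2
  rw [Subgroup.mem_centralizer_iff.mp (hQCA hy) a ha, mul_inv_cancel_right]
  exact hy

/-- `M_F ≤ M_σ`. -/
theorem fittingHallOf_le_sigmaCore {M : Subgroup G} (hM : IsCoatom M) : fittingHallOf M ≤ sigmaCore M := by
  refine le_sigmaCore hG hM (fittingHallOf_le M) fun p hp hd => ?_
  haveI := Fact.mk hp
  obtain ⟨hnil, hco⟩ := fittingHall_props M
  haveI := hnil
  haveI := fittingHall_normal M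
  rw [fittingHallOf, Core.card_map_subtype] at hd
  obtain ⟨R⟩ := (inferInstance : Nonempty (Sylow p (fittingHall M)))
  haveI : (R : Subgroup (fittingHall M)).Normal :=
    Core.isNilpotent_iff_forall_sylow_normal.mp hnil p inferInstance R
  haveI : (R : Subgroup (fittingHall M)).Characteristic := R.characteristic_of_normal inferInstance
  haveI hR'n : ((R : Subgroup (fittingHall M)).map (fittingHall M).subtype).Normal :=
    Core.normal_map_subtype_of_characteristic _
  have hi : ¬ p ∣ ((R : Subgroup (fittingHall M)).map (fittingHall M).subtype).index := by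
    rw [Subgroup.index_map_subtype]
    intro hd'
    rcases hp.dvd_mul.mp hd' with h' | h'
    · exact R.not_dvd_index h'
    · exact hp.not_dvd_one (hco.gcd_eq_one ▸ Nat.dvd_gcd hd h')
  set T : Sylow p M := (R.isPGroup'.map (fittingHall M).subtype).toSylow hi with hT
  have hTM : T.toSubgroup.map M.subtype ≤ M := Subgroup.map_subtype_le _
  have hpM : p ∣ Nat.card M := hd.trans (Subgroup.card_subgroup_dvd_card _)
  refine ⟨hp, hpM, T, ?_⟩
  have hle : M ≤ Subgroup.normalizer (T.toSubgroup.map M.subtype : Set G) := fun m hm =>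
    Coprime.mem_normalizer_of_conj_mem fun y hy => by
      obtain ⟨z, hz, rfl⟩ := hy
      exact ⟨⟨m, hm⟩ * z * ⟨m, hm⟩⁻¹, hR'n.conj_mem z hz _, rfl⟩
  have hne : T.toSubgroup.map M.subtype ≠ ⊥ := fun e => hp.not_dvd_one (by
    have h1 := T.dvd_card_of_dvd_card hpM
    rwa [← Core.card_map_subtype, e, Subgroup.card_bot] at h1)
  exact ((hM.le_iff_eq (Core.BG.normalizer_ne_top_of_isPGroup hG hne (T.isPGroup'.map _))).mp hle).le

theorem sigmaCore_le_fittingHallOf {M : Subgroup G} (hM : IsCoatom M) (hn : Group.IsNilpotent (sigmaCore M)) :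
    sigmaCore M ≤ fittingHallOf M := by
  have e : sigmaCore M = (piCore (sigma M) M).map M.subtype := rfl
  refine e.le.trans (Subgroup.map_mono (le_fittingHall inferInstance ?_ ?_))
  · haveI : Group.IsNilpotent ((piCore (sigma M) M).map M.subtype : Subgroup G) := e ▸ hn
    exact Group.nilpotent_of_mulEquiv
      ((piCore (sigma M) M).equivMapOfInjective M.subtype M.subtype_injective).symm
  · exact Nat.coprime_of_dvd fun q hq h1 h2 =>
      (sigmaCore_hall hG hM).2 q hq ((sigmaCore_hall hG hM).1 q hq h1) h2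

theorem qData_le_fittingHallOf {M K Q : Subgroup G} {q : ℕ} (hM : IsCoatom M) (hQ : QData M K Q q) :
    Q ≤ fittingHallOf M := by
  haveI := Fact.mk hQ.prime
  have hQM : Q ≤ M := hQ.le.trans (sigmaCore_le M)
  haveI : (Q.subgroupOf M).Normal := (Subgroup.normal_subgroupOf_iff_le_normalizer hQM).mpr hQ.normal
  have h1 : Q.subgroupOf M ≤ fittingHall M := le_fittingHall inferInstance (hQ.pgroup.comap_subtype.isNilpotent) (by
    obtain ⟨k, hk⟩ := IsPGroup.iff_card.mp hQ.pgroup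
    rw [Core.card_subgroupOf hQM, hk]
    refine Nat.Coprime.pow_left _ (hQ.prime.coprime_iff_not_dvd.mpr fun hd => ?_)
    rw [show (Q.subgroupOf M).index = Q.relIndex M from rfl,
      ← Subgroup.relIndex_mul_relIndex Q (sigmaCore M) M hQ.le (sigmaCore_le M)] at hd
    rcases hQ.prime.dvd_mul.mp hd with h' | h'
    · exact hQ.sylow h'
    · exact (sigmaCore_hallOf hG hM).2.2 q hQ.prime (mem_sigma_of_dvd hQ.prime
        ((dvd_of_eq hQ.card.symm).trans (Subgroup.card_dvd_of_le inf_le_left))) h')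
  exact fun x hx => ⟨⟨x, hQM hx⟩, h1 (Subgroup.mem_subgroupOf.mpr hx), rfl⟩

end Cfsg.Agent.OddLocal.Sigma
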