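import Cfsg.Agent.OddLocal.Sigma.CentTau1

/-! The sets `σ(M)` of non-conjugate maximal subgroups are disjoint (BG 13.9). -/

set_option autoImplicit false
set_option linter.style.haveILetI false
set_option linter.unusedSectionVars false

namespace Cfsg.Agent.OddLocal.Sigma

open Cfsg
open scoped commutatorElement

variable {G : Type*} [Group G] [Finite G]

theorem cj_nc {M H : Subgroup G} (hnc : ∀ g : G, H ≠ cj g M) : ∀ g : G, M ≠ cj g H := fun g e =>
  hnc g⁻¹ (by rw [e, ← cj_mul, inv_mul_cancel, cj_one])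

variable (hG : IsMinSimpleOddOrder G)
  (hpl : ∀ (p : ℕ) [Fact p.Prime] (H : Subgroup G), H ≠ ⊤ → PLengthLE p 1 H)
include hG hpl

/-- An element of prime order acting on the common Sylow subgroup has no fixed point. -/
theorem exists_fpf_mover {M H : Subgroup G} (hM : IsCoatom M) (hH : IsCoatom H) (hnc : ∀ g : G, H ≠ cj g M)
    {q : ℕ} [hq : Fact q.Prime] (hqM : q ∈ sigma M) (hqH : q ∈ sigma H) (T : Sylow q G)
    (hTM : (T : Subgroup G) ≤ M) (hTH : (T : Subgroup G) ≤ H) :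
    ∃ (v : G) (s : ℕ), s.Prime ∧ orderOf v = s ∧ s ∈ tau1 M ∩ tau1 H ∧ s ≠ q ∧
      v ∈ Subgroup.normalizer ((T : Subgroup G) : Set G) ∧
      (T : Subgroup G) ⊓ Subgroup.centralizer ((Subgroup.zpowers v : Subgroup G) : Set G) = ⊥ := by
  obtain ⟨hab, hT1, hN⟩ := shared_sylow hG hpl hM hH hnc hqM hqH T hTM hTH
  set N := Subgroup.normalizer ((T : Subgroup G) : Set G)
  obtain ⟨V, hVN, hVab, hVπ, hTV⟩ := exists_tau1_generators hG hpl hM hH hnc hqM hqH T hTM hTH le_rfl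
    (sylow_le_commutator_normalizer hG hpl T)
  have hTσ : (T : Subgroup G) ≤ sigmaCore M := le_sigmaCore hG hM hTM (mem_of_pGroup T.isPGroup' hqM)
  have hVM : V ≤ M := hVN.trans (hN.trans inf_le_left)
  have hVcop : (Nat.card V).Coprime (Nat.card (T : Subgroup G)) := Nat.coprime_of_dvd fun t ht h1 h2 =>
    (hVπ t ht h1).2 (mem_of_pGroup (π := {t | t = q}) T.isPGroup' rfl t ht h2)
  have hfix1 : (T : Subgroup G) ⊓ Subgroup.centralizer (V : Set G) = ⊥ := by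
    have h := Coprime.commutator_inf_centralizer_eq_bot hVN hab hVcop
    rwa [le_antisymm (Coprime.commutator_le_of_le_normalizer hVN) hTV] at h
  have key : ∀ v ∈ V, ∀ s : ℕ, s.Prime → orderOf v = s →
      (T : Subgroup G) ⊓ Subgroup.centralizer ((Subgroup.zpowers v : Subgroup G) : Set G) = ⊥ := by
    intro v hv s hs hvs
    haveI := Fact.mk hs
    set T₂ := (T : Subgroup G) ⊓ Subgroup.centralizer ((Subgroup.zpowers v : Subgroup G) : Set G)
    have hsV : s ∣ Nat.card V := hvs ▸ Subgroup.orderOf_dvd_natCard V hv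
    have hle : ∀ w ∈ V, ∀ t : ℕ, t.Prime → orderOf w = t →
        T₂ ≤ Subgroup.centralizer ((Subgroup.zpowers w : Subgroup G) : Set G) := by
      intro w hw t ht hwt
      haveI := Fact.mk ht
      have htV : t ∣ Nat.card V := hwt ▸ Subgroup.orderOf_dvd_natCard V hw
      refine le_trans ?_ ((cent_tau1_le hG hpl hM (p := s) (hVπ s hs hsV).1.1 (P := Subgroup.zpowers v)
        (by rw [Nat.card_zpowers, hvs]) (Subgroup.zpowers_le.mpr (hVM hv)) (R := Subgroup.zpowers w)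
        (r := t) (by rw [Nat.card_zpowers, hwt]) (Subgroup.zpowers_le.mpr (hVM hw)) (hVπ t ht htV).1.1.2.1
        ((Subgroup.zpowers_le.mpr hw).trans ((Subgroup.le_centralizer_iff_isMulCommutative.mpr hVab).trans
          (Subgroup.centralizer_le (Subgroup.zpowers_le.mpr hv))))).trans inf_le_right)
      exact le_inf (inf_le_left.trans hTσ) inf_le_right
    refine le_bot_iff.mp (hfix1 ▸ le_inf inf_le_left (Subgroup.le_centralizer_iff.mp ?_))
    refine Core.le_of_forall_exists_sylow_le fun t ht => ?_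
    haveI := Fact.mk ht
    obtain ⟨Q₀⟩ := (inferInstance : Nonempty (Sylow t V))
    refine ⟨Q₀, ?_⟩
    set Q := (Q₀ : Subgroup V).map V.subtype
    have hQV : Q ≤ V := Subgroup.map_subtype_le _
    have hQp : IsPGroup t Q := Q₀.isPGroup'.map _
    by_cases hQ1 : Q = ⊥
    · rw [hQ1]; exact bot_le
    have hdQ : t ∣ Nat.card Q := by
      obtain ⟨k, hk⟩ := IsPGroup.iff_card.mp hQp
      rw [hk]
      exact dvd_pow_self t fun e => hQ1 (Subgroup.eq_bot_of_card_eq _ (by rw [hk, e, pow_zero]))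
    obtain ⟨w, hw⟩ := exists_prime_orderOf_dvd_card' t hdQ
    have hR : Nat.card (Subgroup.zpowers (w : G)) = t := by rw [Nat.card_zpowers, Subgroup.orderOf_coe, hw]
    have htM := (hVπ t ht (hdQ.trans (Subgroup.card_dvd_of_le hQV))).1.1
    obtain ⟨L, hL, hNL⟩ := (eq_top_or_exists_le_coatom
      (Subgroup.normalizer (Subgroup.zpowers (w : G) : Set G))).resolve_left
      (Core.BG.normalizer_ne_top_of_isPGroup hG (ne_bot_of_card_prime hR) (IsPGroup.of_card (by rw [hR, pow_one])))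
    obtain ⟨hnc', -, htL, -⟩ := normalizer_tau13 hG hpl hM hL (Or.inl htM) hR hNL
    have hQL : Q ≤ L := le_trans ((hQV.trans (Subgroup.le_centralizer_iff_isMulCommutative.mpr hVab)).trans
      (Subgroup.centralizer_le (Subgroup.zpowers_le.mpr (hQV w.2)))) ((Subgroup.centralizer_le_normalizer _).trans hNL)
    refine (le_centralizer_sigmaCore_inf hG hpl hM hL hnc' htM.2.1 htL hQp
      (le_inf (hQV.trans hVM) hQL)).trans (Subgroup.centralizer_le ?_)
    refine le_inf (inf_le_left.trans hTσ) ?_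
    exact (hle w (hQV w.2) t ht (by rw [Subgroup.orderOf_coe, hw])).trans
      ((Subgroup.centralizer_le_normalizer _).trans hNL)
  have hV1 : Nat.card V ≠ 1 := fun e => hT1 (by
    rw [Subgroup.eq_bot_of_card_eq V e, Subgroup.commutator_bot_right] at hTV
    exact le_bot_iff.mp hTV)
  obtain ⟨s, hs, hd⟩ := Nat.exists_prime_and_dvd hV1
  haveI := Fact.mk hs
  obtain ⟨v, hv⟩ := exists_prime_orderOf_dvd_card' s hd
  exact ⟨v, s, hs, by rw [Subgroup.orderOf_coe, hv], (hVπ s hs hd).1, (hVπ s hs hd).2, hVN v.2,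
    key v v.2 s hs (by rw [Subgroup.orderOf_coe, hv])⟩

/-- `M = M_β (M ∩ N(T))` and so `M_β ≠ 1`. -/
theorem betaCore_ne_bot {M H : Subgroup G} (hM : IsCoatom M) (hH : IsCoatom H) (hnc : ∀ g : G, H ≠ cj g M)
    {q : ℕ} [hq : Fact q.Prime] (hqM : q ∈ sigma M) (hqH : q ∈ sigma H) (T : Sylow q G)
    (hTM : (T : Subgroup G) ≤ M) (hTH : (T : Subgroup G) ≤ H) :
    piCoreOf (beta M) M ≠ ⊥ ∧ M ≤ piCoreOf (beta M) M ⊔ (M ⊓ H) := by
  have h := (le_betaCore_sup_normalizer hG hpl hM hqM T hTM).trans (sup_le_sup_left (le_inf inf_le_left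
    (inf_le_right.trans ((shared_sylow hG hpl hM hH hnc hqM hqH T hTM hTH).2.2.trans inf_le_right))) _)
  refine ⟨fun e => hnc 1 ?_, h⟩
  rw [e, bot_sup_eq] at h
  rw [cj_one]
  exact ((hM.le_iff_eq hH.1).mp (h.trans inf_le_right))

/-- Elements of `M_β` of prime order fixed by a fixed-point-free element. -/
theorem exists_beta_fixed {M H : Subgroup G} (hM : IsCoatom M) (hH : IsCoatom H) (hnc : ∀ g : G, H ≠ cj g M)
    {q : ℕ} [hq : Fact q.Prime] (hqM : q ∈ sigma M) (hqH : q ∈ sigma H) (T : Sylow q G)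
    (hTM : (T : Subgroup G) ≤ M) (hTH : (T : Subgroup G) ≤ H) {v : G} {s : ℕ} [hs : Fact s.Prime]
    (hv : orderOf v = s) (hsM : s ∈ tau1 M) (hsq : s ≠ q)
    (hvN : v ∈ Subgroup.normalizer ((T : Subgroup G) : Set G))
    (hfpf : (T : Subgroup G) ⊓ Subgroup.centralizer ((Subgroup.zpowers v : Subgroup G) : Set G) = ⊥) :
    ∃ (ℓ : ℕ) (x : G), ℓ.Prime ∧ ℓ ∈ beta M ∧ orderOf x = ℓ ∧ x ∈ M ∧
      x ∈ Subgroup.centralizer ((Subgroup.zpowers v : Subgroup G) : Set G) := by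
  obtain ⟨hab, hT1, hN⟩ := shared_sylow hG hpl hM hH hnc hqM hqH T hTM hTH
  obtain ⟨hne, -⟩ := betaCore_ne_bot hG hpl hM hH hnc hqM hqH T hTM hTH
  obtain ⟨ℓ, hℓ, hd⟩ := Nat.exists_prime_and_dvd (fun e => hne (Subgroup.eq_bot_of_card_eq _ e))
  haveI := Fact.mk hℓ
  have hℓβ : ℓ ∈ beta M := Core.BG.isPiNat_piCoreOf (beta M) M ℓ hℓ hd
  set R := Subgroup.zpowers v
  have hR : Nat.card R = s := by rw [Nat.card_zpowers, hv]
  have hRp : IsPGroup s R := IsPGroup.of_card (by rw [hR, pow_one])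
  have hRN : R ≤ Subgroup.normalizer ((T : Subgroup G) : Set G) := Subgroup.zpowers_le.mpr hvN
  have hqβ : q ∉ beta M := notMem_beta_of_sigma hG hpl hH hM (cj_nc hnc) hqH
  have hW : (T : Subgroup G) ⊔ R ≤ M := sup_le hTM (hRN.trans (hN.trans inf_le_left))
  haveI : Group.IsSolvable ↥((T : Subgroup G) ⊔ R) :=
    Core.BG.isSolvable_proper hG fun e => hM.1 (top_le_iff.mp (e ▸ hW))
  have hcop : (Nat.card ↥((T : Subgroup G) ⊔ R)).Coprime (Nat.card ↥(piCoreOf (beta M) M)) := by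
    rw [Coprime.card_sup hRN (Coprime.inf_eq_bot_of_coprime (coprime_of_pGroups hsq hRp T.isPGroup'))]
    refine Nat.Coprime.mul_left (Nat.coprime_of_dvd fun t ht h1 h2 => hqβ ?_) (Nat.coprime_of_dvd fun t ht h1 h2 => ?_)
    · exact (mem_of_pGroup (π := {t | t = q}) T.isPGroup' rfl t ht h1) ▸ Core.BG.isPiNat_piCoreOf (beta M) M t ht h2
    · have hts : t = s := mem_of_pGroup (π := {t | t = s}) hRp rfl t ht h1
      exact hsM.2.1 (alpha_subset_sigma hG hM (hts ▸ Core.BG.isPiNat_piCoreOf (beta M) M t ht h2).1)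
  obtain ⟨S, hSN, hS, hSi, hWS⟩ := Coprime.exists_invariant_sylow
    (hW.trans (Core.BG.le_normalizer_piCoreOf _ _)) hcop ℓ
  have hℓq : ℓ ≠ q := fun e => hqβ (e ▸ hℓβ)
  have hℓs : ℓ ≠ s := fun e => hsM.2.1 (alpha_subset_sigma hG hM (e ▸ hℓβ).1)
  by_cases hfix : S ⊓ Subgroup.centralizer (R : Set G) = ⊥
  · exfalso
    have h := Core.BG.commutator_le_centralizer_of_fpf hq.out hs.out hℓq hℓs hsq.symm
      (ne_two_of_dvd hG (sigma_dvd hqM)) hR T.isPGroup' hS hRN (le_sup_right.trans hWS) (le_sup_left.trans hWS) hfix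
    have hTR : (T : Subgroup G) ≤ ⁅(T : Subgroup G), R⁆ := by
      haveI : Group.IsSolvable R := Coprime.isSolvable_of_isPGroup hRp
      intro t ht
      obtain ⟨a, ha, c, hc, rfl⟩ := Coprime.exists_mul_of_mem_sup
        ((inf_le_left).trans (Subgroup.normalizer_commutator_ge_left (T : Subgroup G) R) :
          (T : Subgroup G) ⊓ Subgroup.centralizer (R : Set G) ≤ _)
        ((Coprime.eq_commutator_sup_centralizer hRN (coprime_of_pGroups hsq hRp T.isPGroup')).le ht)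
      rw [hfpf, Subgroup.mem_bot] at hc
      rw [hc, mul_one]
      exact ha
    have hSH : S ≤ H := (Subgroup.le_centralizer_iff.mp (hTR.trans h)).trans
      ((Subgroup.centralizer_le_normalizer _).trans (hN.trans inf_le_right))
    obtain ⟨S', hS'⟩ : ∃ S' : Sylow ℓ G, (S' : Subgroup G) = S := by
      refine ⟨hS.toSylow fun hd => ?_, rfl⟩
      rw [← Subgroup.relIndex_mul_index hSN] at hd
      rcases hℓ.dvd_mul.mp hd with h | h
      · exact hSi h
      · exact (beta_facts hG hpl hM).2.1.2 ℓ hℓ hℓβ h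
    obtain ⟨B, hBS, hB, hB3⟩ := exists_ea_three_le hG hpl hℓβ.2 S'
    exact notMem_alpha_of_sigma hG hM hH hnc (alpha_subset_sigma hG hM hℓβ.1)
      ⟨hℓ, not_pRankLE_of_ea hB ((hS' ▸ hBS).trans hSH)
        (lt_of_lt_of_le (Nat.pow_lt_pow_right hℓ.one_lt (by norm_num)) hB3)⟩
  · obtain ⟨x, hx⟩ := exists_prime_orderOf_dvd_card' ℓ (by
      obtain ⟨k, hk⟩ := IsPGroup.iff_card.mp (hS.to_le (inf_le_left : S ⊓ Subgroup.centralizer (R : Set G) ≤ S))
      rw [hk]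
      exact dvd_pow_self ℓ fun e => hfix (Subgroup.eq_bot_of_card_eq _ (by rw [hk, e, pow_zero])))
    exact ⟨ℓ, (x : G), hℓ, hℓβ, by rw [Subgroup.orderOf_coe, hx], Core.BG.piCoreOf_le _ _ (hSN x.2.1), x.2.2⟩

/-- No element of order `ℓ ∈ β(H)` in `M` commutes with the fixed-point-free element. -/
theorem no_fixed_in_other {M H : Subgroup G} (hM : IsCoatom M) (hH : IsCoatom H) (hnc : ∀ g : G, H ≠ cj g M)
    {q : ℕ} [hq : Fact q.Prime] (hqM : q ∈ sigma M) (hqH : q ∈ sigma H) (T : Sylow q G)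
    (hTM : (T : Subgroup G) ≤ M) (hTH : (T : Subgroup G) ≤ H) {v : G} {s : ℕ} [hs : Fact s.Prime]
    (hv : orderOf v = s) (hsM : s ∈ tau1 M) (hsH : s ∈ tau1 H) (hsq : s ≠ q)
    (hvN : v ∈ Subgroup.normalizer ((T : Subgroup G) : Set G))
    (hfpf : (T : Subgroup G) ⊓ Subgroup.centralizer ((Subgroup.zpowers v : Subgroup G) : Set G) = ⊥)
    {ℓ : ℕ} [hℓ : Fact ℓ.Prime] (hℓβ : ℓ ∈ beta H) {y : G} (hy : orderOf y = ℓ) (hyM : y ∈ M)
    (hyv : y ∈ Subgroup.centralizer ((Subgroup.zpowers v : Subgroup G) : Set G)) : False := by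
  obtain ⟨hab, hT1, hN⟩ := shared_sylow hG hpl hM hH hnc hqM hqH T hTM hTH
  obtain ⟨-, hle⟩ := betaCore_ne_bot hG hpl hM hH hnc hqM hqH T hTM hTH
  have hℓσ : ℓ ∈ sigma H := alpha_subset_sigma hG hH hℓβ.1
  have hℓM : ℓ ∉ sigma M := fun h => notMem_alpha_of_sigma hG hM hH hnc h hℓβ.1
  have hℓdM : ℓ ∣ Nat.card M := hy ▸ Subgroup.orderOf_dvd_natCard M hyM
  have hrM := pRankLE_one_of_ideal hG hpl hH hM (cj_nc hnc) hℓσ hℓβ.2
  -- an element of order `ℓ` centralizing `T`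
  have hdI : ℓ ∣ Nat.card ↥(M ⊓ H) := by
    have h1 := Subgroup.card_mul_index ((M ⊓ H).subgroupOf M)
    rw [Core.card_subgroupOf inf_le_left] at h1
    rcases hℓ.out.dvd_mul.mp (h1 ▸ hℓdM) with h | h
    · exact h
    · exact absurd h (not_dvd_relIndex_of_le_piCoreOf_sup inf_le_left hle hℓ.out
        fun hb => hℓM (alpha_subset_sigma hG hM hb.1))
  obtain ⟨x₀, hx₀⟩ := exists_prime_orderOf_dvd_card' ℓ hdI
  have hX₀ : Nat.card (Subgroup.zpowers (x₀ : G)) = ℓ := by rw [Nat.card_zpowers, Subgroup.orderOf_coe, hx₀]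
  have hx₀C : Subgroup.zpowers (x₀ : G) ≤ Subgroup.centralizer ((T : Subgroup G) : Set G) :=
    (le_centralizer_sigmaCore_inf hG hpl hM hH hnc hℓM (fun h => h.2.1 hℓσ)
      (IsPGroup.of_card (by rw [hX₀, pow_one])) (Subgroup.zpowers_le.mpr x₀.2)).trans
      (Subgroup.centralizer_le (le_inf (le_sigmaCore hG hM hTM (mem_of_pGroup T.isPGroup' hqM)) hTH))
  set Nb := piCoreOf (beta H) H
  have hx₀N : (x₀ : G) ∈ Nb := by
    have : (Subgroup.zpowers (x₀ : G)).subgroupOf H ≤ piCore (beta H) H := Core.le_of_coprime_index (by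
      rw [Core.card_subgroupOf (Subgroup.zpowers_le.mpr x₀.2.2), hX₀]
      exact hℓ.out.coprime_iff_not_dvd.mpr fun hd => (betaCore_hall hG hpl hH).2 ℓ hℓ.out hℓβ hd)
    exact ⟨⟨x₀, x₀.2.2⟩, this (Subgroup.mem_subgroupOf.mpr (Subgroup.mem_zpowers _)), rfl⟩
  set R := Subgroup.zpowers v
  have hR : Nat.card R = s := by rw [Nat.card_zpowers, hv]
  have hRp : IsPGroup s R := IsPGroup.of_card (by rw [hR, pow_one])
  haveI : Group.IsSolvable R := Coprime.isSolvable_of_isPGroup hRp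
  have hRN : R ≤ Subgroup.normalizer ((T : Subgroup G) : Set G) := Subgroup.zpowers_le.mpr hvN
  have hRH : R ≤ H := hRN.trans (hN.trans inf_le_right)
  have hRM : R ≤ M := hRN.trans (hN.trans inf_le_left)
  set U₀ := Nb ⊓ Subgroup.centralizer ((T : Subgroup G) : Set G)
  have hRU₀ : R ≤ Subgroup.normalizer (U₀ : Set G) := fun r hr => Coprime.mem_normalizer_of_conj_mem fun z hz =>
    ⟨(Subgroup.mem_normalizer_iff.mp (Core.BG.le_normalizer_piCoreOf _ _ (hRH hr)) z).mp hz.1,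
      conj_mem_centralizer (hRN hr) hz.2⟩
  have hsβ : ¬ s ∣ Nat.card Nb := fun h =>
    hsH.2.1 (alpha_subset_sigma hG hH (Core.BG.isPiNat_piCoreOf (beta H) H s hs.out h).1)
  obtain ⟨U, hUU₀, hU, hUi, hRU⟩ := Coprime.exists_invariant_sylow hRU₀ (by
    rw [hR]
    exact hs.out.coprime_iff_not_dvd.mpr fun h => hsβ (h.trans (Subgroup.card_dvd_of_le inf_le_left))) ℓ
  have hU1 : U ≠ ⊥ := fun e => hUi (by
    rw [e, Subgroup.relIndex_bot_left, ← hx₀, ← Subgroup.orderOf_coe]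
    exact Subgroup.orderOf_dvd_natCard _ ⟨hx₀N, hx₀C (Subgroup.mem_zpowers _)⟩)
  have hUM : U ≤ M := (hUU₀.trans inf_le_right).trans ((Subgroup.centralizer_le_normalizer _).trans (hN.trans inf_le_left))
  have hℓ2 : ℓ ≠ 2 := ne_two_of_dvd hG (hℓdM.trans (Subgroup.card_subgroup_dvd_card M))
  have hUc : IsCyclic U := isCyclic_of_rank_one hG hpl hℓ2 hrM hU hUM
  obtain ⟨z, hz⟩ := exists_prime_orderOf_dvd_card' (G := U) ℓ (by
    obtain ⟨k, hk⟩ := IsPGroup.iff_card.mp hU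
    rw [hk]
    exact dvd_pow_self ℓ fun e => hU1 (Subgroup.eq_bot_of_card_eq _ (by rw [hk, e, pow_zero])))
  set Z := Subgroup.zpowers (z : G)
  have hZ : Nat.card Z = ℓ := by rw [Nat.card_zpowers, Subgroup.orderOf_coe, hz]
  have hZU : Z ≤ U := Subgroup.zpowers_le.mpr z.2
  have hRZ : R ≤ Subgroup.normalizer (Z : Set G) := fun r hr => cj_eq_iff.mp
    (OddLocal.eq_of_card_eq_of_isCyclic hUc ((cj_mono hZU).trans (cj_eq_iff.mpr (hRU hr)).le) hZU (card_cj _ _))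
  by_cases hzv : Z ≤ Subgroup.centralizer (R : Set G)
  · -- `T` centralizes a Sylow `ℓ`-subgroup of `H`
    have hW : (T : Subgroup G) ⊔ R ≤ H := sup_le hTH hRH
    haveI : Group.IsSolvable ↥((T : Subgroup G) ⊔ R) :=
      Core.BG.isSolvable_proper hG fun e => hH.1 (top_le_iff.mp (e ▸ hW))
    have hqβ : q ∉ beta H := notMem_beta_of_sigma hG hpl hM hH hnc hqM
    have hcop : (Nat.card ↥((T : Subgroup G) ⊔ R)).Coprime (Nat.card Nb) := by
      rw [Coprime.card_sup hRN (Coprime.inf_eq_bot_of_coprime (coprime_of_pGroups hsq hRp T.isPGroup'))]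
      refine Nat.Coprime.mul_left (Nat.coprime_of_dvd fun t ht h1 h2 => hqβ ?_) (by
        rw [hR]; exact hs.out.coprime_iff_not_dvd.mpr hsβ)
      exact (mem_of_pGroup (π := {t | t = q}) T.isPGroup' rfl t ht h1) ▸ Core.BG.isPiNat_piCoreOf (beta H) H t ht h2
    obtain ⟨S, hUS, hSN, hS, hSi, hWS⟩ := Coprime.exists_invariant_sylow_ge
      (hW.trans (Core.BG.le_normalizer_piCoreOf _ _)) hcop (hUU₀.trans inf_le_left) hU
      (sup_le ((Subgroup.le_centralizer_iff.mp (hUU₀.trans inf_le_right)).trans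
        (Subgroup.centralizer_le_normalizer _)) hRU)
    obtain ⟨L, hL, hNL⟩ := (eq_top_or_exists_le_coatom (Subgroup.normalizer (R : Set G))).resolve_left
      (Core.BG.normalizer_ne_top_of_isPGroup hG (ne_bot_of_card_prime hR) hRp)
    obtain ⟨hncL, -, -, -⟩ := normalizer_tau13 hG hpl hH hL (Or.inl hsH) hR hNL
    have hcyc : IsCyclic ↥(S ⊓ Subgroup.centralizer (R : Set G)) := isCyclic_of_rank_one hG hpl hℓ2
      (pRankLE_one_of_ideal hG hpl hH hL hncL hℓσ hℓβ.2) (hS.to_le inf_le_left)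
      (inf_le_right.trans ((Subgroup.centralizer_le_normalizer _).trans hNL))
    haveI : Group.IsSolvable R := inferInstance
    have hTR : ⁅(T : Subgroup G), R⁆ = (T : Subgroup G) := by
      refine le_antisymm (Coprime.commutator_le_of_le_normalizer hRN) fun t ht => ?_
      obtain ⟨a, ha, c, hc, rfl⟩ := Coprime.exists_mul_of_mem_sup
        ((inf_le_left).trans (Subgroup.normalizer_commutator_ge_left (T : Subgroup G) R) :
          (T : Subgroup G) ⊓ Subgroup.centralizer (R : Set G) ≤ _)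
        ((Coprime.eq_commutator_sup_centralizer hRN (coprime_of_pGroups hsq hRp T.isPGroup')).le ht)
      rw [hfpf, Subgroup.mem_bot] at hc
      rw [hc, mul_one]
      exact ha
    have hTS : (T : Subgroup G) ≤ Subgroup.centralizer (S : Set G) := by
      refine le_centralizer_of_fix hs.out hℓ2 (ne_two_of_dvd hG (sigma_dvd hqM))
        (fun e => hqβ (e ▸ hℓβ)) (fun e => hsH.2.1 (e ▸ hℓσ)) hsq.symm T.isPGroup' hR hS hRN
        (le_sup_right.trans hWS) (le_sup_left.trans hWS) hTR fun x hxS hxR hxp => ?_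
      by_cases hx1 : x = 1
      · rw [hx1]; exact one_mem _
      have hx : Subgroup.zpowers x = Z := OddLocal.eq_of_card_eq_of_isCyclic hcyc
        (Subgroup.zpowers_le.mpr ⟨hxS, hxR⟩) (le_inf (hZU.trans hUS) hzv)
        (by rw [Nat.card_zpowers, orderOf_eq_prime hxp hx1, hZ])
      exact (hUU₀.trans inf_le_right) (hZU (hx ▸ Subgroup.mem_zpowers x))
    obtain ⟨S', hS'⟩ : ∃ S' : Sylow ℓ G, (S' : Subgroup G) = S := by
      refine ⟨hS.toSylow fun hd => ?_, rfl⟩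
      rw [← Subgroup.relIndex_mul_index hSN] at hd
      rcases hℓ.out.dvd_mul.mp hd with h | h
      · exact hSi h
      · exact (beta_facts hG hpl hH).2.1.2 ℓ hℓ.out hℓβ h
    obtain ⟨B, hBS, hB, hB3⟩ := exists_ea_three_le hG hpl hℓβ.2 S'
    exact not_pRankLE_of_ea hB ((hS' ▸ hBS).trans ((Subgroup.le_centralizer_iff.mp hTS).trans
      ((Subgroup.centralizer_le_normalizer _).trans (hN.trans inf_le_left))))
      (lt_of_lt_of_le (Nat.pow_lt_pow_right hℓ.out.one_lt (by norm_num)) hB3) hrM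
  -- the two elements of order `ℓ` of `M` agree modulo `M_σ`
  obtain ⟨E, hE, hRE⟩ := exists_compl_ge hG hM hRM (notMem_sigma_of_pGroup hRp hsM.2.1)
  have hvE : v ∈ E := hRE (Subgroup.mem_zpowers v)
  have hvMσ : v ∈ Subgroup.normalizer (sigmaCore M : Set G) := le_normalizer_sigmaCore M (hRM (Subgroup.mem_zpowers v))
  have hne : ¬ (v * (z : G) * v⁻¹ = z) := fun e => hzv (Subgroup.zpowers_le.mpr
    (Subgroup.mem_centralizer_iff.mpr fun r hr => by
      obtain ⟨i, rfl⟩ := hr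
      exact (show Commute v (z : G) from mul_inv_eq_iff_eq_mul.mp e).zpow_left i))
  have hZD : Z ≤ ⁅M, M⁆ := by
    have h1 : ⁅Z, R⁆ ≤ Z := Coprime.commutator_le_of_le_normalizer hRZ
    rcases (Nat.dvd_prime hℓ.out).mp (hZ ▸ Subgroup.card_dvd_of_le h1) with h | h
    · exact absurd (Subgroup.commutator_eq_bot_iff_le_centralizer.mp (Subgroup.eq_bot_of_card_eq _ h)) hzv
    · rw [← Subgroup.eq_of_le_of_card_ge h1 (by rw [h, hZ])]
      exact Subgroup.commutator_mono (hZU.trans hUM) hRM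
  have hτ : ℓ ∈ tau3 M := ⟨hℓ.out, hℓM, hZ ▸ Subgroup.card_dvd_of_le hZD, hrM⟩
  have hmove : ∀ K : Subgroup G, IsPGroup ℓ K → K ≤ M → ∃ σ₀ ∈ sigmaCore M, cj σ₀ K ≤ ⁅E, E⁆ := by
    intro K hK hKM
    obtain ⟨m, hm, hmK⟩ := exists_cj_le_compl hG hM hE hKM (notMem_sigma_of_pGroup hK hℓM)
    obtain ⟨e, he, σ₀, hσ₀, rfl⟩ := hE.2.2.2 m hm
    refine ⟨σ₀, hσ₀, fun w hw => ?_⟩
    have hwE : w ∈ E := by
      have h1 : e * w * e⁻¹ ∈ E := hmK (by rw [cj_mul]; exact ⟨w, hw, rfl⟩)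
      have h2 := E.mul_mem (E.mul_mem (E.inv_mem he) h1) he
      rwa [show e⁻¹ * (e * w * e⁻¹) * e = w by group] at h2
    have hwD : w ∈ ⁅M, M⁆ := le_derived_of_pGroup hG hM (Or.inr hτ) (hK.map _) (by
      rintro _ ⟨k, hk, rfl⟩
      exact M.mul_mem (M.mul_mem (sigmaCore_le M hσ₀) (hKM hk)) (M.inv_mem (sigmaCore_le M hσ₀))) hw
    have hDE : ⁅M, M⁆ ≤ sigmaCore M ⊔ ⁅E, E⁆ := derived_le_sup hE.1 (sigmaCore_le M) (le_normalizer_sigmaCore M)
      fun h hh => by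
        obtain ⟨a, ha, b, hb, rfl⟩ := hE.2.2.2 h hh
        exact mul_mem (Subgroup.mem_sup_right ha) (Subgroup.mem_sup_left hb)
    have hEE : ⁅E, E⁆ ≤ E := Subgroup.commutator_le.mpr fun a ha b hb =>
      mul_mem (mul_mem (mul_mem ha hb) (inv_mem ha)) (inv_mem hb)
    obtain ⟨a, ha, f, hf, e'⟩ := Coprime.exists_mul_of_mem_sup
      ((hEE.trans hE.1).trans (le_normalizer_sigmaCore M)) (hDE hwD)
    have ha1 : a = 1 := Subgroup.mem_bot.mp (hE.2.2.1.le ⟨by
      rw [show a = w * f⁻¹ by rw [← e']; group]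
      exact E.mul_mem hwE (E.inv_mem (hEE hf)), ha⟩)
    rwa [← e', ha1, one_mul]
  obtain ⟨σy, hσy, hy1⟩ := hmove (Subgroup.zpowers y) (IsPGroup.of_card (by rw [Nat.card_zpowers, hy, pow_one]))
    (Subgroup.zpowers_le.mpr hyM)
  obtain ⟨σz, hσz, hz1⟩ := hmove Z (IsPGroup.of_card (by rw [hZ, pow_one])) (hZU.trans hUM)
  have heq : cj σy (Subgroup.zpowers y) = cj σz Z := by
    have hDM : ⁅E, E⁆ ≤ M := (Subgroup.commutator_le.mpr fun a ha b hb =>
      mul_mem (mul_mem (mul_mem ha hb) (inv_mem ha)) (inv_mem hb) : ⁅E, E⁆ ≤ E).trans hE.1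
    haveI : Group.IsNilpotent ↥⁅E, E⁆ := complIn_derived_nilpotent hG hM hE
    obtain ⟨Q₁, hQ₁⟩ := exists_sylow_map_ge (p := ℓ)
      ((IsPGroup.of_card (by rw [Nat.card_zpowers, hy, pow_one]) : IsPGroup ℓ (Subgroup.zpowers y)).map
        (MulAut.conj σy).toMonoidHom) hy1
    obtain ⟨Q₂, hQ₂⟩ := exists_sylow_map_ge (p := ℓ)
      ((IsPGroup.of_card (by rw [hZ, pow_one]) : IsPGroup ℓ Z).map (MulAut.conj σz).toMonoidHom) hz1
    haveI := Sylow.unique_of_normal Q₁ inferInstance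
    rw [Subsingleton.elim Q₂ Q₁] at hQ₂
    refine OddLocal.eq_of_card_eq_of_isCyclic (isCyclic_of_rank_one hG hpl hℓ2 hrM (Q₁.isPGroup'.map _)
      ((Subgroup.map_subtype_le _).trans hDM)) hQ₁ hQ₂ ?_
    rw [card_cj, card_cj, hZ, Nat.card_zpowers, hy]
  have key : ∀ σ₀ ∈ sigmaCore M, ∀ w : G, σ₀ * w * σ₀⁻¹ ∈ E →
      (v * (σ₀ * w * σ₀⁻¹) * v⁻¹ * (σ₀ * w * σ₀⁻¹)⁻¹ = 1 ↔ v * w * v⁻¹ * w⁻¹ ∈ sigmaCore M) := by
    intro σ₀ hσ₀ w hwE
    have hwM : w ∈ M := by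
      have := M.mul_mem (M.mul_mem (M.inv_mem (sigmaCore_le M hσ₀)) (hE.1 hwE)) (sigmaCore_le M hσ₀)
      rwa [show σ₀⁻¹ * (σ₀ * w * σ₀⁻¹) * σ₀ = w by group] at this
    set w' := σ₀ * w * σ₀⁻¹
    have hconj : ∀ a ∈ M, ∀ b ∈ sigmaCore M, a * b * a⁻¹ ∈ sigmaCore M := fun a ha b hb =>
      (Subgroup.mem_normalizer_iff.mp (le_normalizer_sigmaCore M ha) b).mp hb
    have hvM : v ∈ M := hRM (Subgroup.mem_zpowers v)
    set A := v * σ₀ * v⁻¹
    have hA : A ∈ sigmaCore M := hconj v hvM σ₀ hσ₀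
    set u := v * w * v⁻¹ * w⁻¹
    have huM : u ∈ M := M.mul_mem (M.mul_mem (M.mul_mem hvM hwM) (M.inv_mem hvM)) (M.inv_mem hwM)
    have e : v * w' * v⁻¹ * w'⁻¹ = A * u * (w * A⁻¹ * w⁻¹) * (w * σ₀ * w⁻¹) * σ₀⁻¹ := by
      simp only [w', A, u]; group
    have h1 : w * A⁻¹ * w⁻¹ ∈ sigmaCore M := hconj w hwM _ (inv_mem hA)
    have h2 : w * σ₀ * w⁻¹ ∈ sigmaCore M := hconj w hwM _ hσ₀
    refine ⟨fun h => ?_, fun h => Subgroup.mem_bot.mp (hE.2.2.1.le
      ⟨E.mul_mem (E.mul_mem (E.mul_mem hvE hwE) (E.inv_mem hvE)) (E.inv_mem hwE), ?_⟩)⟩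
    · rw [h] at e
      rw [show u = A⁻¹ * (A * u * (w * A⁻¹ * w⁻¹) * (w * σ₀ * w⁻¹) * σ₀⁻¹) * σ₀ * (w * σ₀ * w⁻¹)⁻¹ *
        (w * A⁻¹ * w⁻¹)⁻¹ by group, ← e, mul_one]
      exact mul_mem (mul_mem (mul_mem (inv_mem hA) hσ₀) (inv_mem h2)) (inv_mem h1)
    · rw [e]
      exact (sigmaCore M).mul_mem ((sigmaCore M).mul_mem ((sigmaCore M).mul_mem ((sigmaCore M).mul_mem hA h) h1) h2)
        ((sigmaCore M).inv_mem hσ₀)
  have hyfix : ∀ i : ℤ, v * (σy * y ^ i * σy⁻¹) * v⁻¹ * (σy * y ^ i * σy⁻¹)⁻¹ = 1 := fun i => by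
    refine (key σy hσy (y ^ i) ?_).mpr ?_
    · exact (Subgroup.commutator_le.mpr fun a ha b hb =>
        mul_mem (mul_mem (mul_mem ha hb) (inv_mem ha)) (inv_mem hb) : ⁅E, E⁆ ≤ E)
          (hy1 ⟨y ^ i, Subgroup.zpow_mem_zpowers y i, rfl⟩)
    · rw [Subgroup.mem_centralizer_iff.mp (Subgroup.zpow_mem _ hyv i) v (Subgroup.mem_zpowers v),
        mul_inv_cancel_right, mul_inv_cancel]
      exact one_mem _
  obtain ⟨w, ⟨i, rfl⟩, hw⟩ := heq.ge (⟨z, Subgroup.mem_zpowers _, rfl⟩ : σz * (z : G) * σz⁻¹ ∈ cj σz Z)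
  have hzE : σz * (z : G) * σz⁻¹ ∈ E := (Subgroup.commutator_le.mpr fun a ha b hb =>
    mul_mem (mul_mem (mul_mem ha hb) (inv_mem ha)) (inv_mem hb) : ⁅E, E⁆ ≤ E)
      (hz1 ⟨z, Subgroup.mem_zpowers _, rfl⟩)
  have h1 : v * (σz * (z : G) * σz⁻¹) * v⁻¹ * (σz * (z : G) * σz⁻¹)⁻¹ = 1 := by
    have hw' : σy * y ^ i * σy⁻¹ = σz * (z : G) * σz⁻¹ := hw
    rw [← hw']
    exact hyfix i
  have h2 := (key σz hσz z hzE).mp h1
  have h3 : v * (z : G) * v⁻¹ * (z : G)⁻¹ ∈ Z := mul_mem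
    ((Subgroup.mem_normalizer_iff.mp (hRZ (Subgroup.mem_zpowers v)) z).mp (Subgroup.mem_zpowers _))
    (inv_mem (Subgroup.mem_zpowers _))
  have h4 : Z ⊓ sigmaCore M = ⊥ :=
    inf_sigmaCore_eq_bot (notMem_sigma_of_pGroup (IsPGroup.of_card (by rw [hZ, pow_one]) : IsPGroup ℓ Z) hℓM)
  exact hne (mul_inv_eq_one.mp (Subgroup.mem_bot.mp (h4.le ⟨h3, h2⟩)))

/-- `σ(M) ∩ σ(H) = ∅` for non-conjugate maximal subgroups. -/
theorem sigma_disjoint {M H : Subgroup G} (hM : IsCoatom M) (hH : IsCoatom H) (hnc : ∀ g : G, H ≠ cj g M)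
    {q : ℕ} [hq : Fact q.Prime] (hqM : q ∈ sigma M) : q ∉ sigma H := fun hqH => by
  obtain ⟨T, hTH, -⟩ := exists_sylow_le hqH
  obtain ⟨g, hg⟩ := exists_cj_le hqM T.isPGroup'
  have hM' := isCoatom_cj hM g
  have hnc' : ∀ h : G, H ≠ cj h (cj g M) := fun h e => hnc (h * g) (by rw [cj_mul]; exact e)
  have hqM' := mem_sigma_cj hqM g
  obtain ⟨v, s, hs, hv, ⟨hsM, hsH⟩, hsq, hvN, hfpf⟩ := exists_fpf_mover hG hpl hM' hH hnc' hqM' hqH T hg hTH
  haveI := Fact.mk hs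
  obtain ⟨ℓ, x, hℓ, hℓβ, hx, hxM, hxv⟩ := exists_beta_fixed hG hpl hM' hH hnc' hqM' hqH T hg hTH hv hsM hsq hvN hfpf
  obtain ⟨k, x', hk, hkβ, hx', hxH, hx'v⟩ :=
    exists_beta_fixed hG hpl hH hM' (cj_nc hnc') hqH hqM' T hTH hg hv hsH hsq hvN hfpf
  haveI := Fact.mk hℓ
  haveI := Fact.mk hk
  set R := Subgroup.zpowers v
  have hR : Nat.card R = s := by rw [Nat.card_zpowers, hv]
  obtain ⟨L, hL, hNL⟩ := (eq_top_or_exists_le_coatom (Subgroup.normalizer (R : Set G))).resolve_left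
    (Core.BG.normalizer_ne_top_of_isPGroup hG (ne_bot_of_card_prime hR) (IsPGroup.of_card (by rw [hR, pow_one])))
  obtain ⟨hncM, -, -, -⟩ := normalizer_tau13 hG hpl hM' hL (Or.inl hsM) hR hNL
  obtain ⟨hncH, -, -, -⟩ := normalizer_tau13 hG hpl hH hL (Or.inl hsH) hR hNL
  set C := Subgroup.centralizer (R : Set G)
  have hCL : C ≤ L := (Subgroup.centralizer_le_normalizer _).trans hNL
  haveI : Group.IsSolvable C := Core.BG.isSolvable_proper hG fun e => hL.1 (top_le_iff.mp (e ▸ hCL))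
  have hℓk : ℓ ≠ k := fun e => notMem_alpha_of_sigma hG hM' hH hnc' (alpha_subset_sigma hG hM' hℓβ.1) (e ▸ hkβ.1)
  set π : Set ℕ := {t | t = ℓ ∨ t = k}
  have hxo : orderOf (⟨x, hxv⟩ : C) = ℓ := by rw [Subgroup.orderOf_mk, hx]
  obtain ⟨W₀, hW₀, hxW⟩ := Core.exists_isPiHall_ge (π := π) Core.isPiSeparable_of_isSolvable
    Core.hallSolvable_of_isSolvable (K := Subgroup.zpowers (⟨x, hxv⟩ : C)) (fun t ht hd => by
      rw [Nat.card_zpowers, hxo] at hd
      exact Or.inl ((Nat.prime_dvd_prime_iff_eq ht hℓ).mp hd))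
  obtain ⟨c, hc⟩ := Core.exists_le_conj_smul_of_isPiHall Core.isPiSeparable_of_isSolvable
    Core.hallSolvable_of_isSolvable hW₀ (K := Subgroup.zpowers (⟨x', hx'v⟩ : C)) (fun t ht hd => by
      rw [Nat.card_zpowers, Subgroup.orderOf_mk, hx'] at hd
      exact Or.inr ((Nat.prime_dvd_prime_iff_eq ht hk).mp hd))
  set W := W₀.map C.subtype
  have hWC : W ≤ C := Subgroup.map_subtype_le _
  have hxW' : x ∈ W := ⟨⟨x, hxv⟩, hxW (Subgroup.mem_zpowers _), rfl⟩
  rw [Core.conj_smul_eq_map] at hc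
  obtain ⟨y₀, hy₀, hye⟩ := hc (Subgroup.mem_zpowers _)
  set y : G := (y₀ : G)
  have hyW : y ∈ W := ⟨y₀, hy₀, rfl⟩
  have hyc : (c : G) * y * (c : G)⁻¹ = x' := congrArg Subtype.val hye
  have hye' : y = (c : G)⁻¹ * x' * (c : G) := by rw [← hyc]; group
  have hyk : orderOf y = k := by
    rw [← hx', ← hyc]
    exact (orderOf_injective (MulAut.conj (c : G)).toMonoidHom (MulEquiv.injective _) y).symm
  haveI : Nontrivial W₀ := (Subgroup.nontrivial_iff_ne_bot W₀).mpr fun e => by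
    have h := hxW (Subgroup.mem_zpowers (⟨x, hxv⟩ : C))
    rw [e, Subgroup.mem_bot] at h
    rw [h, orderOf_one] at hxo
    exact hℓ.one_lt.ne hxo
  -- a normal subgroup of prime order
  have hnormal : ∀ (t : ℕ) [Fact t.Prime] (u : G), orderOf u = t → u ∈ W → PRankLE t 1 L → t ≠ 2 →
      pCore t W₀ ≠ ⊥ → W ≤ Subgroup.normalizer (Subgroup.zpowers u : Set G) := by
    intro t _ u hu huW hr ht2 hne
    obtain ⟨Q, hQ⟩ := exists_sylow_map_ge (p := t) (M := W) (A := Subgroup.zpowers u)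
      (IsPGroup.of_card (by rw [Nat.card_zpowers, hu, pow_one])) (Subgroup.zpowers_le.mpr huW)
    set O := ((pCore t W₀).map W₀.subtype).map C.subtype
    have hOW : O ≤ W := Subgroup.map_mono (Subgroup.map_subtype_le _)
    have hWO : W ≤ Subgroup.normalizer (O : Set G) :=
      ((Subgroup.map_mono (le_normalizer_map_of_normal (pCore t W₀))).trans (Subgroup.le_normalizer_map _))
    have hOp : IsPGroup t O := ((Core.isPGroup_pCore t W₀).map _).map _
    have hOQ : O ≤ (Q : Subgroup W).map W.subtype := by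
      haveI : (O.subgroupOf W).Normal := Subgroup.normal_subgroupOf_of_le_normalizer hWO
      have h1 : IsPGroup t ↥((Q : Subgroup W) ⊔ O.subgroupOf W) :=
        Q.isPGroup'.to_sup_of_normal_right hOp.comap_subtype
      rw [← Subgroup.map_subgroupOf_eq_of_le hOW]
      exact Subgroup.map_mono (le_sup_right.trans (Q.3 h1 le_sup_left).le)
    have hQc := isCyclic_of_rank_one hG hpl ht2 hr (Q.isPGroup'.map W.subtype)
      ((Subgroup.map_subtype_le _).trans (hWC.trans hCL))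
    have hO1 : O ≠ ⊥ := fun e => hne (by
      rwa [Subgroup.map_eq_bot_iff_of_injective _ C.subtype_injective,
        Subgroup.map_eq_bot_iff_of_injective _ W₀.subtype_injective] at e)
    obtain ⟨o, ho⟩ := exists_prime_orderOf_dvd_card' (G := O) t (by
      obtain ⟨j, hj⟩ := IsPGroup.iff_card.mp hOp
      rw [hj]
      exact dvd_pow_self t fun e => hO1 (Subgroup.eq_bot_of_card_eq _ (by rw [hj, e, pow_zero])))
    have huO : Subgroup.zpowers u ≤ O := by
      rw [OddLocal.eq_of_card_eq_of_isCyclic hQc hQ ((Subgroup.zpowers_le.mpr o.2).trans hOQ)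
        (by rw [Nat.card_zpowers, Nat.card_zpowers, Subgroup.orderOf_coe, hu, ho])]
      exact Subgroup.zpowers_le.mpr o.2
    exact fun w hw => cj_eq_iff.mp (OddLocal.eq_of_card_eq_of_isCyclic hQc
      (((cj_mono huO).trans (cj_eq_iff.mpr (hWO hw)).le).trans hOQ) hQ (card_cj _ _))
  obtain ⟨⟨t, ht⟩, hne⟩ : ∃ t : Nat.Primes, pCore (t : ℕ) W₀ ≠ ⊥ := by
    by_contra hall
    push Not at hall
    exact Core.fittingSubgroup_ne_bot (G := W₀) (by rw [Core.fittingSubgroup_eq_iSup]; simp [hall])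
  haveI := Fact.mk ht
  have htπ : t = ℓ ∨ t = k := hW₀.1 t ht (by
    obtain ⟨j, hj⟩ := IsPGroup.iff_card.mp (Core.isPGroup_pCore t W₀)
    refine dvd_trans ?_ (Subgroup.card_subgroup_dvd_card (pCore t W₀))
    rw [hj]
    exact dvd_pow_self t fun e => hne (Subgroup.eq_bot_of_card_eq _ (by rw [hj, e, pow_zero])))
  have hC1 : ∀ (w : G), w ∈ C → ∀ a ∈ R, w * a * w⁻¹ = a := fun w hw a ha => by
    rw [← Subgroup.mem_centralizer_iff.mp hw a ha, mul_inv_cancel_right]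
  have hNle : ∀ {K : Subgroup G}, IsCoatom K → ∀ {p : ℕ} [Fact p.Prime] (u : G), p ∈ beta K → orderOf u = p →
      u ∈ K → Subgroup.normalizer (Subgroup.zpowers u : Set G) ≤ K := by
    intro K hK p _ u hp hu huK
    have hX : Nat.card (Subgroup.zpowers u) = p := by rw [Nat.card_zpowers, hu]
    obtain ⟨⟨-, honly⟩, -⟩ := sigma_order_p hG hpl hK (alpha_subset_sigma hG hK hp.1)
      (Subgroup.zpowers_le.mpr huK) hX (Or.inl hp)
    exact (honly.mono (Subgroup.centralizer_le_normalizer _)).le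
      (Core.BG.normalizer_ne_top_of_isPGroup hG (ne_bot_of_card_prime hX) (IsPGroup.of_card (by rw [hX, pow_one])))
  have hℓ2 : ℓ ≠ 2 := ne_two_of_dvd hG (hx ▸ orderOf_dvd_natCard x)
  have hk2 : k ≠ 2 := ne_two_of_dvd hG (hx' ▸ orderOf_dvd_natCard x')
  rcases htπ with rfl | rfl
  · have hyM : y ∈ cj g M := hNle hM' x hℓβ hx hxM (hnormal t x hx hxW'
      (pRankLE_one_of_ideal hG hpl hM' hL hncM (alpha_subset_sigma hG hM' hℓβ.1) hℓβ.2) hℓ2 hne hyW)
    exact no_fixed_in_other hG hpl hM' hH hnc' hqM' hqH T hg hTH hv hsM hsH hsq hvN hfpf hkβ hyk hyM (hWC hyW)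
  · have hyN := hnormal t y hyk hyW
      (pRankLE_one_of_ideal hG hpl hH hL hncH (alpha_subset_sigma hG hH hkβ.1) hkβ.2) hk2 hne hxW'
    have hN' : (c : G) * x * (c : G)⁻¹ ∈ Subgroup.normalizer (Subgroup.zpowers x' : Set G) := by
      refine cj_eq_iff.mp ?_
      have e : cj (c : G) (Subgroup.zpowers y) = Subgroup.zpowers x' := by
        show (Subgroup.zpowers y).map (MulAut.conj (c : G)).toMonoidHom = _
        rw [MonoidHom.map_zpowers]
        exact congrArg Subgroup.zpowers hyc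
      rw [← e, ← cj_mul, inv_mul_cancel_right, cj_mul, cj_eq_iff.mpr hyN]
    exact no_fixed_in_other hG hpl hH hM' (cj_nc hnc') hqH hqM' T hTH hg hv hsH hsM hsq hvN hfpf hℓβ
      (y := (c : G) * x * (c : G)⁻¹)
      (by rw [← hx]; exact orderOf_injective (MulAut.conj (c : G)).toMonoidHom (MulEquiv.injective _) x)
      (hNle hH x' hkβ hx' hxH hN') (mul_mem (mul_mem c.2 hxv) (inv_mem c.2))

end Cfsg.Agent.OddLocal.Sigma
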