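import Cfsg.Agent.OddLocal.Sigma.SigmaRank

/-! Local subgroups of `σ(M)`-groups see little of `E` (BG 12.16 second part, 13.1(b)). -/

set_option autoImplicit false
set_option linter.style.haveILetI false
set_option linter.unusedSectionVars false

namespace Cfsg.Agent.OddLocal.Sigma

open Cfsg
open scoped commutatorElement

variable {G : Type*} [Group G] [Finite G]

/-- A prime outside `π` dividing a subgroup of `N K` divides `|K|`, for the `π`-core `N`. -/
theorem dvd_of_le_piCoreOf_sup {π : Set ℕ} {L D K : Subgroup G} (hK : K ≤ L) (h : D ≤ piCoreOf π L ⊔ K)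
    {p : ℕ} (hp : p.Prime) (hπ : p ∉ π) (hd : p ∣ Nat.card D) : p ∣ Nat.card K := by
  have hN : piCoreOf π L = (piCore π L).map L.subtype := rfl
  have h1 : piCoreOf π L ⊔ K = (K.subgroupOf L ⊔ piCore π L).map L.subtype := by
    rw [Subgroup.map_sup, Subgroup.map_subgroupOf_eq_of_le hK, sup_comm, hN]
  have h2 : p ∣ Nat.card (K.subgroupOf L) * Nat.card (piCore π L) := hd.trans ((Subgroup.card_dvd_of_le h).trans (by
    rw [h1, Core.card_map_subtype]
    exact Core.card_sup_dvd_mul (K.subgroupOf L) (piCore π L)))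
  rcases hp.dvd_mul.mp h2 with h3 | h3
  · rwa [Core.card_subgroupOf hK] at h3
  · exact absurd (Core.isPiNat_card_piCore π L p hp h3) hπ

theorem card_derived_cj (g : G) (M : Subgroup G) :
    Nat.card ↥⁅cj g M, cj g M⁆ = Nat.card ↥⁅M, M⁆ := by
  show Nat.card ↥⁅M.map (MulAut.conj g).toMonoidHom, M.map (MulAut.conj g).toMonoidHom⁆ = _
  rw [← Subgroup.map_commutator]
  exact card_cj g _

theorem not_isCyclic_ea_sq {p : ℕ} [hp : Fact p.Prime] {A : Subgroup G} (hA : IsElementaryAbelian p A)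
    (hc : Nat.card A = p ^ 2) : ¬ IsCyclic A := fun h => by
  haveI := h
  have h1 : Nat.card A ∣ p := by
    rw [← IsCyclic.exponent_eq_card]
    exact Monoid.exponent_dvd_of_forall_pow_eq_one fun b => Subtype.ext (hA.2 b b.2)
  rw [hc] at h1
  have := Nat.le_of_dvd hp.out.pos h1
  nlinarith [hp.out.two_le]

variable (hG : IsMinSimpleOddOrder G)
  (hpl : ∀ (p : ℕ) [Fact p.Prime] (H : Subgroup G), H ≠ ⊤ → PLengthLE p 1 H)
include hG hpl

/-- For `M^* ⊇ N(X)` other than `M` the part outside `σ(M)` comes from a conjugate of `M`. -/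
theorem normalizer_cases {M L X : Subgroup G} (hM : IsCoatom M) (hL : IsCoatom L) (hne : L ≠ M)
    {r : ℕ} [hr : Fact r.Prime] (hrM : r ∈ sigma M) (hX : IsPGroup r X) (hX1 : X ≠ ⊥) (hXM : X ≤ M)
    (hNX : Subgroup.normalizer (X : Set G) ≤ L) :
    ∃ (g : G) (K : Subgroup G), cj g M ≠ L ∧ K ≤ cj g M ⊓ L ∧ sigmaCore (cj g M) ⊓ L ≠ ⊥ ∧
      ∀ p : ℕ, p.Prime → p ∣ Nat.card M → p ∉ sigma M → ¬ IsIdealPrime p G →
        ¬ p ∣ K.relIndex L ∧ (p ∣ Nat.card ↥⁅L, L⁆ → p ∣ Nat.card ↥⁅K, K⁆) := by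
  by_cases hrL : r ∈ sigma L
  · have hnc := not_conj_of_normalizer_le hG hpl hM hrM hX hX1 hXM hne hNX
    obtain ⟨T, hTL, -⟩ := exists_sylow_le hrL
    obtain ⟨g, hg⟩ := exists_cj_le hrM T.isPGroup'
    have hNT := normalizer_sylow_le' hG (mem_sigma_cj hrM g) T hg
    have hle : L ≤ piCoreOf (beta L) L ⊔ (cj g M ⊓ L) :=
      (le_betaCore_sup_normalizer hG hpl hL hrL T hTL).trans
        (sup_le_sup_left (le_inf (inf_le_right.trans hNT) inf_le_left) _)
    refine ⟨g, cj g M ⊓ L, (hnc g).symm, le_rfl, fun e => ?_, fun p hp hpM hpσ hI => ⟨?_, fun hd => ?_⟩⟩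
    · have h1 : (T : Subgroup G) ≤ sigmaCore (cj g M) ⊓ L := le_inf (le_sigmaCore hG (isCoatom_cj hM g) hg
        (mem_of_pGroup T.isPGroup' (mem_sigma_cj hrM g))) hTL
      rw [e, le_bot_iff] at h1
      refine T.not_dvd_index ?_
      rw [h1, Subgroup.index_bot]
      exact sigma_dvd hrM
    · exact not_dvd_relIndex_of_le_piCoreOf_sup inf_le_right hle hp (fun hb => hI hb.2)
    · exact dvd_of_le_piCoreOf_sup ((Subgroup.commutator_mono inf_le_right inf_le_right).trans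
        (Subgroup.commutator_le.mpr fun a ha b hb =>
          mul_mem (mul_mem (mul_mem ha hb) (inv_mem ha)) (inv_mem hb)))
        (derived_le_sup inf_le_right (Core.BG.piCoreOf_le _ _) (Core.BG.le_normalizer_piCoreOf _ _) hle)
        hp (fun hb => hI hb.2) hd
  obtain ⟨S, hXS⟩ := exists_sylow_map_ge hX (le_inf hXM (Subgroup.le_normalizer.trans hNX) : X ≤ M ⊓ L)
  obtain ⟨hNS, hSi⟩ := sylow_inter_facts hG hpl hM hrM hX1 hNX S hXS
  set T := (S : Subgroup ↥(M ⊓ L)).map (M ⊓ L).subtype with hTdef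
  have hT : IsPGroup r T := S.isPGroup'.map _
  have hTI : T ≤ M ⊓ L := Subgroup.map_subtype_le _
  have hTc : ¬ IsCyclic T := fun hc => hrL (mem_sigma_of_normalizer_le hG hpl hT
    (fun e => hX1 (le_bot_iff.mp (e ▸ hXS))) (hTI.trans inf_le_right) hSi
    fun n hn => hNX (cj_eq_iff.mp (OddLocal.eq_of_card_eq_of_isCyclic hc
      ((cj_mono hXS).trans (cj_eq_iff.mpr hn).le) hXS (card_cj _ _))))
  obtain ⟨U, -, hU, hUc⟩ := Transfer.PNormal.exists_normal_ea_sq (ne_two_of_dvd hG (sigma_dvd hrM)) hT hTc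
  set A := U.map T.subtype
  have hAI : A ≤ M ⊓ L := (Subgroup.map_subtype_le _).trans hTI
  have hAe : IsElementaryAbelian r A := PLocal.isEA_map hU T.subtype
  have hAc : Nat.card A = r ^ 2 := by rw [Core.card_map_subtype, hUc]
  obtain ⟨A0, hexc⟩ := exists_exc hG hpl hL hrL (hAI.trans inf_le_right) hAe hAc
  obtain ⟨E, hE, hAE⟩ := exists_compl_ge hG hL (hAI.trans inf_le_right)
    (notMem_sigma_of_pGroup hexc.maxEA.isPGroup hrL)
  have hEM : E ≤ M := (hexc.le_normalizer_of_compl hG hpl hE hAE).trans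
    (normalizer_le_of_noncyclic hG hpl hM hrM hexc.maxEA.isPGroup (hAI.trans inf_le_left)
      (not_isCyclic_ea_sq hAe hAc))
  refine ⟨1, E, by rw [cj_one]; exact hne.symm, by rw [cj_one]; exact le_inf hEM hE.1, fun e => ?_,
    fun p hp hpM hpσ hI => ?_⟩
  · rw [cj_one] at e
    refine hexc.maxEA.ne_bot (le_bot_iff.mp (e ▸ le_inf ?_ (hAI.trans inf_le_right)))
    exact le_sigmaCore hG hM (hAI.trans inf_le_left) (mem_of_pGroup hexc.maxEA.isPGroup hrM)
  · haveI := Fact.mk hp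
    have hpL := notMem_sigma_of_common_ea hG hpl hM hL hne.symm hrM hrL (hAI.trans inf_le_left)
      (hAI.trans inf_le_right) hAe hAc hpM hpσ hI
    exact ⟨fun hd => hpL (complIn_index_isPiNat hG hE p hp hd), fun hd => complIn_dvd_derived hG hE hp hpL hd⟩

variable {M H X : Subgroup G} (hM : IsCoatom M) (hH : IsCoatom H) {r : ℕ} [hr : Fact r.Prime]
  (hrM : r ∈ sigma M) (hX : IsPGroup r X) (hX1 : X ≠ ⊥) (hXM : X ≤ M) {p : ℕ} [hp : Fact p.Prime]
  (hpM : p ∣ Nat.card M) (hpσ : p ∉ sigma M) (hI : ¬ IsIdealPrime p G)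
include hM hH hrM hX hX1 hXM hpM hpσ hI

/-- `N_H(X)` has `p`-rank at most one. -/
theorem no_ea_normalizer (hne : H ≠ M) (hXH : X ≤ H) {B : Subgroup G} (hB : IsElementaryAbelian p B)
    (hBc : Nat.card B = p ^ 2) (hBH : B ≤ H) (hBN : B ≤ Subgroup.normalizer (X : Set G)) : False := by
  obtain ⟨L, hL, hNX⟩ := (eq_top_or_exists_le_coatom (Subgroup.normalizer (X : Set G))).resolve_left
    (Core.BG.normalizer_ne_top_of_isPGroup hG hX1 hX)
  by_cases hLM : L = M
  · subst hLM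
    obtain ⟨A0, hexc⟩ := exists_exc hG hpl hM hpσ (hBN.trans hNX) hB hBc
    exact hX1 (le_bot_iff.mp (hexc.inf_other_eq_bot hG hpl hH hne hBH ▸
      le_inf (le_sigmaCore hG hM hXM (mem_of_pGroup hX hrM)) hXH))
  obtain ⟨g, K, hgL, hK, hint, hfacts⟩ := normalizer_cases hG hpl hM hL hLM hrM hX hX1 hXM hNX
  obtain ⟨hidx, -⟩ := hfacts p hp.out hpM hpσ hI
  obtain ⟨Q₀⟩ := (inferInstance : Nonempty (Sylow p K))
  set Q := (Q₀ : Subgroup K).map K.subtype with hQdef
  have hKL : K ≤ L := hK.trans inf_le_right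
  have hQi : ¬ p ∣ Q.relIndex L := fun hd => by
    rw [← Subgroup.relIndex_mul_relIndex Q K L (Subgroup.map_subtype_le _) hKL] at hd
    rcases hp.out.dvd_mul.mp hd with h | h
    · refine Q₀.not_dvd_index ?_
      rwa [hQdef, Subgroup.relIndex, Subgroup.subgroupOf,
        Subgroup.comap_map_eq_self_of_injective K.subtype_injective] at h
    · exact hidx h
  obtain ⟨n, hn, hnB⟩ := exists_cj_le_of_not_dvd_relIndex ((Subgroup.map_subtype_le _).trans hKL)
    (Q₀.isPGroup'.map _) hQi (hBN.trans hNX) (Components.ea_isPGroup hB)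
  have hnK : cj n B ≤ cj g M ⊓ L := (hnB.trans (Subgroup.map_subtype_le _)).trans hK
  obtain ⟨A0, hexc⟩ := exists_exc hG hpl (isCoatom_cj hM g) (fun h => hpσ (mem_sigma_of_cj hG h))
    (hnK.trans inf_le_left) (PLocal.isEA_map hB _) (by rw [card_cj, hBc])
  exact hint (hexc.inf_other_eq_bot hG hpl hL hgL.symm (hnK.trans inf_le_right))

/-- For `p ∈ τ₁(M)` the group `N_H(X)'` is a `p'`-group. -/
theorem not_dvd_derived_normalizer (hpD : ¬ p ∣ Nat.card ↥⁅M, M⁆) :
    ¬ p ∣ Nat.card ↥⁅H ⊓ Subgroup.normalizer (X : Set G), H ⊓ Subgroup.normalizer (X : Set G)⁆ := fun hd => by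
  obtain ⟨L, hL, hNX⟩ := (eq_top_or_exists_le_coatom (Subgroup.normalizer (X : Set G))).resolve_left
    (Core.BG.normalizer_ne_top_of_isPGroup hG hX1 hX)
  have hd' : p ∣ Nat.card ↥⁅L, L⁆ := hd.trans (Subgroup.card_dvd_of_le
    (Subgroup.commutator_mono (inf_le_right.trans hNX) (inf_le_right.trans hNX)))
  by_cases hLM : L = M
  · exact hpD (hLM ▸ hd')
  obtain ⟨g, K, -, hK, -, hfacts⟩ := normalizer_cases hG hpl hM hL hLM hrM hX hX1 hXM hNX
  refine hpD ((((hfacts p hp.out hpM hpσ hI).2 hd').trans (Subgroup.card_dvd_of_le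
    (Subgroup.commutator_mono (hK.trans inf_le_left) (hK.trans inf_le_left)))).trans ?_)
  rw [card_derived_cj]

end Cfsg.Agent.OddLocal.Sigma
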