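import Cfsg.Agent.OddLocal.Sigma.NonabelianUnique
import Cfsg.Agent.Components.Structure

/-! Centralizers of elements of order `p` in `M_σ'` (BG 12.14). -/

set_option autoImplicit false
set_option linter.style.haveILetI false
set_option linter.unusedSectionVars false

namespace Cfsg.Agent.OddLocal.Sigma

open Cfsg
open scoped commutatorElement

variable {G : Type*} [Group G] [Finite G]

/-- In a group with a normal `p`-complement, `P ∩ H' ≤ P'`. -/
theorem mem_derived_sylow {H : Type*} [Group H] [Finite H] {p : ℕ} [hp : Fact p.Prime]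
    (h : HasNormalPComplement p H) (P : Sylow p H) {x : H} (hxP : x ∈ (P : Subgroup H))
    (hx : x ∈ commutator H) : x ∈ ⁅(P : Subgroup H), (P : Subgroup H)⁆ := by
  obtain ⟨N, hN, hNc, k, hk⟩ := Transfer.hasNormalPComplement_iff_exists.mp h
  haveI := hN
  set φ := QuotientGroup.mk' N
  have htop : (P : Subgroup H) ⊔ N = ⊤ := Subgroup.index_eq_one.mp
    (Nat.eq_one_of_dvd_coprimes ((hp.out.coprime_iff_not_dvd.mpr P.not_dvd_index).pow_left k)
      (hk ▸ Subgroup.index_dvd_of_le le_sup_right) (Subgroup.index_dvd_of_le le_sup_left))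
  have hmap : (⊤ : Subgroup H).map φ = (P : Subgroup H).map φ := by
    rw [← htop, Subgroup.map_sup, QuotientGroup.map_mk'_self, sup_bot_eq]
  have h1 : φ x ∈ ⁅(P : Subgroup H), (P : Subgroup H)⁆.map φ := by
    rw [Subgroup.map_commutator, ← hmap, ← Subgroup.map_commutator, ← commutator_def]
    exact ⟨x, hx, rfl⟩
  obtain ⟨y, hy, hyx⟩ := h1
  have hyP : y ∈ (P : Subgroup H) := Subgroup.commutator_le.mpr (fun a ha b hb =>
    mul_mem (mul_mem (mul_mem ha hb) (inv_mem ha)) (inv_mem hb)) hy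
  have hN' : y⁻¹ * x ∈ N := QuotientGroup.eq.mp hyx
  have hcop : (Nat.card (P : Subgroup H)).Coprime (Nat.card N) := by
    obtain ⟨j, hj⟩ := IsPGroup.iff_card.mp P.isPGroup'
    rw [hj]
    exact hNc.symm.pow_left j
  have := Subgroup.inf_eq_bot_of_coprime hcop ▸ Subgroup.mem_inf.mpr ⟨mul_mem (inv_mem hyP) hxP, hN'⟩
  rw [Subgroup.mem_bot, inv_mul_eq_one] at this
  exact this ▸ hy

/-- In a `p`-group of rank at least three, a subgroup of `P'` of order `p` centralizes an
elementary abelian subgroup of order `p ^ 3`. -/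
theorem exists_ea_three_centralizing {R : Type*} [Group R] [Finite R] {p : ℕ} [hp : Fact p.Prime] (hp2 : p ≠ 2)
    (hR : IsPGroup p R) (hr : ¬ PRankLE p 2 R) {x : R} (hxp : x ^ p = 1) (hx : x ∈ commutator R) :
    ∃ A : Subgroup R, IsElementaryAbelian p A ∧ p ^ 3 ≤ Nat.card A ∧
      A ≤ Subgroup.centralizer ((Subgroup.zpowers x : Subgroup R) : Set R) := by
  obtain ⟨A, -, ⟨hAn, hA⟩, hmax⟩ := (Set.toFinite
    {A : Subgroup R | A.Normal ∧ IsElementaryAbelian p A}).exists_le_maximal (a := ⊥)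
    ⟨inferInstance, inferInstance, fun a ha => by rw [Subgroup.mem_bot.mp ha, one_pow]⟩
  have hA3 : p ^ 3 ≤ Nat.card A := RankTwo.three_le_of_gt hA
    (RankTwo.card_maximal_normal_ea hp2 hR hr hAn hA fun B hBn hB hle => le_antisymm (hmax ⟨hBn, hB⟩ hle) hle)
  by_cases hxA : x ∈ A
  · refine ⟨A, hA, hA3, Subgroup.le_centralizer_iff.mp (Subgroup.zpowers_le.mpr ?_)⟩
    exact Subgroup.mem_centralizer_iff.mpr fun a ha => PLocal.comm_of_EA hA ha hxA
  obtain ⟨U, hUn, hUA, hUc⟩ := Transfer.PNormal.exists_normal_card hR hAn 2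
    (le_trans (Nat.pow_le_pow_right hp.out.pos (by norm_num)) hA3)
  have hU : IsElementaryAbelian p U :=
    ⟨⟨⟨fun a b => Subtype.ext (PLocal.comm_of_EA hA (hUA a.2) (hUA b.2))⟩⟩, fun a ha => hA.2 a (hUA ha)⟩
  haveI := hUn
  haveI : (Subgroup.centralizer (U : Set R)).Normal := Subgroup.normal_centralizer
  have hle : commutator R ≤ Subgroup.centralizer (U : Set R) := by
    rw [← Subgroup.Normal.quotient_commutative_iff_commutator_le]
    have hi := Components.index_centralizer_normal_ea hR hUn hU hUc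
    obtain ⟨j, hj⟩ := IsPGroup.iff_card.mp (hR.to_quotient (Subgroup.centralizer (U : Set R)))
    rw [Subgroup.index_eq_card, hj] at hi
    have hj1 : j ≤ 1 := (Nat.pow_le_pow_iff_right hp.out.one_lt).mp (by rwa [pow_one])
    interval_cases j
    · haveI := (Nat.card_eq_one_iff_unique.mp (by rw [hj, pow_zero])).1
      exact ⟨⟨fun a b => Subsingleton.elim _ _⟩⟩
    · haveI := isCyclic_of_prime_card (p := p) (by rw [hj, pow_one])
      exact ⟨⟨(IsCyclic.commGroup (α := R ⧸ Subgroup.centralizer (U : Set R))).mul_comm⟩⟩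
  have hsup : IsElementaryAbelian p (U ⊔ Subgroup.zpowers x : Subgroup R) := RankTwo.ea_insert hU hxp (hle hx)
  refine ⟨U ⊔ Subgroup.zpowers x, hsup, RankTwo.three_le_of_gt hsup ?_, Subgroup.le_centralizer_iff.mp ?_⟩
  · rw [← hUc]
    refine lt_of_le_of_ne (Subgroup.card_le_of_le le_sup_left) fun e => hxA ?_
    exact hUA (Subgroup.eq_of_le_of_card_ge le_sup_left e.ge ▸ Subgroup.mem_sup_right (Subgroup.mem_zpowers x))
  · exact le_trans le_sup_right (Subgroup.le_centralizer_iff_isMulCommutative.mpr hsup.1)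

variable (hG : IsMinSimpleOddOrder G)
include hG

/-- For an ideal prime, an element of order `p` centralizes an elementary abelian `p ^ 3`. -/
theorem exists_ea_three_of_ideal {p : ℕ} [hp : Fact p.Prime] (hI : IsIdealPrime p G) (S : Sylow p G)
    {X : Subgroup G} (hX : Nat.card X = p) (hXS : X ≤ (S : Subgroup G)) :
    ∃ B : Subgroup G, B ≤ (S : Subgroup G) ∧ IsElementaryAbelian p B ∧ p ^ 3 ≤ Nat.card B ∧
      B ≤ Subgroup.centralizer (X : Set G) := by
  have hS1 : (S : Subgroup G) ≠ ⊥ := fun e => ne_bot_of_card_prime hX (le_bot_iff.mp (e ▸ hXS))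
  have hXe : IsElementaryAbelian p X := by
    haveI := isCyclic_of_prime_card (p := p) hX
    exact ⟨⟨⟨(IsCyclic.commGroup (α := X)).mul_comm⟩⟩, fun a ha =>
      orderOf_dvd_iff_pow_eq_one.mp ((Subgroup.orderOf_dvd_natCard X ha).trans hX.dvd)⟩
  by_cases hΩ : omegaCenter p (S : Subgroup G) ≤ X
  · have heq : omegaCenter p (S : Subgroup G) = X := by
      refine (((Nat.dvd_prime hp.out).mp (hX ▸ Subgroup.card_dvd_of_le hΩ)).elim (fun h => ?_) fun h => ?_)
      · exact absurd (Subgroup.eq_bot_of_card_eq _ h) (omegaCenter_ne_bot S.isPGroup' hS1)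
      · exact Subgroup.eq_of_le_of_card_ge hΩ (by rw [h, hX])
    have hr : ¬ PRankLE p 2 (S : Subgroup G) := by
      obtain ⟨E, hE, hE3⟩ : ∃ E : Subgroup G, IsElementaryAbelian p E ∧ p ^ 2 < Nat.card E :=
        RankTwo.exists_ea_of_rank hI.2.1
      obtain ⟨g, hg⟩ := Transfer.exists_map_conj_le_sylow S (Components.ea_isPGroup hE)
      exact not_pRankLE_of_ea (PLocal.isEA_map hE (MulAut.conj g).toMonoidHom) hg
        (by rwa [show Nat.card (E.map (MulAut.conj g).toMonoidHom) = Nat.card E from card_cj g E])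
    obtain ⟨B, hB, hBS, hB3⟩ := Core.BG.exists_ea_of_not_pRankLE hr
    refine ⟨B, hBS, hB, hB3, Subgroup.le_centralizer_iff.mp ?_⟩
    rw [← heq]
    exact fun z hz => Subgroup.centralizer_le hBS hz.1.2
  obtain ⟨z, hz, hzX⟩ := SetLike.not_le_iff_exists.mp hΩ
  set A := X ⊔ Subgroup.zpowers z
  have hzC : z ∈ Subgroup.centralizer (X : Set G) := Subgroup.centralizer_le hXS hz.1.2
  have hA : IsElementaryAbelian p A := RankTwo.ea_insert hXe hz.2 hzC
  have hAS : A ≤ (S : Subgroup G) := sup_le hXS (Subgroup.zpowers_le.mpr hz.1.1)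
  obtain ⟨j, hj⟩ := IsPGroup.iff_card.mp (Components.ea_isPGroup hA)
  have hj2 : 2 ≤ j := by
    have hlt : p < Nat.card A := hX ▸ lt_of_le_of_ne (Subgroup.card_le_of_le le_sup_left) fun e =>
      hzX (Subgroup.eq_of_le_of_card_ge le_sup_left e.ge ▸ Subgroup.mem_sup_right (Subgroup.mem_zpowers z))
    rw [hj] at hlt
    exact (Nat.pow_lt_pow_iff_right hp.out.one_lt).mp (by rwa [pow_one])
  have hA2 : Nat.card A = p ^ 2 := by
    refine le_antisymm ?_ (hj ▸ Nat.pow_le_pow_right hp.out.pos hj2)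
    have hzc : Nat.card (Subgroup.zpowers z) ≤ p := by
      rw [Nat.card_zpowers]
      exact Nat.le_of_dvd hp.out.pos (orderOf_dvd_of_pow_eq_one hz.2)
    have hsurj : Function.Surjective (fun w : X × Subgroup.zpowers z => (⟨(w.1 : G) * w.2,
        mul_mem (Subgroup.mem_sup_left w.1.2) (Subgroup.mem_sup_right w.2.2)⟩ : A)) := fun a => by
      obtain ⟨u, hu, v, hv, e⟩ := Components.mem_sup_of_le_centralizer
        (Subgroup.le_centralizer_iff.mp (Subgroup.zpowers_le.mpr hzC)) a.2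
      exact ⟨(⟨u, hu⟩, ⟨v, hv⟩), Subtype.ext e⟩
    calc Nat.card A ≤ Nat.card X * Nat.card (Subgroup.zpowers z) :=
          Nat.card_prod X (Subgroup.zpowers z) ▸ Nat.card_le_card_of_surjective _ hsurj
      _ ≤ p * p := Nat.mul_le_mul hX.le hzc
      _ = p ^ 2 := (sq p).symm
  obtain ⟨B, hBS, hB, hAB⟩ := hI.2.2 S A hAS hA hA2
  refine ⟨B, hBS, hB, RankTwo.three_le_of_gt hB ?_, Subgroup.le_centralizer_iff.mp ?_⟩
  · rw [← hA2]
    exact lt_of_le_of_ne (Subgroup.card_le_of_le hAB.le) fun e =>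
      hAB.ne (Subgroup.eq_of_le_of_card_ge hAB.le e.ge)
  · exact (le_sup_left.trans hAB.le).trans (Subgroup.le_centralizer_iff_isMulCommutative.mpr hB.1)

variable (hpl : ∀ (p : ℕ) [Fact p.Prime] (H : Subgroup G), H ≠ ⊤ → PLengthLE p 1 H)
include hpl

/-- In a non-abelian Sylow subgroup of rank two the derived group is central. -/
theorem derived_le_centralizer_of_rank_two {p : ℕ} [hp : Fact p.Prime] (S : Sylow p G)
    (hr : PRankLE p 2 (S : Subgroup G)) :
    ⁅(S : Subgroup G), (S : Subgroup G)⁆ ≤ Subgroup.centralizer ((S : Subgroup G) : Set G) := by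
  rcases sylow_rank_two hG hpl S hr with hab | ⟨P₁, P₂, hsup, hcomm, hna, hc, -, hcyc, -⟩
  · exact le_trans (Subgroup.commutator_le.mpr fun a ha b hb =>
      mul_mem (mul_mem (mul_mem ha hb) (inv_mem ha)) (inv_mem hb))
      (Subgroup.le_centralizer_iff_isMulCommutative.mpr hab)
  haveI := hcyc
  have h1 : P₁ ≤ (S : Subgroup G) := le_sup_left.trans hsup.le
  have h2 : P₂ ≤ (S : Subgroup G) := le_sup_right.trans hsup.le
  have hC2 : P₂ ≤ Subgroup.centralizer ((S : Subgroup G) : Set G) := by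
    refine Subgroup.le_centralizer_iff.mp (hsup.ge.trans (sup_le (fun a ha => ?_) (fun a ha => ?_)))
    · exact Subgroup.mem_centralizer_iff.mpr fun b hb => (hcomm a ha b hb).symm
    · exact Subgroup.mem_centralizer_iff.mpr fun b hb =>
        congrArg Subtype.val ((IsCyclic.commGroup (α := P₂)).mul_comm ⟨b, hb⟩ ⟨a, ha⟩)
  have hdec : ∀ s ∈ (S : Subgroup G), ∃ a ∈ P₁, ∃ b ∈ P₂, s = a * b := fun s hs => by
    have h := hsup.ge hs
    obtain ⟨a, ha, b, hb, e⟩ := Components.mem_sup_of_le_centralizer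
      (fun a ha => Subgroup.mem_centralizer_iff.mpr fun b hb => (hcomm a ha b hb).symm) h
    exact ⟨a, ha, b, hb, e.symm⟩
  refine Subgroup.commutator_le.mpr fun s hs t ht => ?_
  obtain ⟨a, ha, b, hb, rfl⟩ := hdec s hs
  obtain ⟨a', ha', b', hb', rfl⟩ := hdec t ht
  have hab : ∀ c ∈ P₂, ∀ d ∈ (S : Subgroup G), d * c = c * d := fun c hc' d hd =>
    Subgroup.mem_centralizer_iff.mp (hC2 hc') d hd
  have e : ⁅a * b, a' * b'⁆ = ⁅a, a'⁆ := by
    simp only [commutatorElement_def, mul_inv_rev]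
    calc a * b * (a' * b') * (b⁻¹ * a⁻¹) * (b'⁻¹ * a'⁻¹)
        = a * (b * a') * (b' * b⁻¹) * (a⁻¹ * b'⁻¹) * a'⁻¹ := by group
      _ = a * (a' * b) * (b⁻¹ * b') * (b'⁻¹ * a⁻¹) * a'⁻¹ := by
          rw [← hab b hb a' (h1 ha'), hab b⁻¹ (inv_mem hb) b' (h2 hb'),
            hab b'⁻¹ (inv_mem hb') a⁻¹ (inv_mem (h1 ha))]
      _ = _ := by group
  rw [e]
  have hz := (derived_eq_center_of_cube hc hna).le (Subgroup.commutator_mem_commutator ha ha')
  refine Subgroup.zpowers_le.mp (Subgroup.le_centralizer_iff.mp (hsup.ge.trans (sup_le ?_ ?_)))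
  · exact Subgroup.le_centralizer_iff.mp (Subgroup.zpowers_le.mpr hz.2)
  · exact Subgroup.le_centralizer_iff.mp (Subgroup.zpowers_le.mpr
      (Subgroup.mem_centralizer_iff.mpr fun c hc' => (hcomm _ hz.1 c hc').symm))

/-- A Sylow subgroup of `M_σ` is one of `G`. -/
theorem exists_sylow_eq_map {M : Subgroup G} (hM : IsCoatom M) {p : ℕ} [hp : Fact p.Prime] (hσ : p ∈ sigma M)
    (P : Sylow p ↥(sigmaCore M)) :
    ∃ S : Sylow p G, (S : Subgroup G) = (P : Subgroup ↥(sigmaCore M)).map (sigmaCore M).subtype := by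
  obtain ⟨S, hSM, -⟩ := exists_sylow_le hσ
  have hSσ : (S : Subgroup G) ≤ sigmaCore M := le_sigmaCore hG hM hSM fun q hq hd => by
    exact mem_of_pGroup (G := G) S.isPGroup' (π := sigma M) hσ q hq hd
  obtain ⟨T, hT⟩ := (P.isPGroup'.map (sigmaCore M).subtype).exists_le_sylow
  refine ⟨T, (Subgroup.eq_of_le_of_card_ge hT ?_).symm⟩
  rw [Core.card_map_subtype, T.card_eq_multiplicity, ← S.card_eq_multiplicity,
    Nat.card_congr (P.equiv (S.subtype hSσ)).toEquiv, Sylow.coe_subtype, Core.card_subgroupOf hSσ]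

/-- For `p ∈ β(M)` or `X ≤ M_σ'`: a Sylow `p`-subgroup is a uniqueness subgroup, and so is some
subgroup of `M` centralizing `X`. -/
theorem sigma_order_p {M : Subgroup G} (hM : IsCoatom M) {p : ℕ} [hp : Fact p.Prime] (hσ : p ∈ sigma M)
    {X : Subgroup G} (hXM : X ≤ M) (hX : Nat.card X = p)
    (h : p ∈ beta M ∨ X ≤ ⁅sigmaCore M, sigmaCore M⁆) :
    (Subgroup.centralizer (X : Set G) ≤ M ∧ Only M (Subgroup.centralizer (X : Set G))) ∧
      ∀ S : Sylow p G, InUniqueMaximal (S : Subgroup G) := by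
  have hXp : IsPGroup p X := IsPGroup.of_card (by rw [hX, pow_one])
  have hXσ : X ≤ sigmaCore M := le_sigmaCore hG hM hXM fun q hq hd => by
    rw [hX] at hd
    exact (Nat.prime_dvd_prime_iff_eq hq hp.out).mp hd ▸ hσ
  obtain ⟨Q, hQ⟩ := exists_sylow_map_ge hXp hXσ
  obtain ⟨S, hS⟩ := exists_sylow_eq_map hG hpl hM hσ Q
  have hXS : X ≤ (S : Subgroup G) := hS ▸ hQ
  have hSM : (S : Subgroup G) ≤ M := hS ▸ (Subgroup.map_subtype_le _).trans (sigmaCore_le M)
  have hCtop : Subgroup.centralizer (X : Set G) ≠ ⊤ := fun e =>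
    Core.BG.normalizer_ne_top_of_isPGroup hG (ne_bot_of_card_prime hX) hXp
      (top_le_iff.mp (e ▸ Subgroup.centralizer_le_normalizer _))
  have hStop : ∀ T : Sylow p G, (T : Subgroup G) ≠ ⊤ := fun T e => hM.1 (top_le_iff.mp (by
    have h1 : Nat.card G ≤ Nat.card (S : Subgroup G) := by
      rw [← Subgroup.card_top, ← e, T.card_eq_multiplicity, S.card_eq_multiplicity]
    exact (Subgroup.eq_top_of_card_eq _ (le_antisymm (Subgroup.card_le_card_group _) h1)).ge.trans hSM))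
  suffices hkey : (∃ Y : Subgroup G, Y ≤ (S : Subgroup G) ∧ Y ≤ Subgroup.centralizer (X : Set G) ∧
      InUniqueMaximal Y) ∧ ∀ T : Sylow p G, InUniqueMaximal (T : Subgroup G) by
    obtain ⟨⟨Y, hYS, hYC, hY⟩, hall⟩ := hkey
    have honly : Only M (Subgroup.centralizer (X : Set G)) := (only_of_unique hY hM (hYS.trans hSM)).mono hYC
    exact ⟨⟨honly.le hCtop, honly⟩, hall⟩
  have hp2 : p ≠ 2 := ne_two_of_dvd hG (sigma_dvd hσ)
  by_cases hβ : p ∈ beta M
  · obtain ⟨B, hBS, hB, hB3, hBC⟩ := exists_ea_three_of_ideal hG hβ.2 S hX hXS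
    refine ⟨⟨B, hBS, hBC, Core.BG.ea_three_unique hG hB hB3⟩, fun T => ?_⟩
    obtain ⟨E, hE, hET, hE3⟩ := Core.BG.exists_ea_of_not_pRankLE (K := (T : Subgroup G)) (k := 2)
      (fun hr => not_pRankLE_of_ea hB hBS (lt_of_lt_of_le (Nat.pow_lt_pow_right hp.out.one_lt (by norm_num)) hB3)
        ((Components.pRankLE_congr (T.equiv S)).mp hr))
    exact Core.BG.inUniqueMaximal_of_le hG (Core.BG.ea_three_unique hG hE hE3) hET (hStop T)
  have hXD : X ≤ ⁅(S : Subgroup G), (S : Subgroup G)⁆ := by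
    intro x hx
    have hd := (h.resolve_left hβ) hx
    rw [← Subgroup.map_subtype_commutator] at hd
    obtain ⟨y, hy, rfl⟩ := hd
    have hyQ : y ∈ (Q : Subgroup ↥(sigmaCore M)) := by
      obtain ⟨z, hz, e⟩ := hQ hx
      rwa [← show z = y from Subtype.ext e]
    rw [hS, ← Subgroup.map_commutator]
    exact ⟨y, mem_derived_sylow (Transfer.hasNormalPComplement_of_le (sigmaCore_le_derived hG hM)
      (derived_npc hG hpl hM hβ)) Q hyQ hy, rfl⟩
  have hna : ¬ IsMulCommutative (S : Subgroup G) := fun hab => by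
    haveI := hab
    refine ne_bot_of_card_prime hX (le_bot_iff.mp (hXD.trans (le_of_eq ?_)))
    exact Subgroup.commutator_eq_bot_iff_le_centralizer.mpr (Subgroup.le_centralizer_iff_isMulCommutative.mpr hab)
  have hall : ∀ T : Sylow p G, InUniqueMaximal (T : Subgroup G) := fun T =>
    inUniqueMaximal_of_nonabelian hG hpl T.isPGroup' fun hT => hna
      ⟨⟨fun a b => (S.equiv T).injective (by rw [map_mul, map_mul]; exact hT.1.1 _ _)⟩⟩
  by_cases hr : PRankLE p 2 (S : Subgroup G)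
  · exact ⟨⟨S, le_rfl, Subgroup.le_centralizer_iff.mp
      (hXD.trans (derived_le_centralizer_of_rank_two hG hpl S hr)), hall S⟩, hall⟩
  have hxe : ∃ x : G, x ∈ X ∧ x ≠ 1 := (Subgroup.ne_bot_iff_exists_ne_one.mp (ne_bot_of_card_prime hX)).elim
    fun x hx => ⟨x, x.2, fun e => hx (Subtype.ext e)⟩
  obtain ⟨x, hx, hx1⟩ := hxe
  obtain ⟨A, hA, hA3, hAC⟩ := exists_ea_three_centralizing hp2 S.isPGroup' hr (x := ⟨x, hXS hx⟩)
    (Subtype.ext (orderOf_dvd_iff_pow_eq_one.mp ((Subgroup.orderOf_dvd_natCard X hx).trans hX.dvd))) (by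
      have h1 := hXD hx
      rw [← Subgroup.map_subtype_commutator] at h1
      obtain ⟨y, hy, e⟩ := h1
      rwa [← show y = ⟨x, hXS hx⟩ from Subtype.ext e])
  refine ⟨⟨A.map (S : Subgroup G).subtype, Subgroup.map_subtype_le _, ?_,
    Core.BG.ea_three_unique hG (PLocal.isEA_map hA _) (by rwa [Core.card_map_subtype])⟩, hall⟩
  rintro _ ⟨a, ha, rfl⟩
  rw [← zpowers_eq_of_card_prime hX hx hx1]
  refine Subgroup.mem_centralizer_iff.mpr ?_
  rintro _ ⟨i, rfl⟩
  have := congrArg Subtype.val (Subgroup.mem_centralizer_iff.mp (hAC ha) _ ⟨i, rfl⟩)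
  simpa using this

end Cfsg.Agent.OddLocal.Sigma
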