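import Cfsg.Agent.OddLocal.Sigma.Hall
import Cfsg.Agent.OddLocal.PLengthOne
import Cfsg.Agent.PLocal.ChainPCore

/-! Fusion in a Sylow subgroup of a minimal simple group of odd order is controlled by its normalizer. -/

set_option autoImplicit false
set_option linter.style.haveILetI false
set_option linter.unusedSectionVars false

namespace Cfsg.Agent.OddLocal.Sigma

open Cfsg
open scoped commutatorElement

variable {G : Type*} [Group G] [Finite G]
variable (hG : IsMinSimpleOddOrder G) (hpl : ∀ (p : ℕ) [Fact p.Prime] (H : Subgroup G), H ≠ ⊤ → PLengthLE p 1 H)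
include hG hpl

theorem exists_normalizer_conj {p : ℕ} [hp : Fact p.Prime] (P : Sylow p G) {Q : Subgroup G}
    (hQ : Q ≤ (P : Subgroup G)) {x : G} (hx : cj x Q ≤ (P : Subgroup G)) :
    ∃ y ∈ Subgroup.normalizer ((P : Subgroup G) : Set G), ∀ q ∈ Q, y * q * y⁻¹ = x * q * x⁻¹ := by
  by_cases hQ1 : Q = ⊥
  · exact ⟨1, one_mem _, fun q hq => by rw [hQ1, Subgroup.mem_bot] at hq; simp [hq]⟩
  have hP1 : (P : Subgroup G) ≠ ⊥ := fun h => hQ1 (le_bot_iff.mp (h ▸ hQ))
  obtain ⟨M, hM, hNM⟩ := (eq_top_or_exists_le_coatom (Subgroup.normalizer ((P : Subgroup G) : Set G))).resolve_left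
    (Core.BG.normalizer_ne_top_of_isPGroup hG hP1 P.isPGroup')
  have hPM : (P : Subgroup G) ≤ M := Subgroup.le_normalizer.trans hNM
  let S : Sylow p M := P.subtype hPM
  have hSmap : (S : Subgroup M).map M.subtype = (P : Subgroup G) := by
    rw [Sylow.coe_subtype, Subgroup.subgroupOf_map_subtype, inf_eq_left.mpr hPM]
  have hσ : p ∈ sigma M := by
    refine ⟨hp.out, ?_, S, by rw [hSmap]; exact hNM⟩
    obtain ⟨k, hk⟩ := IsPGroup.iff_card.mp P.isPGroup'
    have hk0 : k ≠ 0 := fun e => hP1 (Subgroup.eq_bot_of_card_eq _ (by rw [hk, e, pow_zero]))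
    exact (dvd_pow_self p hk0).trans (hk ▸ Subgroup.card_dvd_of_le hPM)
  obtain ⟨m, hm, c, hc, rfl⟩ := exists_mul_centralizer hG hM hσ (P.isPGroup'.to_le hQ) hQ1 (hQ.trans hPM)
    (g := x) (hx.trans hPM)
  have hcq : ∀ q ∈ Q, c * q * c⁻¹ = q := fun q hq => by
    rw [← Subgroup.mem_centralizer_iff.mp hc q hq, mul_inv_cancel_right]
  haveI := Core.BG.isSolvable_proper hG hM.1
  obtain ⟨g, hg, c', hc', hgc⟩ := (pLengthOne_fusion (hpl p M hM.1) S).2.1 ((Q.subgroupOf M : Subgroup M) : Set M)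
    ⟨m, hm⟩ (fun z hz => by
      rw [Sylow.coe_subtype]; exact Subgroup.mem_subgroupOf.mpr (hQ (Subgroup.mem_subgroupOf.mp hz)))
    (by
      rintro _ ⟨z, hz, rfl⟩
      rw [Sylow.coe_subtype]
      refine Subgroup.mem_subgroupOf.mpr ?_
      show m * (z : G) * m⁻¹ ∈ (P : Subgroup G)
      have hz' : (z : G) ∈ Q := Subgroup.mem_subgroupOf.mp hz
      have := hx ⟨(z : G), hz', rfl⟩
      simp only [MulEquiv.coe_toMonoidHom, MulAut.conj_apply] at this
      rwa [show m * c * (z : G) * (m * c)⁻¹ = m * (c * (z : G) * c⁻¹) * m⁻¹ by group, hcq _ hz'] at this)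
  refine ⟨(g : G), ?_, fun q hq => ?_⟩
  · rw [← hSmap]; exact Subgroup.le_normalizer_map M.subtype ⟨g, hg, rfl⟩
  · have hq' : (⟨q, hPM (hQ hq)⟩ : M) ∈ Q.subgroupOf M := Subgroup.mem_subgroupOf.mpr hq
    have h1 : q * (c' : G) = (c' : G) * q := congrArg Subtype.val (Subgroup.mem_centralizer_iff.mp hc' _ hq')
    have h2 : (g : G) * (c' : G) = m := congrArg Subtype.val hgc
    rw [show m * c * q * (m * c)⁻¹ = m * (c * q * c⁻¹) * m⁻¹ by group, hcq q hq, ← h2,
      show (g : G) * (c' : G) * q * ((g : G) * (c' : G))⁻¹ = (g : G) * ((c' : G) * q * (c' : G)⁻¹) * (g : G)⁻¹ by group,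
      ← h1, mul_inv_cancel_right]

theorem exists_normalizer_map {p : ℕ} [hp : Fact p.Prime] (P : Sylow p G) {Q : Subgroup G}
    (hQ : Q ≤ (P : Subgroup G)) {x : G} (hx : cj x Q ≤ (P : Subgroup G)) :
    ∃ y ∈ Subgroup.normalizer ((P : Subgroup G) : Set G), cj x Q = cj y Q := by
  obtain ⟨y, hy, h⟩ := exists_normalizer_conj hG hpl P hQ hx
  exact ⟨y, hy, SetLike.coe_injective (Set.image_congr fun q hq => (h q hq).symm)⟩

theorem sylow_eq_commutator {p : ℕ} [hp : Fact p.Prime] (P : Sylow p G)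
    (V : Subgroup G) (hV : IsComplIn (P : Subgroup G) V (Subgroup.normalizer ((P : Subgroup G) : Set G))) :
    (P : Subgroup G) = ⁅(P : Subgroup G), V⁆ ∧
      (P : Subgroup G) ≤ ⁅Subgroup.normalizer ((P : Subgroup G) : Set G), Subgroup.normalizer ((P : Subgroup G) : Set G)⁆ := by
  set N := Subgroup.normalizer ((P : Subgroup G) : Set G) with hN
  have h1 : (P : Subgroup G) ≤ ⁅(P : Subgroup G), N⁆ := by
    conv_lhs => rw [← Transfer.focalSubgroup_eq_of_pResidual_eq_top P (CN.pResidual_eq_top hG.2 p)]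
    refine Transfer.focalSubgroup_le_of_forall fun x hx g hgx => ?_
    obtain ⟨y, hy, he⟩ := exists_normalizer_conj hG hpl P (Subgroup.zpowers_le.mpr hx) (x := g) (by
      rw [cj, MonoidHom.map_zpowers, Subgroup.zpowers_le]; exact hgx)
    rw [← he x (Subgroup.mem_zpowers x), show x⁻¹ * (y * x * y⁻¹) = ⁅x⁻¹, y⁆ by
      rw [commutatorElement_def]; group]
    exact Subgroup.commutator_mem_commutator (inv_mem hx) hy
  have hVN : V ≤ N := hV.2.1
  have hLP : ⁅(P : Subgroup G), V⁆ ≤ (P : Subgroup G) := Subgroup.commutator_le.mpr fun a ha v hv => by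
    rw [commutatorElement_def, show a * v * a⁻¹ * v⁻¹ = a * (v * a⁻¹ * v⁻¹) by group]
    exact mul_mem ha ((Subgroup.mem_normalizer_iff.mp (hVN hv) _).mp (inv_mem ha))
  refine ⟨le_antisymm ?_ hLP, h1.trans (Subgroup.commutator_mono Subgroup.le_normalizer le_rfl)⟩
  set L := ⁅(P : Subgroup G), V⁆ with hL
  have hLnorm : ∀ s ∈ (P : Subgroup G), ∀ l ∈ L, s * l * s⁻¹ ∈ L := by
    intro s hs l hl
    exact (Subgroup.mem_normalizer_iff.mp
      (PLocal.sup_le_normalizer_commutator (P : Subgroup G) V (Subgroup.mem_sup_left hs)) l).mp hl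
  set L' := L.subgroupOf (P : Subgroup G)
  haveI : L'.Normal := ⟨fun l hl s => hLnorm s s.2 _ hl⟩
  set π := QuotientGroup.mk' L'
  by_contra hne
  haveI : Nontrivial ((P : Subgroup G) ⧸ L') := QuotientGroup.nontrivial_iff.mpr fun h => hne fun z hz =>
    Subgroup.mem_subgroupOf.mp (h.ge (Subgroup.mem_top (⟨z, hz⟩ : (P : Subgroup G))))
  haveI : Group.IsNilpotent ((P : Subgroup G) ⧸ L') := (P.isPGroup'.to_quotient L').isNilpotent
  refine (Group.IsSolvable.commutator_lt_top_of_nontrivial ((P : Subgroup G) ⧸ L')).ne (eq_top_iff.mpr ?_)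
  rintro y -
  obtain ⟨⟨z, hz⟩, rfl⟩ := QuotientGroup.mk'_surjective L' y
  set Ψ : Subgroup G := ((commutator ((P : Subgroup G) ⧸ L')).comap π).map (P : Subgroup G).subtype
  suffices hΨ : ⁅(P : Subgroup G), N⁆ ≤ Ψ by
    obtain ⟨w, hw, hwe⟩ := hΨ (h1 hz)
    rwa [show (⟨z, hz⟩ : (P : Subgroup G)) = w from Subtype.ext hwe.symm]
  refine Subgroup.commutator_le.mpr fun a ha n hn => ?_
  obtain ⟨s, hs, v, hv, rfl⟩ := hV.2.2.2 n hn
  have e : ⁅a, s * v⁆ = ⁅a, s⁆ * (s * ⁅a, v⁆ * s⁻¹) := by simp only [commutatorElement_def]; group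
  rw [e]
  refine mul_mem ⟨⁅(⟨a, ha⟩ : (P : Subgroup G)), ⟨s, hs⟩⁆, ?_, rfl⟩ ?_
  · rw [SetLike.mem_coe, Subgroup.mem_comap, map_commutatorElement]
    exact Subgroup.commutator_mem_commutator (Subgroup.mem_top _) (Subgroup.mem_top _)
  · have hl := hLnorm s hs _ (Subgroup.commutator_mem_commutator ha hv)
    refine ⟨⟨_, hLP hl⟩, ?_, rfl⟩
    rw [SetLike.mem_coe, Subgroup.mem_comap, show π ⟨_, hLP hl⟩ = 1 from
      (QuotientGroup.eq_one_iff _).mpr (Subgroup.mem_subgroupOf.mpr hl)]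
    exact one_mem _

theorem not_dvd_relIndex_normalizer {p : ℕ} [hp : Fact p.Prime] (P : Sylow p G) {Q : Subgroup G}
    (hQ : Q ≤ (P : Subgroup G)) :
    ¬ p ∣ ((P : Subgroup G) ⊓ Subgroup.normalizer (Q : Set G)).relIndex (Subgroup.normalizer (Q : Set G)) := by
  intro hd
  set H := Subgroup.normalizer (Q : Set G) with hH
  set T₀ := (P : Subgroup G) ⊓ H with hT₀
  obtain ⟨T', hT'⟩ := ((P.isPGroup'.to_le inf_le_left).comap_subtype : IsPGroup p (T₀.subgroupOf H)).exists_le_sylow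
  set T := (T' : Subgroup H).map H.subtype
  have hT₀T : T₀ ≤ T := fun z hz => ⟨⟨z, hz.2⟩, hT' (Subgroup.mem_subgroupOf.mpr hz), rfl⟩
  have hQT : Q ≤ T := (le_inf hQ Subgroup.le_normalizer).trans hT₀T
  obtain ⟨g, hg⟩ := Transfer.exists_map_conj_le_sylow P (T'.isPGroup'.map H.subtype)
  obtain ⟨y, hy, he⟩ := exists_normalizer_map hG hpl P hQ (x := g) ((cj_mono hQT).trans hg)
  have hz : y⁻¹ * g ∈ H := cj_eq_iff.mp (by rw [cj_mul, he, ← cj_mul, inv_mul_cancel, cj_one])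
  have hle : cj (y⁻¹ * g) T ≤ T₀ := by
    refine le_inf ?_ ((cj_mono (Subgroup.map_subtype_le _)).trans (cj_eq_iff.mpr (Subgroup.le_normalizer hz)).le)
    rw [cj_mul]
    exact (cj_mono hg).trans (cj_eq_iff.mpr (inv_mem hy)).le
  have hcard : Nat.card T ≤ Nat.card T₀ := (card_cj (y⁻¹ * g) T).ge.trans (Subgroup.card_le_of_le hle)
  have heq : T₀ = T := Subgroup.eq_of_le_of_card_ge hT₀T hcard
  rw [heq, Subgroup.relIndex, Subgroup.subgroupOf, Subgroup.comap_map_eq_self_of_injective H.subtype_injective] at hd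
  exact T'.not_dvd_index hd

theorem normalizer_le_normalizer {p : ℕ} [hp : Fact p.Prime] (P : Sylow p G) {R Q : Subgroup G}
    (hR : IsPGroup p R) (hQ : Q ≤ (P : Subgroup G) ⊓ R)
    (hPQ : Subgroup.normalizer ((P : Subgroup G) : Set G) ≤ Subgroup.normalizer (Q : Set G)) :
    Subgroup.normalizer (R : Set G) ≤ Subgroup.normalizer (Q : Set G) := by
  intro x hx
  obtain ⟨g, hg⟩ := Transfer.exists_map_conj_le_sylow P hR
  have key : ∀ z : G, cj z Q ≤ (P : Subgroup G) → cj z Q = Q := by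
    intro z hz
    obtain ⟨y, hy, he⟩ := exists_normalizer_map hG hpl P (hQ.trans inf_le_left) (x := z) hz
    rw [he]; exact cj_eq_iff.mpr (hPQ hy)
  have h1 : g ∈ Subgroup.normalizer (Q : Set G) :=
    cj_eq_iff.mp (key g ((cj_mono (hQ.trans inf_le_right)).trans hg))
  have h2 : g * x ∈ Subgroup.normalizer (Q : Set G) := cj_eq_iff.mp (key _ (by
    rw [cj_mul]
    exact (cj_mono ((cj_mono (hQ.trans inf_le_right)).trans (cj_eq_iff.mpr hx).le)).trans hg))
  have := mul_mem (inv_mem h1) h2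
  rwa [inv_mul_cancel_left] at this

end Cfsg.Agent.OddLocal.Sigma
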