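import Cfsg.Agent.OddLocal.Sigma.NonabelianSylow
import Cfsg.Agent.OddLocal.Sigma.SylowFusion

/-! Sylow subgroups for the primes outside `σ(M)` and the action of a complement on `A`. -/

set_option autoImplicit false
set_option linter.style.haveILetI false
set_option linter.unusedSectionVars false

namespace Cfsg.Agent.OddLocal.Sigma

open Cfsg
open scoped commutatorElement

/-- A nilpotent group with commutative Sylow subgroups is commutative. -/
theorem isMulCommutative_of_nilpotent {X : Type*} [Group X] [Finite X] [Group.IsNilpotent X]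
    (h : ∀ q : ℕ, q.Prime → ∀ P : Sylow q X, IsMulCommutative (P : Subgroup X)) : IsMulCommutative X := by
  obtain ⟨e⟩ := ((Group.isNilpotent_of_finite_tfae (G := X)).out 0 4).mp
    (inferInstance : Group.IsNilpotent X)
  refine ⟨⟨fun a b => e.symm.injective ?_⟩⟩
  rw [map_mul, map_mul]
  funext q P
  exact (h q (Nat.prime_of_mem_primeFactors q.2) P).is_comm.comm (e.symm a q P) (e.symm b q P)

variable {G : Type*} [Group G] [Finite G] (hG : IsMinSimpleOddOrder G)
  (hpl : ∀ (p : ℕ) [Fact p.Prime] (H : Subgroup G), H ≠ ⊤ → PLengthLE p 1 H)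
include hG hpl

theorem isMulCommutative_sylow_of_notMem_sigma {M : Subgroup G} (hM : IsCoatom M) {r : ℕ} [hr : Fact r.Prime]
    (hσ : r ∉ sigma M) (P : Sylow r M) : IsMulCommutative (P : Subgroup M) := by
  by_cases h1 : PRankLE r 1 M
  · haveI := sylow_isCyclic_of_rankOne hG h1 le_rfl P
    infer_instance
  obtain ⟨A, hAM, hA, hA2⟩ := exists_ea_sq_of_rank (pRankLE_two_of_notMem_sigma hG hM hr.out hσ) h1
  obtain ⟨A0, h⟩ := exists_exc hG hpl hM hσ hAM hA hA2
  exact h.sylow_abelian hG hpl P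

/-- Nilpotent `σ(M)'`-subgroups of `M` are abelian. -/
theorem isMulCommutative_of_nilpotent_le {M N : Subgroup G} (hM : IsCoatom M) (hNM : N ≤ M)
    [Group.IsNilpotent N] (hσ : ∀ q : ℕ, q.Prime → q ∣ Nat.card N → q ∉ sigma M) : IsMulCommutative N := by
  refine isMulCommutative_of_nilpotent fun q hq P => ?_
  haveI := Fact.mk hq
  by_cases hd : q ∣ Nat.card N
  · obtain ⟨Q, hQ⟩ := exists_sylow_map_ge (P.isPGroup'.map N.subtype) ((Subgroup.map_subtype_le _).trans hNM)
    haveI := isMulCommutative_sylow_of_notMem_sigma hG hpl hM (hσ q hq hd) Q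
    refine ⟨⟨fun a b => Subtype.ext (Subtype.ext ?_)⟩⟩
    obtain ⟨a', ha', hae⟩ := hQ ⟨(a : N), a.2, rfl⟩
    obtain ⟨b', hb', hbe⟩ := hQ ⟨(b : N), b.2, rfl⟩
    show ((a : N) : G) * (b : N) = (b : N) * (a : N)
    simp only [Subgroup.coe_subtype] at hae hbe
    rw [← hae, ← hbe]
    exact congrArg (fun z : (Q : Subgroup M) => ((z : M) : G))
      (IsMulCommutative.is_comm.comm (⟨a', ha'⟩ : (Q : Subgroup M)) ⟨b', hb'⟩)
  · rw [show (P : Subgroup N) = ⊥ from Subgroup.card_eq_one.mp (by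
      rw [P.card_eq_multiplicity, Nat.factorization_eq_zero_of_not_dvd hd, pow_zero])]
    exact ⟨⟨fun a b => Subsingleton.elim _ _⟩⟩

omit hpl in
/-- A `q`-element of the derived subgroup of the normalizer of a `p`-subgroup of rank two centralizes it. -/
theorem mem_centralizer_of_mem_derived_normalizer {A : Subgroup G} {p : ℕ} [hp : Fact p.Prime]
    (hA : IsPGroup p A) (hA1 : A ≠ ⊥) (hr : PRankLE p 2 A) {x : G}
    (hx : x ∈ ⁅Subgroup.normalizer (A : Set G), Subgroup.normalizer (A : Set G)⁆)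
    (hxp : (orderOf x).Coprime p) : x ∈ Subgroup.centralizer (A : Set G) := by
  set N := Subgroup.normalizer (A : Set G)
  haveI := Core.BG.isSolvable_proper hG (Core.BG.normalizer_ne_top_of_isPGroup hG hA1 hA : N ≠ ⊤)
  haveI : (A.subgroupOf N).Normal := Subgroup.normal_subgroupOf_of_le_normalizer le_rfl
  have hpA : p ∣ Nat.card A := by
    obtain ⟨k, hk⟩ := IsPGroup.iff_card.mp hA
    exact hk ▸ dvd_pow_self p fun e => hA1 (Subgroup.eq_bot_of_card_eq _ (by rw [hk, e, pow_zero]))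
  have e := Subgroup.subgroupOfEquivOfLe (Subgroup.le_normalizer : A ≤ N)
  have hsm : RankTwo.OddAutSmall p (A.subgroupOf N) := RankTwo.oddAutSmall_of_rankLE_two
    (ne_two_of_dvd hG (hpA.trans (Subgroup.card_subgroup_dvd_card A))) hA.comap_subtype
    (Components.pRankLE_of_injective (f := e.toMonoidHom) e.injective hr)
  obtain ⟨y, hy, rfl⟩ := (N.map_subtype_commutator).ge hx
  obtain ⟨k, hk⟩ := RankTwo.exists_pow_mem_centralizer (odd_of_dvd hG (Subgroup.card_subgroup_dvd_card N))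
    (A.subgroupOf N) hsm hy
  rw [Subgroup.coe_subtype, Subgroup.orderOf_coe] at hxp
  obtain ⟨m, hm⟩ := exists_pow_eq_self_of_coprime (n := p ^ k) (x := y) (hxp.symm.pow_left k)
  refine Subgroup.mem_centralizer_iff.mpr fun a ha => ?_
  have h2 : y ∈ Subgroup.centralizer ((A.subgroupOf N : Subgroup N) : Set N) := hm ▸ pow_mem hk m
  exact congrArg Subtype.val
    (Subgroup.mem_centralizer_iff.mp h2 ⟨a, Subgroup.le_normalizer ha⟩ (Subgroup.mem_subgroupOf.mpr ha))

/-- In a complement, the elements of `q`-power order centralize `A` for distinct `p`, `q` in `τ₂(M)`. -/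
theorem zpowers_le_centralizer {M E : Subgroup G} (hM : IsCoatom M) (hE : IsComplIn E (sigmaCore M) M) {p q : ℕ}
    [hp : Fact p.Prime] [hq : Fact q.Prime] (hpτ : p ∈ tau2 M) (hqτ : q ∈ tau2 M) (hpq : p ≠ q)
    {A : Subgroup G} (hA : A ≤ E ∧ IsElementaryAbelian p A ∧ Nat.card A = p ^ 2) {Q : Subgroup G}
    (hQ : IsPGroup q Q) (hQE : Q ≤ E) : Q ≤ Subgroup.centralizer (A : Set G) := by
  obtain ⟨hAE, hAe, hA2⟩ := hA
  obtain ⟨A0, h⟩ := exists_exc hG hpl hM hpτ.2.1 (hAE.trans hE.1) hAe hA2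
  obtain ⟨B, hBE, hBe, hB2⟩ := exists_ea_le_compl hG hE hqτ
  obtain ⟨B0, hB⟩ := exists_exc hG hpl hM hqτ.2.1 (hBE.trans hE.1) hBe hB2
  have hEA := h.le_normalizer_of_compl hG hpl hE hAE
  have hEB := hB.le_normalizer_of_compl hG hpl hE hBE
  have hab : ∀ S : Sylow q G, IsMulCommutative (S : Subgroup G) := by
    intro S
    by_contra hS
    have hall : ∀ S' : Sylow q G, ¬ IsMulCommutative (S' : Subgroup G) := fun S' hc => hS
      ⟨⟨fun a b => (Sylow.equiv S S').injective (by rw [map_mul, map_mul]; exact hc.is_comm.comm _ _)⟩⟩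
    rw [hB.tau2_eq hG hpl hall hE hqτ hBE] at hpτ
    exact hpq hpτ
  have hBQ : IsPGroup q ↥(B ⊔ Q) := IsPGroup.to_sup_of_normal_left' hB.maxEA.isPGroup hQ (hQE.trans hEB)
  obtain ⟨P, hP, hPE⟩ := exists_sylow_le_compl hG hE hqτ.2.1 hBQ (sup_le hBE hQE)
  set P' := (P : Subgroup M).map M.subtype with hP'def
  have hP'p : IsPGroup q P' := P.isPGroup'.map _
  obtain ⟨R, hPR⟩ := hP'p.exists_le_sylow
  have hRc := (hab R).is_comm
  have hRM : (R : Subgroup G) ≤ M := by
    refine le_trans (fun x hx => Subgroup.mem_centralizer_iff.mpr fun b hb => ?_) hB.centralizer_le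
    exact congrArg Subtype.val (hRc.comm ⟨b, hPR (hP (Subgroup.mem_sup_left hb))⟩ ⟨x, hx⟩)
  have hR : (R : Subgroup G) = P' := by
    refine le_antisymm (fun x hx => ?_) hPR
    have h1 : P.1 ≤ (R : Subgroup G).subgroupOf M := fun z hz =>
      Subgroup.mem_subgroupOf.mpr (hPR ⟨z, hz, rfl⟩)
    exact ⟨⟨x, hRM hx⟩, P.3 R.isPGroup'.comap_subtype h1 ▸ Subgroup.mem_subgroupOf.mpr hx, rfl⟩
  have hfacts := tau2_compl_facts hG hpl hM hE hqτ ⟨hBE, hBe, hB2⟩
  have hAB : A ≤ Subgroup.centralizer (B : Set G) := by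
    rw [← Subgroup.commutator_eq_bot_iff_le_centralizer]
    exact le_bot_iff.mp ((le_inf (Coprime.commutator_le_of_le_normalizer (hBE.trans hEA))
      (by rw [Subgroup.commutator_comm]; exact Coprime.commutator_le_of_le_normalizer (hAE.trans hEB))).trans
      (Subgroup.inf_eq_bot_of_coprime (coprime_of_pGroups hpq h.maxEA.isPGroup hB.maxEA.isPGroup)).le)
  have hNBA : Subgroup.normalizer (B : Set G) ≤ Subgroup.normalizer (A : Set G) := fun n hn =>
    Coprime.mem_normalizer_of_conj_mem fun a ha => by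
      have hc := hfacts.2.1.1 (conj_mem_centralizer hn (hAB ha))
      rw [hfacts.2.1.2.1] at hc
      by_cases h1 : n * a * n⁻¹ = 1
      · rw [h1]; exact one_mem _
      have hp' : (n * a * n⁻¹) ^ p = 1 := by rw [conj_pow, h.maxEA.ea.2 a ha, mul_one, mul_inv_cancel]
      exact (tau2_compl_facts hG hpl hM hE hpτ ⟨hAE, hAe, hA2⟩).1.2 _ (Subgroup.zpowers_le.mpr hc)
        (by rw [Nat.card_zpowers, orderOf_eq_prime hp' h1]) (Subgroup.mem_zpowers _)
  have hNR : Subgroup.normalizer ((R : Subgroup G) : Set G) ≤ Subgroup.normalizer (A : Set G) := by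
    rw [hR]
    exact (hB.normalizer_sylow_le_normalizer hG hpl P (le_sup_left.trans hP)).trans hNBA
  set N := Subgroup.normalizer ((R : Subgroup G) : Set G) with hNdef
  haveI : ((R : Subgroup G).subgroupOf N).Normal := Subgroup.normal_subgroupOf_of_le_normalizer le_rfl
  obtain ⟨V, hV⟩ := Subgroup.exists_right_complement'_of_coprime (N := (R : Subgroup G).subgroupOf N) (by
    obtain ⟨k, hk⟩ := IsPGroup.iff_card.mp R.isPGroup'
    rw [Core.card_subgroupOf Subgroup.le_normalizer, hk]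
    exact (hq.out.coprime_iff_not_dvd.mpr fun hd => R.not_dvd_index
      (hd.trans (Subgroup.relIndex_dvd_index_of_le Subgroup.le_normalizer))).pow_left k)
  have hcompl : IsComplIn (R : Subgroup G) (V.map N.subtype) N := by
    refine ⟨Subgroup.le_normalizer, Subgroup.map_subtype_le _, ?_, fun n hn => ?_⟩
    · rw [eq_bot_iff]
      rintro _ ⟨hx, y, hy, rfl⟩
      have := hV.disjoint.le_bot ⟨Subgroup.mem_subgroupOf.mpr hx, hy⟩
      rw [Subgroup.mem_bot] at this
      simp [this]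
    · obtain ⟨⟨⟨a, ha⟩, ⟨b, hb⟩⟩, he⟩ := hV.2 ⟨n, hn⟩
      exact ⟨a, Subgroup.mem_subgroupOf.mp ha, b, ⟨b, hb, rfl⟩, congrArg Subtype.val he.symm⟩
  have hRN' := (sylow_eq_commutator hG hpl R _ hcompl).2
  have hrA : PRankLE p 2 A := fun X _ _ => (Nat.le_of_dvd Nat.card_pos (Subgroup.card_subgroup_dvd_card X)).trans
    (le_of_eq h.maxEA.card)
  intro x hx
  have hxR : x ∈ (R : Subgroup G) := hPR (hP (Subgroup.mem_sup_right hx))
  refine mem_centralizer_of_mem_derived_normalizer hG h.maxEA.isPGroup h.maxEA.ne_bot hrA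
    (Subgroup.commutator_mono hNR hNR (hRN' hxR)) ?_
  obtain ⟨k, hk⟩ := IsPGroup.iff_card.mp hQ
  exact (((Nat.coprime_primes hq.out hp.out).mpr hpq.symm).pow_left k).coprime_dvd_left
    (hk ▸ Subgroup.orderOf_dvd_natCard Q hx)

end Cfsg.Agent.OddLocal.Sigma
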