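import Cfsg.Agent.OddLocal.Sigma.SigmaConj

/-! Normalizers of `σ(M)`-subgroups in other maximal subgroups (BG 12.16, second part; 13.1 for `τ₂`). -/

set_option autoImplicit false
set_option linter.style.haveILetI false
set_option linter.unusedSectionVars false

namespace Cfsg.Agent.OddLocal.Sigma

open Cfsg
open scoped commutatorElement

variable {G : Type*} [Group G] [Finite G]

/-- If `L = N K` with `L` normalizing `N`, then `L' ≤ N K'`. -/
theorem derived_le_sup {L N K : Subgroup G} (hK : K ≤ L) (hNL : N ≤ L) (hN : L ≤ Subgroup.normalizer (N : Set G))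
    (h : L ≤ N ⊔ K) : ⁅L, L⁆ ≤ N ⊔ ⁅K, K⁆ := by
  haveI : (N.subgroupOf L).Normal := Subgroup.normal_subgroupOf_of_le_normalizer hN
  set φ := QuotientGroup.mk' (N.subgroupOf L)
  have htop : K.subgroupOf L ⊔ N.subgroupOf L = ⊤ := by
    rw [← Subgroup.subgroupOf_sup hK hNL, sup_comm, Subgroup.subgroupOf_eq_top.mpr h]
  have hmap : (⊤ : Subgroup L).map φ = (K.subgroupOf L).map φ := by
    rw [← htop, Subgroup.map_sup, QuotientGroup.map_mk'_self, sup_bot_eq]
  have h1 : commutator L ≤ ⁅K.subgroupOf L, K.subgroupOf L⁆ ⊔ N.subgroupOf L := by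
    have h2 : (commutator L).map φ ≤ (⁅K.subgroupOf L, K.subgroupOf L⁆).map φ := by
      rw [commutator_def, Subgroup.map_commutator, hmap, ← Subgroup.map_commutator]
    intro x hx
    obtain ⟨y, hy, hyx⟩ := h2 ⟨x, hx, rfl⟩
    have hn : y⁻¹ * x ∈ N.subgroupOf L := QuotientGroup.eq.mp hyx
    rw [show x = y * (y⁻¹ * x) by group]
    exact mul_mem (Subgroup.mem_sup_left hy) (Subgroup.mem_sup_right hn)
  have h3 := Subgroup.map_mono (f := L.subtype) h1
  rw [Subgroup.map_subtype_commutator, Subgroup.map_sup, Subgroup.map_commutator,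
    Subgroup.map_subgroupOf_eq_of_le hK, Subgroup.map_subgroupOf_eq_of_le hNL, sup_comm] at h3
  exact h3

/-- A subgroup whose join with a `π`-core is everything contains a Sylow `p`-subgroup for `p ∉ π`. -/
theorem not_dvd_relIndex_of_le_piCoreOf_sup {π : Set ℕ} {L K : Subgroup G} (hK : K ≤ L)
    (h : L ≤ piCoreOf π L ⊔ K) {p : ℕ} (hp : p.Prime) (hπ : p ∉ π) : ¬ p ∣ K.relIndex L := fun hd => by
  have htop : K.subgroupOf L ⊔ piCore π L = ⊤ := top_le_iff.mp fun x _ => by
    have h1 : (piCore π L ⊔ K.subgroupOf L).map L.subtype = L := by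
      refine le_antisymm (Subgroup.map_subtype_le _) ?_
      rw [Subgroup.map_sup, Subgroup.map_subgroupOf_eq_of_le hK]
      exact h
    obtain ⟨y, hy, hye⟩ := h1.ge x.2
    rw [sup_comm, ← show y = x from Subtype.ext hye]
    exact hy
  have h2 := Core.card_sup_dvd_mul (K.subgroupOf L) (piCore π L)
  rw [htop, Subgroup.card_top, ← (K.subgroupOf L).card_mul_index] at h2
  exact hπ (Core.isPiNat_card_piCore π L p hp (hd.trans (Nat.dvd_of_mul_dvd_mul_left Nat.card_pos h2)))

variable (hG : IsMinSimpleOddOrder G)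
include hG

theorem mem_sigma_of_cj {M : Subgroup G} {q : ℕ} [hq : Fact q.Prime] {g : G} (h : q ∈ sigma (cj g M)) :
    q ∈ sigma M := by
  have := mem_sigma_cj h g⁻¹
  rwa [← cj_mul, inv_mul_cancel, cj_one] at this

/-- An ideal prime in `σ(M)` is in `β(M)`. -/
theorem mem_beta_of_ideal {M : Subgroup G} {p : ℕ} [hp : Fact p.Prime] (hσ : p ∈ sigma M)
    (hI : IsIdealPrime p G) : p ∈ beta M := by
  refine ⟨⟨hp.out, fun hr => ?_⟩, hI⟩
  obtain ⟨E, hE, hE3⟩ := RankTwo.exists_ea_of_rank hI.2.1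
  obtain ⟨g, hg⟩ := exists_cj_le hσ (Components.ea_isPGroup hE)
  exact not_pRankLE_of_ea (PLocal.isEA_map hE (MulAut.conj g⁻¹).toMonoidHom) (cj_le_iff.mpr (by rwa [inv_inv]))
    (by rwa [show Nat.card (E.map (MulAut.conj g⁻¹).toMonoidHom) = Nat.card E from card_cj _ _]) hr

/-- `σ(M) ∩ α(L) = ∅` for non-conjugate `M`, `L`. -/
theorem notMem_alpha_of_sigma {M L : Subgroup G} (hM : IsCoatom M) (hL : IsCoatom L)
    (hnc : ∀ g : G, L ≠ cj g M) {r : ℕ} [hr : Fact r.Prime] (hσM : r ∈ sigma M) : r ∉ alpha L := fun h => by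
  obtain ⟨E, hE, hEL, hE3⟩ := Core.BG.exists_ea_of_not_pRankLE h.2
  obtain ⟨g, hg⟩ := exists_cj_le hσM (Components.ea_isPGroup hE)
  exact hnc g ((Core.BG.ea_three_unique hG hE hE3).unique ⟨hL, hEL⟩ ⟨isCoatom_cj hM g, hg⟩)

/-- For `M_σ` nilpotent a Sylow subgroup for a prime of `σ(M)` is normal in `M`. -/
theorem le_normalizer_sylow_of_nilpotent' {L : Subgroup G} (hL : IsCoatom L)
    [Group.IsNilpotent (sigmaCore L)] {r : ℕ} [hr : Fact r.Prime] (hσ : r ∈ sigma L) :
    ∃ T : Sylow r G, (T : Subgroup G) ≤ sigmaCore L ∧ L ≤ Subgroup.normalizer ((T : Subgroup G) : Set G) := by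
  obtain ⟨T, hTL, -⟩ := exists_sylow_le hσ
  have hTσ : (T : Subgroup G) ≤ sigmaCore L := le_sigmaCore hG hL hTL (mem_of_pGroup T.isPGroup' hσ)
  refine ⟨T, hTσ, fun n hn => ?_⟩
  have h1 : cj n (T : Subgroup G) ≤ sigmaCore L := fun y hy =>
    (cj_eq_iff.mpr (le_normalizer_sigmaCore L hn)).le (cj_mono hTσ hy)
  have hnorm : ((T.subtype hTσ : Sylow r (sigmaCore L)) : Subgroup (sigmaCore L)).Normal := inferInstance
  obtain ⟨R, hR⟩ := exists_sylow_map_ge (M := sigmaCore L) (T.isPGroup'.map (MulAut.conj n).toMonoidHom) h1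
  haveI := Sylow.unique_of_normal (T.subtype hTσ) hnorm
  rw [Subsingleton.elim R (T.subtype hTσ), Sylow.coe_subtype, Subgroup.map_subgroupOf_eq_of_le hTσ] at hR
  refine cj_eq_iff.mp (Subgroup.eq_of_le_of_card_ge hR ?_)
  rw [card_cj]

/-- `σ(M) ∩ σ(L) = ∅` for non-conjugate `M`, `L` with `L_σ` nilpotent. -/
theorem notMem_sigma_of_nilpotent {M L : Subgroup G} (hM : IsCoatom M) (hL : IsCoatom L)
    (hnc : ∀ g : G, L ≠ cj g M) [Group.IsNilpotent (sigmaCore L)] {r : ℕ} [hr : Fact r.Prime]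
    (hσM : r ∈ sigma M) : r ∉ sigma L := fun hσ => by
  obtain ⟨T, -, hN⟩ := le_normalizer_sylow_of_nilpotent' hG hL hσ
  obtain ⟨g, hg⟩ := exists_cj_le hσM T.isPGroup'
  have h1 := hN.trans (normalizer_sylow_le' hG (mem_sigma_cj hσM g) T hg)
  exact hnc g ((hL.le_iff_eq (isCoatom_cj hM g).1).mp h1).symm

variable (hpl : ∀ (p : ℕ) [Fact p.Prime] (H : Subgroup G), H ≠ ⊤ → PLengthLE p 1 H)
include hpl

/-- A Sylow subgroup of `L` with normalizer in `L` puts its prime in `σ(L)`. -/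
theorem mem_sigma_of_normalizer_le {L P : Subgroup G} {p : ℕ} [hp : Fact p.Prime] (hP : IsPGroup p P) (hP1 : P ≠ ⊥)
    (hPL : P ≤ L) (hPi : ¬ p ∣ P.relIndex L) (hN : Subgroup.normalizer (P : Set G) ≤ L) : p ∈ sigma L := by
  refine ⟨hp.out, (by
      obtain ⟨k, hk⟩ := IsPGroup.iff_card.mp hP
      rw [hk]
      exact dvd_pow_self p fun e => hP1 (Subgroup.eq_bot_of_card_eq _ (by rw [hk, e, pow_zero])) : p ∣ Nat.card P).trans (Subgroup.card_dvd_of_le hPL),
    (hP.comap_subtype : IsPGroup p (P.subgroupOf L)).toSylow hPi, ?_⟩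
  have e : (P.subgroupOf L).map L.subtype = P := Subgroup.map_subgroupOf_eq_of_le hPL
  show Subgroup.normalizer (((P.subgroupOf L).map L.subtype : Subgroup G) : Set G) ≤ L
  rw [e]
  exact hN

/-- `r ∈ τ₂(L) ∩ σ(M)` excludes `p ∈ σ(L)` for a non-ideal prime `p ∈ π(M) − σ(M)`. -/
theorem notMem_sigma_of_common_ea {M L : Subgroup G} (hM : IsCoatom M) (hL : IsCoatom L) (hne : M ≠ L)
    {r : ℕ} [hr : Fact r.Prime] (hrM : r ∈ sigma M) (hrL : r ∉ sigma L) {A : Subgroup G} (hAM : A ≤ M)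
    (hAL : A ≤ L) (hAe : IsElementaryAbelian r A) (hAc : Nat.card A = r ^ 2) {p : ℕ} [hp : Fact p.Prime]
    (hpM : p ∣ Nat.card M) (hpσ : p ∉ sigma M) (hI : ¬ IsIdealPrime p G) : p ∉ sigma L := fun hpL => by
  have hrp : r ≠ p := fun e => hpσ (e ▸ hrM)
  obtain ⟨A0, hexc⟩ := exists_exc hG hpl hL hrL hAL hAe hAc
  have hrβ : r ∉ beta M := hexc.maxEA.notMem_beta M
  have hpβ : p ∉ beta L := fun h => hI h.2
  haveI := hexc.isNilpotent hG hpl
  obtain ⟨Ts, hTsσ, hTsN⟩ := le_normalizer_sylow_of_nilpotent' hG hL hpL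
  have hTsL : (Ts : Subgroup G) ≤ L := hTsσ.trans (sigmaCore_le L)
  have hTs1 : (Ts : Subgroup G) ≠ ⊥ := fun e => Ts.not_dvd_index (by
    rw [e, Subgroup.index_bot]
    exact hpM.trans (Subgroup.card_subgroup_dvd_card M))
  -- `r ≤ p`
  have hrle : r ≤ p := by
    refine (beta_facts hG hpl hL).2.2.2.2 p hp.out (hpL.2.1) hpβ |>.2.2 r hr.out ?_
    by_contra hnd
    have hle : A.subgroupOf L ≤ pPrimeCore p L := Core.le_of_coprime_index (by
      rw [Core.card_subgroupOf hAL, hAc]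
      exact ((hr.out.coprime_iff_not_dvd).mpr hnd).pow_left 2)
    have hcomm : A ≤ Subgroup.centralizer ((Ts : Subgroup G) : Set G) := by
      haveI : ((Ts : Subgroup G).subgroupOf L).Normal := Subgroup.normal_subgroupOf_of_le_normalizer hTsN
      have hd : pPrimeCore p L ⊓ (Ts : Subgroup G).subgroupOf L = ⊥ := Subgroup.inf_eq_bot_of_coprime (by
        obtain ⟨j, hj⟩ := IsPGroup.iff_card.mp Ts.isPGroup'
        rw [Core.card_subgroupOf hTsL, hj]
        exact (Core.card_pPrimeCore_coprime p L).pow_right j)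
      intro a ha
      refine Subgroup.mem_centralizer_iff.mpr fun t ht => ?_
      exact congrArg Subtype.val (Subgroup.commute_of_normal_of_disjoint _ _
        (inferInstance : ((Ts : Subgroup G).subgroupOf L).Normal) (inferInstance : (pPrimeCore p L).Normal)
        (disjoint_iff.mpr ((inf_comm _ _).trans hd)) ⟨t, hTsL ht⟩ ⟨a, hAL ha⟩ (Subgroup.mem_subgroupOf.mpr ht)
        (hle (Subgroup.mem_subgroupOf.mpr ha))).eq
    exact hTs1 (le_bot_iff.mp ((hexc.inf_centralizer_eq_bot hG hpl).le.trans' (le_inf hTsσ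
      (Subgroup.le_centralizer_iff.mp hcomm))))
  -- `p` does not divide the index of `O_{r'}(M)`
  have hpidx : ¬ p ∣ (pPrimeCore r M).index := fun hd => hrp (le_antisymm hrle
    (((beta_facts hG hpl hM).2.2.2.2 r hr.out (hrM.2.1) hrβ).2.2 p hp.out hd))
  -- a Sylow `r`-subgroup over `A` normalizing a Sylow `p`-subgroup of `M`
  obtain ⟨R₀, hR₀⟩ := exists_sylow_map_ge hexc.maxEA.isPGroup hAM
  set R := (R₀ : Subgroup M).map M.subtype with hRdef
  have hRM : R ≤ M := Subgroup.map_subtype_le _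
  have hR : IsPGroup r R := R₀.isPGroup'.map _
  have hNR : Subgroup.normalizer (R : Set G) ≤ M := normalizer_sylow_le hrM R₀
  set O := (pPrimeCore r M).map M.subtype with hOdef
  have hRO : R ≤ Subgroup.normalizer (O : Set G) :=
    hRM.trans (le_normalizer_map_of_normal (pPrimeCore r M))
  have hOc : Nat.card O = Nat.card (pPrimeCore r M) := Core.card_map_subtype _
  haveI : Group.IsSolvable R := Coprime.isSolvable_of_isPGroup hR
  obtain ⟨P, hPO, hP, hPi, hRP⟩ := Coprime.exists_invariant_sylow hRO (by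
    obtain ⟨j, hj⟩ := IsPGroup.iff_card.mp hR
    rw [hj, hOc]
    exact (Core.card_pPrimeCore_coprime r M).symm.pow_left j) p
  have hOM : O ≤ M := Subgroup.map_subtype_le _
  have hPM : P ≤ M := hPO.trans hOM
  have hPiM : ¬ p ∣ P.relIndex M := fun hd => by
    rw [← Subgroup.relIndex_mul_relIndex P O M hPO hOM] at hd
    rcases hp.out.dvd_mul.mp hd with h | h
    · exact hPi h
    · refine hpidx ?_
      rwa [hOdef, Subgroup.relIndex, Subgroup.subgroupOf,
        Subgroup.comap_map_eq_self_of_injective M.subtype_injective] at h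
  have hP1 : P ≠ ⊥ := fun e => hPiM (by
    rw [e, Subgroup.relIndex_bot_left]
    exact hpM)
  obtain ⟨K, hK, hNK⟩ := (eq_top_or_exists_le_coatom (Subgroup.normalizer (P : Set G))).resolve_left
    (Core.BG.normalizer_ne_top_of_isPGroup hG hP1 hP)
  have hKM : K ≠ M := fun e => hpσ (mem_sigma_of_normalizer_le hG hpl hP hP1 hPM hPiM (e ▸ hNK))
  have hAR : A ≤ R := hR₀
  have hRK : R ≤ K := hRP.trans hNK
  have hAK : A ≤ K := hAR.trans hRK
  have hPK : P ≤ K := Subgroup.le_normalizer.trans hNK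
  have hPiMK : ¬ p ∣ P.relIndex (M ⊓ K) := fun hd => hPiM (hd.trans
    ⟨_, (Subgroup.relIndex_mul_relIndex P (M ⊓ K) M (le_inf hPM hPK) inf_le_left).symm⟩)
  by_cases hrK : r ∈ sigma K
  · obtain ⟨T, hT⟩ := hR.exists_le_sylow
    have hTR : (T : Subgroup G) = R := by
      obtain ⟨S, hSM, -⟩ := exists_sylow_le hrM
      refine (Subgroup.eq_of_le_of_card_ge hT ?_).symm
      rw [T.card_eq_multiplicity, ← S.card_eq_multiplicity,
        show Nat.card R = Nat.card (S.subtype hSM : Subgroup M) by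
          rw [hRdef, Core.card_map_subtype]; exact Nat.card_congr (R₀.equiv (S.subtype hSM)).toEquiv,
        Sylow.coe_subtype, Core.card_subgroupOf hSM]
    have hle : K ≤ piCoreOf (beta K) K ⊔ (M ⊓ K) :=
      (le_betaCore_sup_normalizer hG hpl hK hrK T (hTR ▸ hRK)).trans
        (sup_le_sup_left (le_inf (inf_le_right.trans (hTR ▸ hNR)) inf_le_left) _)
    have hPiK : ¬ p ∣ P.relIndex K := fun hd => by
      rw [← Subgroup.relIndex_mul_relIndex P (M ⊓ K) K (le_inf hPM hPK) inf_le_right] at hd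
      rcases hp.out.dvd_mul.mp hd with h | h
      · exact hPiMK h
      · exact not_dvd_relIndex_of_le_piCoreOf_sup inf_le_right hle hp.out (fun hb => hI hb.2) h
    have hpK := mem_sigma_of_normalizer_le hG hpl hP hP1 hPK hPiK hNK
    obtain ⟨S, hSK, -⟩ := exists_sylow_le hpK
    obtain ⟨S', hS'⟩ := hP.exists_le_sylow
    have hS'P : P = (S' : Subgroup G) := by
      refine Subgroup.eq_of_le_of_card_ge hS' ?_
      rw [S'.card_eq_multiplicity, ← S.card_eq_multiplicity, ← Core.card_subgroupOf hSK,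
        ← Sylow.coe_subtype (h := hSK), ← Nat.card_congr (((hP.comap_subtype : IsPGroup p (P.subgroupOf K)).toSylow
          hPiK).equiv (S.subtype hSK)).toEquiv]
      exact (Core.card_subgroupOf hPK).le
    obtain ⟨g, hg⟩ := MulAction.exists_smul_eq G Ts S'
    have hS'cj : (S' : Subgroup G) = cj g (Ts : Subgroup G) := by
      rw [← hg, Sylow.coe_subgroup_smul, Core.conj_smul_eq_map]
    have hgL : cj g L ≤ K := by
      refine le_trans ?_ hNK
      rintro _ ⟨n, hn, rfl⟩
      rw [hS'P, hS'cj, ← cj_eq_iff]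
      show cj (g * n * g⁻¹) (cj g (Ts : Subgroup G)) = cj g (Ts : Subgroup G)
      rw [← cj_mul, inv_mul_cancel_right, cj_mul, cj_eq_iff.mpr (hTsN hn)]
    rw [((isCoatom_cj hL g).le_iff_eq hK.1).mp hgL] at hrK
    exact hrL (mem_sigma_of_cj hG hrK)
  · obtain ⟨A0', hexcK⟩ := exists_exc hG hpl hK hrK hAK hAe hAc
    have hinf := hexcK.inf_other_eq_bot hG hpl hM (Ne.symm hKM) hAM
    by_cases hpK : p ∈ sigma K
    · exact hP1 (le_bot_iff.mp (hinf ▸ le_inf (le_sigmaCore hG hK hPK (mem_of_pGroup hP hpK)) hPM))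
    · obtain ⟨E, hE, hAE⟩ := exists_compl_ge hG hK hAK (notMem_sigma_of_pGroup hexc.maxEA.isPGroup hrK)
      have hEM : E ≤ M := (hexcK.le_normalizer_of_compl hG hpl hE hAE).trans
        (normalizer_le_of_noncyclic hG hpl hM hrM hexc.maxEA.isPGroup hAM fun hc => by
          haveI := hc
          have h1 : Nat.card A ∣ r := by
            rw [← IsCyclic.exponent_eq_card]
            exact Monoid.exponent_dvd_of_forall_pow_eq_one fun b => Subtype.ext (hAe.2 b b.2)
          rw [hAc] at h1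
          have := Nat.le_of_dvd hr.out.pos h1
          nlinarith [hr.out.two_le])
      have hPiK : ¬ p ∣ P.relIndex K := fun hd => by
        rw [← Subgroup.relIndex_mul_relIndex P (M ⊓ K) K (le_inf hPM hPK) inf_le_right] at hd
        rcases hp.out.dvd_mul.mp hd with h | h
        · exact hPiMK h
        · exact hpK (complIn_index_isPiNat hG hE p hp.out (h.trans
            (Subgroup.relIndex_dvd_of_le_left K (le_inf hEM hE.1))))
      exact hpK (mem_sigma_of_normalizer_le hG hpl hP hP1 hPK hPiK hNK)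

end Cfsg.Agent.OddLocal.Sigma
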