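import Cfsg.Agent.OddLocal.Sigma.Tau12Regular

/-! Elements of order `r ∈ τ₃(M)` in a complement of `M_σ`. -/

set_option autoImplicit false
set_option linter.style.haveILetI false
set_option linter.unusedSectionVars false

namespace Cfsg.Agent.OddLocal.Sigma

open Cfsg
open scoped commutatorElement

variable {G : Type*} [Group G] [Finite G]

theorem derived_le_self (E : Subgroup G) : ⁅E, E⁆ ≤ E := Subgroup.commutator_le.mpr fun a ha b hb =>
  E.mul_mem (E.mul_mem (E.mul_mem ha hb) (E.inv_mem ha)) (E.inv_mem hb)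

theorem pow_card_prime_eq_one {p : ℕ} {P : Subgroup G} (hP : Nat.card P = p) {x : G} (hx : x ∈ P) : x ^ p = 1 :=
  hP ▸ orderOf_dvd_iff_pow_eq_one.mp (Subgroup.orderOf_dvd_natCard P hx)

theorem isPGroup_of_card_prime {p : ℕ} [Fact p.Prime] {P : Subgroup G} (hP : Nat.card P = p) : IsPGroup p P :=
  IsPGroup.of_card (by rw [hP, pow_one])

theorem le_of_mem_generator {p : ℕ} [Fact p.Prime] {P K : Subgroup G} (hP : Nat.card P = p) {x : G} (hx : x ∈ P)
    (hx1 : x ≠ 1) (hxK : x ∈ K) : P ≤ K :=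
  zpowers_eq_of_card_prime hP hx hx1 ▸ Subgroup.zpowers_le.mpr hxK

theorem le_centralizer_self_of_prime {p : ℕ} [Fact p.Prime] {P : Subgroup G} (hP : Nat.card P = p) :
    P ≤ Subgroup.centralizer (P : Set G) := by
  haveI := isCyclic_of_prime_card hP
  exact Subgroup.le_centralizer_iff_isMulCommutative.mpr inferInstance

theorem conj_mem_derived {E : Subgroup G} {e x : G} (he : e ∈ E) (hx : x ∈ ⁅E, E⁆) : e * x * e⁻¹ ∈ ⁅E, E⁆ := by
  rw [show e * x * e⁻¹ = ⁅e, x⁆ * x by rw [commutatorElement_def]; group]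
  exact mul_mem (Subgroup.commutator_mem_commutator he (derived_le_self E hx)) hx

/-- `N(A)` fixes the fixed points on `A` of a subgroup when it acts on `A` as an abelian group. -/
theorem normalizer_le_normalizer_fixed {A P : Subgroup G} (hP : P ≤ Subgroup.normalizer (A : Set G))
    (hD : ⁅Subgroup.normalizer (A : Set G), Subgroup.normalizer (A : Set G)⁆ ≤ Subgroup.centralizer (A : Set G)) :
    Subgroup.normalizer (A : Set G) ≤
      Subgroup.normalizer ((A ⊓ Subgroup.centralizer (P : Set G) : Subgroup G) : Set G) := fun g hg => by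
  refine Coprime.mem_normalizer_of_conj_mem fun z hz => ?_
  have hgz : g * z * g⁻¹ ∈ A := (Subgroup.mem_normalizer_iff.mp hg z).mp hz.1
  refine ⟨hgz, Subgroup.mem_centralizer_iff.mpr fun x hx => ?_⟩
  have hc := hD (Subgroup.commutator_mem_commutator (hP hx) hg)
  have h1 : x * z = z * x := Subgroup.mem_centralizer_iff.mp hz.2 x hx
  have h2 : (g * z * g⁻¹) * ⁅x, g⁆ = ⁅x, g⁆ * (g * z * g⁻¹) := Subgroup.mem_centralizer_iff.mp hc _ hgz
  calc x * (g * z * g⁻¹) = ⁅x, g⁆ * g * (x * z) * g⁻¹ := by simp only [commutatorElement_def]; group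
    _ = ⁅x, g⁆ * g * (z * x) * g⁻¹ := by rw [h1]
    _ = (⁅x, g⁆ * (g * z * g⁻¹)) * (g * x * g⁻¹) := by group
    _ = (g * z * g⁻¹) * ⁅x, g⁆ * (g * x * g⁻¹) := by rw [h2]
    _ = g * z * g⁻¹ * x := by simp only [commutatorElement_def]; group

variable (hG : IsMinSimpleOddOrder G)
include hG

/-- `r`-subgroups of a complement lie in its derived subgroup for `r ∈ τ₃(M)`. -/
theorem tau3_le_compl_derived {M E : Subgroup G} (hE : IsComplIn E (sigmaCore M) M) {r : ℕ}
    [hr : Fact r.Prime] (hrτ : r ∈ tau3 M) {R : Subgroup G} (hR : IsPGroup r R) (hRE : R ≤ E) : R ≤ ⁅E, E⁆ := by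
  obtain ⟨P, hP⟩ := exists_sylow_map_ge hR hRE
  refine hP.trans ?_
  rw [← E.map_subtype_commutator]
  refine Subgroup.map_mono ?_
  haveI : IsCyclic P := sylow_isCyclic_of_rankOne hG hrτ.2.2.2 hE.1 P
  have hidx : ¬ r ∣ (commutator E).index := by
    refine (Sylow.not_dvd_card_commutator_or_not_dvd_index_commutator P).resolve_left fun h => h ?_
    rw [← Core.card_map_subtype, E.map_subtype_commutator]
    exact complIn_dvd_derived hG hE hr.out hrτ.2.1 hrτ.2.2.1
  refine Core.le_of_coprime_index ?_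
  obtain ⟨k, hk⟩ := IsPGroup.iff_card.mp P.isPGroup'
  rw [hk]
  exact (hr.out.coprime_iff_not_dvd.mpr hidx).pow_left k

/-- A subgroup of order `r ∈ τ₃(M)` is normal in a complement containing it. -/
theorem tau3_normal {M E : Subgroup G} (hM : IsCoatom M) (hE : IsComplIn E (sigmaCore M) M) {r : ℕ}
    [hr : Fact r.Prime] (hrτ : r ∈ tau3 M) {R : Subgroup G} (hR : Nat.card R = r) (hRE : R ≤ E) :
    E ≤ Subgroup.normalizer (R : Set G) := fun e he => by
  have hRD := tau3_le_compl_derived hG hE hrτ (isPGroup_of_card_prime hR) hRE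
  have hcD : cj e R ≤ ⁅E, E⁆ := by
    rintro _ ⟨x, hx, rfl⟩
    exact conj_mem_derived he (hRD hx)
  haveI := complIn_derived_nilpotent hG hM hE
  obtain ⟨Q₁, hQ₁⟩ := exists_sylow_map_ge (isPGroup_of_card_prime hR) hRD
  obtain ⟨Q₂, hQ₂⟩ := exists_sylow_map_ge ((isPGroup_of_card_prime hR).map (MulAut.conj e).toMonoidHom) hcD
  haveI := Sylow.unique_of_normal Q₁ inferInstance
  rw [Subsingleton.elim Q₂ Q₁] at hQ₂
  haveI : IsCyclic Q₁ := sylow_isCyclic_of_rankOne hG hrτ.2.2.2 ((derived_le_self E).trans hE.1) Q₁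
  have hc : IsCyclic ((Q₁ : Subgroup ↥⁅E, E⁆).map ⁅E, E⁆.subtype) := isCyclic_of_surjective _
    ((Q₁ : Subgroup ↥⁅E, E⁆).equivMapOfInjective _ ⁅E, E⁆.subtype_injective).surjective
  exact cj_eq_iff.mp (OddLocal.eq_of_card_eq_of_isCyclic hc hQ₂ hQ₁ (card_cj e R))

/-- Primes of `|E'|` are in `τ₃(M)` once `τ₂(M) = ∅`. -/
theorem mem_tau3_of_dvd_derived {M E : Subgroup G} (hM : IsCoatom M) (hE : IsComplIn E (sigmaCore M) M)
    (h2 : tau2 M = ∅) {q : ℕ} (hq : q.Prime) (hd : q ∣ Nat.card ↥⁅E, E⁆) : q ∈ tau3 M := by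
  have hσ := complIn_notMem_sigma hG hM hE hq (hd.trans (Subgroup.card_dvd_of_le (derived_le_self E)))
  have hD : q ∣ Nat.card ↥⁅M, M⁆ := hd.trans (Subgroup.card_dvd_of_le (Subgroup.commutator_mono hE.1 hE.1))
  refine ⟨hq, hσ, hD, ?_⟩
  by_contra h1
  exact (Set.eq_empty_iff_forall_notMem.mp h2 q) ⟨hq, hσ, pRankLE_two_of_notMem_sigma hG hM hq hσ, h1⟩

variable (hpl : ∀ (p : ℕ) [Fact p.Prime] (H : Subgroup G), H ≠ ⊤ → PLengthLE p 1 H)
include hpl

theorem compl_derived_abelian {M E : Subgroup G} (hM : IsCoatom M) (hE : IsComplIn E (sigmaCore M) M) :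
    IsMulCommutative ↥⁅E, E⁆ := by
  haveI := complIn_derived_nilpotent hG hM hE
  exact isMulCommutative_of_nilpotent_le hG hpl hM ((derived_le_self E).trans hE.1) fun q hq hd =>
    complIn_notMem_sigma hG hM hE hq (hd.trans (Subgroup.card_dvd_of_le (derived_le_self E)))

omit hpl in
/-- A subgroup of `E` of order prime to `|E'|` centralizes `E'` once it centralizes its elements of prime
order. -/
theorem le_centralizer_derived {M E : Subgroup G} (hM : IsCoatom M) (hE : IsComplIn E (sigmaCore M) M)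
    {P : Subgroup G} (hPE : P ≤ E) (hcop : (Nat.card P).Coprime (Nat.card ↥⁅E, E⁆))
    (hfix : ∀ (q : ℕ), q.Prime → ∀ u ∈ ⁅E, E⁆, orderOf u = q → ∀ x ∈ P, x * u = u * x) :
    P ≤ Subgroup.centralizer ((⁅E, E⁆ : Subgroup G) : Set G) := by
  haveI := complIn_derived_nilpotent hG hM hE
  refine Subgroup.le_centralizer_iff.mp (Core.le_of_forall_exists_sylow_le fun q hq => ?_)
  haveI := Fact.mk hq
  obtain ⟨Q⟩ := (inferInstance : Nonempty (Sylow q ↥⁅E, E⁆))
  refine ⟨Q, ?_⟩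
  by_cases hd : q ∣ Nat.card ↥⁅E, E⁆
  swap
  · rw [show (Q : Subgroup ↥⁅E, E⁆) = ⊥ from Subgroup.card_eq_one.mp (by
      rw [Q.card_eq_multiplicity, Nat.factorization_eq_zero_of_not_dvd hd, pow_zero]), Subgroup.map_bot]
    exact bot_le
  haveI := Sylow.unique_of_normal Q inferInstance
  set S := (Q : Subgroup ↥⁅E, E⁆).map ⁅E, E⁆.subtype with hSdef
  have hS : IsPGroup q S := Q.isPGroup'.map _
  intro s hs
  refine Subgroup.mem_centralizer_iff.mpr fun x hx => ?_
  have hq2 : q ≠ 2 := ne_two_of_dvd hG (hd.trans (Subgroup.card_subgroup_dvd_card _))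
  have hxq : (orderOf x).Coprime q := (hcop.coprime_dvd_left (Subgroup.orderOf_dvd_natCard P hx)).coprime_dvd_right hd
  have hinv : ∀ u ∈ S, x * u * x⁻¹ ∈ S := by
    intro u hu
    have h1 : cj x S ≤ ⁅E, E⁆ := by
      rintro _ ⟨v, hv, rfl⟩
      exact conj_mem_derived (hPE hx) (Subgroup.map_subtype_le _ hv)
    obtain ⟨Q', hQ'⟩ := exists_sylow_map_ge (hS.map (MulAut.conj x).toMonoidHom) h1
    rw [Subsingleton.elim Q' Q] at hQ'
    exact hQ' ⟨u, hu, rfl⟩
  have := fixed_of_fixed_order_p hq2 x hxq _ S le_rfl hS hinv (fun u hu hu1 => by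
    by_cases h1 : u = 1
    · simp [h1]
    rw [hfix q hq u (Subgroup.map_subtype_le _ hu) (orderOf_eq_prime hu1 h1) x hx, mul_inv_cancel_right]) s hs
  exact mul_inv_eq_iff_eq_mul.mp this

/-- An element of `K` of prime power order moves `R`, if `E = E' K`; its prime is in `τ₁(M)`. -/
theorem exists_mover_tau3 {M E : Subgroup G} (hM : IsCoatom M) (hE : IsComplIn E (sigmaCore M) M)
    (h2 : tau2 M = ∅) {r : ℕ} [hr : Fact r.Prime] (hrτ : r ∈ tau3 M) {R : Subgroup G} (hR : Nat.card R = r)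
    (hRE : R ≤ E) {K : Subgroup G} (hKE : K ≤ E) (hK : ∀ e ∈ E, ∃ a ∈ ⁅E, E⁆, ∃ c ∈ K, e = a * c) :
    ∃ (s : ℕ) (y : G), s.Prime ∧ s ∈ tau1 M ∧ y ∈ K ∧ IsPGroup s (Subgroup.zpowers y) ∧
      y ∉ Subgroup.centralizer (R : Set G) := by
  have hRp := isPGroup_of_card_prime hR
  have hRD := tau3_le_compl_derived hG hE hrτ hRp hRE
  haveI := compl_derived_abelian hG hpl hM hE
  have hDC : ⁅E, E⁆ ≤ Subgroup.centralizer (R : Set G) :=
    (Subgroup.le_centralizer_iff_isMulCommutative.mpr inferInstance).trans (Subgroup.centralizer_le hRD)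
  by_contra hcon
  -- otherwise `E` centralizes `R`
  have hEC : E ≤ Subgroup.centralizer (R : Set G) := fun e he => by
    obtain ⟨a, ha, c, hc, rfl⟩ := hK e he
    refine mul_mem (hDC ha) ?_
    suffices h : Subgroup.zpowers c ≤ Subgroup.centralizer (R : Set G) from h (Subgroup.mem_zpowers c)
    refine Core.le_of_forall_exists_sylow_le fun q hq => ?_
    haveI := Fact.mk hq
    obtain ⟨Q⟩ := (inferInstance : Nonempty (Sylow q (Subgroup.zpowers c)))
    refine ⟨Q, fun y hy => ?_⟩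
    by_contra hyC
    have hyK : y ∈ K := Subgroup.zpowers_le.mpr hc (Subgroup.map_subtype_le _ hy)
    have hyp : IsPGroup q (Subgroup.zpowers y) := (Q.isPGroup'.map _).to_le (Subgroup.zpowers_le.mpr hy)
    have hyE : Subgroup.zpowers y ≤ E := Subgroup.zpowers_le.mpr (hKE hyK)
    have hd : q ∣ Nat.card E := (dvd_card_of_ne_bot hyp fun h => hyC (by
      rw [Subgroup.zpowers_eq_bot.mp h]; exact one_mem _)).trans (Subgroup.card_dvd_of_le hyE)
    rcases mem_classes hG hM hq (hd.trans (Subgroup.card_dvd_of_le hE.1)) with h | h | h | h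
    · exact complIn_notMem_sigma hG hM hE hq hd h
    · exact hcon ⟨q, y, hq, h, hyK, hyp, hyC⟩
    · exact Set.eq_empty_iff_forall_notMem.mp h2 q h
    · exact hyC (hDC (tau3_le_compl_derived hG hE h hyp hyE (Subgroup.mem_zpowers y)))
  -- so the Sylow `r`-subgroup is central
  obtain ⟨Q, hQ⟩ := exists_sylow_map_ge hRp hRE
  haveI : IsCyclic Q := sylow_isCyclic_of_rankOne hG hrτ.2.2.2 hE.1 Q
  set S := (Q : Subgroup E).map E.subtype with hSdef
  have hS : IsPGroup r S := Q.isPGroup'.map _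
  have hSE : S ≤ E := Subgroup.map_subtype_le _
  have hSc : IsCyclic S := isCyclic_of_surjective _
    ((Q : Subgroup E).equivMapOfInjective _ E.subtype_injective).surjective
  have hSD : S ≤ ⁅E, E⁆ := tau3_le_compl_derived hG hE hrτ hS hSE
  have hEN : E ≤ Subgroup.normalizer (S : Set G) := fun e he => Coprime.mem_normalizer_of_conj_mem fun u hu => by
    haveI := complIn_derived_nilpotent hG hM hE
    obtain ⟨Q₁, hQ₁⟩ := exists_sylow_map_ge hS hSD
    haveI := Sylow.unique_of_normal Q₁ inferInstance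
    obtain ⟨Q₂, hQ₂⟩ := exists_sylow_map_ge (hS.map (MulAut.conj e).toMonoidHom) (show cj e S ≤ ⁅E, E⁆ by
      rintro _ ⟨v, hv, rfl⟩
      exact conj_mem_derived he (hSD hv))
    rw [Subsingleton.elim Q₂ Q₁] at hQ₂
    have hle : (Q₁ : Subgroup ↥⁅E, E⁆).map ⁅E, E⁆.subtype ≤ S := by
      intro v hv
      have h1 : Q.1 ≤ ((Q₁ : Subgroup ↥⁅E, E⁆).map ⁅E, E⁆.subtype).subgroupOf E := fun w hw =>
        Subgroup.mem_subgroupOf.mpr (hQ₁ ⟨w, hw, rfl⟩)
      exact ⟨⟨v, derived_le_self E (Subgroup.map_subtype_le _ hv)⟩,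
        Q.3 (Q₁.isPGroup'.map _).comap_subtype h1 ▸ Subgroup.mem_subgroupOf.mpr hv, rfl⟩
    exact hle (hQ₂ ⟨u, hu, rfl⟩)
  have hES : E ≤ Subgroup.centralizer (S : Set G) := by
    refine Core.le_of_forall_exists_sylow_le fun q hq => ?_
    haveI := Fact.mk hq
    obtain ⟨T⟩ := (inferInstance : Nonempty (Sylow q E))
    refine ⟨T, fun x hx => ?_⟩
    have hT : IsPGroup q (Subgroup.zpowers x) := (T.isPGroup'.map E.subtype).to_le (Subgroup.zpowers_le.mpr hx)
    by_cases hqr : q = r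
    · subst hqr
      exact (Subgroup.le_centralizer_iff_isMulCommutative.mpr inferInstance : ⁅E, E⁆ ≤ _) |>.trans
        (Subgroup.centralizer_le hSD) (tau3_le_compl_derived hG hE hrτ hT
          (Subgroup.zpowers_le.mpr (Subgroup.map_subtype_le _ hx)) (Subgroup.mem_zpowers x))
    have hxr : (orderOf x).Coprime r := by
      rw [← Nat.card_zpowers]
      obtain ⟨k, hk⟩ := IsPGroup.iff_card.mp hT
      rw [hk]
      exact ((Nat.coprime_primes hq hr.out).mpr hqr).pow_left k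
    have hxE : x ∈ E := Subgroup.map_subtype_le _ hx
    refine Subgroup.mem_centralizer_iff.mpr fun u hu => (mul_inv_eq_iff_eq_mul.mp ?_).symm
    refine fixed_of_fixed_order_p (ne_two_of_dvd hG (hR ▸ Subgroup.card_subgroup_dvd_card R)) x hxr _ S le_rfl hS
      (fun v hv => (Subgroup.mem_normalizer_iff.mp (hEN hxE) v).mp hv) (fun v hv hv1 => ?_) u hu
    have hvR : v ∈ R := by
      by_cases h1 : v = 1
      · exact h1 ▸ one_mem _
      rw [← OddLocal.eq_of_card_eq_of_isCyclic hSc (Subgroup.zpowers_le.mpr hv) hQ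
        (by rw [Nat.card_zpowers, orderOf_eq_prime hv1 h1, hR])]
      exact Subgroup.mem_zpowers v
    rw [← Subgroup.mem_centralizer_iff.mp (hEC hxE) v hvR, mul_inv_cancel_right]
  haveI : (S.subgroupOf E).Normal := Subgroup.normal_subgroupOf_of_le_normalizer hEN
  obtain ⟨F₀, hF⟩ := Subgroup.exists_right_complement'_of_coprime (N := S.subgroupOf E) (by
    rw [Core.card_subgroupOf hSE]
    obtain ⟨k, hk⟩ := IsPGroup.iff_card.mp hS
    rw [hk]
    refine (hr.out.coprime_iff_not_dvd.mpr ?_).pow_left k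
    rw [hSdef, Subgroup.subgroupOf, Subgroup.comap_map_eq_self_of_injective E.subtype_injective]
    exact Q.not_dvd_index)
  set F := F₀.map E.subtype
  have hFE : F ≤ E := Subgroup.map_subtype_le _
  have hsup : ∀ e ∈ E, ∃ a ∈ S, ∃ b ∈ F, e = a * b := fun e he => by
    obtain ⟨⟨⟨a, ha⟩, ⟨b, hb⟩⟩, hab⟩ := hF.2 ⟨e, he⟩
    exact ⟨a, Subgroup.mem_subgroupOf.mp ha, b, ⟨b, hb, rfl⟩, congrArg Subtype.val hab.symm⟩
  have hEF : E ≤ Subgroup.normalizer (F : Set G) := fun e he => Coprime.mem_normalizer_of_conj_mem fun f hf => by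
    obtain ⟨a, ha, b, hb, rfl⟩ := hsup e he
    have h1 : b * f * b⁻¹ ∈ F := F.mul_mem (F.mul_mem hb hf) (F.inv_mem hb)
    have h2 := Subgroup.mem_centralizer_iff.mp (hES (hFE h1)) a ha
    rwa [show a * b * f * (a * b)⁻¹ = a * (b * f * b⁻¹) * a⁻¹ by group, h2, mul_inv_cancel_right]
  have hle : ⁅E, E⁆ ≤ F := by
    refine (derived_le_sup hSE hFE hEF fun e he => ?_).trans (sup_le le_rfl ?_)
    · obtain ⟨a, ha, b, hb, rfl⟩ := hsup e he
      exact mul_mem (Subgroup.mem_sup_right ha) (Subgroup.mem_sup_left hb)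
    · rw [Subgroup.commutator_eq_bot_iff_le_centralizer.mpr (hSE.trans hES)]
      exact bot_le
  refine ne_bot_of_card_prime hR (le_bot_iff.mp fun x hx => ?_)
  obtain ⟨y, hy, hyx⟩ := hle (hSD (hQ hx))
  have h3 := hF.disjoint.le_bot (Subgroup.mem_inf.mpr
    ⟨Subgroup.mem_subgroupOf.mpr (show (y : G) ∈ S by rw [show (y : G) = x from hyx]; exact hQ hx), hy⟩)
  rw [Subgroup.mem_bot] at h3 ⊢
  rw [← hyx, h3]
  rfl

omit hpl in
/-- An element of `M` commuting with `P` of order `p ∈ τ₁(M)` is conjugate into `E` under `C_M(P)`. -/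
theorem exists_conj_compl_centralizing {M E P : Subgroup G} (hM : IsCoatom M) (hE : IsComplIn E (sigmaCore M) M)
    {p : ℕ} [hp : Fact p.Prime] (hpt : p ∈ tau1 M) (hP : Nat.card P = p) (hPE : P ≤ E) {y : G} {k : ℕ}
    [hk : Fact k.Prime] (hy : orderOf y = k) (hyM : y ∈ M) (hkσ : k ∉ sigma M)
    (hyP : y ∈ Subgroup.centralizer (P : Set G)) :
    ∃ m ∈ M, m ∈ Subgroup.centralizer (P : Set G) ∧ m * y * m⁻¹ ∈ E := by
  set Y := Subgroup.zpowers y
  have hY : IsPGroup k Y := isPGroup_of_card_prime (by rw [Nat.card_zpowers, hy])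
  have hYP : Y ≤ Subgroup.centralizer (P : Set G) := Subgroup.zpowers_le.mpr hyP
  obtain ⟨m₀, hm₀, hm₀E⟩ := exists_cj_le_compl hG hM hE
    (sup_le (hPE.trans hE.1) (Subgroup.zpowers_le.mpr hyM) : P ⊔ Y ≤ M) (fun q hq hd => by
      by_cases hpk : p = k
      · subst hpk
        exact mem_of_pGroup (π := {t | t ∉ sigma M}) (IsPGroup.to_sup_of_normal_left' (isPGroup_of_card_prime hP) hY
          (hYP.trans (Subgroup.centralizer_le_normalizer _))) hkσ q hq hd
      rw [Coprime.card_sup (hYP.trans (Subgroup.centralizer_le_normalizer _)) (Coprime.inf_eq_bot_of_coprime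
        (coprime_of_pGroups (Ne.symm hpk) hY (isPGroup_of_card_prime hP)))] at hd
      rcases hq.dvd_mul.mp hd with h | h
      · exact eq_prime_of_dvd_card hP hq h ▸ hpt.2.1
      · exact notMem_sigma_of_pGroup hY hkσ q hq h)
  obtain ⟨Q, hQ⟩ := exists_sylow_map_ge (isPGroup_of_card_prime hP) hPE
  haveI : IsCyclic Q := sylow_isCyclic_of_rankOne hG hpt.2.2.2.2 hE.1 Q
  set S := (Q : Subgroup E).map E.subtype with hSdef
  have hSc : IsCyclic S := isCyclic_of_surjective _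
    ((Q : Subgroup E).equivMapOfInjective _ E.subtype_injective).surjective
  obtain ⟨e, he, hee⟩ := exists_cj_le_of_not_dvd_relIndex (Subgroup.map_subtype_le _) (Q.isPGroup'.map E.subtype)
    (by
      rw [Subgroup.relIndex, Subgroup.subgroupOf, Subgroup.comap_map_eq_self_of_injective E.subtype_injective]
      exact Q.not_dvd_index)
    ((cj_mono le_sup_left).trans hm₀E) ((isPGroup_of_card_prime hP).map (MulAut.conj m₀).toMonoidHom)
  have hm : e * m₀ ∈ M := M.mul_mem (hE.1 he) hm₀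
  have hN : e * m₀ ∈ Subgroup.normalizer (P : Set G) := cj_eq_iff.mp
    (OddLocal.eq_of_card_eq_of_isCyclic hSc (by rw [cj_mul]; exact hee) hQ (card_cj _ _))
  refine ⟨e * m₀, hm, Subgroup.mem_centralizer_iff.mpr fun x hx => ?_, ?_⟩
  · have h1 : ⁅e * m₀, x⁆ ∈ P ⊓ ⁅M, M⁆ := ⟨by
      rw [commutatorElement_def]
      exact P.mul_mem ((Subgroup.mem_normalizer_iff.mp hN x).mp hx) (P.inv_mem hx),
      Subgroup.commutator_mem_commutator hm (hE.1 (hPE hx))⟩
    rw [Subgroup.inf_eq_bot_of_coprime (by rw [hP]; exact hp.out.coprime_iff_not_dvd.mpr hpt.2.2.2.1),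
      Subgroup.mem_bot] at h1
    exact (commutatorElement_eq_one_iff_mul_comm.mp h1).symm
  · have h1 : m₀ * y * m₀⁻¹ ∈ E := hm₀E ⟨y, Subgroup.mem_sup_right (Subgroup.mem_zpowers y), rfl⟩
    rw [show e * m₀ * y * (e * m₀)⁻¹ = e * (m₀ * y * m₀⁻¹) * e⁻¹ by group]
    exact E.mul_mem (E.mul_mem he h1) (E.inv_mem he)

end Cfsg.Agent.OddLocal.Sigma
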