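import Cfsg.Agent.OddLocal.Sigma.Tau3Sigma

/-! Elements of prime order in `τ₁(M) ∩ τ₁(H)` centralize `M_σ ∩ H` (the configuration of BG 13.8). -/

set_option autoImplicit false
set_option linter.style.haveILetI false
set_option linter.unusedSectionVars false

namespace Cfsg.Agent.OddLocal.Sigma

open Cfsg
open scoped commutatorElement

variable {G : Type*} [Group G] [Finite G]

/-- `P` of order `p ∈ τ₁(M) ∩ τ₁(H)` moves `R` and `M_σ ∩ H`. -/
structure Cfg (M H R P : Subgroup G) (r p : ℕ) : Prop where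
  coatom : IsCoatom M
  coatomH : IsCoatom H
  tau3 : r ∈ tau3 M
  card : Nat.card R = r
  le : R ≤ M
  norm : Subgroup.normalizer (R : Set G) ≤ H
  nonreg : sigmaCore M ⊓ Subgroup.centralizer (R : Set G) ≠ ⊥
  tau1 : p ∈ tau1 M
  tau1H : p ∈ Cfsg.tau1 H
  cardP : Nat.card P = p
  leP : P ≤ M
  normP : P ≤ Subgroup.normalizer (R : Set G)
  moveR : ¬ P ≤ Subgroup.centralizer (R : Set G)
  moveD : ¬ P ≤ Subgroup.centralizer ((sigmaCore M ⊓ H : Subgroup G) : Set G)

variable (hG : IsMinSimpleOddOrder G)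
include hG

/-- Two elements of coprime prime orders in `C ≤ L` with cyclic Sylow subgroups in `L`: a conjugate of one
normalizes the other. -/
theorem exists_conj_normalizing (hpl : ∀ (p : ℕ) [Fact p.Prime] (H : Subgroup G), H ≠ ⊤ → PLengthLE p 1 H)
    {L C : Subgroup G} (hL : IsCoatom L) (hCL : C ≤ L) {ℓ k : ℕ} [hℓ : Fact ℓ.Prime] [hk : Fact k.Prime]
    {x x' : G} (hx : orderOf x = ℓ) (hx' : orderOf x' = k) (hxC : x ∈ C) (hx'C : x' ∈ C)
    (hrℓ : PRankLE ℓ 1 L) (hrk : PRankLE k 1 L) :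
    (∃ c ∈ C, c * x' * c⁻¹ ∈ Subgroup.normalizer (Subgroup.zpowers x : Set G)) ∨
      ∃ c ∈ C, c * x * c⁻¹ ∈ Subgroup.normalizer (Subgroup.zpowers x' : Set G) := by
  haveI : Group.IsSolvable C := Core.BG.isSolvable_proper hG fun e => hL.1 (top_le_iff.mp (e ▸ hCL))
  set π : Set ℕ := {t | t = ℓ ∨ t = k}
  have hxo : orderOf (⟨x, hxC⟩ : C) = ℓ := by rw [Subgroup.orderOf_mk, hx]
  obtain ⟨W₀, hW₀, hxW⟩ := Core.exists_isPiHall_ge (π := π) Core.isPiSeparable_of_isSolvable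
    Core.hallSolvable_of_isSolvable (K := Subgroup.zpowers (⟨x, hxC⟩ : C)) (fun t ht hd => by
      rw [Nat.card_zpowers, hxo] at hd
      exact Or.inl ((Nat.prime_dvd_prime_iff_eq ht hℓ.out).mp hd))
  obtain ⟨c, hc⟩ := Core.exists_le_conj_smul_of_isPiHall Core.isPiSeparable_of_isSolvable
    Core.hallSolvable_of_isSolvable hW₀ (K := Subgroup.zpowers (⟨x', hx'C⟩ : C)) (fun t ht hd => by
      rw [Nat.card_zpowers, Subgroup.orderOf_mk, hx'] at hd
      exact Or.inr ((Nat.prime_dvd_prime_iff_eq ht hk.out).mp hd))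
  set W := W₀.map C.subtype
  have hWC : W ≤ C := Subgroup.map_subtype_le _
  have hxW' : x ∈ W := ⟨⟨x, hxC⟩, hxW (Subgroup.mem_zpowers _), rfl⟩
  rw [Core.conj_smul_eq_map] at hc
  obtain ⟨y₀, hy₀, hye⟩ := hc (Subgroup.mem_zpowers _)
  set y : G := (y₀ : G)
  have hyW : y ∈ W := ⟨y₀, hy₀, rfl⟩
  have hyc : (c : G) * y * (c : G)⁻¹ = x' := congrArg Subtype.val hye
  have hyk : orderOf y = k := by
    rw [← hx', ← hyc]
    exact (orderOf_injective (MulAut.conj (c : G)).toMonoidHom (MulEquiv.injective _) y).symm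
  haveI : Nontrivial W₀ := (Subgroup.nontrivial_iff_ne_bot W₀).mpr fun e => by
    have h := hxW (Subgroup.mem_zpowers (⟨x, hxC⟩ : C))
    rw [e, Subgroup.mem_bot] at h
    rw [h, orderOf_one] at hxo
    exact hℓ.out.one_lt.ne hxo
  -- a normal subgroup of prime order
  have hnormal : ∀ (t : ℕ) [Fact t.Prime] (u : G), orderOf u = t → u ∈ W → PRankLE t 1 L →
      pCore t W₀ ≠ ⊥ → W ≤ Subgroup.normalizer (Subgroup.zpowers u : Set G) := by
    intro t _ u hu huW hr hne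
    have ht2 : t ≠ 2 := ne_two_of_dvd hG (hu ▸ orderOf_dvd_natCard u)
    obtain ⟨Q, hQ⟩ := exists_sylow_map_ge (p := t) (M := W) (A := Subgroup.zpowers u)
      (IsPGroup.of_card (by rw [Nat.card_zpowers, hu, pow_one])) (Subgroup.zpowers_le.mpr huW)
    set O := ((pCore t W₀).map W₀.subtype).map C.subtype
    have hOW : O ≤ W := Subgroup.map_mono (Subgroup.map_subtype_le _)
    have hWO : W ≤ Subgroup.normalizer (O : Set G) :=
      ((Subgroup.map_mono (le_normalizer_map_of_normal (pCore t W₀))).trans (Subgroup.le_normalizer_map _))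
    have hOp : IsPGroup t O := ((Core.isPGroup_pCore t W₀).map _).map _
    have hOQ : O ≤ (Q : Subgroup W).map W.subtype := by
      haveI : (O.subgroupOf W).Normal := Subgroup.normal_subgroupOf_of_le_normalizer hWO
      have h1 : IsPGroup t ↥((Q : Subgroup W) ⊔ O.subgroupOf W) :=
        Q.isPGroup'.to_sup_of_normal_right hOp.comap_subtype
      rw [← Subgroup.map_subgroupOf_eq_of_le hOW]
      exact Subgroup.map_mono (le_sup_right.trans (Q.3 h1 le_sup_left).le)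
    have hQc := isCyclic_of_rank_one hG hpl ht2 hr (Q.isPGroup'.map W.subtype)
      ((Subgroup.map_subtype_le _).trans (hWC.trans hCL))
    have hO1 : O ≠ ⊥ := fun e => hne (by
      rwa [Subgroup.map_eq_bot_iff_of_injective _ C.subtype_injective,
        Subgroup.map_eq_bot_iff_of_injective _ W₀.subtype_injective] at e)
    obtain ⟨o, ho⟩ := exists_prime_orderOf_dvd_card' (G := O) t (dvd_card_of_ne_bot hOp hO1)
    have huO : Subgroup.zpowers u ≤ O := by
      rw [OddLocal.eq_of_card_eq_of_isCyclic hQc hQ ((Subgroup.zpowers_le.mpr o.2).trans hOQ)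
        (by rw [Nat.card_zpowers, Nat.card_zpowers, Subgroup.orderOf_coe, hu, ho])]
      exact Subgroup.zpowers_le.mpr o.2
    exact fun w hw => cj_eq_iff.mp (OddLocal.eq_of_card_eq_of_isCyclic hQc
      (((cj_mono huO).trans (cj_eq_iff.mpr (hWO hw)).le).trans hOQ) hQ (card_cj _ _))
  obtain ⟨⟨t, ht⟩, hne⟩ : ∃ t : Nat.Primes, pCore (t : ℕ) W₀ ≠ ⊥ := by
    by_contra hall
    push Not at hall
    exact Core.fittingSubgroup_ne_bot (G := W₀) (by rw [Core.fittingSubgroup_eq_iSup]; simp [hall])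
  haveI := Fact.mk ht
  have htπ : t = ℓ ∨ t = k := hW₀.1 t ht
    ((dvd_card_of_ne_bot (Core.isPGroup_pCore t W₀) hne).trans (Subgroup.card_subgroup_dvd_card (pCore t W₀)))
  rcases htπ with rfl | rfl
  · exact Or.inl ⟨(c : G)⁻¹, C.inv_mem c.2, by
      rw [show (c : G)⁻¹ * x' * ((c : G)⁻¹)⁻¹ = y by rw [← hyc]; group]
      exact hnormal t x hx hxW' hrℓ hne hyW⟩
  · refine Or.inr ⟨c, c.2, cj_eq_iff.mp ?_⟩
    have e : cj (c : G) (Subgroup.zpowers y) = Subgroup.zpowers x' := by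
      show (Subgroup.zpowers y).map (MulAut.conj (c : G)).toMonoidHom = _
      rw [MonoidHom.map_zpowers]
      exact congrArg Subgroup.zpowers hyc
    rw [← e, ← cj_mul, inv_mul_cancel_right, cj_mul, cj_eq_iff.mpr (hnormal t y hyk hyW hrk hne hxW')]

variable (hpl : ∀ (p : ℕ) [Fact p.Prime] (H : Subgroup G), H ≠ ⊤ → PLengthLE p 1 H)
include hpl

/-- An element of `C_{M_σ}(P)` has rank one in a maximal subgroup over `N(P)`. -/
theorem fixed_rank_one {M L P : Subgroup G} (hM : IsCoatom M) (hL : IsCoatom L) {p t : ℕ} [hp : Fact p.Prime]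
    [ht : Fact t.Prime] (hpt : p ∈ tau1 M) (hP : Nat.card P = p) (hPM : P ≤ M)
    (hNP : Subgroup.normalizer (P : Set G) ≤ L) {x : G} (hx : orderOf x = t)
    (hxC : x ∈ sigmaCore M ⊓ Subgroup.centralizer (P : Set G)) : PRankLE t 1 L := by
  by_contra h1
  set X := Subgroup.zpowers x
  have hX : Nat.card X = t := by rw [Nat.card_zpowers, hx]
  have hXC : X ≤ sigmaCore M ⊓ Subgroup.centralizer (P : Set G) := Subgroup.zpowers_le.mpr hxC
  have htM : t ∈ sigma M := mem_sigma_of_dvd ht.out (hX ▸ Subgroup.card_dvd_of_le (hXC.trans inf_le_left))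
  obtain ⟨hCX, honly⟩ := only_centralizer_tau1_fixed hG hpl hM hpt hP hPM hX hXC
  obtain ⟨hnc, hcl, -, -⟩ := normalizer_tau13 hG hpl hM hL (Or.inl hpt) hP hNP
  have htL : t ∉ sigma L := sigma_disjoint hG hpl hM hL hnc htM
  have htτ : t ∈ tau2 L := ⟨ht.out, htL, pRankLE_two_of_notMem_sigma hG hL ht.out htL, h1⟩
  have hXL : X ≤ L := hXC.trans (inf_le_right.trans ((Subgroup.centralizer_le_normalizer _).trans hNP))
  obtain ⟨F, hF, hXF⟩ := exists_compl_ge hG hL hXL (fun q hq hd => eq_prime_of_dvd_card hX hq hd ▸ htL)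
  obtain ⟨A, hAF, hAe, hA2⟩ := exists_ea_le_compl hG hF htτ
  obtain ⟨A0, hexc⟩ := exists_exc hG hpl hL htL (hAF.trans hF.1) hAe hA2
  obtain ⟨⟨hFA, hmem⟩, -, -⟩ := tau2_compl_facts hG hpl hL hF htτ ⟨hAF, hAe, hA2⟩
  have hAM : A ≤ M := ((Subgroup.le_centralizer_iff_isMulCommutative.mpr hAe.1).trans
    (Subgroup.centralizer_le (hmem X hXF hX))).trans hCX
  have hFM : F ≤ M := hFA.trans
    (normalizer_le_of_noncyclic hG hpl hM htM hexc.maxEA.isPGroup hAM (not_isCyclic_ea_sq hAe hA2))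
  rcases hcl with hpL | hpL
  · obtain ⟨π, hπ, hπ1⟩ := P.bot_or_exists_ne_one.resolve_left (ne_bot_of_card_prime hP)
    have hPL : P ≤ L := Subgroup.le_normalizer.trans hNP
    have hx1 : x ≠ 1 := fun e => ht.out.one_lt.ne (by rw [← hx, e, orderOf_one])
    obtain ⟨hCx, -⟩ := only_centralizer_of_tau2 hG hpl hL hF (hXL (Subgroup.mem_zpowers x)) hx1
      (fun q hq hd => by rw [hx] at hd; rwa [(Nat.prime_dvd_prime_iff_eq hq ht.out).mp hd])
      ⟨hXL (Subgroup.mem_zpowers x), π, le_sigmaCore hG hL hPL (mem_of_pGroup (isPGroup_of_card_prime hP) hpL) hπ,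
        hπ1, (Subgroup.mem_centralizer_iff.mp hxC.2 π hπ).symm⟩
    rw [centralizer_singleton_eq (rfl : Subgroup.zpowers x = X)] at hCx
    exact hnc 1 (by rw [cj_one]; exact honly L hL hCx)
  · obtain ⟨B, hBF, hBe, hB2⟩ := exists_ea_le_compl hG hF hpL
    exact not_pRankLE_of_ea hBe (hBF.trans hFM) (hB2 ▸ Nat.pow_lt_pow_right hp.out.one_lt one_lt_two) hpt.2.2.2.2

namespace Cfg

variable {M H R P : Subgroup G} {r p : ℕ} [hr : Fact r.Prime] [hp : Fact p.Prime] (h : Cfg M H R P r p)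
include h

omit hG hpl in
theorem p_ne_r : p ≠ r := fun e => h.tau1.2.2.2.1 (e.symm ▸ h.tau3.2.2.1)

theorem exists_compl : ∃ E : Subgroup G, T3 M H E R r ∧ P ≤ E := by
  obtain ⟨E, hE, hKE⟩ := exists_compl_ge hG h.coatom (sup_le h.le h.leP : R ⊔ P ≤ M) (fun q hq hd => by
    rw [Coprime.card_sup h.normP (Coprime.inf_eq_bot_of_coprime
      (coprime_of_pGroups (h.p_ne_r) (isPGroup_of_card_prime h.cardP) (isPGroup_of_card_prime h.card)))] at hd
    rcases hq.dvd_mul.mp hd with h1 | h1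
    · exact eq_prime_of_dvd_card h.card hq h1 ▸ h.tau3.2.1
    · exact eq_prime_of_dvd_card h.cardP hq h1 ▸ h.tau1.2.1)
  exact ⟨E, ⟨h.coatom, h.coatomH, hE, h.tau3, h.card, le_sup_left.trans hKE, h.norm, h.nonreg⟩,
    le_sup_right.trans hKE⟩

/-- The symmetric configuration. -/
theorem exists_symm : ∃ (q : ℕ) (X₀ : Subgroup G), q.Prime ∧ Cfg H M X₀ P q p := by
  obtain ⟨E, ht, hPE⟩ := h.exists_compl hG hpl
  have hM := h.coatom
  have hH := h.coatomH
  have hnc := ht.nc hG hpl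
  have hPH : P ≤ H := hPE.trans (ht.compl_le hG)
  set D := sigmaCore M ⊓ H with hDdef
  have hPD : P ≤ Subgroup.normalizer (D : Set G) := fun x hx => Coprime.mem_normalizer_of_conj_mem fun y hy =>
    ⟨(Subgroup.mem_normalizer_iff.mp (le_normalizer_sigmaCore M (h.leP hx)) y).mp hy.1,
      H.mul_mem (H.mul_mem (hPH hx) hy.2) (H.inv_mem (hPH hx))⟩
  have hPp := isPGroup_of_card_prime h.cardP
  haveI : Group.IsSolvable P := Coprime.isSolvable_of_isPGroup hPp
  obtain ⟨q, hq, W, hWD, hW, hPW, hWP⟩ : ∃ q : ℕ, q.Prime ∧ ∃ W : Subgroup G, W ≤ D ∧ IsPGroup q W ∧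
      P ≤ Subgroup.normalizer (W : Set G) ∧ ¬ W ≤ Subgroup.centralizer (P : Set G) := by
    by_contra hall
    refine h.moveD (Subgroup.le_centralizer_iff.mp (Coprime.le_of_forall_invariant_sylow fun q hq => ?_))
    haveI := Fact.mk hq
    obtain ⟨W, hWD, hW, hWi, hPW⟩ := Coprime.exists_invariant_sylow hPD (by
      rw [h.cardP]
      exact hp.out.coprime_iff_not_dvd.mpr fun hd =>
        h.tau1.2.1 (mem_sigma_of_dvd hp.out (hd.trans (Subgroup.card_dvd_of_le inf_le_left)))) q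
    exact ⟨W, hWD, by_contra fun hc => hall ⟨q, hq, W, hWD, hW, hPW, hc⟩, hWi⟩
  haveI := Fact.mk hq
  have hW1 : W ≠ ⊥ := fun e => hWP (e ▸ bot_le)
  have hqM : q ∈ sigma M := mem_sigma_of_dvd hq
    ((dvd_card_of_ne_bot hW hW1).trans (Subgroup.card_dvd_of_le (hWD.trans inf_le_left)))
  have hqH : q ∉ sigma H := sigma_disjoint hG hpl hM hH hnc hqM
  have hqp : q ≠ p := fun e => h.tau1.2.1 (e ▸ hqM)
  have hWH : W ≤ H := hWD.trans inf_le_right
  have hX : ⁅W, P⁆ ≠ ⊥ := fun e => hWP (Subgroup.commutator_eq_bot_iff_le_centralizer.mp e)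
  have hXW : ⁅W, P⁆ ≤ W := Coprime.commutator_le_of_le_normalizer hPW
  rcases mem_classes hG hH hq ((dvd_card_of_ne_bot hW hW1).trans (Subgroup.card_dvd_of_le hWH)) with hc | hc | hc | hc
  · exact absurd hc hqH
  · exact absurd ((dvd_card_of_ne_bot (hW.to_le hXW) hX).trans
      (Subgroup.card_dvd_of_le (Subgroup.commutator_mono hWH hPH))) hc.2.2.2.1
  · -- `q ∈ τ₂(H)`
    exfalso
    obtain ⟨x₀, hx₀⟩ := exists_prime_orderOf_dvd_card' q (dvd_card_of_ne_bot hW hW1)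
    set x : G := (x₀ : G)
    set X := Subgroup.zpowers x
    have hXc : Nat.card X = q := by rw [Nat.card_zpowers, Subgroup.orderOf_coe, hx₀]
    have hXD : X ≤ D := Subgroup.zpowers_le.mpr (hWD x₀.2)
    have hx1 : x ≠ 1 := fun e => hq.one_lt.ne (by rw [← hXc, Nat.card_zpowers, e, orderOf_one])
    obtain ⟨F, hF, hXF⟩ := exists_compl_ge hG hH (hXD.trans inf_le_right)
      (fun t ht' hd => eq_prime_of_dvd_card hXc ht' hd ▸ hqH)
    obtain ⟨A, hAF, hAe, hA2⟩ := exists_ea_le_compl hG hF hc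
    obtain ⟨A0, hexc⟩ := exists_exc hG hpl hH hqH (hAF.trans hF.1) hAe hA2
    have hXA : X ≤ A := (tau2_compl_facts hG hpl hH hF hc ⟨hAF, hAe, hA2⟩).1.2 X hXF hXc
    obtain ⟨ρ, hρ, hρ1⟩ := R.bot_or_exists_ne_one.resolve_left (ne_bot_of_card_prime h.card)
    have hρσ : ρ ∈ sigmaCore H := ht.le_sigmaCore_H hG hpl hρ
    obtain ⟨hCx, -⟩ := only_centralizer_of_tau2 hG hpl hH hF (hWH x₀.2) hx1
      (fun t ht' hd => by
        rw [Subgroup.orderOf_coe, hx₀] at hd
        rwa [(Nat.prime_dvd_prime_iff_eq ht' hq).mp hd])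
      ⟨hWH x₀.2, ρ, hρσ, hρ1, Subgroup.mem_centralizer_iff.mp (ht.le_cent hG hpl hρ) x (hWD x₀.2)⟩
    rw [centralizer_singleton_eq (rfl : Subgroup.zpowers x = X)] at hCx
    obtain ⟨g, hg⟩ := exists_cj_le hqM hexc.maxEA.isPGroup
    obtain ⟨c, hcX, e⟩ := transitive hG hM hqM _ X le_rfl (isPGroup_of_card_prime hXc) (ne_bot_of_card_prime hXc)
      1 g (by rw [cj_one]; exact hXD.trans (inf_le_left.trans (sigmaCore_le M))) (hXA.trans hg)
    rw [cj_one] at e
    have hmem : c * ρ * c⁻¹ ∈ sigmaCore H ⊓ cj g M :=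
      ⟨(Subgroup.mem_normalizer_iff.mp (le_normalizer_sigmaCore H (hCx hcX)) ρ).mp hρσ,
        e ▸ ⟨ρ, h.le hρ, rfl⟩⟩
    rw [hexc.inf_other_eq_bot hG hpl (isCoatom_cj hM g) (hnc g).symm hg, Subgroup.mem_bot] at hmem
    exact hρ1 (conj_eq_one_iff.mp hmem)
  -- `q ∈ τ₃(H)`
  have hq2 : q ≠ 2 := ne_two_of_dvd hG (sigma_dvd hqM)
  have hWc : IsCyclic W := isCyclic_of_rank_one hG hpl hq2 hc.2.2.2 hW hWH
  obtain ⟨x₀, hx₀⟩ := exists_prime_orderOf_dvd_card' q (dvd_card_of_ne_bot hW hW1)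
  set X₀ := Subgroup.zpowers (x₀ : G) with hX₀def
  have hX₀ : Nat.card X₀ = q := by rw [Nat.card_zpowers, Subgroup.orderOf_coe, hx₀]
  have hX₀W : X₀ ≤ W := Subgroup.zpowers_le.mpr x₀.2
  have hX₀M : X₀ ≤ M := hX₀W.trans (hWD.trans (inf_le_left.trans (sigmaCore_le M)))
  have hPX₀ : P ≤ Subgroup.normalizer (X₀ : Set G) := fun π hπ => cj_eq_iff.mp
    (OddLocal.eq_of_card_eq_of_isCyclic hWc ((cj_mono hX₀W).trans (cj_eq_iff.mpr (hPW hπ)).le) hX₀W (card_cj _ _))
  have hmove : ¬ P ≤ Subgroup.centralizer (X₀ : Set G) := fun hPC => hWP fun w hw => by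
    refine Subgroup.mem_centralizer_iff.mpr fun π hπ => mul_inv_eq_iff_eq_mul.mp ?_
    refine fixed_of_fixed_order_p hq2 π (Nat.Coprime.coprime_dvd_left (h.cardP ▸ Subgroup.orderOf_dvd_natCard P hπ)
      ((Nat.coprime_primes hp.out hq).mpr (Ne.symm hqp))) _ W le_rfl hW
      (fun v hv => (Subgroup.mem_normalizer_iff.mp (hPW hπ) v).mp hv) (fun v hv hv1 => ?_) w hw
    have hvX : v ∈ X₀ := by
      by_cases h1 : v = 1
      · exact h1 ▸ one_mem _
      rw [← OddLocal.eq_of_card_eq_of_isCyclic hWc (Subgroup.zpowers_le.mpr hv) hX₀W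
        (by rw [Nat.card_zpowers, orderOf_eq_prime hv1 h1, hX₀])]
      exact Subgroup.mem_zpowers v
    rw [← Subgroup.mem_centralizer_iff.mp (hPC hπ) v hvX, mul_inv_cancel_right]
  have hRD : R ≤ Subgroup.centralizer (X₀ : Set G) :=
    (ht.le_cent hG hpl).trans (Subgroup.centralizer_le (hX₀W.trans hWD))
  obtain ⟨L, hL, hNL⟩ := (eq_top_or_exists_le_coatom (Subgroup.normalizer (X₀ : Set G))).resolve_left
    (Core.BG.normalizer_ne_top_of_isPGroup hG (ne_bot_of_card_prime hX₀) (isPGroup_of_card_prime hX₀))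
  by_cases hLM : L = M
  · refine ⟨q, X₀, hq, ⟨hH, hM, hc, hX₀, hX₀W.trans hWH, hLM ▸ hNL, fun e => ?_, h.tau1H, h.tau1, h.cardP, hPH,
      hPX₀, hmove, fun hPC => h.moveR ?_⟩⟩
    · exact ne_bot_of_card_prime h.card (le_bot_iff.mp (e ▸ le_inf (ht.le_sigmaCore_H hG hpl) hRD))
    · exact hPC.trans (Subgroup.centralizer_le (le_inf (ht.le_sigmaCore_H hG hpl) h.le))
  exfalso
  have hnc2 := not_conj_of_normalizer_le hG hpl hM hqM (isPGroup_of_card_prime hX₀) (ne_bot_of_card_prime hX₀)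
    hX₀M hLM hNL
  have hqL : q ∉ sigma L := sigma_disjoint hG hpl hM hL hnc2 hqM
  obtain ⟨A, hAL, hAe, hA2, -⟩ := exists_ea_over hG hL hqL hX₀ hNL
  have hlt : q ^ 1 < Nat.card A := hA2 ▸ Nat.pow_lt_pow_right hq.one_lt one_lt_two
  have hncH : ∀ g : G, L ≠ cj g H := fun g e =>
    not_pRankLE_of_ea (K := H) (PLocal.isEA_map hAe (MulAut.conj g⁻¹).toMonoidHom)
      (cj_le_iff.mpr (by rw [inv_inv, ← e]; exact hAL))
      (by rwa [show Nat.card (A.map (MulAut.conj g⁻¹).toMonoidHom) = Nat.card A from card_cj _ _]) hc.2.2.2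
  have hbot := inf_derived_eq_bot hG hpl hH hL hncH
    ⟨hq, hqL, pRankLE_two_of_notMem_sigma hG hL hq hqL, not_pRankLE_of_ea hAe hAL hlt⟩
    (hX₀ ▸ Subgroup.card_dvd_of_le (hX₀W.trans hWH)) hqH
  have hRL : R ≤ L := hRD.trans ((Subgroup.centralizer_le_normalizer _).trans hNL)
  have hRP : ⁅R, P⁆ = R := by
    have h1 : ⁅R, P⁆ ≤ R := Coprime.commutator_le_of_le_normalizer h.normP
    rcases (Nat.dvd_prime hr.out).mp (h.card ▸ Subgroup.card_dvd_of_le h1) with h2 | h2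
    · exact absurd (Subgroup.le_centralizer_iff.mp
        (Subgroup.commutator_eq_bot_iff_le_centralizer.mp (Subgroup.eq_bot_of_card_eq _ h2))) h.moveR
    · exact Subgroup.eq_of_le_of_card_ge h1 (by rw [h2, h.card])
  refine ne_bot_of_card_prime h.card (le_bot_iff.mp (hbot ▸ le_inf (le_inf (ht.le_sigmaCore_H hG hpl) hRL) ?_))
  rw [← hRP]
  exact Subgroup.commutator_mono hRL (hPX₀.trans hNL)

/-- No element of order `k ∈ σ(H)` of `M` commutes with `P`. -/
theorem no_fixed {k : ℕ} [hk : Fact k.Prime] (hkH : k ∈ sigma H) {y : G} (hy : orderOf y = k) (hyM : y ∈ M)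
    (hyP : y ∈ Subgroup.centralizer (P : Set G)) : False := by
  obtain ⟨E, ht, hPE⟩ := h.exists_compl hG hpl
  have hM := h.coatom
  have hnc := ht.nc hG hpl
  have hEH := ht.compl_le hG
  have hkM : k ∉ sigma M := sigma_disjoint hG hpl h.coatomH hM (cj_nc hnc) hkH
  obtain ⟨m, hm, hmP, hmE⟩ := exists_conj_compl_centralizing hG hM ht.compl h.tau1 h.cardP hPE hy hyM hkM hyP
  set y' := m * y * m⁻¹
  set Y := Subgroup.zpowers y'
  have hY : Nat.card Y = k := by
    rw [Nat.card_zpowers, ← hy]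
    exact orderOf_injective (MulAut.conj m).toMonoidHom (MulEquiv.injective _) y
  have hYP : Y ≤ Subgroup.centralizer (P : Set G) :=
    Subgroup.zpowers_le.mpr (mul_mem (mul_mem hmP hyP) (inv_mem hmP))
  have hYE : Y ≤ E := Subgroup.zpowers_le.mpr hmE
  rcases mem_classes hG hM hk.out (hY ▸ Subgroup.card_dvd_of_le (hYE.trans ht.compl.1)) with hc | hc | hc | hc
  · exact hkM hc
  · have hYD := le_centralizer_sigmaCore_inf hG hpl hM h.coatomH hnc hkM (fun h1 => h1.2.1 hkH)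
      (isPGroup_of_card_prime hY) (le_inf (hYE.trans ht.compl.1) (hYE.trans hEH))
    refine h.moveD (Subgroup.le_centralizer_iff.mp ?_)
    exact le_trans (le_inf inf_le_left (Subgroup.le_centralizer_iff.mp hYD))
      ((cent_tau1_le hG hpl hM hc hY (hYE.trans ht.compl.1) h.cardP h.leP h.tau1.2.1
        (Subgroup.le_centralizer_iff.mp hYP)).trans inf_le_right)
  · exact Set.eq_empty_iff_forall_notMem.mp (ht.tau2_empty hG hpl) k hc
  obtain ⟨s, c, hs, hsM, hcK, hcp, hcY⟩ := exists_mover_tau3 hG hpl hM ht.compl (ht.tau2_empty hG hpl) hc hY hYE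
    (inf_le_left : E ⊓ Subgroup.centralizer (P : Set G) ≤ E)
    fun e he => compl_eq_derived_mul_centralizer hG hM ht.compl h.tau1 h.cardP hPE he
  haveI := Fact.mk hs
  have hcE : Subgroup.zpowers c ≤ E := Subgroup.zpowers_le.mpr hcK.1
  have hcP : Subgroup.zpowers c ≤ Subgroup.centralizer (P : Set G) := Subgroup.zpowers_le.mpr hcK.2
  by_cases hsH : s ∈ Cfsg.tau1 H
  · refine hcY (Subgroup.centralizer_le ?_ (cent_tau1_pGroup hG hpl h.coatomH h.tau1H h.cardP (hPE.trans hEH) hsH.2.1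
      hcp (hcE.trans hEH) hcP (Subgroup.mem_zpowers c)))
    exact le_inf (le_sigmaCore hG h.coatomH (hYE.trans hEH) (mem_of_pGroup (isPGroup_of_card_prime hY) hkH)) hYP
  have hcD := le_centralizer_sigmaCore_inf hG hpl hM h.coatomH hnc hsM.2.1 hsH hcp
    (le_inf (hcE.trans ht.compl.1) (hcE.trans hEH))
  obtain ⟨v, hv⟩ := exists_prime_orderOf_dvd_card' (G := Subgroup.zpowers c) s (dvd_card_of_ne_bot hcp fun e => hcY (by
    rw [Subgroup.zpowers_eq_bot.mp e]; exact one_mem _))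
  set V := Subgroup.zpowers (v : G)
  have hVc : V ≤ Subgroup.zpowers c := Subgroup.zpowers_le.mpr v.2
  refine h.moveD (Subgroup.le_centralizer_iff.mp ?_)
  exact le_trans (le_inf inf_le_left (Subgroup.le_centralizer_iff.mp (hVc.trans hcD)))
    ((cent_tau1_le hG hpl hM hsM (P := V) (by rw [Nat.card_zpowers, Subgroup.orderOf_coe, hv])
      ((hVc.trans hcE).trans ht.compl.1) h.cardP h.leP h.tau1.2.1
      (Subgroup.le_centralizer_iff.mp (hVc.trans hcP))).trans inf_le_right)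

/-- `P` fixes an element of prime order of `M_σ`. -/
theorem exists_fixed : ∃ (t : ℕ) (x : G), t.Prime ∧ orderOf x = t ∧
    x ∈ sigmaCore M ⊓ Subgroup.centralizer (P : Set G) := by
  obtain ⟨E, ht, hPE⟩ := h.exists_compl hG hpl
  by_cases hC : sigmaCore M ⊓ Subgroup.centralizer (P : Set G) = ⊥
  swap
  · obtain ⟨t, htp, hd⟩ := Nat.exists_prime_and_dvd fun e => hC (Subgroup.eq_bot_of_card_eq _ e)
    haveI := Fact.mk htp
    obtain ⟨x, hx⟩ := exists_prime_orderOf_dvd_card' t hd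
    exact ⟨t, x, htp, by rw [Subgroup.orderOf_coe, hx], x.2⟩
  exfalso
  have hRp := isPGroup_of_card_prime h.card
  have hPp := isPGroup_of_card_prime h.cardP
  have hK : R ⊔ P ≤ M := sup_le h.le h.leP
  haveI : Group.IsSolvable ↥(R ⊔ P) := Core.BG.isSolvable_proper hG fun e => h.coatom.1 (top_le_iff.mp (e ▸ hK))
  have hcop : (Nat.card ↥(R ⊔ P)).Coprime (Nat.card (sigmaCore M)) := by
    rw [Coprime.card_sup h.normP (Coprime.inf_eq_bot_of_coprime (coprime_of_pGroups h.p_ne_r hPp hRp)), h.card,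
      h.cardP]
    exact Nat.Coprime.mul_left (hr.out.coprime_iff_not_dvd.mpr fun hd => h.tau3.2.1 (mem_sigma_of_dvd hr.out hd))
      (hp.out.coprime_iff_not_dvd.mpr fun hd => h.tau1.2.1 (mem_sigma_of_dvd hp.out hd))
  have hRP : ⁅R, P⁆ = R := by
    have h1 : ⁅R, P⁆ ≤ R := Coprime.commutator_le_of_le_normalizer h.normP
    rcases (Nat.dvd_prime hr.out).mp (h.card ▸ Subgroup.card_dvd_of_le h1) with h2 | h2
    · exact absurd (Subgroup.le_centralizer_iff.mp
        (Subgroup.commutator_eq_bot_iff_le_centralizer.mp (Subgroup.eq_bot_of_card_eq _ h2))) h.moveR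
    · exact Subgroup.eq_of_le_of_card_ge h1 (by rw [h2, h.card])
  have hσH : sigmaCore M ≤ H := by
    refine le_trans ?_ ht.centralizer_le
    refine Coprime.le_of_forall_invariant_sylow fun ℓ hℓ => ?_
    haveI := Fact.mk hℓ
    obtain ⟨S, hSσ, hS, hSi, hKS⟩ :=
      Coprime.exists_invariant_sylow (hK.trans (le_normalizer_sigmaCore M)) hcop ℓ
    refine ⟨S, hSσ, ?_, hSi⟩
    by_cases hS1 : S = ⊥
    · rw [hS1]; exact bot_le
    have hℓσ : ℓ ∈ sigma M := mem_sigma_of_dvd hℓ ((dvd_card_of_ne_bot hS hS1).trans (Subgroup.card_dvd_of_le hSσ))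
    have h1 := Core.BG.commutator_le_centralizer_of_fpf hr.out hp.out (fun e => h.tau3.2.1 (e ▸ hℓσ))
      (fun e => h.tau1.2.1 (e ▸ hℓσ)) h.p_ne_r.symm (ne_two_of_dvd hG (h.card ▸ Subgroup.card_subgroup_dvd_card R))
      h.cardP hRp hS h.normP (le_sup_right.trans hKS) (le_sup_left.trans hKS)
      (le_bot_iff.mp (hC ▸ inf_le_inf_right _ hSσ))
    rw [hRP] at h1
    exact Subgroup.le_centralizer_iff.mp h1
  refine (ht.ne hG hpl) ((h.coatom.le_iff_eq h.coatomH.1).mp fun m hm => ?_)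
  obtain ⟨e, he, d, hd, rfl⟩ := ht.compl.2.2.2 m hm
  exact H.mul_mem (ht.compl_le hG he) (hσH hd)

theorem false : False := by
  obtain ⟨q, X₀, hq, h'⟩ := h.exists_symm hG hpl
  haveI := Fact.mk hq
  obtain ⟨t, x, ht, hx, hxC⟩ := h.exists_fixed hG hpl
  obtain ⟨k, x', hk, hx', hx'C⟩ := h'.exists_fixed hG hpl
  haveI := Fact.mk ht
  haveI := Fact.mk hk
  obtain ⟨E, hT, -⟩ := h.exists_compl hG hpl
  obtain ⟨L, hL, hNP⟩ := (eq_top_or_exists_le_coatom (Subgroup.normalizer (P : Set G))).resolve_left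
    (Core.BG.normalizer_ne_top_of_isPGroup hG (ne_bot_of_card_prime h.cardP) (isPGroup_of_card_prime h.cardP))
  have hkH : k ∈ sigma H := mem_sigma_of_dvd hk (hx' ▸ Subgroup.orderOf_dvd_natCard _ hx'C.1)
  have htM : t ∈ sigma M := mem_sigma_of_dvd ht (hx ▸ Subgroup.orderOf_dvd_natCard _ hxC.1)
  have hnorm : ∀ {K : Subgroup G}, IsCoatom K → p ∈ Cfsg.tau1 K → P ≤ K → ∀ {j : ℕ} [Fact j.Prime] {u : G},
      orderOf u = j → u ∈ sigmaCore K ⊓ Subgroup.centralizer (P : Set G) →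
      Subgroup.normalizer (Subgroup.zpowers u : Set G) ≤ K := by
    intro K hK hpK hPK j _ u hu huC
    have hU : Nat.card (Subgroup.zpowers u) = j := by rw [Nat.card_zpowers, hu]
    exact ((only_centralizer_tau1_fixed hG hpl hK hpK h.cardP hPK hU (Subgroup.zpowers_le.mpr huC)).2.mono
      (Subgroup.centralizer_le_normalizer _)).le
      (Core.BG.normalizer_ne_top_of_isPGroup hG (ne_bot_of_card_prime hU) (isPGroup_of_card_prime hU))
  rcases exists_conj_normalizing hG hpl hL ((Subgroup.centralizer_le_normalizer _).trans hNP) hx hx' hxC.2 hx'C.2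
    (fixed_rank_one hG hpl h.coatom hL h.tau1 h.cardP h.leP hNP hx hxC)
    (fixed_rank_one hG hpl h.coatomH hL h.tau1H h.cardP h'.leP hNP hx' hx'C) with ⟨c, hc, hN⟩ | ⟨c, hc, hN⟩
  · exact h.no_fixed hG hpl hkH
      (y := c * x' * c⁻¹) (by rw [← hx']; exact orderOf_injective (MulAut.conj c).toMonoidHom (MulEquiv.injective _) x')
      (hnorm h.coatom h.tau1 h.leP hx hxC hN) (mul_mem (mul_mem hc hx'C.2) (inv_mem hc))
  · exact h'.no_fixed hG hpl htM
      (y := c * x * c⁻¹) (by rw [← hx]; exact orderOf_injective (MulAut.conj c).toMonoidHom (MulEquiv.injective _) x)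
      (hnorm h.coatomH h.tau1H h'.leP hx' hx'C hN) (mul_mem (mul_mem hc hxC.2) (inv_mem hc))

end Cfg

/-- `P` of order `p ∈ τ₁(M)` in `E` centralizes `M_σ ∩ H`. -/
theorem T3.tau1_le_centralizer {M H E R : Subgroup G} {r : ℕ} [hr : Fact r.Prime] (h : T3 M H E R r) {p : ℕ}
    [hp : Fact p.Prime] (hpt : p ∈ tau1 M) {P : Subgroup G} (hP : Nat.card P = p) (hPE : P ≤ E) :
    P ≤ Subgroup.centralizer ((sigmaCore M ⊓ H : Subgroup G) : Set G) := by
  have hEH := h.compl_le hG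
  have hnc := h.nc hG hpl
  by_cases hpH : p ∈ tau1 H
  swap
  · exact le_centralizer_sigmaCore_inf hG hpl h.coatom h.coatomH hnc hpt.2.1 hpH (isPGroup_of_card_prime hP)
      (le_inf (hPE.trans h.compl.1) (hPE.trans hEH))
  by_contra hPD
  suffices hPR : ¬ P ≤ Subgroup.centralizer (R : Set G) from
    Cfg.false hG hpl (⟨h.coatom, h.coatomH, h.tau3, h.card, h.le.trans h.compl.1, h.norm, h.nonreg, hpt, hpH, hP,
      hPE.trans h.compl.1, hPE.trans (tau3_normal hG h.coatom h.compl h.tau3 h.card h.le), hPR, hPD⟩ :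
        Cfg M H R P r p)
  intro hPR
  obtain ⟨s, y, hs, hsM, hyK, hy, hyR⟩ := exists_mover_tau3 hG hpl h.coatom h.compl (h.tau2_empty hG hpl) h.tau3
    h.card h.le (inf_le_left : E ⊓ Subgroup.centralizer (P : Set G) ≤ E)
    fun e he => compl_eq_derived_mul_centralizer hG h.coatom h.compl hpt hP hPE he
  haveI := Fact.mk hs
  have hyE : Subgroup.zpowers y ≤ E := Subgroup.zpowers_le.mpr hyK.1
  have hyP : Subgroup.zpowers y ≤ Subgroup.centralizer (P : Set G) := Subgroup.zpowers_le.mpr hyK.2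
  by_cases hsH : s ∈ tau1 H
  · refine hyR (Subgroup.centralizer_le ?_ (cent_tau1_pGroup hG hpl h.coatomH hpH hP (hPE.trans hEH) hsH.2.1 hy
      (hyE.trans hEH) hyP (Subgroup.mem_zpowers y)))
    exact le_inf (h.le_sigmaCore_H hG hpl) (Subgroup.le_centralizer_iff.mp hPR)
  have hyD := le_centralizer_sigmaCore_inf hG hpl h.coatom h.coatomH hnc hsM.2.1 hsH hy
    (le_inf (hyE.trans h.compl.1) (hyE.trans hEH))
  obtain ⟨v, hv⟩ := exists_prime_orderOf_dvd_card' (G := Subgroup.zpowers y) s (dvd_card_of_ne_bot hy fun e => hyR (by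
    rw [Subgroup.zpowers_eq_bot.mp e]; exact one_mem _))
  set V := Subgroup.zpowers (v : G)
  have hVy : V ≤ Subgroup.zpowers y := Subgroup.zpowers_le.mpr v.2
  refine hPD (Subgroup.le_centralizer_iff.mp ?_)
  exact le_trans (le_inf inf_le_left (Subgroup.le_centralizer_iff.mp (hVy.trans hyD)))
    ((cent_tau1_le hG hpl h.coatom hsM (P := V) (by rw [Nat.card_zpowers, Subgroup.orderOf_coe, hv])
      ((hVy.trans hyE).trans h.compl.1) hP (hPE.trans h.compl.1) hpt.2.1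
      (Subgroup.le_centralizer_iff.mp (hVy.trans hyP))).trans inf_le_right)

end Cfsg.Agent.OddLocal.Sigma
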