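import Cfsg.Agent.OddLocal.Sigma.Tau3Claim

/-! Elements of prime order `p ∈ τ₁(M)` of `E` centralize a non-regular `R ≤ E` of order `r ∈ τ₃(M)`. -/

set_option autoImplicit false
set_option linter.style.haveILetI false
set_option linter.unusedSectionVars false

namespace Cfsg.Agent.OddLocal.Sigma

open Cfsg
open scoped commutatorElement

variable {G : Type*} [Group G] [Finite G]

/-- A coprime `E` with `[N, E] = N` fixing `x N'` has `x ∈ N'`. -/
theorem mem_commutator_of_fixed_mod {X : Type*} [Group X] [Finite X] {N E : Subgroup X} [hN : N.Normal]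
    (hcop : (Nat.card E).Coprime (Nat.card N)) (heq : ⁅N, E⁆ = N) {x : X} (hx : x ∈ N)
    (hfix : ∀ e ∈ E, e * x * e⁻¹ * x⁻¹ ∈ ⁅N, N⁆) : x ∈ ⁅N, N⁆ := by
  haveI : (⁅N, N⁆).Normal := inferInstance
  set φ := QuotientGroup.mk' ⁅N, N⁆
  haveI : (N.map φ).Normal := hN.map φ (QuotientGroup.mk'_surjective _)
  have hV : IsMulCommutative (N.map φ) := Subgroup.le_centralizer_iff_isMulCommutative.mp
    (Subgroup.commutator_eq_bot_iff_le_centralizer.mp (by rw [← Subgroup.map_commutator, QuotientGroup.map_mk'_self]))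
  have h1 := Coprime.commutator_inf_centralizer_eq_bot (A := E.map φ) (fun a _ => by rw [Subgroup.normalizer_eq_top]; trivial)
    hV (((hcop.coprime_dvd_left (Subgroup.card_map_dvd E φ))).coprime_dvd_right (Subgroup.card_map_dvd N φ))
  rw [← Subgroup.map_commutator, heq] at h1
  have h2 : φ x ∈ (⊥ : Subgroup (X ⧸ ⁅N, N⁆)) := h1 ▸ ⟨⟨x, hx, rfl⟩, Subgroup.mem_centralizer_iff.mpr (by
    rintro _ ⟨e, he, rfl⟩
    have h3 : φ (e * x * e⁻¹ * x⁻¹) = 1 := (QuotientGroup.eq_one_iff _).mpr (hfix e he)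
    rw [map_mul, map_mul, map_mul, map_inv, map_inv] at h3
    exact mul_inv_eq_iff_eq_mul.mp (mul_inv_eq_one.mp h3))⟩
  exact (QuotientGroup.eq_one_iff x).mp (Subgroup.mem_bot.mp h2)

variable (hG : IsMinSimpleOddOrder G)
include hG
variable (hpl : ∀ (p : ℕ) [Fact p.Prime] (H : Subgroup G), H ≠ ⊤ → PLengthLE p 1 H)
include hpl

/-- `P ≤ H_σ ∩ M` of prime order `p ∤ |M'|` lies in `H_σ'` if a complement of `H_σ` lies in `M`. -/
theorem le_derived_of_compl_fixed {M H F P : Subgroup G} (hH : IsCoatom H) (hF : IsComplIn F (sigmaCore H) H)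
    {p : ℕ} [hp : Fact p.Prime] (hP : Nat.card P = p) (hPσ : P ≤ sigmaCore H) (hPM : P ≤ M) (hFM : F ≤ M)
    (hpM : ¬ p ∣ Nat.card ↥⁅M, M⁆) : P ≤ ⁅sigmaCore H, sigmaCore H⁆ := by
  haveI := Core.BG.isSolvable_proper hG hH.1
  set N := piCore (sigma H) H
  set F' := F.subgroupOf H
  have hmapN : N.map H.subtype = sigmaCore H := rfl
  have hmapF : F'.map H.subtype = F := Subgroup.map_subgroupOf_eq_of_le hF.1
  have heq : ⁅N, F'⁆ = N := Subgroup.map_injective H.subtype_injective (by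
    rw [Subgroup.map_commutator, hmapN, hmapF, (commutator_compl hG hpl hH hF).1])
  have hcop : (Nat.card F').Coprime (Nat.card N) := Nat.coprime_of_dvd fun q hq h1 h2 =>
    complIn_notMem_sigma hG hH hF hq (by rwa [Core.card_subgroupOf hF.1] at h1)
      (Core.isPiNat_card_piCore _ H q hq h2)
  intro x hx
  obtain ⟨x₀, hx₀, rfl⟩ : x ∈ N.map H.subtype := hPσ hx
  rw [← hmapN, ← Subgroup.map_commutator]
  refine ⟨x₀, mem_commutator_of_fixed_mod hcop heq hx₀ fun e he => ?_, rfl⟩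
  haveI : (⁅N, N⁆).Normal := inferInstance
  set φ := QuotientGroup.mk' ⁅N, N⁆
  set c := e * x₀ * e⁻¹ * x₀⁻¹ with hc
  have hV : IsMulCommutative (N.map φ) := Subgroup.le_centralizer_iff_isMulCommutative.mp
    (Subgroup.commutator_eq_bot_iff_le_centralizer.mp (by rw [← Subgroup.map_commutator, QuotientGroup.map_mk'_self]))
  have hxp : x₀ ^ p = 1 := H.subtype_injective (by rw [map_pow, pow_card_prime_eq_one hP hx, map_one])
  have hex : e * x₀ * e⁻¹ ∈ N := (inferInstance : N.Normal).conj_mem _ hx₀ e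
  have hcomm : Commute (φ (e * x₀ * e⁻¹)) (φ x₀⁻¹) := congrArg Subtype.val
    (hV.is_comm.comm ⟨_, ⟨_, hex, rfl⟩⟩ ⟨_, ⟨_, inv_mem hx₀, rfl⟩⟩)
  have h1 : φ c ^ p = 1 := by
    rw [hc, map_mul, hcomm.mul_pow, ← map_pow, ← map_pow, conj_pow, inv_pow, hxp]
    simp
  have h2 : φ c ^ Nat.card ↥⁅M, M⁆ = 1 := by
    have h3 : c ^ Nat.card ↥⁅M, M⁆ = 1 := H.subtype_injective (by
      rw [map_pow, map_one]
      have hcM : H.subtype c ∈ ⁅M, M⁆ := by
        rw [hc, map_mul, map_mul, map_mul, map_inv, map_inv]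
        exact Subgroup.commutator_mem_commutator (hFM (Subgroup.mem_subgroupOf.mp he)) (hPM hx)
      exact congrArg Subtype.val (pow_card_eq_one' (x := (⟨_, hcM⟩ : ↥⁅M, M⁆))))
    rw [← map_pow, h3, map_one]
  have h4 := pow_gcd_eq_one.mpr ⟨h1, h2⟩
  rw [(hp.out.coprime_iff_not_dvd.mpr hpM).gcd_eq_one, pow_one] at h4
  exact (QuotientGroup.eq_one_iff c).mp h4

/-- An element of prime order `p ∈ τ₁(M)` of `E` centralizes `R`. -/
theorem T3.tau1_centralizes {M H E R : Subgroup G} {r : ℕ} [hr : Fact r.Prime] (h : T3 M H E R r) {p : ℕ}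
    [hp : Fact p.Prime] (hpt : p ∈ tau1 M) {P : Subgroup G} (hP : Nat.card P = p) (hPE : P ≤ E) :
    P ≤ Subgroup.centralizer (R : Set G) := by
  by_contra hPR
  have hEH := h.compl_le hG
  have hM := h.coatom
  have hH := h.coatomH
  have hnc := h.nc hG hpl
  have hPM : P ≤ M := hPE.trans h.compl.1
  have hPH : P ≤ H := hPE.trans hEH
  have hRM : R ≤ M := h.le.trans h.compl.1
  have hPN : P ≤ Subgroup.normalizer (R : Set G) :=
    hPE.trans (tau3_normal hG hM h.compl h.tau3 h.card h.le)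
  have hPD := h.tau1_le_centralizer hG hpl hpt hP hPE
  have hRD := h.le_cent hG hpl
  have hRσ := h.le_sigmaCore_H hG hpl
  obtain ⟨t, ht, hd⟩ := Nat.exists_prime_and_dvd fun e => h.inter_ne_bot (Subgroup.eq_bot_of_card_eq _ e)
  haveI := Fact.mk ht
  obtain ⟨x₀, hx₀⟩ := exists_prime_orderOf_dvd_card' t hd
  set x : G := (x₀ : G) with hxdef
  have hxo : orderOf x = t := by rw [hxdef, Subgroup.orderOf_coe, hx₀]
  set X := Subgroup.zpowers x with hXdef
  have hX : Nat.card X = t := by rw [Nat.card_zpowers, hxo]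
  have hXD : X ≤ sigmaCore M ⊓ H := Subgroup.zpowers_le.mpr x₀.2
  have hXH : X ≤ H := hXD.trans inf_le_right
  have hXP : X ≤ Subgroup.centralizer (P : Set G) := hXD.trans (Subgroup.le_centralizer_iff.mp hPD)
  obtain ⟨hCX, honly⟩ :=
    only_centralizer_tau1_fixed hG hpl hM hpt hP hPM hX (le_inf (hXD.trans inf_le_left) hXP)
  have hNX : Subgroup.normalizer (X : Set G) ≤ M := (honly.mono (Subgroup.centralizer_le_normalizer _)).le
    (Core.BG.normalizer_ne_top_of_isPGroup hG (ne_bot_of_card_prime hX) (isPGroup_of_card_prime hX))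
  have htM : t ∈ sigma M := mem_sigma_of_dvd ht (hX ▸ Subgroup.card_dvd_of_le (hXD.trans inf_le_left))
  have htH : t ∉ sigma H := sigma_disjoint hG hpl hM hH hnc htM
  have hRX : R ≤ Subgroup.centralizer (X : Set G) := hRD.trans (Subgroup.centralizer_le hXD)
  have hPX : P ≤ Subgroup.centralizer (X : Set G) := hPD.trans (Subgroup.centralizer_le hXD)
  have hXσH : R ≤ sigmaCore H ⊓ Subgroup.centralizer (X : Set G) := le_inf hRσ hRX
  have hCP : Subgroup.centralizer (P : Set G) ≤ H := by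
    rcases mem_classes hG hH ht (hX ▸ Subgroup.card_dvd_of_le hXH) with hc | hc | hc | hc
    · exact absurd hc htH
    · -- `t ∈ τ₁(H)`
      by_cases hpH : p ∈ sigma H
      · exact (only_centralizer_tau1_fixed hG hpl hH hc hX hXH hP
          (le_inf (le_sigmaCore hG hH hPH (mem_of_pGroup (isPGroup_of_card_prime hP) hpH)) hPX)).1
      · exact absurd ((cent_tau1_pGroup hG hpl hH hc hX hXH hpH (isPGroup_of_card_prime hP) hPH hPX).trans
          (Subgroup.centralizer_le hXσH)) hPR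
    · -- `t ∈ τ₂(H)`
      exfalso
      obtain ⟨F, hF, hXF⟩ := exists_compl_ge hG hH hXH (fun q hq hd' => eq_prime_of_dvd_card hX hq hd' ▸ htH)
      obtain ⟨ρ, hρ, hρ1⟩ := R.bot_or_exists_ne_one.resolve_left (ne_bot_of_card_prime h.card)
      obtain ⟨hCx, -⟩ := only_centralizer_of_tau2 hG hpl hH hF (hXH (Subgroup.mem_zpowers x))
        (fun e => ht.one_lt.ne (by rw [← hxo, e, orderOf_one]))
        (fun q hq hd' => by rw [hxo] at hd'; rwa [(Nat.prime_dvd_prime_iff_eq hq ht).mp hd'])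
        ⟨hXH (Subgroup.mem_zpowers x), ρ, hRσ hρ, hρ1,
          Subgroup.mem_centralizer_iff.mp (hRX hρ) x (Subgroup.mem_zpowers x)⟩
      rw [centralizer_singleton_eq (rfl : Subgroup.zpowers x = X)] at hCx
      exact h.ne hG hpl (honly H hH hCx)
    · -- `t ∈ τ₃(H)`
      by_cases hpH : p ∈ sigma H
      · obtain ⟨F, hF, hXF⟩ := exists_compl_ge hG hH hXH (fun q hq hd' => eq_prime_of_dvd_card hX hq hd' ▸ htH)
        exact (sigma_order_p hG hpl hH hpH hPH hP (Or.inr (le_derived_of_compl_fixed hG hpl hH hF hP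
          (le_sigmaCore hG hH hPH (mem_of_pGroup (isPGroup_of_card_prime hP) hpH)) hPM
          ((tau3_normal hG hH hF hc hX hXF).trans hNX) hpt.2.2.2.1))).1.1
      exfalso
      have htp : p ≠ t := fun e => hpt.2.1 (e.symm ▸ htM)
      obtain ⟨F, hF, hKF⟩ := exists_compl_ge hG hH (sup_le hXH hPH : X ⊔ P ≤ H) (fun q hq hd' => by
        rw [Coprime.card_sup (hPX.trans (Subgroup.centralizer_le_normalizer _)) (Coprime.inf_eq_bot_of_coprime
          (coprime_of_pGroups htp (isPGroup_of_card_prime hP) (isPGroup_of_card_prime hX)))] at hd'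
        rcases hq.dvd_mul.mp hd' with h1 | h1
        · exact eq_prime_of_dvd_card hX hq h1 ▸ htH
        · exact eq_prime_of_dvd_card hP hq h1 ▸ hpH)
      have hXF : X ≤ F := le_sup_left.trans hKF
      have hPF : P ≤ F := le_sup_right.trans hKF
      have hFM : F ≤ M := (tau3_normal hG hH hF hc hX hXF).trans hNX
      rcases mem_classes hG hH hp.out (hP ▸ Subgroup.card_dvd_of_le hPH) with hpc | hpc | hpc | hpc
      · exact hpH hpc
      · have hT : T3 H M F X t := ⟨hH, hM, hF, hc, hX, hXF, hNX,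
          fun e => ne_bot_of_card_prime h.card (le_bot_iff.mp (e ▸ hXσH))⟩
        exact hPR ((hT.tau1_le_centralizer hG hpl hpc hP hPF).trans (Subgroup.centralizer_le (le_inf hRσ hRM)))
      · obtain ⟨A, hAF, hAe, hA2⟩ := exists_ea_le_compl hG hF hpc
        exact not_pRankLE_of_ea hAe (hAF.trans hFM) (hA2 ▸ Nat.pow_lt_pow_right hp.out.one_lt one_lt_two)
          hpt.2.2.2.2
      · exact hpt.2.2.2.1 (hP ▸ Subgroup.card_dvd_of_le ((tau3_le_compl_derived hG hF hpc
          (isPGroup_of_card_prime hP) hPF).trans (Subgroup.commutator_mono hFM hFM)))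
  have hK : R ⊔ P ≤ M := sup_le hRM hPM
  haveI : Group.IsSolvable ↥(R ⊔ P) := Core.BG.isSolvable_proper hG fun e => hM.1 (top_le_iff.mp (e ▸ hK))
  have hRp := isPGroup_of_card_prime h.card
  have hpr : p ≠ r := fun e => hpt.2.2.2.1 (e ▸ h.tau3.2.2.1)
  have hcop : (Nat.card ↥(R ⊔ P)).Coprime (Nat.card (sigmaCore M)) := by
    rw [Coprime.card_sup hPN (Coprime.inf_eq_bot_of_coprime (coprime_of_pGroups hpr (isPGroup_of_card_prime hP) hRp)),
      h.card, hP]
    exact Nat.Coprime.mul_left (hr.out.coprime_iff_not_dvd.mpr fun hd' => h.tau3.2.1 (mem_sigma_of_dvd hr.out hd'))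
      (hp.out.coprime_iff_not_dvd.mpr fun hd' => hpt.2.1 (mem_sigma_of_dvd hp.out hd'))
  have hRP : ⁅R, P⁆ = R := by
    have h1 : ⁅R, P⁆ ≤ R := Coprime.commutator_le_of_le_normalizer hPN
    rcases (Nat.dvd_prime hr.out).mp (h.card ▸ Subgroup.card_dvd_of_le h1) with h2 | h2
    · exact absurd (Subgroup.le_centralizer_iff.mp
        (Subgroup.commutator_eq_bot_iff_le_centralizer.mp (Subgroup.eq_bot_of_card_eq _ h2))) hPR
    · exact Subgroup.eq_of_le_of_card_ge h1 (by rw [h2, h.card])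
  have hσH : sigmaCore M ≤ H := by
    refine le_trans ?_ h.centralizer_le
    refine Coprime.le_of_forall_invariant_sylow fun ℓ hℓ => ?_
    haveI := Fact.mk hℓ
    obtain ⟨S, hSσ, hS, hSi, hKS⟩ :=
      Coprime.exists_invariant_sylow (hK.trans (le_normalizer_sigmaCore M)) hcop ℓ
    refine ⟨S, hSσ, ?_, hSi⟩
    by_cases hS1 : S = ⊥
    · rw [hS1]; exact bot_le
    have hdS := (dvd_card_of_ne_bot hS hS1).trans (Subgroup.card_dvd_of_le hSσ)
    have hℓσ : ℓ ∈ sigma M := mem_sigma_of_dvd hℓ hdS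
    refine Subgroup.le_centralizer_iff.mp (le_centralizer_of_fix (p := ℓ) (q := r) (r := p) hp.out (ne_two_of_dvd hG (sigma_dvd hℓσ))
      (ne_two_of_dvd hG (h.card ▸ Subgroup.card_subgroup_dvd_card R)) (fun e => h.tau3.2.1 (e ▸ hℓσ))
      (fun e => hpt.2.1 (e ▸ hℓσ)) hpr.symm hRp hP hS hPN (le_sup_right.trans hKS) (le_sup_left.trans hKS) hRP
      fun y hy hyP _ => ?_)
    exact Subgroup.le_centralizer_iff.mp hRD ⟨hSσ hy, hCP hyP⟩
  refine (h.ne hG hpl) ((hM.le_iff_eq hH.1).mp fun m hm => ?_)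
  obtain ⟨e, he, d, hd', rfl⟩ := h.compl.2.2.2 m hm
  exact H.mul_mem (hEH he) (hσH hd')

end Cfsg.Agent.OddLocal.Sigma
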