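import Cfsg.Agent.OddLocal.Sigma.Tau3Prime
import Cfsg.Agent.OddLocal.Sigma.CountPartition

/-! Elements of prime order `r ∈ τ₃(M)` act regularly on `M_σ` (BG 13.10, 14.7). -/

set_option autoImplicit false
set_option linter.style.haveILetI false
set_option linter.unusedSectionVars false

namespace Cfsg.Agent.OddLocal.Sigma

open Cfsg
open scoped commutatorElement

variable {G : Type*} [Group G] [Finite G]

/-- A maximal subgroup over `M ∩ H` attached to some `P ≤ E` of order in `τ₁(M)`. -/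
def Good (M H E L : Subgroup G) : Prop :=
  IsCoatom L ∧ M ⊓ H ≤ L ∧ (∃ F : Subgroup G, IsComplIn F (sigmaCore L) L ∧ F ≤ M ⊓ H) ∧
    ∃ (p : ℕ) (P : Subgroup G), p.Prime ∧ p ∈ tau1 M ∧ Nat.card P = p ∧ P ≤ E ∧ p ∈ sigma L ∧
      Subgroup.centralizer (P : Set G) ≤ L

variable (hG : IsMinSimpleOddOrder G)
include hG
variable (hpl : ∀ (p : ℕ) [Fact p.Prime] (H : Subgroup G), H ≠ ⊤ → PLengthLE p 1 H)
include hpl

/-- If no prime-order element of `E'` acts regularly, `τ₁`-elements of prime order are central in `E`. -/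
theorem tau1_central {M E : Subgroup G} (hM : IsCoatom M) (hE : IsComplIn E (sigmaCore M) M) (h2 : tau2 M = ∅)
    (hnon : ∀ (q : ℕ), q.Prime → ∀ u ∈ ⁅E, E⁆, orderOf u = q →
      sigmaCore M ⊓ Subgroup.centralizer (Subgroup.zpowers u : Set G) ≠ ⊥)
    {p : ℕ} [hp : Fact p.Prime] (hpt : p ∈ tau1 M) {P : Subgroup G} (hP : Nat.card P = p) (hPE : P ≤ E) :
    P ≤ Subgroup.centralizer (E : Set G) := by
  have hD : P ≤ Subgroup.centralizer ((⁅E, E⁆ : Subgroup G) : Set G) := by
    refine le_centralizer_derived hG hM hE hPE (by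
      rw [hP]
      exact hp.out.coprime_iff_not_dvd.mpr fun hd =>
        hpt.2.2.2.1 (hd.trans (Subgroup.card_dvd_of_le (Subgroup.commutator_mono hE.1 hE.1)))) ?_
    intro q hq u hu huq x hx
    haveI := Fact.mk hq
    have hQ : Nat.card (Subgroup.zpowers u) = q := by rw [Nat.card_zpowers, huq]
    have hQE : Subgroup.zpowers u ≤ ⁅E, E⁆ := Subgroup.zpowers_le.mpr hu
    have hqτ : q ∈ tau3 M := mem_tau3_of_dvd_derived hG hM hE h2 hq (hQ ▸ Subgroup.card_dvd_of_le hQE)
    obtain ⟨H, hH, hNH⟩ := (eq_top_or_exists_le_coatom (Subgroup.normalizer (Subgroup.zpowers u : Set G))).resolve_left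
      (Core.BG.normalizer_ne_top_of_isPGroup hG (ne_bot_of_card_prime hQ) (isPGroup_of_card_prime hQ))
    have hT : T3 M H E (Subgroup.zpowers u) q :=
      ⟨hM, hH, hE, hqτ, hQ, hQE.trans (derived_le_self E), hNH, hnon q hq u hu huq⟩
    exact (Subgroup.mem_centralizer_iff.mp (hT.tau1_centralizes hG hpl hpt hP hPE hx) u
      (Subgroup.mem_zpowers u)).symm
  intro x hx
  refine Subgroup.mem_centralizer_iff.mpr fun e he => ?_
  obtain ⟨a, ha, c, hc, rfl⟩ := compl_eq_derived_mul_centralizer hG hM hE hpt hP hPE he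
  have h1 : a * x = x * a := Subgroup.mem_centralizer_iff.mp (hD hx) a ha
  have h3 : x * c = c * x := Subgroup.mem_centralizer_iff.mp hc.2 x hx
  rw [mul_assoc, ← h3, ← mul_assoc, h1, mul_assoc]

/-- The primes of `E'` do not act regularly. -/
theorem T3.derived_nonreg {M H E R : Subgroup G} {r : ℕ} [hr : Fact r.Prime] (h : T3 M H E R r) :
    ∀ (q : ℕ), q.Prime → ∀ u ∈ ⁅E, E⁆, orderOf u = q →
      sigmaCore M ⊓ Subgroup.centralizer (Subgroup.zpowers u : Set G) ≠ ⊥ := by
  intro q hq u hu huq hbot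
  haveI := Fact.mk hq
  have hQ : Nat.card (Subgroup.zpowers u) = q := by rw [Nat.card_zpowers, huq]
  have hQE : Subgroup.zpowers u ≤ ⁅E, E⁆ := Subgroup.zpowers_le.mpr hu
  have hqτ : q ∈ Cfsg.tau3 M :=
    mem_tau3_of_dvd_derived hG h.coatom h.compl (h.tau2_empty hG hpl) hq (hQ ▸ Subgroup.card_dvd_of_le hQE)
  have hEH := h.compl_le hG
  refine h.inter_ne_bot (le_bot_iff.mp ((le_inf inf_le_left (Subgroup.le_centralizer_iff.mp ?_)).trans hbot.le))
  exact le_centralizer_sigmaCore_inf hG hpl h.coatom h.coatomH (h.nc hG hpl) hqτ.2.1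
    (fun ht => ht.2.2.2.1 (hQ ▸ Subgroup.card_dvd_of_le (hQE.trans (Subgroup.commutator_mono hEH hEH))))
    (isPGroup_of_card_prime hQ)
    (le_inf ((hQE.trans (derived_le_self E)).trans h.compl.1) ((hQE.trans (derived_le_self E)).trans hEH))

theorem T3.tau1_central {M H E R : Subgroup G} {r : ℕ} [hr : Fact r.Prime] (h : T3 M H E R r) {p : ℕ}
    [hp : Fact p.Prime] (hpt : p ∈ tau1 M) {P : Subgroup G} (hP : Nat.card P = p) (hPE : P ≤ E) :
    P ≤ Subgroup.centralizer (E : Set G) :=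
  Sigma.tau1_central hG hpl h.coatom h.compl (h.tau2_empty hG hpl) (h.derived_nonreg hG hpl) hpt hP hPE

/-- `E` centralizes `M_σ ∩ H`. -/
theorem T3.compl_centralizes {M H E R : Subgroup G} {r : ℕ} [hr : Fact r.Prime] (h : T3 M H E R r) :
    E ≤ Subgroup.centralizer ((sigmaCore M ⊓ H : Subgroup G) : Set G) := by
  refine Core.le_of_forall_exists_sylow_le fun q hq => ?_
  haveI := Fact.mk hq
  let Q₀ : Sylow q E := default
  refine ⟨Q₀, ?_⟩
  intro e he
  have hEH := h.compl_le hG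
  have hep : IsPGroup q (Subgroup.zpowers e) := (Q₀.isPGroup'.map _).to_le (Subgroup.zpowers_le.mpr he)
  have heE : e ∈ E := Subgroup.map_subtype_le _ he
  by_cases he1 : e = 1
  · exact he1 ▸ one_mem _
  have hqE : q ∣ Nat.card E := (dvd_card_of_ne_bot hep fun e0 => he1 (Subgroup.zpowers_eq_bot.mp e0)).trans
    (Subgroup.card_dvd_of_le (Subgroup.zpowers_le.mpr heE))
  have hqM : q ∉ sigma M := complIn_notMem_sigma hG h.coatom h.compl hq hqE
  have hIle : Subgroup.zpowers e ≤ M ⊓ H := le_inf (Subgroup.zpowers_le.mpr (h.compl.1 heE))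
    (Subgroup.zpowers_le.mpr (hEH heE))
  by_cases hqH : q ∈ tau1 H
  swap
  · exact le_centralizer_sigmaCore_inf hG hpl h.coatom h.coatomH (h.nc hG hpl) hqM hqH hep hIle
      (Subgroup.mem_zpowers e)
  have hqt : q ∈ tau1 M := by
    rcases mem_classes hG h.coatom hq (hqE.trans (Subgroup.card_dvd_of_le h.compl.1)) with hc | hc | hc | hc
    · exact absurd hc hqM
    · exact hc
    · exact absurd hc ((Set.eq_empty_iff_forall_notMem.mp (h.tau2_empty hG hpl)) q)
    · exact absurd ((dvd_card_of_ne_bot hep fun e0 => he1 (Subgroup.zpowers_eq_bot.mp e0)).trans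
        (Subgroup.card_dvd_of_le ((tau3_le_compl_derived hG h.compl hc hep (Subgroup.zpowers_le.mpr heE)).trans
          (Subgroup.commutator_mono hEH hEH)))) hqH.2.2.2.1
  obtain ⟨v, hv⟩ := exists_prime_orderOf_dvd_card' (G := Subgroup.zpowers e) q
    (dvd_card_of_ne_bot hep fun e0 => he1 (Subgroup.zpowers_eq_bot.mp e0))
  set P := Subgroup.zpowers (v : G) with hPdef
  have hP : Nat.card P = q := by rw [Nat.card_zpowers, Subgroup.orderOf_coe, hv]
  have hPe : P ≤ Subgroup.zpowers e := Subgroup.zpowers_le.mpr v.2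
  have hPE : P ≤ E := hPe.trans (Subgroup.zpowers_le.mpr heE)
  have heP : Subgroup.zpowers e ≤ Subgroup.centralizer (P : Set G) :=
    (Subgroup.le_centralizer_iff_isMulCommutative.mpr inferInstance).trans (Subgroup.centralizer_le hPe)
  exact Subgroup.centralizer_le
    (le_inf inf_le_left (Subgroup.le_centralizer_iff.mp (h.tau1_le_centralizer hG hpl hqt hP hPE)))
    (cent_tau1_pGroup hG hpl h.coatom hqt hP (hPE.trans h.compl.1) hqM hep (Subgroup.zpowers_le.mpr (h.compl.1 heE))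
      heP (Subgroup.mem_zpowers e))

/-- A complement of `H_σ` lies in `M`, and some `P ≤ E` of order `s ∈ τ₁(M) ∩ σ(H)` has `C(P) ≤ H` only. -/
theorem T3.exists_good_data {M H E R : Subgroup G} {r : ℕ} [hr : Fact r.Prime] (h : T3 M H E R r) :
    (∃ F : Subgroup G, IsComplIn F (sigmaCore H) H ∧ F ≤ M ⊓ H) ∧
      ∃ (s : ℕ) (P : Subgroup G), s.Prime ∧ s ∈ tau1 M ∧ Nat.card P = s ∧ P ≤ E ∧ s ∈ sigma H ∧
        Subgroup.centralizer (P : Set G) ≤ H ∧ Only H (Subgroup.centralizer (P : Set G)) := by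
  have hM := h.coatom
  have hH := h.coatomH
  have hEH := h.compl_le hG
  have hnc := h.nc hG hpl
  have hRM : R ≤ M := h.le.trans h.compl.1
  have hRσ := h.le_sigmaCore_H hG hpl
  have hRD := h.le_cent hG hpl
  have hED := h.compl_centralizes hG hpl
  obtain ⟨s, y, hs, hsM, hyE, hy, hyR⟩ := h.exists_mover hG hpl
  haveI := Fact.mk hs
  have hyE' : Subgroup.zpowers y ≤ E := Subgroup.zpowers_le.mpr hyE
  obtain ⟨v, hv⟩ := exists_prime_orderOf_dvd_card' (G := Subgroup.zpowers y) s (dvd_card_of_ne_bot hy fun e => hyR (by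
    rw [Subgroup.zpowers_eq_bot.mp e]; exact one_mem _))
  set P := Subgroup.zpowers (v : G) with hPdef
  have hP : Nat.card P = s := by rw [Nat.card_zpowers, Subgroup.orderOf_coe, hv]
  have hPy : P ≤ Subgroup.zpowers y := Subgroup.zpowers_le.mpr v.2
  have hPE : P ≤ E := hPy.trans hyE'
  have hyP : Subgroup.zpowers y ≤ Subgroup.centralizer (P : Set G) :=
    (Subgroup.le_centralizer_iff_isMulCommutative.mpr inferInstance).trans (Subgroup.centralizer_le hPy)
  have hsτ : s ∉ tau1 H := fun hsH => hyR (Subgroup.centralizer_le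
    (le_inf hRσ (Subgroup.le_centralizer_iff.mp (h.tau1_centralizes hG hpl hsM hP hPE)))
    (cent_tau1_pGroup hG hpl hH hsH hP (hPE.trans hEH) hsH.2.1 hy (hyE'.trans hEH) hyP (Subgroup.mem_zpowers y)))
  obtain ⟨t, ht, hd⟩ := Nat.exists_prime_and_dvd fun e => h.inter_ne_bot (Subgroup.eq_bot_of_card_eq _ e)
  haveI := Fact.mk ht
  obtain ⟨x₀, hx₀⟩ := exists_prime_orderOf_dvd_card' t hd
  set x : G := (x₀ : G) with hxdef
  have hxo : orderOf x = t := by rw [hxdef, Subgroup.orderOf_coe, hx₀]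
  set X := Subgroup.zpowers x with hXdef
  have hX : Nat.card X = t := by rw [Nat.card_zpowers, hxo]
  have hXD : X ≤ sigmaCore M ⊓ H := Subgroup.zpowers_le.mpr x₀.2
  have hXH : X ≤ H := hXD.trans inf_le_right
  obtain ⟨hCX, honly⟩ := only_centralizer_tau1_fixed hG hpl hM hsM hP (hPE.trans h.compl.1) hX
    (le_inf (hXD.trans inf_le_left) (hXD.trans (Subgroup.le_centralizer_iff.mp (hPE.trans hED))))
  have hNX : Subgroup.normalizer (X : Set G) ≤ M := (honly.mono (Subgroup.centralizer_le_normalizer _)).le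
    (Core.BG.normalizer_ne_top_of_isPGroup hG (ne_bot_of_card_prime hX) (isPGroup_of_card_prime hX))
  have htM : t ∈ sigma M := mem_sigma_of_dvd ht (hX ▸ Subgroup.card_dvd_of_le (hXD.trans inf_le_left))
  have htH : t ∉ sigma H := sigma_disjoint hG hpl hM hH hnc htM
  have hRX : R ≤ Subgroup.centralizer (X : Set G) := hRD.trans (Subgroup.centralizer_le hXD)
  have hyX : Subgroup.zpowers y ≤ Subgroup.centralizer (X : Set G) :=
    (hyE'.trans hED).trans (Subgroup.centralizer_le hXD)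
  -- `s ∈ σ(H)`
  have hsH : s ∈ sigma H := by
    by_contra hsH
    have hts : s ≠ t := fun e => hsM.2.1 (e.symm ▸ htM)
    rcases mem_classes hG hH ht (hX ▸ Subgroup.card_dvd_of_le hXH) with hc | hc | hc | hc
    · exact htH hc
    · exact hyR (Subgroup.centralizer_le (le_inf hRσ hRX)
        (cent_tau1_pGroup hG hpl hH hc hX hXH hsH hy (hyE'.trans hEH) hyX (Subgroup.mem_zpowers y)))
    · obtain ⟨F, hF, hXF⟩ := exists_compl_ge hG hH hXH (fun q hq hd' => eq_prime_of_dvd_card hX hq hd' ▸ htH)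
      obtain ⟨ρ, hρ, hρ1⟩ := R.bot_or_exists_ne_one.resolve_left (ne_bot_of_card_prime h.card)
      obtain ⟨hCx, -⟩ := only_centralizer_of_tau2 hG hpl hH hF (hXH (Subgroup.mem_zpowers x))
        (fun e => ht.one_lt.ne (by rw [← hxo, e, orderOf_one]))
        (fun q hq hd' => by rw [hxo] at hd'; rwa [(Nat.prime_dvd_prime_iff_eq hq ht).mp hd'])
        ⟨hXH (Subgroup.mem_zpowers x), ρ, hRσ hρ, hρ1,
          Subgroup.mem_centralizer_iff.mp (hRX hρ) x (Subgroup.mem_zpowers x)⟩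
      rw [centralizer_singleton_eq (rfl : Subgroup.zpowers x = X)] at hCx
      exact h.ne hG hpl (honly H hH hCx)
    · obtain ⟨F, hF, hKF⟩ := exists_compl_ge hG hH (sup_le hXH (hyE'.trans hEH) : X ⊔ Subgroup.zpowers y ≤ H)
        (fun q hq hd' => by
          rw [Coprime.card_sup (hyX.trans (Subgroup.centralizer_le_normalizer _)) (Coprime.inf_eq_bot_of_coprime
            (coprime_of_pGroups hts hy (isPGroup_of_card_prime hX)))] at hd'
          rcases hq.dvd_mul.mp hd' with h1 | h1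
          · exact eq_prime_of_dvd_card hX hq h1 ▸ htH
          · exact mem_of_pGroup hy (π := (sigma H)ᶜ) hsH q hq h1)
      have hFM : F ≤ M := (tau3_normal hG hH hF hc hX (le_sup_left.trans hKF)).trans hNX
      have hsd : s ∣ Nat.card (Subgroup.zpowers y) := hP ▸ Subgroup.card_dvd_of_le hPy
      rcases mem_classes hG hH hs (hP ▸ Subgroup.card_dvd_of_le (hPE.trans hEH)) with hc' | hc' | hc' | hc'
      · exact hsH hc'
      · exact hsτ hc'
      · obtain ⟨A, hAF, hAe, hA2⟩ := exists_ea_le_compl hG hF hc'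
        exact not_pRankLE_of_ea hAe (hAF.trans hFM) (hA2 ▸ Nat.pow_lt_pow_right hs.one_lt one_lt_two) hsM.2.2.2.2
      · exact hsM.2.2.2.1 (hsd.trans (Subgroup.card_dvd_of_le ((tau3_le_compl_derived hG hF hc' hy
          (le_sup_right.trans hKF)).trans (Subgroup.commutator_mono hFM hFM))))
  -- a complement of `H_σ` in `M`
  have hPσ : P ≤ sigmaCore H := le_sigmaCore hG hH (hPE.trans hEH) (mem_of_pGroup (isPGroup_of_card_prime hP) hsH)
  obtain ⟨F, hF, hXF⟩ := exists_compl_ge hG hH hXH (fun q hq hd' => eq_prime_of_dvd_card hX hq hd' ▸ htH)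
  have hsr : s ≠ r := fun e => hsM.2.2.2.1 (e ▸ h.tau3.2.2.1)
  have hyσ : Subgroup.zpowers y ≤ sigmaCore H :=
    le_sigmaCore hG hH (hyE'.trans hEH) (mem_of_pGroup hy hsH)
  have hnil : ¬ Group.IsNilpotent (sigmaCore H) := fun hn => hyR (Subgroup.mem_centralizer_iff.mpr fun ρ hρ => by
    refine Cfsg.Agent.OddLocal.CN.commute_of_coprime hn (hRσ hρ) (hyσ (Subgroup.mem_zpowers y)) ?_
    rw [← Nat.card_zpowers y]
    exact Nat.Coprime.coprime_dvd_left (Subgroup.orderOf_dvd_natCard R hρ)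
      (coprime_of_pGroups hsr.symm (isPGroup_of_card_prime h.card) hy))
  have hτ2 : tau2 H = ∅ := Set.eq_empty_iff_forall_notMem.mpr fun q hq => by
    haveI := Fact.mk hq.1
    obtain ⟨A, hAF, hAe, hA2⟩ := exists_ea_le_compl hG hF hq
    exact hnil (tau2_facts hG hpl hH hq ⟨hAF.trans hF.1, hAe, hA2⟩).1
  have hFM : F ≤ M := by
    rcases mem_classes hG hH ht (hX ▸ Subgroup.card_dvd_of_le hXH) with hc | hc | hc | hc
    · exact absurd hc htH
    · refine (Subgroup.le_centralizer_iff.mp (Sigma.tau1_central hG hpl hH hF hτ2 ?_ hc hX hXF)).trans hCX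
      intro q hq u hu huq hbot
      refine hnil (Core.BG.isNilpotent_of_fpf_prime hq huq
        (le_normalizer_sigmaCore H (hF.1 (derived_le_self F hu))) ?_)
      rwa [centralizer_singleton_eq rfl]
    · exact absurd hc ((Set.eq_empty_iff_forall_notMem.mp hτ2) t)
    · exact (tau3_normal hG hH hF hc hX hXF).trans hNX
  exact ⟨⟨F, hF, le_inf hFM hF.1⟩, s, P, hs, hsM, hP, hPE, hsH,
    (sigma_order_p hG hpl hH hsH (hPE.trans hEH) hP (Or.inr (le_derived_of_compl_fixed hG hpl hH hF hP hPσ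
      (hPE.trans h.compl.1) hFM hsM.2.2.2.1))).1⟩

omit hG hpl in
theorem T3.inter_le {M H E R : Subgroup G} {r : ℕ} [hr : Fact r.Prime] (h : T3 M H E R r) (hEH : E ≤ H)
    {L : Subgroup G} (hEL : E ≤ L) (hD : sigmaCore M ⊓ H ≤ L) : M ⊓ H ≤ L := fun g hg => by
  obtain ⟨e, he, d, hd, rfl⟩ := h.exists_mul hEH hg.1 hg.2
  exact L.mul_mem (hEL he) (hD hd)

/-- Every `P ≤ E` of order in `τ₁(M)` gives a member of the family. -/
theorem T3.exists_good {M H E R : Subgroup G} {r : ℕ} [hr : Fact r.Prime] (h : T3 M H E R r) {p : ℕ}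
    [hp : Fact p.Prime] (hpt : p ∈ tau1 M) {P : Subgroup G} (hP : Nat.card P = p) (hPE : P ≤ E) :
    ∃ L : Subgroup G, Good M H E L ∧ p ∈ sigma L ∧ Subgroup.centralizer (P : Set G) ≤ L := by
  have hM := h.coatom
  have hH := h.coatomH
  have hEH := h.compl_le hG
  have hPH : P ≤ H := hPE.trans hEH
  have hPM : P ≤ M := hPE.trans h.compl.1
  obtain ⟨⟨F, hF, hFI⟩, -⟩ := h.exists_good_data hG hpl
  by_cases hpH : p ∈ sigma H
  · have hC := (sigma_order_p hG hpl hH hpH hPH hP (Or.inr (le_derived_of_compl_fixed hG hpl hH hF hP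
      (le_sigmaCore hG hH hPH (mem_of_pGroup (isPGroup_of_card_prime hP) hpH)) hPM (hFI.trans inf_le_left)
      hpt.2.2.2.1))).1.1
    exact ⟨H, ⟨hH, inf_le_right, ⟨F, hF, hFI⟩, p, P, hp.out, hpt, hP, hPE, hpH, hC⟩, hpH, hC⟩
  have hFM : F ≤ M := hFI.trans inf_le_left
  have hpτ : p ∈ tau1 H := by
    rcases mem_classes hG hH hp.out (hP ▸ Subgroup.card_dvd_of_le hPH) with hc | hc | hc | hc
    · exact absurd hc hpH
    · exact hc
    · obtain ⟨A, hAF, hAe, hA2⟩ := exists_ea_le_compl hG hF hc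
      exact absurd hpt.2.2.2.2
        (not_pRankLE_of_ea hAe (hAF.trans hFM) (hA2 ▸ Nat.pow_lt_pow_right hp.out.one_lt one_lt_two))
    · exfalso
      obtain ⟨m, hm, hmF⟩ := exists_cj_le_compl hG hH hF hPH (fun q hq hd => eq_prime_of_dvd_card hP hq hd ▸ hpH)
      have hP' : Nat.card (cj m P) = p := by rw [card_cj, hP]
      exact hpt.2.2.2.1 (hP' ▸ Subgroup.card_dvd_of_le ((tau3_le_compl_derived hG hF hc
        (isPGroup_of_card_prime hP') hmF).trans (Subgroup.commutator_mono hFM hFM)))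
  obtain ⟨L, hL, hNL⟩ := (eq_top_or_exists_le_coatom (Subgroup.normalizer (P : Set G))).resolve_left
    (Core.BG.normalizer_ne_top_of_isPGroup hG (ne_bot_of_card_prime hP) (isPGroup_of_card_prime hP))
  have hCL : Subgroup.centralizer (P : Set G) ≤ L := (Subgroup.centralizer_le_normalizer _).trans hNL
  obtain ⟨hncH, hclH, -, -⟩ := normalizer_tau13 hG hpl hH hL (Or.inl hpτ) hP hNL
  obtain ⟨hncM, -, -, -⟩ := normalizer_tau13 hG hpl hM hL (Or.inl hpt) hP hNL
  have hEP : E ≤ Subgroup.centralizer (P : Set G) :=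
    Subgroup.le_centralizer_iff.mp (h.tau1_central hG hpl hpt hP hPE)
  have hZL : M ⊓ H ≤ L := h.inter_le hEH (hEP.trans hCL) ((Subgroup.le_centralizer_iff.mp
    (hPE.trans (h.compl_centralizes hG hpl))).trans hCL)
  have hRP : R ≤ Subgroup.centralizer (P : Set G) := h.le.trans hEP
  have hRL : R ≤ L := hRP.trans hCL
  have hRσ := h.le_sigmaCore_H hG hpl
  have hpL : p ∈ sigma L := by
    refine hclH.resolve_right fun hpL => ?_
    have hbot := inf_derived_eq_bot hG hpl hH hL hncH hpL (hP ▸ Subgroup.card_dvd_of_le hPH) hpH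
    exact ne_bot_of_card_prime h.card (le_bot_iff.mp ((le_inf (le_inf hRσ hRL)
      ((tau3_le_compl_derived hG h.compl h.tau3 (isPGroup_of_card_prime h.card) h.le).trans
        (Subgroup.commutator_mono (hEP.trans hCL) (hEP.trans hCL)))).trans hbot.le))
  have hrH := h.mem_sigma hG hpl
  have hrL : r ∈ Cfsg.tau3 L := by
    have hr3 : r ∣ Nat.card ↥⁅L, L⁆ := h.card ▸ Subgroup.card_dvd_of_le
      ((tau3_le_compl_derived hG h.compl h.tau3 (isPGroup_of_card_prime h.card) h.le).trans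
        (Subgroup.commutator_mono (hEP.trans hCL) (hEP.trans hCL)))
    rcases mem_classes hG hL hr.out (h.card ▸ Subgroup.card_dvd_of_le hRL) with hc | hc | hc | hc
    · exact absurd hc (sigma_disjoint hG hpl hH hL hncH hrH)
    · exact absurd hr3 hc.2.2.2.1
    · exfalso
      obtain ⟨FL, hFL, -⟩ := exists_compl_ge hG hL hRL (fun q hq hd => eq_prime_of_dvd_card h.card hq hd ▸ hc.2.1)
      obtain ⟨ρ, hρ, hρ1⟩ := R.bot_or_exists_ne_one.resolve_left (ne_bot_of_card_prime h.card)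
      obtain ⟨π, hπ, hπ1⟩ := P.bot_or_exists_ne_one.resolve_left (ne_bot_of_card_prime hP)
      have hPL : P ≤ L := Subgroup.le_normalizer.trans hNL
      have hZρ : Subgroup.zpowers ρ = R := zpowers_eq_of_card_prime h.card hρ hρ1
      obtain ⟨-, honlyρ⟩ := only_centralizer_of_tau2 hG hpl hL hFL (hRL hρ) hρ1
        (fun q hq hd => by
          rwa [eq_prime_of_dvd_card h.card hq (hd.trans (Subgroup.orderOf_dvd_natCard R hρ))])
        ⟨hRL hρ, π, le_sigmaCore hG hL hPL (mem_of_pGroup (isPGroup_of_card_prime hP) hpL) hπ, hπ1,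
          (Subgroup.mem_centralizer_iff.mp (hRP hρ) π hπ).symm⟩
      exact hncH 1 (by
        rw [cj_one]
        exact (honlyρ H hH (by rw [centralizer_singleton_eq hZρ]; exact h.centralizer_le)).symm)
    · exact hc
  -- `L` with `H` is a configuration of the same type
  obtain ⟨t, ht, hd⟩ := Nat.exists_prime_and_dvd fun e => h.inter_ne_bot (Subgroup.eq_bot_of_card_eq _ e)
  haveI := Fact.mk ht
  obtain ⟨x₀, hx₀⟩ := exists_prime_orderOf_dvd_card' t hd
  set X := Subgroup.zpowers (x₀ : G) with hXdef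
  have hX : Nat.card X = t := by rw [Nat.card_zpowers, Subgroup.orderOf_coe, hx₀]
  have hXD : X ≤ sigmaCore M ⊓ H := Subgroup.zpowers_le.mpr x₀.2
  have hXL : X ≤ L := (le_inf ((hXD.trans inf_le_left).trans (sigmaCore_le M)) (hXD.trans inf_le_right)).trans hZL
  have htM : t ∈ sigma M := mem_sigma_of_dvd ht (hX ▸ Subgroup.card_dvd_of_le (hXD.trans inf_le_left))
  have htL : t ∉ sigma L := sigma_disjoint hG hpl hM hL hncM htM
  have hRX : R ≤ Subgroup.centralizer (X : Set G) := (h.le_cent hG hpl).trans (Subgroup.centralizer_le hXD)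
  have hrt : r ≠ t := fun e => h.tau3.2.1 (e.symm ▸ htM)
  obtain ⟨EL, hEL, hKE⟩ := exists_compl_ge hG hL (sup_le hXL hRL : X ⊔ R ≤ L) (fun q hq hd' => by
    rw [Coprime.card_sup (hRX.trans (Subgroup.centralizer_le_normalizer _)) (Coprime.inf_eq_bot_of_coprime
      (coprime_of_pGroups hrt (isPGroup_of_card_prime h.card) (isPGroup_of_card_prime hX)))] at hd'
    rcases hq.dvd_mul.mp hd' with h1 | h1
    · exact eq_prime_of_dvd_card hX hq h1 ▸ htL
    · exact eq_prime_of_dvd_card h.card hq h1 ▸ hrL.2.1)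
  have hPL : P ≤ L := Subgroup.le_normalizer.trans hNL
  have hT : T3 L H EL R r := ⟨hL, hH, hEL, hrL, h.card, le_sup_right.trans hKE, h.norm, fun e =>
    ne_bot_of_card_prime hP (le_bot_iff.mp (e ▸ le_inf
      (le_sigmaCore hG hL hPL (mem_of_pGroup (isPGroup_of_card_prime hP) hpL)) (Subgroup.le_centralizer_iff.mp hRP)))⟩
  obtain ⟨hCX, honlyX⟩ := only_centralizer_tau1_fixed hG hpl hM hpt hP hPM hX (le_inf (hXD.trans inf_le_left)
    (hXD.trans (Subgroup.le_centralizer_iff.mp (hPE.trans (h.compl_centralizes hG hpl)))))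
  have hNX : Subgroup.normalizer (X : Set G) ≤ M := (honlyX.mono (Subgroup.centralizer_le_normalizer _)).le
    (Core.BG.normalizer_ne_top_of_isPGroup hG (ne_bot_of_card_prime hX) (isPGroup_of_card_prime hX))
  have hELM : EL ≤ M := by
    have hXEL : X ≤ EL := le_sup_left.trans hKE
    rcases mem_classes hG hL ht (hX ▸ Subgroup.card_dvd_of_le hXL) with hc | hc | hc | hc
    · exact absurd hc htL
    · exact (Subgroup.le_centralizer_iff.mp (hT.tau1_central hG hpl hc hX hXEL)).trans hCX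
    · exact absurd hc ((Set.eq_empty_iff_forall_notMem.mp (hT.tau2_empty hG hpl)) t)
    · exact (tau3_normal hG hL hEL hc hX hXEL).trans hNX
  exact ⟨L, ⟨hL, hZL, ⟨EL, hEL, le_inf hELM (hT.compl_le hG)⟩, p, P, hp.out, hpt, hP, hPE, hpL, hCL⟩, hpL, hCL⟩

/-- Members of the family sharing a prime are equal. -/
theorem good_eq {M H E L L' : Subgroup G} (hE : E ≤ M ⊓ H) (hL : Good M H E L) (hL' : Good M H E L') {q : ℕ}
    [hq : Fact q.Prime] (hqL : q ∈ sigma L) (hqL' : q ∈ sigma L') : L = L' := by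
  by_cases hconj : ∀ g : G, L' ≠ cj g L
  · exact absurd hqL' (sigma_disjoint hG hpl hL.1 hL'.1 hconj hqL)
  push Not at hconj
  obtain ⟨g, rfl⟩ := hconj
  obtain ⟨p, P, hp, -, hP, hPE, hpL, hCP⟩ := hL.2.2.2
  haveI := Fact.mk hp
  obtain ⟨c, hc, e⟩ := transitive hG hL.1 hpL _ P le_rfl (isPGroup_of_card_prime hP) (ne_bot_of_card_prime hP) 1 g
    (by rw [cj_one]; exact (hPE.trans hE).trans hL.2.1) ((hPE.trans hE).trans hL'.2.1)
  rw [cj_one, cj_eq_iff.mpr (Subgroup.le_normalizer (hCP hc))] at e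
  exact e.symm

/-- Every subgroup of prime order of `E` has its centralizer in a member of the family. -/
theorem T3.exists_cover {M H E R : Subgroup G} {r : ℕ} [hr : Fact r.Prime] (h : T3 M H E R r) {q : ℕ}
    [hq : Fact q.Prime] {Q : Subgroup G} (hQ : Nat.card Q = q) (hQE : Q ≤ E) :
    ∃ L : Subgroup G, Good M H E L ∧ q ∈ sigma L ∧ Subgroup.centralizer (Q : Set G) ≤ L := by
  have hM := h.coatom
  have hQM : Q ≤ M := hQE.trans h.compl.1
  rcases mem_classes hG hM hq.out (hQ ▸ Subgroup.card_dvd_of_le hQM) with hc | hc | hc | hc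
  · exact absurd hc (complIn_notMem_sigma hG hM h.compl hq.out (hQ ▸ Subgroup.card_dvd_of_le hQE))
  · exact h.exists_good hG hpl hc hQ hQE
  · exact absurd hc ((Set.eq_empty_iff_forall_notMem.mp (h.tau2_empty hG hpl)) q)
  have hQD : Q ≤ Subgroup.centralizer ((sigmaCore M ⊓ H : Subgroup G) : Set G) :=
    hQE.trans (h.compl_centralizes hG hpl)
  obtain ⟨HQ, hHQ, hNQ⟩ := (eq_top_or_exists_le_coatom (Subgroup.normalizer (Q : Set G))).resolve_left
    (Core.BG.normalizer_ne_top_of_isPGroup hG (ne_bot_of_card_prime hQ) (isPGroup_of_card_prime hQ))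
  have hT : T3 M HQ E Q q := ⟨hM, hHQ, h.compl, hc, hQ, hQE, hNQ, fun e => h.inter_ne_bot
    (le_bot_iff.mp (e ▸ le_inf inf_le_left (Subgroup.le_centralizer_iff.mp hQD)))⟩
  obtain ⟨-, s, P, hs, hsM, hP, hPE, hsQ, -, honly⟩ := hT.exists_good_data hG hpl
  haveI := Fact.mk hs
  obtain ⟨L, hL, -, hCL⟩ := h.exists_good hG hpl hsM hP hPE
  obtain rfl : L = HQ := honly L hL.1 hCL
  exact ⟨L, hL, hT.mem_sigma hG hpl, hT.centralizer_le⟩

/-- Thirteen point ten: `τ₃`-elements of prime order act regularly. -/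
theorem tau3_regular {M : Subgroup G} (hM : IsCoatom M) {r : ℕ} [hr : Fact r.Prime] (hrτ : r ∈ tau3 M)
    {R : Subgroup G} (hR : Nat.card R = r) (hRM : R ≤ M) :
    sigmaCore M ⊓ Subgroup.centralizer (R : Set G) = ⊥ := by
  classical
  by_contra hne
  obtain ⟨H, E, h, -⟩ := exists_T3 hG hM hrτ hR le_rfl hRM
    (fun q hq hd => eq_prime_of_dvd_card hR hq hd ▸ hrτ.2.1) hne
  haveI : Fintype (Subgroup G) := Fintype.ofFinite _
  have hH := h.coatomH
  have hEH := h.compl_le hG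
  have hEI : E ≤ M ⊓ H := le_inf h.compl.1 hEH
  have hED := h.compl_centralizes hG hpl
  obtain ⟨⟨F, hF, hFI⟩, s, P₂, hs, hsM, hP₂, hP₂E, hsH, hCP₂, -⟩ := h.exists_good_data hG hpl
  haveI := Fact.mk hs
  have hHgood : Good M H E H := ⟨hH, inf_le_right, ⟨F, hF, hFI⟩, s, P₂, hs, hsM, hP₂, hP₂E, hsH, hCP₂⟩
  have hncM : ∀ L : Subgroup G, Good M H E L → ∀ g : G, L ≠ cj g M := by
    rintro L ⟨-, -, -, p, P, hp, hpt, -, -, hpL, -⟩ g rfl
    haveI := Fact.mk hp
    exact hpt.2.1 (mem_sigma_of_cj hG hpL)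
  have hD : ∀ {u : G}, u ∈ M ⊓ H → (∀ q : ℕ, q.Prime → q ∣ orderOf u → q ∉ sigma M) → u ∈ E := by
    intro u hu huo
    obtain ⟨e, he, d, hd, rfl⟩ := h.exists_mul hEH hu.1 hu.2
    have hcomm : Commute d e := Subgroup.mem_centralizer_iff.mp (hED he) d hd
    have hcop : (orderOf d).Coprime (orderOf e) := Nat.coprime_of_dvd fun q hq h1 h2 =>
      complIn_notMem_sigma hG hM h.compl hq (h2.trans (Subgroup.orderOf_dvd_natCard E he))
        (mem_sigma_of_dvd hq (h1.trans (Subgroup.orderOf_dvd_natCard _ hd.1)))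
    by_cases hd1 : d = 1
    · rw [hd1, mul_one]; exact he
    obtain ⟨q, hq, hqd⟩ := Nat.exists_prime_and_dvd (show orderOf d ≠ 1 by rwa [ne_eq, orderOf_eq_one_iff])
    refine absurd (mem_sigma_of_dvd hq (hqd.trans (Subgroup.orderOf_dvd_natCard _ hd.1))) (huo q hq ?_)
    rw [← hcomm.eq, hcomm.orderOf_mul_eq_mul_orderOf_of_coprime hcop]
    exact hqd.trans (dvd_mul_right _ _)
  set 𝓖 : Finset (Subgroup G) := Finset.univ.filter fun L => Good M H E L
  have hmem : ∀ {L : Subgroup G}, L ∈ insert M 𝓖 → L = M ∨ Good M H E L := fun {L} hL =>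
    (Finset.mem_insert.mp hL).imp id fun h' => (Finset.mem_filter.mp h').2
  have hgm : ∀ {L : Subgroup G}, Good M H E L → L ∈ insert M 𝓖 := fun {L} hL =>
    Finset.mem_insert_of_mem (Finset.mem_filter.mpr ⟨Finset.mem_univ _, hL⟩)
  have hMnotG : M ∉ 𝓖 := fun h' => hncM M (Finset.mem_filter.mp h').2 1 (cj_one M).symm
  have hsupL : ∀ {L : Subgroup G}, Good M H E L → ∀ g ∈ L, ∃ l ∈ sigmaCore L, ∃ z ∈ M ⊓ H, g = l * z := by
    rintro L ⟨-, -, ⟨FL, hFL, hFLI⟩, -⟩ g hg
    obtain ⟨a, ha, b, hb, rfl⟩ := hFL.2.2.2 g hg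
    exact ⟨a * b * a⁻¹, (Subgroup.mem_normalizer_iff.mp (le_normalizer_sigmaCore L (hFL.1 ha)) b).mp hb, a,
      hFLI ha, by group⟩
  refine no_covered_intersection hG hpl (Z := M ⊓ H) (𝓛 := insert M 𝓖) ?_ ?_ ?_ ?_ ?_ ?_ ?_ ?_ ?_
  · rw [Finset.card_insert_of_notMem hMnotG]
    have : 0 < 𝓖.card := Finset.card_pos.mpr ⟨H, Finset.mem_filter.mpr ⟨Finset.mem_univ _, hHgood⟩⟩
    omega
  · intro L hL
    rcases hmem hL with rfl | hG'
    exacts [hM, hG'.1]
  · intro L hL
    rcases hmem hL with rfl | hG'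
    exacts [inf_le_left, hG'.2.1]
  · intro L hL g hg
    rcases hmem hL with rfl | hG'
    · obtain ⟨e, he, d, hd, rfl⟩ := h.compl.2.2.2 g hg
      exact mul_mem (Subgroup.mem_sup_right (hEI he)) (Subgroup.mem_sup_left hd)
    · obtain ⟨l, hl, z, hz, rfl⟩ := hsupL hG' g hg
      exact mul_mem (Subgroup.mem_sup_left hl) (Subgroup.mem_sup_right hz)
  · intro L hL hle
    rcases hmem hL with rfl | hG'
    · refine h.ne hG hpl ((hM.le_iff_eq hH.1).mp fun g hg => ?_)
      obtain ⟨e, he, d, hd, rfl⟩ := h.compl.2.2.2 g hg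
      exact H.mul_mem (hEH he) (hle hd).2
    · refine hncM L hG' 1 ?_
      rw [cj_one]
      refine ((hG'.1.le_iff_eq hM.1).mp fun g hg => ?_).symm
      obtain ⟨l, hl, z, hz, rfl⟩ := hsupL hG' g hg
      exact M.mul_mem (hle hl).1 hz.1
  · intro L hL L' hL' hne' g hg
    rcases hmem hL with rfl | hG1
    · rcases hmem hL' with rfl | hG2
      · exact hne' rfl
      · exact hncM L' hG2 g hg
    · rcases hmem hL' with rfl | hG2
      · exact cj_nc (hncM L hG1) g hg
      · obtain ⟨p, P, hp, -, -, -, hpL, -⟩ := hG1.2.2.2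
        haveI := Fact.mk hp
        exact hne' (good_eq hG hpl hEI hG1 hG2 hpL (hg ▸ mem_sigma_cj hpL g))
  · intro q hq hqd
    haveI := Fact.mk hq
    by_cases hqM : q ∈ sigma M
    · exact ⟨M, Finset.mem_insert_self _ _, hqM⟩
    obtain ⟨u, hu⟩ := exists_prime_orderOf_dvd_card' q hqd
    have huE : (u : G) ∈ E := hD u.2 fun t ht hd => by
      rw [Subgroup.orderOf_coe, hu] at hd
      rwa [(Nat.prime_dvd_prime_iff_eq ht hq).mp hd]
    obtain ⟨L, hL, hqL, -⟩ := h.exists_cover hG hpl (Q := Subgroup.zpowers (u : G))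
      (by rw [Nat.card_zpowers, Subgroup.orderOf_coe, hu]) (Subgroup.zpowers_le.mpr huE)
    exact ⟨L, hgm hL, hqL⟩
  · intro L hL e he he1 c hc
    obtain ⟨q, hq, hd⟩ := Nat.exists_prime_and_dvd (show orderOf e ≠ 1 by rwa [ne_eq, orderOf_eq_one_iff])
    haveI := Fact.mk hq
    set u := e ^ (orderOf e / q) with hudef
    have huo : orderOf u = q := orderOf_pow_orderOf_div (orderOf_pos e).ne' hd
    have hQ : Nat.card (Subgroup.zpowers u) = q := by rw [Nat.card_zpowers, huo]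
    have hcu : c ∈ Subgroup.centralizer (Subgroup.zpowers u : Set G) := by
      rw [← centralizer_singleton_eq rfl, Subgroup.mem_centralizer_singleton_iff]
      exact ((show Commute c e from Subgroup.mem_centralizer_singleton_iff.mp hc).pow_right _).eq
    rcases hmem hL with rfl | hG'
    · have huD : u ∈ sigmaCore L ⊓ H := ⟨pow_mem he.1 _, H.pow_mem he.2.2 _⟩
      exact (only_centralizer_tau1_fixed hG hpl hM hsM hP₂ (hP₂E.trans h.compl.1) hQ
        (Subgroup.zpowers_le.mpr ⟨huD.1, Subgroup.le_centralizer_iff.mp (hP₂E.trans hED) huD⟩)).1 hcu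
    · have hqL : q ∈ sigma L := mem_sigma_of_dvd hq (hd.trans (Subgroup.orderOf_dvd_natCard _ he.1))
      have hqM : q ∉ sigma M := sigma_disjoint hG hpl hG'.1 hM (cj_nc (hncM L hG')) hqL
      have huE : u ∈ E := hD ((M ⊓ H).pow_mem he.2 _) fun t ht hdt => by
        rw [huo] at hdt
        rwa [(Nat.prime_dvd_prime_iff_eq ht hq).mp hdt]
      obtain ⟨L', hL', hqL', hCL'⟩ := h.exists_cover hG hpl hQ (Subgroup.zpowers_le.mpr huE)
      exact good_eq hG hpl hEI hL' hG' hqL' hqL ▸ hCL' hcu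
  · intro L hL L' hL' hne' g hg
    -- `M ∩ L ≤ H`
    have hML : ∀ {K : Subgroup G}, Good M H E K → M ⊓ K ≤ M ⊓ H := by
      intro K hK g hg
      obtain ⟨a, ha, m, hm, rfl⟩ := h.compl.2.2.2 g hg.1
      have hmK : m ∈ K := by
        have := K.mul_mem (K.inv_mem (hK.2.1 (hEI ha))) hg.2
        rwa [inv_mul_cancel_left] at this
      refine ⟨hg.1, H.mul_mem (hEH ha) ?_⟩
      obtain ⟨p, P, hp, hpt, hP, hPE, hpK, -⟩ := hK.2.2.2
      haveI := Fact.mk hp
      have hPK : P ≤ K := (hPE.trans hEI).trans hK.2.1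
      have hPσ : P ≤ sigmaCore K := le_sigmaCore hG hK.1 hPK (mem_of_pGroup (isPGroup_of_card_prime hP) hpK)
      have hbot : sigmaCore M ⊓ sigmaCore K = ⊥ := Coprime.inf_eq_bot_of_coprime (Nat.coprime_of_dvd
        fun t ht h1 h2 => by
          haveI := Fact.mk ht
          exact sigma_disjoint hG hpl hM hK.1 (hncM K hK) (mem_sigma_of_dvd ht h2) (mem_sigma_of_dvd ht h1))
      have hmP : m ∈ Subgroup.centralizer (P : Set G) := Subgroup.mem_centralizer_iff.mpr fun π hπ => by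
        have h1 : m * π * m⁻¹ * π⁻¹ ∈ sigmaCore M ⊓ sigmaCore K := Subgroup.mem_inf.mpr ⟨by
          rw [show m * π * m⁻¹ * π⁻¹ = m * (π * m⁻¹ * π⁻¹) by group]
          exact mul_mem hm ((Subgroup.mem_normalizer_iff.mp (le_normalizer_sigmaCore M
            (h.compl.1 (hPE hπ))) _).mp (inv_mem hm)),
          mul_mem ((Subgroup.mem_normalizer_iff.mp (le_normalizer_sigmaCore K hmK) π).mp (hPσ hπ))
            (inv_mem (hPσ hπ))⟩
        rw [hbot, Subgroup.mem_bot] at h1
        exact (mul_inv_eq_iff_eq_mul.mp (mul_inv_eq_one.mp h1)).symm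
      exact h.centralizer_le (cent_tau1_le hG hpl hM hpt hP (hPE.trans h.compl.1) h.card
        (h.le.trans h.compl.1) h.tau3.2.1
        (h.le.trans (Subgroup.le_centralizer_iff.mp (h.tau1_central hG hpl hpt hP hPE))) ⟨hm, hmP⟩).2
    rcases hmem hL with rfl | hG1
    · exact hML ((hmem hL').resolve_left (Ne.symm hne')) hg
    rcases hmem hL' with rfl | hG2
    · exact hML hG1 ⟨hg.2, hg.1⟩
    -- two members of the family
    suffices hgM : g ∈ M from hML hG1 ⟨hgM, hg.1⟩
    obtain ⟨l, hl, z, hz, rfl⟩ := hsupL hG1 g hg.1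
    refine M.mul_mem ?_ hz.1
    have hlL' : l ∈ L' := by
      have := L'.mul_mem hg.2 (L'.inv_mem (hG2.2.1 hz))
      rwa [mul_inv_cancel_right] at this
    obtain ⟨p, P, hp, hpt, hP, hPE, hpL', -⟩ := hG2.2.2.2
    haveI := Fact.mk hp
    have hPI : P ≤ M ⊓ H := hPE.trans hEI
    have hPL : P ≤ L := hPI.trans hG1.2.1
    have hpL : p ∉ sigma L := fun hp' => hne' (good_eq hG hpl hEI hG1 hG2 hp' hpL')
    have hPσ : P ≤ sigmaCore L' :=
      le_sigmaCore hG hG2.1 (hPI.trans hG2.2.1) (mem_of_pGroup (isPGroup_of_card_prime hP) hpL')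
    have hbot : sigmaCore L ⊓ sigmaCore L' = ⊥ := Coprime.inf_eq_bot_of_coprime (Nat.coprime_of_dvd
      fun t ht h1 h2 => by
        haveI := Fact.mk ht
        exact hne' (good_eq hG hpl hEI hG1 hG2 (mem_sigma_of_dvd ht h2) (mem_sigma_of_dvd ht h1)))
    have hlP : l ∈ Subgroup.centralizer (P : Set G) := Subgroup.mem_centralizer_iff.mpr fun π hπ => by
      have h1 : l * π * l⁻¹ * π⁻¹ ∈ sigmaCore L ⊓ sigmaCore L' := Subgroup.mem_inf.mpr ⟨by
        rw [show l * π * l⁻¹ * π⁻¹ = l * (π * l⁻¹ * π⁻¹) by group]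
        exact mul_mem hl ((Subgroup.mem_normalizer_iff.mp (le_normalizer_sigmaCore L (hPL hπ)) _).mp (inv_mem hl)),
        mul_mem ((Subgroup.mem_normalizer_iff.mp (le_normalizer_sigmaCore L' hlL') π).mp (hPσ hπ))
          (inv_mem (hPσ hπ))⟩
      rw [hbot, Subgroup.mem_bot] at h1
      exact (mul_inv_eq_iff_eq_mul.mp (mul_inv_eq_one.mp h1)).symm
    obtain ⟨FL, hFL, hFLI⟩ := hG1.2.2.1
    have hFLM : FL ≤ M := hFLI.trans inf_le_left
    have hpτ : p ∈ tau1 L := by
      rcases mem_classes hG hG1.1 hp (hP ▸ Subgroup.card_dvd_of_le hPL) with hc | hc | hc | hc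
      · exact absurd hc hpL
      · exact hc
      · obtain ⟨A, hAF, hAe, hA2⟩ := exists_ea_le_compl hG hFL hc
        exact absurd hpt.2.2.2.2
          (not_pRankLE_of_ea hAe (hAF.trans hFLM) (hA2 ▸ Nat.pow_lt_pow_right hp.one_lt one_lt_two))
      · exfalso
        obtain ⟨m, hm, hmF⟩ := exists_cj_le_compl hG hG1.1 hFL hPL
          (fun q hq hd => eq_prime_of_dvd_card hP hq hd ▸ hpL)
        have hP' : Nat.card (cj m P) = p := by rw [card_cj, hP]
        exact hpt.2.2.2.1 (hP' ▸ Subgroup.card_dvd_of_le ((tau3_le_compl_derived hG hFL hc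
          (isPGroup_of_card_prime hP') hmF).trans (Subgroup.commutator_mono hFLM hFLM)))
    obtain ⟨t, ht, hd⟩ := Nat.exists_prime_and_dvd fun e => h.inter_ne_bot (Subgroup.eq_bot_of_card_eq _ e)
    haveI := Fact.mk ht
    obtain ⟨x₀, hx₀⟩ := exists_prime_orderOf_dvd_card' t hd
    set X := Subgroup.zpowers (x₀ : G) with hXdef
    have hX : Nat.card X = t := by rw [Nat.card_zpowers, Subgroup.orderOf_coe, hx₀]
    have hXD : X ≤ sigmaCore M ⊓ H := Subgroup.zpowers_le.mpr x₀.2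
    have htM : t ∈ sigma M := mem_sigma_of_dvd ht (hX ▸ Subgroup.card_dvd_of_le (hXD.trans inf_le_left))
    have hXP : X ≤ Subgroup.centralizer (P : Set G) :=
      hXD.trans (Subgroup.le_centralizer_iff.mp (hPE.trans hED))
    refine (only_centralizer_tau1_fixed hG hpl hM hpt hP (hPE.trans h.compl.1) hX
      (le_inf (hXD.trans inf_le_left) hXP)).1 ?_
    exact (cent_tau1_le hG hpl hG1.1 hpτ hP hPL hX
      ((le_inf (hXD.trans (inf_le_left.trans (sigmaCore_le M))) (hXD.trans inf_le_right)).trans hG1.2.1)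
      (sigma_disjoint hG hpl hM hG1.1 (hncM L hG1) htM) hXP ⟨hl, hlP⟩).2

end Cfsg.Agent.OddLocal.Sigma
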