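import Cfsg.Agent.OddLocal.Sigma.Tau3Basic
import Cfsg.Agent.OddLocal.Sigma.SigmaDisjoint

/-! A maximal subgroup over `N(R)` for a non-regular `R` of order `r ∈ τ₃(M)`. -/

set_option autoImplicit false
set_option linter.style.haveILetI false
set_option linter.unusedSectionVars false

namespace Cfsg.Agent.OddLocal.Sigma

open Cfsg
open scoped commutatorElement

variable {G : Type*} [Group G] [Finite G]

/-- `R` of order `r ∈ τ₃(M)` has fixed points in `M_σ`, `E` is a complement over `R`, `H` lies over `N(R)`. -/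
structure T3 (M H E R : Subgroup G) (r : ℕ) : Prop where
  coatom : IsCoatom M
  coatomH : IsCoatom H
  compl : IsComplIn E (sigmaCore M) M
  tau3 : r ∈ tau3 M
  card : Nat.card R = r
  le : R ≤ E
  norm : Subgroup.normalizer (R : Set G) ≤ H
  nonreg : sigmaCore M ⊓ Subgroup.centralizer (R : Set G) ≠ ⊥

variable (hG : IsMinSimpleOddOrder G)
include hG

theorem exists_T3 {M : Subgroup G} (hM : IsCoatom M) {r : ℕ} [hr : Fact r.Prime] (hrτ : r ∈ tau3 M)
    {R K : Subgroup G} (hR : Nat.card R = r) (hRK : R ≤ K) (hKM : K ≤ M)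
    (hK : ∀ q : ℕ, q.Prime → q ∣ Nat.card K → q ∉ sigma M)
    (hne : sigmaCore M ⊓ Subgroup.centralizer (R : Set G) ≠ ⊥) :
    ∃ H E : Subgroup G, T3 M H E R r ∧ K ≤ E := by
  obtain ⟨E, hE, hKE⟩ := exists_compl_ge hG hM hKM hK
  obtain ⟨H, hH, hNH⟩ := (eq_top_or_exists_le_coatom (Subgroup.normalizer (R : Set G))).resolve_left
    (Core.BG.normalizer_ne_top_of_isPGroup hG (ne_bot_of_card_prime hR) (isPGroup_of_card_prime hR))
  exact ⟨H, E, ⟨hM, hH, hE, hrτ, hR, hRK.trans hKE, hNH, hne⟩, hKE⟩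

variable (hpl : ∀ (p : ℕ) [Fact p.Prime] (H : Subgroup G), H ≠ ⊤ → PLengthLE p 1 H)
include hpl

namespace T3

variable {M H E R : Subgroup G} {r : ℕ} [hr : Fact r.Prime] (h : T3 M H E R r)
include h

omit hG hpl in
theorem centralizer_le : Subgroup.centralizer (R : Set G) ≤ H :=
  (Subgroup.centralizer_le_normalizer _).trans h.norm

theorem nc : ∀ g : G, H ≠ cj g M :=
  (normalizer_tau13 hG hpl h.coatom h.coatomH (Or.inr h.tau3) h.card h.norm).1

theorem ne : H ≠ M := fun e => h.nc hG hpl 1 (by rw [cj_one]; exact e)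

omit hpl in
theorem compl_le : E ≤ H := (tau3_normal hG h.coatom h.compl h.tau3 h.card h.le).trans h.norm

omit hG hpl in
theorem inter_ne_bot : sigmaCore M ⊓ H ≠ ⊥ := fun e =>
  h.nonreg (le_bot_iff.mp (e ▸ inf_le_inf_left _ h.centralizer_le))

theorem tau2_empty : tau2 M = ∅ := Set.eq_empty_iff_forall_notMem.mpr fun s hs => by
  haveI := Fact.mk hs.1
  obtain ⟨A, hAE, hAe, hA2⟩ := exists_ea_le_compl hG h.compl hs
  obtain ⟨A0, hexc⟩ := exists_exc hG hpl h.coatom hs.2.1 (hAE.trans h.compl.1) hAe hA2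
  exact h.inter_ne_bot (hexc.inf_other_eq_bot hG hpl h.coatomH (h.ne hG hpl) (hAE.trans (h.compl_le hG)))

theorem le_cent : R ≤ Subgroup.centralizer ((sigmaCore M ⊓ H : Subgroup G) : Set G) :=
  le_centralizer_sigmaCore_inf hG hpl h.coatom h.coatomH (h.nc hG hpl) h.tau3.2.1
    (normalizer_tau13 hG hpl h.coatom h.coatomH (Or.inr h.tau3) h.card h.norm).2.2.1 (isPGroup_of_card_prime h.card)
    (le_inf (h.le.trans h.compl.1) (Subgroup.le_normalizer.trans h.norm))

omit hG hpl in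
/-- `M ∩ H = E (M_σ ∩ H)`. -/
theorem exists_mul (hEH : E ≤ H) {g : G} (hgM : g ∈ M) (hgH : g ∈ H) :
    ∃ e ∈ E, ∃ d ∈ sigmaCore M ⊓ H, g = e * d := by
  obtain ⟨e, he, d, hd, rfl⟩ := h.compl.2.2.2 g hgM
  refine ⟨e, he, d, ⟨hd, ?_⟩, rfl⟩
  have h1 := H.mul_mem (H.inv_mem (hEH he)) hgH
  rwa [inv_mul_cancel_left] at h1

omit hr in
/-- A `τ₁(M)`-element of `E` that moves `R`. -/
theorem exists_mover [Fact r.Prime] : ∃ (s : ℕ) (y : G), s.Prime ∧ s ∈ tau1 M ∧ y ∈ E ∧
    IsPGroup s (Subgroup.zpowers y) ∧ y ∉ Subgroup.centralizer (R : Set G) :=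
  exists_mover_tau3 hG hpl h.coatom h.compl (h.tau2_empty hG hpl) h.tau3 h.card h.le le_rfl
    fun e he => ⟨1, one_mem _, e, he, (one_mul e).symm⟩

/-- The prime `r` is in `σ(H)`. -/
theorem mem_sigma : r ∈ sigma H := by
  obtain ⟨hnc, hcl, -, -⟩ := normalizer_tau13 hG hpl h.coatom h.coatomH (Or.inr h.tau3) h.card h.norm
  refine hcl.resolve_right fun hrH => ?_
  have hEH := h.compl_le hG
  have hD := inf_derived_eq_bot hG hpl h.coatom h.coatomH hnc hrH
    (h.card ▸ Subgroup.card_dvd_of_le (h.le.trans h.compl.1)) h.tau3.2.1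
  set D := sigmaCore M ⊓ H with hDdef
  have hED : E ≤ Subgroup.centralizer (D : Set G) := by
    refine Subgroup.le_centralizer_iff.mp (Subgroup.commutator_eq_bot_iff_le_centralizer.mp
      (le_bot_iff.mp (hD ▸ le_inf ?_ (Subgroup.commutator_mono inf_le_right hEH))))
    refine Coprime.commutator_le_of_le_normalizer fun e he => Coprime.mem_normalizer_of_conj_mem fun d hd =>
      ⟨(Subgroup.mem_normalizer_iff.mp (le_normalizer_sigmaCore M (h.compl.1 he)) d).mp hd.1,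
        H.mul_mem (H.mul_mem (hEH he) hd.2) (H.inv_mem (hEH he))⟩
  obtain ⟨t, ht, hd⟩ := Nat.exists_prime_and_dvd fun e => h.inter_ne_bot (Subgroup.eq_bot_of_card_eq _ e)
  haveI := Fact.mk ht
  obtain ⟨x₀, hx₀⟩ := exists_prime_orderOf_dvd_card' t hd
  set X := Subgroup.zpowers (x₀ : G) with hXdef
  have hX : Nat.card X = t := by rw [Nat.card_zpowers, Subgroup.orderOf_coe, hx₀]
  have hXD : X ≤ D := Subgroup.zpowers_le.mpr x₀.2
  have htM : t ∈ sigma M := mem_sigma_of_dvd ht (hX ▸ Subgroup.card_dvd_of_le (hXD.trans inf_le_left))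
  have htH : t ∉ sigma H := sigma_disjoint hG hpl h.coatom h.coatomH hnc htM
  have htr : t ≠ r := fun e => h.tau3.2.1 (e ▸ htM)
  -- the centralizer of `X` is in `M` only
  obtain ⟨s, y, hs, hst, hyE, hy, hyR⟩ := h.exists_mover hG hpl
  haveI := Fact.mk hs
  obtain ⟨v, hv⟩ := exists_prime_orderOf_dvd_card' (G := Subgroup.zpowers y) s (dvd_card_of_ne_bot hy fun e => hyR (by
    rw [Subgroup.zpowers_eq_bot.mp e]; exact one_mem _))
  have hvE : (v : G) ∈ E := (Subgroup.zpowers_le.mpr hyE) v.2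
  obtain ⟨hCX, honly⟩ := only_centralizer_tau1_fixed hG hpl h.coatom hst (P := Subgroup.zpowers (v : G))
    (by rw [Nat.card_zpowers, Subgroup.orderOf_coe, hv]) (Subgroup.zpowers_le.mpr (h.compl.1 hvE)) hX
    (le_inf (hXD.trans inf_le_left) (hXD.trans (Subgroup.le_centralizer_iff.mp
      ((Subgroup.zpowers_le.mpr hvE).trans hED))))
  have hRX : R ≤ Subgroup.centralizer (X : Set G) :=
    (h.le.trans hED).trans (Subgroup.centralizer_le hXD)
  have hRp := isPGroup_of_card_prime h.card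
  have hXp : IsPGroup t X := isPGroup_of_card_prime hX
  obtain ⟨F, hF, hKF⟩ := exists_compl_ge hG h.coatomH
    (sup_le (hXD.trans inf_le_right) (h.le.trans hEH) : X ⊔ R ≤ H) (fun q hq hdq => by
      rw [Coprime.card_sup (hRX.trans (Subgroup.centralizer_le_normalizer _))
        (Coprime.inf_eq_bot_of_coprime (coprime_of_pGroups htr.symm hRp hXp))] at hdq
      rcases hq.dvd_mul.mp hdq with h1 | h1
      · exact eq_prime_of_dvd_card hX hq h1 ▸ htH
      · exact eq_prime_of_dvd_card h.card hq h1 ▸ hrH.2.1)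
  obtain ⟨A, hAF, hAe, hA2⟩ := exists_ea_le_compl hG hF hrH
  obtain ⟨A0, hexc⟩ := exists_exc hG hpl h.coatomH hrH.2.1 (hAF.trans hF.1) hAe hA2
  obtain ⟨⟨hFA, hmem⟩, ⟨-, -, hnot⟩, -⟩ := tau2_compl_facts hG hpl h.coatomH hF hrH ⟨hAF, hAe, hA2⟩
  have hRA : R ≤ A := hmem R (le_sup_right.trans hKF) h.card
  have hXA : X ≤ Subgroup.normalizer (A : Set G) := (le_sup_left.trans hKF).trans hFA
  have hXnC : ¬ X ≤ Subgroup.centralizer (A : Set G) := fun hc =>
    not_pRankLE_of_ea hAe ((Subgroup.le_centralizer_iff.mp hc).trans hCX)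
      (hA2 ▸ Nat.pow_lt_pow_right hr.out.one_lt one_lt_two) h.tau3.2.2.2
  by_cases hab : ∀ S : Sylow r G, IsMulCommutative (S : Subgroup G)
  · have hlt : A ⊓ Subgroup.centralizer (X : Set G) < A := lt_of_le_of_ne inf_le_left fun e =>
      hXnC (Subgroup.le_centralizer_iff.mp (e ▸ inf_le_right))
    have hRe : R = A ⊓ Subgroup.centralizer (X : Set G) :=
      Subgroup.eq_of_le_of_card_ge (le_inf hRA hRX) ((card_le_of_lt_sq hA2 hlt).trans h.card.ge)
    refine hnot (le_trans ?_ h.norm)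
    rw [hRe]
    exact normalizer_le_normalizer_fixed hXA (hexc.derived_normalizer_le hG hpl hF hrH hAF hab)
  obtain ⟨S, hAS⟩ := hexc.maxEA.isPGroup.exists_le_sylow
  have hS := sylow_all_nonabelian hab
  obtain ⟨L, ⟨hL, hSL⟩, -⟩ := inUniqueMaximal_of_nonabelian hG hpl S.isPGroup' (hS S)
  have hAL : A ≤ L := hAS.trans hSL
  have hrL : r ∈ sigma L := mem_sigma_of_nonabelian hG hpl hL S.isPGroup' hSL (hS S)
  have hXL : X ≤ L := hXA.trans
    (normalizer_le_of_noncyclic hG hpl hL hrL hexc.maxEA.isPGroup hAL (not_isCyclic_ea_sq hAe hA2))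
  have hRL : R ≤ sigmaCore L := le_sigmaCore hG hL (hRA.trans hAL) (mem_of_pGroup hRp hrL)
  obtain ⟨x, hx, hx1⟩ := X.bot_or_exists_ne_one.resolve_left (ne_bot_of_card_prime hX)
  obtain ⟨ρ, hρ, hρ1⟩ := R.bot_or_exists_ne_one.resolve_left (ne_bot_of_card_prime h.card)
  have hLM : L ≠ M := fun e => h.tau3.2.1 (e ▸ hrL)
  rcases mem_classes hG hL ht (hX ▸ Subgroup.card_dvd_of_le hXL) with hc | hc | hc | hc
  · -- `t ∈ σ(L)`
    by_cases hncL : ∀ g : G, L ≠ cj g M
    · exact sigma_disjoint hG hpl h.coatom hL hncL htM hc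
    push Not at hncL
    obtain ⟨g, rfl⟩ := hncL
    exact h.tau3.2.1 (mem_sigma_of_cj hG hrL)
  · -- `t ∈ τ₁(L)`
    obtain ⟨-, honlyR⟩ := only_centralizer_tau1_fixed hG hpl hL hc hX hXL h.card
      (le_inf hRL (Subgroup.le_centralizer_iff.mp (Subgroup.le_centralizer_iff.mp hRX)))
    exact hrH.2.1 (honlyR H h.coatomH h.centralizer_le ▸ hrL)
  · -- `t ∈ τ₂(L)`
    obtain ⟨E₂, hE₂, -⟩ := exists_compl_ge hG hL hXL (fun q hq hdq => eq_prime_of_dvd_card hX hq hdq ▸ hc.2.1)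
    obtain ⟨hCx, -⟩ := only_centralizer_of_tau2 hG hpl hL hE₂ (hXL hx) hx1 (fun q hq hdq =>
      eq_prime_of_dvd_card hX hq (hdq.trans (Subgroup.orderOf_dvd_natCard X hx)) ▸ hc)
      ⟨hXL hx, ρ, hRL hρ, hρ1, Subgroup.mem_centralizer_iff.mp (hRX hρ) x hx⟩
    rw [centralizer_singleton_eq (zpowers_eq_of_card_prime hX hx hx1)] at hCx
    exact hLM (honly L hL hCx)
  · -- `t ∈ τ₃(L)`
    have hXL' : X ≤ ⁅L, L⁆ := le_derived_of_pGroup hG hL (Or.inr hc) hXp hXL
    haveI : Group.IsSolvable X := Coprime.isSolvable_of_isPGroup hXp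
    have hA1 : ⁅A, X⁆ ≤ A := Coprime.commutator_le_of_le_normalizer hXA
    have hA11 : ⁅A, X⁆ ≠ ⊥ := fun e =>
      hXnC (Subgroup.le_centralizer_iff.mp (Subgroup.commutator_eq_bot_iff_le_centralizer.mp e))
    have hle : ⁅A, X⁆ ≤ piCoreOf (beta L) L := by
      rw [← Coprime.commutator_commutator_eq hXA (coprime_of_pGroups htr hXp hexc.maxEA.isPGroup),
        Subgroup.commutator_comm]
      exact commutator_le_betaCore hG hpl hL hXL' (not_dvd_of_pGroup htr.symm hXp)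
        (Subgroup.commutator_mono hAL hXL) (hexc.maxEA.isPGroup.to_le hA1)
    exact hexc.maxEA.notMem_beta L (Core.BG.isPiNat_piCoreOf (beta L) L r hr.out
      ((dvd_card_of_ne_bot (hexc.maxEA.isPGroup.to_le hA1) hA11).trans (Subgroup.card_dvd_of_le hle)))

theorem le_sigmaCore_H : R ≤ sigmaCore H :=
  le_sigmaCore hG h.coatomH (Subgroup.le_normalizer.trans h.norm)
    (mem_of_pGroup (isPGroup_of_card_prime h.card) (h.mem_sigma hG hpl))

end T3

end Cfsg.Agent.OddLocal.Sigma
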