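import Cfsg.Agent.OddLocal.Sigma.MovedCentral

/-! Maximal subgroups containing an elementary subgroup of order `p ^ 2` (BG §11, 12.4–12.6). -/

set_option autoImplicit false
set_option linter.style.haveILetI false
set_option linter.unusedSectionVars false

namespace Cfsg.Agent.OddLocal.Sigma

open Cfsg
open scoped commutatorElement

variable {G : Type*} [Group G] [Finite G]

/-- The elements of `N(N₀)` whose commutators with `A` lie in `N₀`. -/
theorem le_of_commutator_sylows {N₀ A W : Subgroup G} (hA : A ≤ Subgroup.normalizer (N₀ : Set G))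
    (hW : W ≤ Subgroup.normalizer (N₀ : Set G))
    (h : ∀ q : ℕ, q.Prime → ∃ Q : Subgroup G, Q ≤ W ∧ ¬ q ∣ Q.relIndex W ∧ ⁅Q, A⁆ ≤ N₀) : ⁅W, A⁆ ≤ N₀ := by
  let K : Subgroup G :=
    { carrier := {w | w ∈ Subgroup.normalizer (N₀ : Set G) ∧ ∀ a ∈ A, ⁅w, a⁆ ∈ N₀}
      one_mem' := ⟨one_mem _, fun a _ => by rw [commutatorElement_one_left]; exact one_mem _⟩
      mul_mem' := by
        rintro u v ⟨hu, hu'⟩ ⟨hv, hv'⟩
        refine ⟨mul_mem hu hv, fun a ha => ?_⟩
        rw [show ⁅u * v, a⁆ = u * ⁅v, a⁆ * u⁻¹ * ⁅u, a⁆ by simp only [commutatorElement_def]; group]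
        exact mul_mem ((Subgroup.mem_normalizer_iff.mp hu _).mp (hv' a ha)) (hu' a ha)
      inv_mem' := by
        rintro u ⟨hu, hu'⟩
        refine ⟨inv_mem hu, fun a ha => ?_⟩
        rw [show ⁅u⁻¹, a⁆ = u⁻¹ * ⁅u, a⁆⁻¹ * u by simp only [commutatorElement_def]; group]
        exact (Subgroup.mem_normalizer_iff''.mp hu _).mp (inv_mem (hu' a ha)) }
  have hWK : W ≤ K := by
    refine Subgroup.relIndex_eq_one.mp (Nat.eq_one_iff_not_exists_prime_dvd.mpr fun q hq hd => ?_)
    obtain ⟨Q, hQW, hQi, hQA⟩ := h q hq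
    exact hQi (hd.trans (Subgroup.relIndex_dvd_of_le_left W (fun x hx =>
      (⟨hW (hQW hx), fun a ha => hQA (Subgroup.commutator_mem_commutator hx ha)⟩ : x ∈ K))))
  exact Subgroup.commutator_le.mpr fun w hw a ha => (hWK hw).2 a ha

theorem le_normalizer_map_of_normal {M : Subgroup G} (K : Subgroup M) [K.Normal] :
    M ≤ Subgroup.normalizer ((K.map M.subtype : Subgroup G) : Set G) :=
  fun x hx => Coprime.mem_normalizer_of_conj_mem (by
    rintro _ ⟨y, hy, rfl⟩
    exact ⟨⟨x, hx⟩ * y * ⟨x, hx⟩⁻¹, (inferInstance : K.Normal).conj_mem y hy _, rfl⟩)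

variable (hG : IsMinSimpleOddOrder G)
include hG

/-- `M = O_{p'}(M) N_M(P)` for `p ∉ σ(M)`. -/
theorem le_pPrimeCore_sup_normalizer {M : Subgroup G} (hM : IsCoatom M) {p : ℕ} [hp : Fact p.Prime]
    (hσ : p ∉ sigma M) (hpM : p ∣ Nat.card M) (P : Sylow p M) :
    M ≤ (pPrimeCore p M).map M.subtype ⊔
      (M ⊓ Subgroup.normalizer (((P : Subgroup M).map M.subtype : Subgroup G) : Set G)) := by
  haveI := Core.BG.isSolvable_proper hG hM.1
  have hodd := odd_of_dvd hG (Subgroup.card_subgroup_dvd_card M)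
  obtain ⟨-, -, -, -, -, hidx⟩ := RankTwo.five hodd hpM (RankTwo.oddAutSmall_core_of_pRankLE
    (ne_two_of_dvd hG (hpM.trans (Subgroup.card_subgroup_dvd_card M))) (pRankLE_two_of_notMem_sigma hG hM hp.out hσ))
  haveI : (pPrimePCore p M).Normal := by unfold pPrimePCore; infer_instance
  set W := pPrimeCore p M
  have hPPP : (P : Subgroup M) ≤ pPrimePCore p M := Core.le_of_coprime_index (by
    obtain ⟨k, hk⟩ := IsPGroup.iff_card.mp P.isPGroup'
    rw [hk]; exact hidx.symm.pow_left k)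
  have hle : pPrimePCore p M ≤ W ⊔ (P : Subgroup M) := by
    intro x hx
    rw [pPrimePCore, Subgroup.mem_comap] at hx
    obtain ⟨y, hy, hye⟩ := (Core.pCore_le_sylow (P.mapSurjective (QuotientGroup.mk'_surjective W))) hx
    have h1 : x * y⁻¹ ∈ W := (QuotientGroup.eq_one_iff _).mp
      (show (QuotientGroup.mk' W) (x * y⁻¹) = 1 by rw [map_mul, map_inv, hye, mul_inv_cancel])
    rw [show x = x * y⁻¹ * y by group]
    exact Subgroup.mul_mem_sup h1 hy
  have htop : W ⊔ Subgroup.normalizer ((P : Subgroup M) : Set M) = ⊤ := by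
    refine top_le_iff.mp ((Sylow.normalizer_sup_eq_top' P hPPP).ge.trans (sup_le le_sup_right ?_))
    exact hle.trans (sup_le_sup_left Subgroup.le_normalizer _)
  conv_lhs => rw [← M.range_subtype, MonoidHom.range_eq_map, ← htop, Subgroup.map_sup]
  exact sup_le_sup_left (le_inf (Subgroup.map_subtype_le _) (Subgroup.le_normalizer_map M.subtype)) _

variable (hpl : ∀ (p : ℕ) [Fact p.Prime] (H : Subgroup G), H ≠ ⊤ → PLengthLE p 1 H)
include hpl

theorem commutator_pPrimeCore_le {p : ℕ} [hp : Fact p.Prime] {M A : Subgroup G} (hA : MaxEA p A)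
    (hM : IsCoatom M) (hAM : A ≤ M)
    (hcomm : ∀ (r : ℕ) [Fact r.Prime], r ∉ sigma M → r ≠ p → ∀ V : Subgroup G, IsPGroup r V → V ≤ M →
      A ≤ Subgroup.normalizer (V : Set G) → ⁅V, A⁆ = ⊥) :
    ⁅(pPrimeCore p M).map M.subtype, A⁆ ≤ sigmaCore M := by
  set W := (pPrimeCore p M).map M.subtype
  have hWp : ¬ p ∣ Nat.card W := by rw [Core.card_map_subtype]; exact Core.not_dvd_card_pPrimeCore p M
  have hAW : A ≤ Subgroup.normalizer (W : Set G) := hAM.trans (le_normalizer_map_of_normal _)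
  haveI : Group.IsSolvable A := Coprime.isSolvable_of_isPGroup hA.isPGroup
  refine le_of_commutator_sylows (hAM.trans (le_normalizer_sigmaCore M))
    ((Subgroup.map_subtype_le _).trans (le_normalizer_sigmaCore M)) fun q hq => ?_
  haveI := Fact.mk hq
  obtain ⟨Q, hQW, hQ, hQi, hAQ⟩ := Coprime.exists_invariant_sylow hAW (Components.ea_coprime hA.ea hWp) q
  refine ⟨Q, hQW, hQi, ?_⟩
  have hQM : Q ≤ M := hQW.trans (Subgroup.map_subtype_le _)
  by_cases hσ : q ∈ sigma M
  · rw [Subgroup.commutator_comm]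
    exact (Subgroup.commutator_mono le_rfl (le_sigmaCore hG hM hQM (mem_of_pGroup hQ hσ))).trans
      (Coprime.commutator_le_of_le_normalizer (hAM.trans (le_normalizer_sigmaCore M)) |>.trans' (by
        rw [Subgroup.commutator_comm]))
  by_cases hqp : q = p
  · subst hqp
    obtain ⟨k, hk⟩ := IsPGroup.iff_card.mp hQ
    have hk0 : k = 0 := by
      by_contra hk0
      exact hWp ((dvd_pow_self q hk0).trans (hk ▸ Subgroup.card_dvd_of_le hQW))
    rw [Subgroup.eq_bot_of_card_eq Q (by rw [hk, hk0, pow_zero]), Subgroup.commutator_bot_left]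
    exact bot_le
  rw [hcomm q hσ hqp Q hQ hQM hAQ]
  exact bot_le

namespace Exc

variable {p : ℕ} [hp : Fact p.Prime] {M A A0 : Subgroup G} (h : Exc M p A A0)
include h

/-- `M` normalizes `M_σ A`. -/
theorem le_normalizer_sup : M ≤ Subgroup.normalizer ((sigmaCore M ⊔ A : Subgroup G) : Set G) := by
  obtain ⟨P, hAP⟩ := exists_sylow_map_ge h.maxEA.isPGroup h.le
  refine (le_pPrimeCore_sup_normalizer hG h.coatom h.notMem (h.maxEA.dvd_of_le h.le) P).trans (sup_le ?_ ?_)
  · intro w hw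
    have hwM : w ∈ M := Subgroup.map_subtype_le _ hw
    have hwA : ∀ a ∈ A, w * a * w⁻¹ ∈ sigmaCore M ⊔ A := fun a ha => by
      rw [show w * a * w⁻¹ = ⁅w, a⁆ * a by rw [commutatorElement_def]; group]
      exact Subgroup.mul_mem_sup (commutator_pPrimeCore_le hG hpl h.maxEA h.coatom h.le
        (fun r _ hσ hrp V hV hVM hAV => h.commutator_eq_bot hG hpl hσ hrp hV hVM hAV)
        (Subgroup.commutator_mem_commutator hw ha)) ha
    refine Coprime.mem_normalizer_of_conj_mem fun y hy => ?_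
    obtain ⟨s, hs, a, ha, rfl⟩ := Coprime.exists_mul_of_mem_sup h.le_normalizer hy
    rw [show w * (s * a) * w⁻¹ = (w * s * w⁻¹) * (w * a * w⁻¹) by group]
    exact mul_mem (Subgroup.mem_sup_left
      ((Subgroup.mem_normalizer_iff.mp (le_normalizer_sigmaCore M hwM) s).mp hs)) (hwA a ha)
  · rintro x ⟨hxM, hxN⟩
    refine Coprime.mem_normalizer_of_conj_mem fun y hy => ?_
    obtain ⟨s, hs, a, ha, rfl⟩ := Coprime.exists_mul_of_mem_sup h.le_normalizer hy
    rw [show x * (s * a) * x⁻¹ = (x * s * x⁻¹) * (x * a * x⁻¹) by group]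
    exact Subgroup.mul_mem_sup ((Subgroup.mem_normalizer_iff.mp (le_normalizer_sigmaCore M hxM) s).mp hs)
      ((Subgroup.mem_normalizer_iff.mp (h.normalizer_sylow_le_normalizer hG hpl P hAP hxN) a).mp ha)

end Exc

/-! ### BG 12.4 -/

theorem commutator_fixed_eq_bot {p : ℕ} [hp : Fact p.Prime] {M A : Subgroup G} (hA : MaxEA p A)
    (hnu : ∀ a ∈ A, a ≠ 1 → ∃ L : Subgroup G, IsCoatom L ∧ L ≠ M ∧
      Subgroup.normalizer (Subgroup.zpowers a : Set G) ≤ L)
    {q : ℕ} [hq : Fact q.Prime] (hqp : q ≠ p) (T : Sylow q G)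
    (hAT : A ≤ Subgroup.normalizer ((T : Subgroup G) : Set G))
    (hT : ∀ L : Subgroup G, IsCoatom L → (T : Subgroup G) ≤ L →
      Subgroup.normalizer ((T : Subgroup G) : Set G) ≤ L → L = M) :
    (T : Subgroup G) ≤ Subgroup.centralizer (A : Set G) := by
  refine hA.le_of_forall_inf_centralizer_le (not_dvd_of_pGroup hqp.symm T.isPGroup') hAT fun a ha ha1 => ?_
  set R := (T : Subgroup G) ⊓ Subgroup.centralizer ({a} : Set G)
  by_cases hR1 : R = ⊥
  · rw [hR1]; exact bot_le
  obtain ⟨L, hL, hLM, hle⟩ := hnu a ha ha1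
  have hz : Subgroup.zpowers a ≤ A := Subgroup.zpowers_le.mpr ha
  have hCL : Subgroup.centralizer ({a} : Set G) ≤ L := by
    rw [centralizer_singleton_eq (a := a) rfl]
    exact (Subgroup.centralizer_le_normalizer _).trans hle
  have hCAL : Subgroup.centralizer (A : Set G) ≤ L :=
    (Subgroup.centralizer_le (by simpa using ha)).trans hCL
  have hAL : A ≤ L := hA.le_centralizer.trans hCAL
  have hR : IsPGroup q R := T.isPGroup'.to_le inf_le_left
  have hAR : A ≤ Subgroup.normalizer (R : Set G) :=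
    (le_inf hAT (hA.le_centralizer.trans ((Subgroup.centralizer_le (by simpa using ha)).trans Subgroup.le_normalizer))).trans
      Subgroup.inf_normalizer_le_normalizer_inf
  have hRL : R ≤ L := inf_le_right.trans hCL
  have hfin : ⁅R, A⁆ = ⊥ := by
    by_cases hqL : q ∈ sigma L
    · obtain ⟨U, hRU, hUL, hAU⟩ := exists_inv_sylow hG hpl hA hL hAL hqL hqp hR hRL hAR
      obtain ⟨k, hk, he⟩ := Core.BG.conj_of_inf_ne_bot hG (hA.transHyp hG) hq.out
        (not_dvd_of_pGroup hqp hA.isPGroup) _ (U : Subgroup G) (T : Subgroup G) (maxInv_of_sylow U hAU)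
        (maxInv_of_sylow T hAT) (fun e => hR1 (le_bot_iff.mp (e ▸ le_inf hRU inf_le_left))) rfl
      have hTL : (T : Subgroup G) ≤ L := by
        rw [← he]
        rintro _ ⟨u, hu, rfl⟩
        have hkL := hCAL (Core.BG.piCoreOf_le _ _ hk)
        exact L.mul_mem (L.mul_mem hkL (hUL hu)) (L.inv_mem hkL)
      exact absurd (hT L hL hTL (normalizer_sylow_le' hG hqL T hTL)) hLM
    by_cases hpL : p ∈ sigma L
    · refine le_bot_iff.mp ?_
      rw [← inf_sigmaCore_eq_bot (notMem_sigma_of_pGroup hR hqL)]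
      refine le_inf (Coprime.commutator_le_of_le_normalizer hAR) ?_
      rw [Subgroup.commutator_comm]
      exact (Subgroup.commutator_mono (le_sigmaCore hG hL hAL (mem_of_pGroup hA.isPGroup hpL)) le_rfl).trans
        (Coprime.commutator_le_of_le_normalizer (hRL.trans (le_normalizer_sigmaCore L)))
    · exact (Exc.mk hL hpL hAL hA hz (hA.card_zpowers ha ha1) hle : Exc L p A (Subgroup.zpowers a)).commutator_eq_bot
        hG hpl hqL hqp hR hRL hAR
  exact Subgroup.commutator_eq_bot_iff_le_centralizer.mp hfin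

theorem exists_ea_le_sylow {M : Subgroup G} {q : ℕ} [hq : Fact q.Prime] (S : Sylow q M) {E : Subgroup G}
    (hE : IsElementaryAbelian q E) (hEM : E ≤ M) :
    ∃ E' : Subgroup G, IsElementaryAbelian q E' ∧ Nat.card E' = Nat.card E ∧
      E' ≤ (S : Subgroup M).map M.subtype := by
  obtain ⟨P, hP⟩ := exists_sylow_map_ge (Components.ea_isPGroup hE) hEM
  obtain ⟨m, hm⟩ := MulAction.exists_smul_eq M P S
  refine ⟨cj (m : G) E, PLocal.isEA_map hE _, card_cj _ _, ?_⟩
  rw [← hm, Sylow.coe_subgroup_smul, Core.conj_smul_eq_map]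
  rintro _ ⟨x, hx, rfl⟩
  obtain ⟨y, hy, rfl⟩ := hP hx
  exact ⟨m * y * m⁻¹, ⟨y, hy, rfl⟩, rfl⟩

/-- Twelve point four, second part. -/
theorem nonunique_facts {M : Subgroup G} (hM : IsCoatom M) {p : ℕ} [hp : Fact p.Prime] {A : Subgroup G}
    (hAM : A ≤ M) (hAe : IsElementaryAbelian p A) (hA2 : Nat.card A = p ^ 2)
    (h : ∀ A₀ : Subgroup G, A₀ ≤ A → Nat.card A₀ = p →
      ¬ (Subgroup.normalizer (A₀ : Set G) ≤ M ∧
        ∀ L : Subgroup G, IsCoatom L → Subgroup.normalizer (A₀ : Set G) ≤ L → L = M)) :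
    p ∈ sigma M ∧ alphaCore M = ⊥ ∧ Group.IsNilpotent (sigmaCore M) := by
  haveI := Core.BG.isSolvable_proper hG hM.1
  have hAtop : A ≠ ⊤ := fun e => hM.1 (top_le_iff.mp (e ▸ hAM))
  have horder : ∀ {a : G}, a ∈ A → a ≠ 1 → Nat.card (Subgroup.zpowers a) = p := fun {a} ha ha1 => by
    rw [Nat.card_zpowers, orderOf_eq_prime (hAe.2 a ha) ha1]
  have hN : ∀ {a : G}, a ∈ A → A ≤ Subgroup.normalizer (Subgroup.zpowers a : Set G) := fun {a} ha =>
    ((Subgroup.le_centralizer_iff_isMulCommutative.mpr hAe.1).trans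
      (Subgroup.centralizer_le (Subgroup.zpowers_le.mpr ha))).trans (Subgroup.centralizer_le_normalizer _)
  have hNtop : ∀ {a : G}, a ∈ A → a ≠ 1 → Subgroup.normalizer (Subgroup.zpowers a : Set G) ≠ ⊤ :=
    fun {a} ha ha1 => Core.BG.normalizer_ne_top_of_isPGroup hG (fun e => ha1 (Subgroup.zpowers_eq_bot.mp e))
      (IsPGroup.of_card (n := 1) (by rw [horder ha ha1, pow_one]))
  have hnot : ∀ X : Subgroup G, Only M X → ∀ {a : G}, a ∈ A → a ≠ 1 →
      X ≤ Subgroup.normalizer (Subgroup.zpowers a : Set G) → False := fun X hX {a} ha ha1 hle =>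
    h _ (Subgroup.zpowers_le.mpr ha) (horder ha ha1)
      ⟨(hX.mono hle).le (hNtop ha ha1), fun L hL hNL => hX L hL (hle.trans hNL)⟩
  have hA1 : A ≠ ⊥ := fun e => by
    rw [e, Subgroup.card_bot] at hA2
    exact absurd hA2.symm (Nat.one_lt_pow two_ne_zero hp.out.one_lt).ne'
  obtain ⟨a₀, ha₀, ha₀1⟩ := A.bot_or_exists_ne_one.resolve_left hA1
  have hnuA : ¬ InUniqueMaximal A := fun hu => hnot A (only_of_unique hu hM hAM) ha₀ ha₀1 (hN ha₀)
  have hA : MaxEA p A := MaxEA.of_not_unique hG hAe hA2 hAtop hnuA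
  have hnu : ∀ a ∈ A, a ≠ 1 → ∃ L : Subgroup G, IsCoatom L ∧ L ≠ M ∧
      Subgroup.normalizer (Subgroup.zpowers a : Set G) ≤ L := by
    intro a ha ha1
    by_contra hcon
    have hall : ∀ L : Subgroup G, IsCoatom L → Subgroup.normalizer (Subgroup.zpowers a : Set G) ≤ L → L = M :=
      fun L hL hle => by_contra fun hne => hcon ⟨L, hL, hne, hle⟩
    obtain ⟨L, hL, hle⟩ := (eq_top_or_exists_le_coatom _).resolve_left (hNtop ha ha1)
    exact h _ (Subgroup.zpowers_le.mpr ha) (horder ha ha1) ⟨hall L hL hle ▸ hle, hall⟩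
  -- `p ∉ α(M)`
  have hpα : p ∉ alpha M := by
    rintro ⟨-, hr⟩
    obtain ⟨E, hE, hEM, hE3⟩ := Core.BG.exists_ea_of_not_pRankLE hr
    obtain ⟨P, hAP⟩ := exists_sylow_map_ge hA.isPGroup hAM
    obtain ⟨E', hE', hE'c, hE'P⟩ := exists_ea_le_sylow hG hpl P hE hEM
    set S := (P : Subgroup M).map M.subtype
    have hSM : S ≤ M := Subgroup.map_subtype_le _
    have hS1 : S ≠ ⊥ := fun e => hA1 (le_bot_iff.mp (e ▸ hAP))
    obtain ⟨z, hz, hz1⟩ := (omegaCenter p S).bot_or_exists_ne_one.resolve_left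
      (omegaCenter_ne_bot (P.isPGroup'.map _) hS1)
    refine hnot S (only_of_unique (Core.BG.inUniqueMaximal_of_le hG
      (Core.BG.ea_three_unique hG hE' (hE'c ▸ hE3)) hE'P fun e => hM.1 (top_le_iff.mp (e ▸ hSM))) hM hSM)
      (hA.full z (Subgroup.centralizer_le hAP hz.1.2) hz.2) hz1 ?_
    refine le_trans ?_ (Subgroup.centralizer_le_normalizer _)
    rw [Subgroup.le_centralizer_iff, Subgroup.zpowers_le]
    exact hz.1.2
  -- `M_α = 1`
  have hα : alphaCore M = ⊥ := by
    refine Subgroup.card_eq_one.mp (Nat.eq_one_iff_not_exists_prime_dvd.mpr fun q hq hd => ?_)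
    haveI := Fact.mk hq
    have hqα : q ∈ alpha M := (alphaCore_hallOf hG hM).2.1 q hq hd
    have hqσ : q ∈ sigma M := alpha_subset_sigma hG hM hqα
    have hqp : q ≠ p := fun e => hpα (e ▸ hqα)
    obtain ⟨T, -, hTM, hAT⟩ := exists_inv_sylow hG hpl hA hM hAM hqσ hqp
      (IsPGroup.of_bot : IsPGroup q (⊥ : Subgroup G)) bot_le (le_top.trans (Subgroup.normalizer_eq_top (⊥ : Subgroup G)).ge)
    obtain ⟨E, hE, hEM, hE3⟩ := Core.BG.exists_ea_of_not_pRankLE hqα.2
    obtain ⟨E', hE', hE'c, hE'T⟩ := exists_ea_le_sylow hG hpl (T.subtype hTM) hE hEM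
    rw [Sylow.coe_subtype, Subgroup.subgroupOf_map_subtype, inf_eq_left.mpr hTM] at hE'T
    have honly := only_of_unique (Core.BG.inUniqueMaximal_of_le hG
      (Core.BG.ea_three_unique hG hE' (hE'c ▸ hE3)) hE'T fun e => hM.1 (top_le_iff.mp (e ▸ hTM))) hM hTM
    have hTC := commutator_fixed_eq_bot hG hpl hA hnu hqp T hAT fun L hL hTL _ => honly L hL hTL
    refine hnuA (Core.BG.uniqueness_theorem hG hAtop hA.not_rankLE_one (Or.inr fun h2 => ?_))
    exact not_pRankLE_of_ea hE' (hE'T.trans hTC)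
      (lt_of_lt_of_le (Nat.pow_lt_pow_right hq.one_lt (by norm_num)) (hE'c ▸ hE3)) (h2 q hq)
  have hnoα : ∀ q : ℕ, q.Prime → q ∉ alpha M := fun q hq hqα => by
    have hd : q ∣ (piCore (alpha M) M).index := by
      have h1 : q ∣ Nat.card M := (alpha_subset_sigma hG hM hqα).2.1
      have hc : Nat.card (piCore (alpha M) M) = 1 := by
        rw [← Core.card_map_subtype]
        show Nat.card (alphaCore M) = 1
        rw [hα, Subgroup.card_bot]
      rwa [← Subgroup.card_mul_index (piCore (alpha M) M), hc, one_mul] at h1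
    exact (alphaCore_facts hG hM).1.2 q hq hqα hd
  have hnil : Group.IsNilpotent (sigmaCore M) := by
    have hle : commutator M ≤ fittingSubgroup M := by
      refine RankTwo.commutator_le_fitting (odd_of_dvd hG (Subgroup.card_subgroup_dvd_card M)) fun q hq hq2 => ?_
      haveI := Fact.mk hq
      exact RankTwo.oddAutSmall_of_rankLE_two hq2 (Core.isPGroup_pCore q _)
        (Components.pRankLE_of_injective (pCore q M).subtype_injective
          (pRankLE_two_of_notMem_alpha hG hq (hnoα q hq)))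
    haveI := Core.isNilpotent_of_le hle (Core.isNilpotent_fittingSubgroup M)
    have hD : Group.IsNilpotent ↥⁅M, M⁆ := by
      rw [← M.map_subtype_commutator]
      exact Group.nilpotent_of_mulEquiv ((commutator M).equivMapOfInjective M.subtype M.subtype_injective)
    exact Core.isNilpotent_of_le (sigmaCore_le_derived hG hM) hD
  refine ⟨?_, hα, hnil⟩
  -- `p ∈ σ(M)`
  by_contra hpσ
  haveI : Group.IsSolvable A := Coprime.isSolvable_of_isPGroup hA.isPGroup
  have hσC : sigmaCore M ≤ Subgroup.centralizer (A : Set G) := by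
    refine Core.le_of_forall_exists_sylow_le fun q hq => ?_
    haveI := Fact.mk hq
    obtain ⟨Q⟩ := (inferInstance : Nonempty (Sylow q ↥(sigmaCore M)))
    refine ⟨Q, ?_⟩
    by_cases hd : q ∣ Nat.card (sigmaCore M)
    swap
    · rw [show (Q : Subgroup ↥(sigmaCore M)) = ⊥ from Subgroup.card_eq_one.mp (by
        rw [Q.card_eq_multiplicity, Nat.factorization_eq_zero_of_not_dvd hd, pow_zero]), Subgroup.map_bot]
      exact bot_le
    have hqσ : q ∈ sigma M := mem_sigma_of_dvd hq hd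
    have hqp : q ≠ p := fun e => hpσ (e ▸ hqσ)
    obtain ⟨T, -, hTM, hAT⟩ := exists_inv_sylow hG hpl hA hM hAM hqσ hqp
      (IsPGroup.of_bot : IsPGroup q (⊥ : Subgroup G)) bot_le (le_top.trans (Subgroup.normalizer_eq_top (⊥ : Subgroup G)).ge)
    have hMT := le_normalizer_sylow_of_nilpotent hG hM hnil hqσ T hTM
    have hT := commutator_fixed_eq_bot hG hpl hA hnu hqp T hAT fun L hL _ hle =>
      (hM.le_iff.mp (hMT.trans hle)).resolve_left hL.1
    refine le_trans ?_ hT
    have hQM : (Q : Subgroup ↥(sigmaCore M)).map (sigmaCore M).subtype ≤ M :=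
      (Subgroup.map_subtype_le _).trans (sigmaCore_le M)
    have hsup := IsPGroup.to_sup_of_normal_left' T.isPGroup' (Q.isPGroup'.map (sigmaCore M).subtype) (hQM.trans hMT)
    exact le_sup_right.trans (T.3 hsup le_sup_left).le
  have hAC : A ≤ Subgroup.centralizer (sigmaCore M : Set G) := Subgroup.le_centralizer_iff.mp hσC
  have hcomm : ∀ (r : ℕ) [Fact r.Prime], r ∉ sigma M → r ≠ p → ∀ V : Subgroup G, IsPGroup r V → V ≤ M →
      A ≤ Subgroup.normalizer (V : Set G) → ⁅V, A⁆ = ⊥ := fun r _ hr hrp V hV hVM hAV =>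
    commutator_eq_bot_of_centralizing hG hpl hA hM hAM hr hrp (fun V' _ hV'M _ => by
      refine Subgroup.commutator_le.mpr fun v hv a ha => ?_
      rw [commutatorElement_def]
      exact mul_mem (conj_mem_centralizer (le_normalizer_sigmaCore M (hV'M hv)) (hAC ha))
        (inv_mem (hAC ha))) hV hVM hAV
  set W := (pPrimeCore p M).map M.subtype
  have hWp : ¬ p ∣ Nat.card W := by rw [Core.card_map_subtype]; exact Core.not_dvd_card_pPrimeCore p M
  have hAW : A ≤ Subgroup.normalizer (W : Set G) := hAM.trans (le_normalizer_map_of_normal _)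
  have hWA : ⁅W, A⁆ = ⊥ := by
    rw [← Coprime.commutator_commutator_eq hAW (Components.ea_coprime hA.ea hWp)]
    refine le_bot_iff.mp ((Subgroup.commutator_mono (commutator_pPrimeCore_le hG hpl hA hM hAM hcomm) le_rfl).trans ?_)
    rw [le_bot_iff, Subgroup.commutator_eq_bot_iff_le_centralizer]
    exact hσC
  obtain ⟨P, hAP⟩ := exists_sylow_map_ge hA.isPGroup hAM
  set S := (P : Subgroup M).map M.subtype
  set Z := omegaCenter p S
  have hS1 : S ≠ ⊥ := fun e => hA1 (le_bot_iff.mp (e ▸ hAP))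
  have hS : IsPGroup p S := P.isPGroup'.map _
  have hZA : Z ≤ A := fun x hx => hA.full x (Subgroup.centralizer_le hAP hx.1.2) hx.2
  have hMZ : M ≤ Subgroup.normalizer (Z : Set G) := by
    refine (le_pPrimeCore_sup_normalizer hG hM hpσ (hA.dvd_of_le hAM) P).trans (sup_le ?_ ?_)
    · exact ((Subgroup.commutator_eq_bot_iff_le_centralizer.mp hWA).trans (Subgroup.centralizer_le hZA)).trans
        (Subgroup.centralizer_le_normalizer _)
    · exact inf_le_right.trans (le_normalizer_omegaCenter p S)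
  exact not_normalizer_sylow_le (hA.dvd_of_le hAM) hpσ P ((le_normalizer_omegaCenter p S).trans
    ((hM.le_iff.mp hMZ).resolve_left (Core.BG.normalizer_ne_top_of_isPGroup hG (omegaCenter_ne_bot hS hS1)
      (hS.to_le (omegaCenter_le p S)))).le)

/-- Twelve point four, first part. -/
theorem centralizer_ea_sq_le {M : Subgroup G} (hM : IsCoatom M) {p : ℕ} [hp : Fact p.Prime] {A : Subgroup G}
    (hAM : A ≤ M) (hAe : IsElementaryAbelian p A) (hA2 : Nat.card A = p ^ 2) :
    Subgroup.centralizer (A : Set G) ≤ M := by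
  by_cases h : ∀ A₀ : Subgroup G, A₀ ≤ A → Nat.card A₀ = p →
      ¬ (Subgroup.normalizer (A₀ : Set G) ≤ M ∧
        ∀ L : Subgroup G, IsCoatom L → Subgroup.normalizer (A₀ : Set G) ≤ L → L = M)
  swap
  · push Not at h
    obtain ⟨A₀, hA₀, -, hN, -⟩ := h
    exact (Subgroup.centralizer_le hA₀).trans ((Subgroup.centralizer_le_normalizer _).trans hN)
  obtain ⟨hpσ, -, hnil⟩ := nonunique_facts hG hpl hM hAM hAe hA2 h
  obtain ⟨T, hTM, -⟩ := exists_sylow_le hpσ
  have hMT := le_normalizer_sylow_of_nilpotent hG hM hnil hpσ T hTM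
  have hAT : A ≤ (T : Subgroup G) := le_sup_right.trans
    (T.3 (IsPGroup.to_sup_of_normal_left' T.isPGroup' (Components.ea_isPGroup hAe) (hAM.trans hMT)) le_sup_left).le
  have hT1 : (T : Subgroup G) ≠ ⊥ := Sylow.ne_bot_of_dvd_card T (sigma_dvd hpσ)
  set Z := omegaCenter p (T : Subgroup G)
  have hNZ : Subgroup.normalizer (Z : Set G) = M := (hM.le_iff.mp (hMT.trans (le_normalizer_omegaCenter p _))).resolve_left
    (Core.BG.normalizer_ne_top_of_isPGroup hG (omegaCenter_ne_bot T.isPGroup' hT1)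
      (T.isPGroup'.to_le (omegaCenter_le p _)))
  by_cases hu : InUniqueMaximal A
  · exact (only_of_unique hu hM hAM |>.mono (Subgroup.le_centralizer_iff_isMulCommutative.mpr hAe.1)).le fun e => by
      obtain ⟨a, ha, ha1⟩ := A.bot_or_exists_ne_one.resolve_left (fun e' => by
        rw [e', Subgroup.card_bot] at hA2
        exact absurd hA2.symm (Nat.one_lt_pow two_ne_zero hp.out.one_lt).ne')
      exact Core.BG.centralizer_singleton_ne_top hG ha1
        (top_le_iff.mp (e ▸ Subgroup.centralizer_le (by simpa using ha)))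
  have hA : MaxEA p A := MaxEA.of_not_unique hG hAe hA2 (fun e => hM.1 (top_le_iff.mp (e ▸ hAM))) hu
  have hZA : Z ≤ A := fun x hx => hA.full x (Subgroup.centralizer_le hAT hx.1.2) hx.2
  exact ((Subgroup.centralizer_le hZA).trans (Subgroup.centralizer_le_normalizer _)).trans hNZ.le

/-- The exceptional data for `p ∈ τ₂(M)`. -/
theorem exists_exc {M : Subgroup G} (hM : IsCoatom M) {p : ℕ} [hp : Fact p.Prime] (hσ : p ∉ sigma M)
    {A : Subgroup G} (hAM : A ≤ M) (hAe : IsElementaryAbelian p A) (hA2 : Nat.card A = p ^ 2) :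
    ∃ A0, Exc M p A A0 := by
  by_contra hcon
  refine hσ (nonunique_facts hG hpl hM hAM hAe hA2 fun A₀ hA₀ hc hN => hcon ⟨A₀, hM, hσ, hAM, ?_, hA₀, hc, hN.1⟩).1
  exact MaxEA.of_notMem_sigma hG hM hσ hAM hAe hA2

/-- Another maximal subgroup containing `A` meets `M_σ` trivially. -/
theorem Exc.inf_other_eq_bot {p : ℕ} [hp : Fact p.Prime] {M A A0 : Subgroup G} (h : Exc M p A A0)
    {L : Subgroup G} (hL : IsCoatom L) (hne : L ≠ M) (hAL : A ≤ L) : sigmaCore M ⊓ L = ⊥ := by
  refine Subgroup.card_eq_one.mp (Nat.eq_one_iff_not_exists_prime_dvd.mpr fun q hq hd => ?_)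
  haveI := Fact.mk hq
  set D := sigmaCore M ⊓ L
  have hqσ : q ∈ sigma M := mem_sigma_of_dvd hq (hd.trans (Subgroup.card_dvd_of_le inf_le_left))
  have hqp : q ≠ p := fun e => h.notMem (e ▸ hqσ)
  have hDp : ¬ p ∣ Nat.card D := fun hd' =>
    h.not_dvd_sigmaCore (hd'.trans (Subgroup.card_dvd_of_le inf_le_left))
  have hAD : A ≤ Subgroup.normalizer (D : Set G) :=
    (le_inf h.le_normalizer (hAL.trans Subgroup.le_normalizer)).trans Subgroup.inf_normalizer_le_normalizer_inf
  haveI : Group.IsSolvable A := Coprime.isSolvable_of_isPGroup h.maxEA.isPGroup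
  obtain ⟨R, hRD, hR, hRi, hAR⟩ := Coprime.exists_invariant_sylow hAD (Components.ea_coprime h.maxEA.ea hDp) q
  have hR1 : R ≠ ⊥ := fun e => hRi (by rw [e, Subgroup.relIndex_bot_left]; exact hd)
  have hRL : R ≤ L := hRD.trans inf_le_right
  have hCL := centralizer_ea_sq_le hG hpl hL hAL h.maxEA.ea h.maxEA.card
  by_cases hqL : q ∈ sigma L
  · obtain ⟨T, hTM, hTL, -⟩ := exists_common_sylow hG hpl h.maxEA h.coatom hL h.le hAL hCL hqσ hqL hqp hR hR1
      (hRD.trans (inf_le_left.trans (sigmaCore_le M))) hRL hAR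
    exact hne ((h.coatom.le_iff.mp ((le_normalizer_sylow_of_nilpotent hG h.coatom (h.isNilpotent hG hpl) hqσ T hTM).trans
      (normalizer_sylow_le' hG hqL T hTL))).resolve_left hL.1)
  refine hR1 (le_bot_iff.mp ?_)
  rw [← h.inf_centralizer_eq_bot hG hpl]
  refine le_inf (hRD.trans inf_le_left) (Subgroup.commutator_eq_bot_iff_le_centralizer.mp ?_)
  by_cases hpL : p ∈ sigma L
  · refine le_bot_iff.mp ?_
    rw [← inf_sigmaCore_eq_bot (notMem_sigma_of_pGroup hR hqL)]
    refine le_inf (Coprime.commutator_le_of_le_normalizer hAR) ?_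
    rw [Subgroup.commutator_comm]
    exact (Subgroup.commutator_mono (le_sigmaCore hG hL hAL (mem_of_pGroup h.maxEA.isPGroup hpL)) le_rfl).trans
      (Coprime.commutator_le_of_le_normalizer (hRL.trans (le_normalizer_sigmaCore L)))
  · obtain ⟨A1, h1⟩ := exists_exc hG hpl hL hpL hAL h.maxEA.ea h.maxEA.card
    exact h1.commutator_eq_bot hG hpl hqL hqp hR hRL hAR

/-- Twelve point five. -/
theorem tau2_facts {M : Subgroup G} (hM : IsCoatom M) {p : ℕ} [hp : Fact p.Prime] (hpτ : p ∈ tau2 M)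
    {A : Subgroup G} (hA : A ≤ M ∧ IsElementaryAbelian p A ∧ Nat.card A = p ^ 2) :
    Group.IsNilpotent (sigmaCore M) ∧
      (∀ P : Sylow p M, IsMulCommutative (P : Subgroup M) ∧
        (A ≤ (P : Subgroup M).map M.subtype →
          (∀ x ∈ (P : Subgroup M).map M.subtype, x ^ p = 1 ↔ x ∈ A) ∧
          ¬ Subgroup.normalizer ((((P : Subgroup M).map M.subtype : Subgroup G)) : Set G) ≤ M)) ∧
      M ≤ Subgroup.normalizer ((sigmaCore M ⊔ A : Subgroup G) : Set G) ∧
      sigmaCore M ⊓ Subgroup.centralizer (A : Set G) = ⊥ ∧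
      (∀ Mstar : Subgroup G, IsCoatom Mstar → Mstar ≠ M → A ≤ Mstar → sigmaCore M ⊓ Mstar = ⊥) ∧
      ∃ A₁ : Subgroup G, A₁ ≤ A ∧ Nat.card A₁ = p ∧
        sigmaCore M ⊓ Subgroup.centralizer (A₁ : Set G) = ⊥ := by
  obtain ⟨hAM, hAe, hA2⟩ := hA
  obtain ⟨A0, h⟩ := exists_exc hG hpl hM hpτ.2.1 hAM hAe hA2
  refine ⟨h.isNilpotent hG hpl, fun P => ⟨h.sylow_abelian hG hpl P, fun hAP =>
    ⟨fun x hx => h.pow_eq_one_iff hG hpl P hAP hx, not_normalizer_sylow_le (h.maxEA.dvd_of_le hAM) h.notMem P⟩⟩,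
    h.le_normalizer_sup hG hpl, h.inf_centralizer_eq_bot hG hpl,
    fun L hL hne hAL => h.inf_other_eq_bot hG hpl hL hne hAL, ?_⟩
  obtain ⟨P, hAP⟩ := exists_sylow_map_ge h.maxEA.isPGroup h.le
  obtain ⟨n, hn, hnM⟩ := h.exists_notMem P
  exact ⟨cj n A0, (cj_mono h.le0).trans (cj_eq_iff.mpr (h.normalizer_sylow_le_normalizer hG hpl P hAP hn)).le,
    by rw [card_cj, h.card0], h.fpf hG hpl hnM (h.le_cj_of_mem_normalizer hAP hn)⟩

/-- `A` is normal in a complement of `M_σ`. -/
theorem Exc.le_normalizer_of_compl {p : ℕ} [hp : Fact p.Prime] {M A A0 E : Subgroup G} (h : Exc M p A A0)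
    (hE : IsComplIn E (sigmaCore M) M) (hAE : A ≤ E) : E ≤ Subgroup.normalizer (A : Set G) := fun e he =>
  Coprime.mem_normalizer_of_conj_mem fun a ha => by
    have h1 : e * a * e⁻¹ ∈ sigmaCore M ⊔ A := (Subgroup.mem_normalizer_iff.mp
      (h.le_normalizer_sup hG hpl (hE.1 he)) a).mp (Subgroup.mem_sup_right ha)
    obtain ⟨s, hs, a', ha', hsa⟩ := Coprime.exists_mul_of_mem_sup h.le_normalizer h1
    have hs1 : s = 1 := Subgroup.mem_bot.mp (hE.2.2.1.le ⟨by
      rw [show s = e * a * e⁻¹ * a'⁻¹ by rw [← hsa]; group]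
      exact E.mul_mem (E.mul_mem (E.mul_mem he (hAE ha)) (E.inv_mem he)) (E.inv_mem (hAE ha')), hs⟩)
    rw [← hsa, hs1, one_mul]
    exact ha'

/-- Twelve point six. -/
theorem tau2_compl_facts {M E : Subgroup G} (hM : IsCoatom M) (hE : IsComplIn E (sigmaCore M) M) {p : ℕ}
    [hp : Fact p.Prime] (hpτ : p ∈ tau2 M) {A : Subgroup G}
    (hA : A ≤ E ∧ IsElementaryAbelian p A ∧ Nat.card A = p ^ 2) :
    (E ≤ Subgroup.normalizer (A : Set G) ∧ ∀ X : Subgroup G, X ≤ E → Nat.card X = p → X ≤ A) ∧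
      (Subgroup.centralizer (A : Set G) ≤ M ⊓ Subgroup.normalizer (A : Set G) ∧
        M ⊓ Subgroup.normalizer (A : Set G) = E ∧ ¬ Subgroup.normalizer (A : Set G) ≤ M) ∧
      ∀ X : Subgroup G, X ≤ A → Nat.card X = p → sigmaCore M ⊓ Subgroup.centralizer (X : Set G) ≠ ⊥ →
        (Subgroup.centralizer (X : Set G) ≤ M ∧
          ∀ L : Subgroup G, IsCoatom L → Subgroup.centralizer (X : Set G) ≤ L → L = M) := by
  obtain ⟨hAE, hAe, hA2⟩ := hA
  obtain ⟨A0, h⟩ := exists_exc hG hpl hM hpτ.2.1 (hAE.trans hE.1) hAe hA2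
  have hEA := h.le_normalizer_of_compl hG hpl hE hAE
  refine ⟨⟨hEA, fun X hXE hXc x hx => ?_⟩, ⟨le_inf h.centralizer_le (Subgroup.centralizer_le_normalizer _), ?_, ?_⟩,
    fun X hXA hXc hne => ?_⟩
  · have hXp : IsPGroup p X := IsPGroup.of_card (n := 1) (by rw [hXc, pow_one])
    have hsup : IsPGroup p ↥(A ⊔ X) :=
      IsPGroup.to_sup_of_normal_left' h.maxEA.isPGroup hXp (hXE.trans hEA)
    obtain ⟨P, hP⟩ := exists_sylow_map_ge hsup (sup_le h.le (hXE.trans hE.1))
    have hxp : x ^ p = 1 := by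
      have hc := congrArg Subtype.val (pow_card_eq_one' (x := (⟨x, hx⟩ : X)))
      simpa [hXc] using hc
    exact (h.pow_eq_one_iff hG hpl P (le_sup_left.trans hP) (hP (Subgroup.mem_sup_right hx))).mp hxp
  · refine le_antisymm ?_ (le_inf hE.1 hEA)
    rintro m ⟨hm, hmA⟩
    obtain ⟨e, he, s, hs, rfl⟩ := hE.2.2.2 m hm
    have hsA : s ∈ Subgroup.normalizer (A : Set G) := by
      have := mul_mem (inv_mem (hEA he)) hmA
      rwa [inv_mul_cancel_left] at this
    have hs1 : s ∈ sigmaCore M ⊓ Subgroup.centralizer (A : Set G) := ⟨hs,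
      Subgroup.mem_centralizer_iff.mpr fun a ha => by
        have hc : ⁅s, a⁆ ∈ A ⊓ sigmaCore M := by
          refine ⟨?_, ?_⟩
          · rw [commutatorElement_def]
            exact A.mul_mem ((Subgroup.mem_normalizer_iff.mp hsA a).mp ha) (A.inv_mem ha)
          · rw [commutatorElement_def, mul_assoc, mul_assoc]
            refine (sigmaCore M).mul_mem hs ?_
            rw [← mul_assoc]
            exact (Subgroup.mem_normalizer_iff.mp (h.le_normalizer ha) _).mp ((sigmaCore M).inv_mem hs)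
        rw [inf_sigmaCore_eq_bot (notMem_sigma_of_pGroup h.maxEA.isPGroup h.notMem), Subgroup.mem_bot,
          commutatorElement_eq_one_iff_mul_comm] at hc
        exact hc.symm⟩
    rw [h.inf_centralizer_eq_bot hG hpl, Subgroup.mem_bot] at hs1
    rw [hs1, mul_one]
    exact he
  · intro hle
    obtain ⟨P, hAP⟩ := exists_sylow_map_ge h.maxEA.isPGroup h.le
    obtain ⟨n, hn, hnM⟩ := h.exists_notMem P
    exact hnM (hle (h.normalizer_sylow_le_normalizer hG hpl P hAP hn))
  · have hAC : A ≤ Subgroup.centralizer (X : Set G) :=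
      h.maxEA.le_centralizer.trans (Subgroup.centralizer_le hXA)
    have hall : ∀ L : Subgroup G, IsCoatom L → Subgroup.centralizer (X : Set G) ≤ L → L = M := fun L hL hle => by
      by_contra hLM
      exact hne (le_bot_iff.mp ((inf_le_inf_left _ hle).trans
        (h.inf_other_eq_bot hG hpl hL hLM (hAC.trans hle)).le))
    obtain ⟨x, hx, hx1⟩ := X.bot_or_exists_ne_one.resolve_left fun e =>
      hp.out.one_lt.ne (by rw [← hXc, e, Subgroup.card_bot])
    refine ⟨Only.le hall fun e => Core.BG.centralizer_singleton_ne_top hG hx1 (top_le_iff.mp (e ▸ ?_)), hall⟩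
    exact Subgroup.centralizer_le (by simpa using hx)

end Cfsg.Agent.OddLocal.Sigma
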