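import Cfsg.Agent.OddLocal.Sigma.TypeIConverse
import Cfsg.Agent.S1381
import Cfsg.Agent.S1382
import Cfsg.Agent.S1383

/-! The division of the maximal subgroups into types. -/

set_option autoImplicit false
set_option linter.style.haveILetI false
set_option linter.unusedSectionVars false

namespace Cfsg.Agent.OddLocal.Sigma

open Cfsg
open scoped commutatorElement

variable {G : Type*} [Group G] [Finite G] (hG : IsMinSimpleOddOrder G)
include hG
variable (hpl : ∀ (p : ℕ) [Fact p.Prime] (H : Subgroup G), H ≠ ⊤ → PLengthLE p 1 H)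
include hpl

theorem derived_compl {M K U : Subgroup G} (hM : IsCoatom M) (h : IsSigmaDecomposition M K U) (hK1 : K ≠ ⊥) :
    IsComplIn ⁅M, M⁆ K M := by
  obtain ⟨hD, -⟩ := derived_eq_and_fixed_le hG hpl hM h hK1
  have hKD : K ⊓ ⁅M, M⁆ = ⊥ := Coprime.inf_eq_bot_of_coprime (Nat.coprime_of_dvd fun q hq h1 h2 =>
    decomp_primes hG hpl hM h q hq (by rwa [hD] at h1) (h.hall.2.1 q hq h2))
  refine ⟨OddLocal.derived_le M, h.hall.1, by rw [inf_comm]; exact hKD, fun m hm => ?_⟩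
  obtain ⟨k, hk, n, hn, e⟩ := exists_kappa_mul h (M.inv_mem hm)
  exact ⟨n⁻¹, inv_mem (hD.ge hn), k⁻¹, inv_mem hk, by rw [← mul_inv_rev, ← e, inv_inv]⟩

theorem selfNormalizing_partner {M K L : Subgroup G} (hM : IsCoatom M) (hK : IsPiHallOf (kappa M) K M)
    (hK1 : K ≠ ⊥) (hL : IsPartner M K L) :
    IsSelfNormalizingCyclic K (sigmaCore M ⊓ Subgroup.centralizer (K : Set G)) := by
  have hs := hL.split hG hpl hK
  refine ⟨hK1, IsPartner.kst_ne hG hpl hM hK hK1, hs.inf_eq_bot, hs.comm, hL.cyclic, fun X hX hne => ?_⟩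
  obtain ⟨z, hz⟩ := hne
  refine le_antisymm (fun g hg => ?_) (fun g hg => ?_)
  · exact hL.zHat_conj hG hpl hK (hX hz) (hX ((Subgroup.mem_set_normalizer_iff.mp hg z).mp hz))
  · refine Subgroup.mem_set_normalizer_iff.mpr fun v => ⟨fun hv => ?_, fun hv => ?_⟩
    · rwa [hL.zHat_conj_self hG hpl (hX hv) hg]
    · have h1 := hL.zHat_conj_self hG hpl (hX hv) (inv_mem hg)
      rw [show g⁻¹ * (g * v * g⁻¹) * g⁻¹⁻¹ = v by group] at h1
      rwa [h1]

theorem typeP_kind {M K U : Subgroup G} (hM : IsCoatom M) (h : IsSigmaDecomposition M K U) (hK1 : K ≠ ⊥) :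
    IsOfTypeII M ∨ IsOfTypeIII M ∨ IsOfTypeIV M ∨ IsOfTypeV M := by
  by_cases hU : U = ⊥
  · by_cases hF : fittingHallOf M = sigmaCore M
    · exact Or.inr (Or.inr (Or.inr ((S1383.result hG M hM K U h).mpr ⟨hK1, hU, hF⟩)))
    · rcases (S1382.result hG M hM K U h).mpr ⟨hK1, hU, hF⟩ with h' | h'
      exacts [Or.inr (Or.inl h'), Or.inr (Or.inr (Or.inl h'))]
  · exact Or.inl ((S1381.result hG M hM K U h).mpr ⟨hK1, hU⟩)

theorem dichotomy_of (hT : ∀ M : Subgroup G, IsCoatom M → kappa M = ∅ → tau2 M = ∅) :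
    (∀ M : Subgroup G, IsCoatom M → IsOfTypeI M) ∨
      ∃ W₁ W₂ S T : Subgroup G, IsSelfNormalizingCyclic W₁ W₂ ∧ IsCoatom S ∧ IsCoatom T ∧
        IsComplIn ⁅S, S⁆ W₁ S ∧ IsComplIn ⁅T, T⁆ W₂ T ∧ S ⊓ T = W₁ ⊔ W₂ ∧
        (IsOfTypeII S ∨ IsOfTypeII T) ∧
        (IsOfTypeII S ∨ IsOfTypeIII S ∨ IsOfTypeIV S ∨ IsOfTypeV S) ∧
        (IsOfTypeII T ∨ IsOfTypeIII T ∨ IsOfTypeIV T ∨ IsOfTypeV T) ∧
        ∀ M : Subgroup G, IsCoatom M → IsOfTypeI M ∨ ∃ g : G,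
          M = S.map (MulAut.conj g).toMonoidHom ∨ M = T.map (MulAut.conj g).toMonoidHom := by
  by_cases hall : ∀ M : Subgroup G, IsCoatom M → kappa M = ∅
  · exact Or.inl fun M hM => typeI_of_kappa_empty hG hpl hM (hall M hM) (hT M hM (hall M hM))
  push Not at hall
  obtain ⟨S, hS, hne⟩ := hall
  obtain ⟨⟨K, hK⟩, hc⟩ := kappa_hall hG hpl hS
  obtain ⟨U, h⟩ := exists_decomp hG hpl hS (hc K hK) hK
  have hK1 : K ≠ ⊥ := kappa_hall_ne hG hK hne
  obtain ⟨L, hL⟩ := exists_partner hG hpl hS hK hK1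
  obtain ⟨U', hd'⟩ := exists_decomp hG hpl hL.coatom ((kappa_hall hG hpl hL.coatom).2 _ hL.hall) hL.hall
  have hY1 : sigmaCore S ⊓ Subgroup.centralizer (K : Set G) ≠ ⊥ := IsPartner.kst_ne hG hpl hS hK hK1
  refine Or.inr ⟨K, _, S, L, selfNormalizing_partner hG hpl hS hK hK1 hL, hS, hL.coatom,
    derived_compl hG hpl hS h hK1, derived_compl hG hpl hL.coatom hd' hY1, hL.inter, ?_,
    typeP_kind hG hpl hS h hK1, typeP_kind hG hpl hL.coatom hd' hY1, fun M hM => ?_⟩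
  · by_cases hU : U = ⊥
    · exact Or.inr ((S1381.result hG L hL.coatom _ U' hd').mpr
        ⟨hY1, hL.partner_compl_ne_bot hG hpl hS h hU hd'⟩)
    · exact Or.inl ((S1381.result hG S hS K U h).mpr ⟨hK1, hU⟩)
  · by_cases hM0 : kappa M = ∅
    · exact Or.inl (typeI_of_kappa_empty hG hpl hM hM0 (hT M hM hM0))
    · exact Or.inr (hL.classes hG hpl hS hK hK1 hM (Set.nonempty_iff_ne_empty.mpr hM0))

end Cfsg.Agent.OddLocal.Sigma
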