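import Cfsg.Agent.OddLocal.Sigma.TypeDichotomy
import Cfsg.Agent.OddChar.Support.DadeTools
import Cfsg.Agent.S1375
import Cfsg.Agent.S1537
import Cfsg.Agent.S1538

/-! Fusion in `A(M)`, `A₀(M)` and their supporting subgroups. -/

set_option autoImplicit false
set_option linter.style.haveILetI false
set_option linter.unusedSectionVars false

namespace Cfsg.Agent.OddLocal.Sigma

open Cfsg
open scoped commutatorElement

variable {G : Type*} [Group G] [Finite G] (hG : IsMinSimpleOddOrder G)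
include hG
variable (hpl : ∀ (p : ℕ) [Fact p.Prime] (H : Subgroup G), H ≠ ⊤ → PLengthLE p 1 H)
include hpl

omit hG hpl in
theorem complIn_swap {A B M : Subgroup G} (h : IsComplIn A B M) : IsComplIn B A M := by
  refine ⟨h.2.1, h.1, by rw [inf_comm]; exact h.2.2.1, fun m hm => ?_⟩
  obtain ⟨a, ha, b, hb, e⟩ := h.2.2.2 m⁻¹ (M.inv_mem hm)
  exact ⟨b⁻¹, inv_mem hb, a⁻¹, inv_mem ha, by rw [← mul_inv_rev, ← e, inv_inv]⟩

theorem frobenius_of_kappa_empty {M : Subgroup G} (hM : IsCoatom M) (hκ : kappa M = ∅) (hτ : tau2 M = ∅) :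
    ∃ E : Subgroup ↥M, IsFrobeniusComplement E ∧
      frobeniusKernel E = ((fittingHall ↥M : Subgroup ↥M) : Set ↥M) := by
  obtain ⟨U, h, hU1⟩ := exists_kappa_empty_decomp hG hpl hM hκ
  have hF := fittingHallOf_eq_of_kappa_empty hG hpl hM hκ
  have hE := h.compl
  rw [bot_sup_eq] at hE
  refine ⟨U.subgroupOf M, ⟨?_, ?_, ?_⟩, Set.ext fun x => ?_⟩
  · rw [ne_eq, Subgroup.subgroupOf_eq_bot, disjoint_iff, inf_eq_left.mpr hE.1]
    exact hU1
  · exact fun e => sigmaCore_ne_bot hG hM (by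
      rw [Subgroup.subgroupOf_eq_top] at e
      rw [eq_bot_iff, ← hE.2.2.1]; exact le_inf ((sigmaCore_le M).trans e) le_rfl)
  · intro g hg
    rw [eq_bot_iff]
    intro a ha
    obtain ⟨haE, hag⟩ := Subgroup.mem_inf.mp ha
    obtain ⟨b, hb, rfl⟩ := hag
    obtain ⟨e, he, s, hs, hgs⟩ := hE.2.2.2 (g : G) g.2
    have hbE : (b : G) ∈ U := Subgroup.mem_subgroupOf.mp hb
    have hgE : (g : G) * b * (g : G)⁻¹ ∈ U := Subgroup.mem_subgroupOf.mp haE
    have h1 : s * b * s⁻¹ ∈ U := by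
      have := U.mul_mem (U.mul_mem (U.inv_mem he) hgE) he
      rwa [hgs, show e⁻¹ * (e * s * b * (e * s)⁻¹) * e = s * b * s⁻¹ by group] at this
    have h2 : s * b * s⁻¹ * (b : G)⁻¹ ∈ U ⊓ sigmaCore M := by
      refine ⟨U.mul_mem h1 (U.inv_mem hbE), ?_⟩
      rw [show s * b * s⁻¹ * (b : G)⁻¹ = s * ((b : G) * s⁻¹ * (b : G)⁻¹) by group]
      exact (sigmaCore M).mul_mem hs ((Subgroup.mem_normalizer_iff.mp
        (le_normalizer_sigmaCore M b.2) _).mp ((sigmaCore M).inv_mem hs))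
    rw [hE.2.2.1, Subgroup.mem_bot, mul_inv_eq_one, mul_inv_eq_iff_eq_mul] at h2
    have hs1 : s ≠ 1 := fun e1 => hg (Subgroup.mem_subgroupOf.mpr (by rw [hgs, e1, mul_one]; exact he))
    have h3 : (b : G) ∈ U ⊓ sigmaCore M :=
      ⟨hbE, centralizer_le_sigmaCore hG hpl hM hκ hτ hs hs1 b.2 h2.symm⟩
    rw [hE.2.2.1, Subgroup.mem_bot] at h3
    have hb1 : b = 1 := Subtype.ext h3
    rw [Subgroup.mem_bot, hb1]
    exact map_one _
  · rw [SetLike.mem_coe, mem_fittingHall_iff, hF]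
    constructor
    · rintro (rfl | hx)
      · exact one_mem _
      obtain ⟨i, j, hij, hi, hj⟩ := exists_split_elt (sigma M) (x : G)
      have hiσ : (x : G) ^ i ∈ sigmaCore M := le_sigmaCore hG hM (Subgroup.zpowers_le.mpr (pow_mem x.2 i))
        (fun q hq hd => hi q hq (by rwa [Nat.card_zpowers] at hd)) (Subgroup.mem_zpowers _)
      by_cases hi1 : (x : G) ^ i = 1
      · exfalso
        have hxj : (x : G) = (x : G) ^ j := by rw [hi1, one_mul] at hij; exact hij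
        obtain ⟨m, hm, hmU⟩ := exists_cj_le_compl hG hM hE (Subgroup.zpowers_le.mpr (pow_mem x.2 j))
          (fun q hq hd => hj q hq (by rwa [Nat.card_zpowers] at hd))
        refine hx (⟨m, hm⟩ : M)⁻¹ ⟨(⟨m, hm⟩ : M) * x * (⟨m, hm⟩ : M)⁻¹, ?_, ?_⟩
        · refine Subgroup.mem_subgroupOf.mpr (hmU ⟨_, Subgroup.mem_zpowers _, ?_⟩)
          rw [← hxj]; rfl
        · show (MulAut.conj ((⟨m, hm⟩ : M)⁻¹)) ((⟨m, hm⟩ : M) * x * (⟨m, hm⟩ : M)⁻¹) = x
          rw [MulAut.conj_apply]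
          group
      · rw [hij]
        refine mul_mem hiσ (centralizer_le_sigmaCore hG hpl hM hκ hτ hiσ hi1 (pow_mem x.2 j) ?_)
        exact (pow_mul_comm _ _ _)
    · intro hx
      by_cases hx1 : x = 1
      · exact Or.inl hx1
      refine Or.inr fun g hg => hx1 ?_
      obtain ⟨b, hb, hgb⟩ := hg
      have h1 : (b : G) ∈ U ⊓ sigmaCore M := by
        refine ⟨Subgroup.mem_subgroupOf.mp hb, ?_⟩
        have h2 := (Subgroup.mem_normalizer_iff'.mp (le_normalizer_sigmaCore M g.2) ((b : G) * (g : G)⁻¹)).mp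
        have e : (x : G) = (g : G) * b * (g : G)⁻¹ := (congrArg Subtype.val hgb).symm
        rw [e] at hx
        have := (Subgroup.mem_normalizer_iff.mp (le_normalizer_sigmaCore M g.2) (b : G)).mpr hx
        exact this
      rw [hE.2.2.1, Subgroup.mem_bot] at h1
      rw [← hgb, show b = 1 from Subtype.ext h1]
      exact map_one _

/-- The elements of `A₀(M)` with centralizer outside `M` lie in `M_σ` and in `A₁(M)`. -/
theorem exceptional_facts (hT : ∀ M : Subgroup G, IsCoatom M → kappa M = ∅ → tau2 M = ∅) {M : Subgroup G}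
    (hM : IsCoatom M) {x : G} (hx : x ∈ typeA0 M) (hxC : ¬ Subgroup.centralizer ({x} : Set G) ≤ M) :
    x ∈ sigmaCore M ∧ x ≠ 1 ∧ x ∈ typeA1 M := by
  obtain ⟨⟨K, hK⟩, hcyc⟩ := kappa_hall hG hpl hM
  obtain ⟨V, hKV⟩ := exists_decomp hG hpl hM (hcyc K hK) hK
  have hFσ := fittingHallOf_le_sigmaCore hG hpl hM
  by_cases hK1 : K = ⊥
  · have hκ := decomp_kappa_empty hG hpl hKV hK1
    have hI := typeI_of_kappa_empty hG hpl hM hκ (hT M hM hκ)
    have hTc : typeCore M = fittingHallOf M := if_neg fun h => ((S1382.result hG M hM K V hKV).mp h).1 hK1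
    rcases hx with hx | ⟨hn, -⟩
    swap
    · exact absurd hI hn
    rw [typeA, if_pos hI] at hx
    obtain ⟨hxM, hx1, y, hy, hy1, hc⟩ := hx
    have hσ := centralizer_le_sigmaCore hG hpl hM hκ (hT M hM hκ) (hFσ hy) hy1 hxM hc
    refine ⟨hσ, hx1, ?_, hx1⟩
    rw [hTc, fittingHallOf_eq_of_kappa_empty hG hpl hM hκ]
    exact hσ
  by_cases hV1 : V = ⊥
  · have hnI : ¬ IsOfTypeI M := fun hI => hK1 (typeI_cases hG hpl hM hKV hI).1
    have hD : ⁅M, M⁆ = sigmaCore M := by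
      rw [(derived_eq_and_fixed_le hG hpl hM hKV hK1).1, hV1, bot_sup_eq]
    rcases hx with hx | ⟨-, W₁, U, W₂, hd, m, hm, w, hw, hw1, hw2, rfl⟩
    · rw [typeA, if_neg hnI] at hx
      refine ⟨hD.le hx.1, hx.2.1, ?_, hx.2.1⟩
      by_cases hF : fittingHallOf M = sigmaCore M
      · unfold typeCore
        split_ifs
        · exact hx.1
        · rw [hF]; exact hD.le hx.1
      · unfold typeCore
        rw [if_pos ((S1382.result hG M hM K V hKV).mpr ⟨hK1, hV1, hF⟩)]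
        exact hx.1
    · refine absurd ?_ hxC
      intro c hc
      have h1 : m⁻¹ * c * m ∈ Subgroup.centralizer ({w} : Set G) := by
        rw [Subgroup.mem_centralizer_singleton_iff] at hc ⊢
        rw [show m⁻¹ * c * m * w = m⁻¹ * (c * (m * w * m⁻¹)) * m by group, hc]
        group
      rw [centralizer_zSet hd.selfNormalizing ⟨hw, hw1, hw2⟩] at h1
      have h2 : m⁻¹ * c * m ∈ M := sup_le hd.W₁_compl.2.1
        ((hd.W₂_le.trans inf_le_left).trans (OddLocal.fittingHallOf_le M)) h1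
      have h3 := M.mul_mem (M.mul_mem hm h2) (M.inv_mem hm)
      rwa [show m * (m⁻¹ * c * m) * m⁻¹ = c by group] at h3
  · obtain ⟨⟨hTI, hN⟩, -⟩ := S1538.result hG M hM ((S1381.result hG M hM K V hKV).mpr ⟨hK1, hV1⟩)
    refine absurd (fun c hc => ?_) hxC
    by_contra hcM
    have hx1 : x = 1 := hTI c (by rw [hN]; exact hcM) x hx (by
      rw [Subgroup.mem_centralizer_singleton_iff.mp hc, mul_inv_cancel_right]; exact hx)
    exact (S1537.result hG M hM (typeA0 M) (Or.inr (Or.inr rfl))).2.one_not_mem (hx1 ▸ hx)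

theorem fusion_of (hT : ∀ M : Subgroup G, IsCoatom M → kappa M = ∅ → tau2 M = ∅)
    {M : Subgroup G} (hM : IsCoatom M) {X : Set G} (hX : X = typeA M ∨ X = typeA0 M) :
    (∀ x ∈ X, ∀ g : G, g * x * g⁻¹ ∈ X → ∃ m ∈ M, m * x * m⁻¹ = g * x * g⁻¹) ∧
      (∀ x ∈ X, ¬ Subgroup.centralizer ({x} : Set G) ≤ M → x ∈ typeA1 M ∧
        ∃! L : Subgroup G, IsCoatom L ∧ Subgroup.centralizer ({x} : Set G) ≤ L) ∧
      ∀ x ∈ X, ¬ Subgroup.centralizer ({x} : Set G) ≤ M → ∀ L : Subgroup G, IsCoatom L →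
        Subgroup.centralizer ({x} : Set G) ≤ L →
        IsComplIn (fittingHallOf L) (M ⊓ L) L ∧
        Subgroup.centralizer ({x} : Set G) ≤
          Subgroup.normalizer ((fittingHallOf L ⊓ Subgroup.centralizer ({x} : Set G) : Subgroup G) : Set G) ∧
        IsComplIn (fittingHallOf L ⊓ Subgroup.centralizer ({x} : Set G)) (M ⊓ Subgroup.centralizer ({x} : Set G))
          (Subgroup.centralizer ({x} : Set G)) ∧
        (∀ y ∈ X, (Nat.card (fittingHallOf L)).Coprime (Nat.card ↥(M ⊓ Subgroup.centralizer ({y} : Set G)))) ∧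
        (x ∈ typeA L ∧ x ∉ typeA1 L) ∧
        (IsOfTypeI L ∨ IsOfTypeII L) ∧
        (IsOfTypeII L → ∃ E : Subgroup ↥M, IsFrobeniusComplement E ∧
          frobeniusKernel E = ((fittingHall ↥M : Subgroup ↥M) : Set ↥M)) := by
  obtain ⟨-, hdade⟩ := S1537.result hG M hM X
    (by rcases hX with h | h; exacts [Or.inr (Or.inl h), Or.inr (Or.inr h)])
  have hsub : X ⊆ typeA0 M := by
    rcases hX with rfl | rfl
    exacts [fun v hv => Or.inl hv, subset_rfl]
  refine ⟨hdade.fusion, fun x hx hC => ?_, fun x hx hC L hL hxL => ?_⟩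
  · obtain ⟨hσ, hx1, hA1⟩ := exceptional_facts hG hpl hT hM (hsub hx) hC
    obtain ⟨N, h⟩ := exists_support hG hpl hM hσ hx1 hC
    exact ⟨hA1, N, ⟨h.coatom, h.le⟩, fun L hL => h.only L hL.1 hL.2⟩
  obtain ⟨hσ, hx1, -⟩ := exceptional_facts hG hpl hT hM (hsub hx) hC
  obtain ⟨N, h⟩ := exists_support hG hpl hM hσ hx1 hC
  obtain rfl := h.only L hL hxL
  obtain ⟨N', ⟨hN', hxN'⟩, huniq, hF, -, -, -, hdec⟩ := S1375.result hG M hM x hσ hx1 hC
  obtain rfl := h.only N' hN' hxN'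
  rw [← hF]
  obtain ⟨⟨K', hK'⟩, hcyc'⟩ := kappa_hall hG hpl hL
  obtain ⟨U', hd'⟩ := exists_decomp hG hpl hL (hcyc' K' hK') hK'
  obtain ⟨hU', hxA, hxσ⟩ := hdec K' U' hd'
  have hκL : (kappa N').Nonempty := Set.nonempty_iff_ne_empty.mpr fun e => by
    obtain ⟨q, hq, hd⟩ := Nat.exists_prime_and_dvd (show orderOf x ≠ 1 by rwa [ne_eq, orderOf_eq_one_iff])
    have := (h.tau2_primes q hq hd).1
    rw [hT N' hL e] at this
    exact this
  have hK'1 : K' ≠ ⊥ := kappa_hall_ne hG hK' hκL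
  have hII : IsOfTypeII N' := (S1381.result hG N' hL K' U' hd').mpr ⟨hK'1, hU'⟩
  have hnI : ¬ IsOfTypeI N' := fun hI => hK'1 (typeI_cases hG hpl hL hd' hI).1
  have hTc : typeCore N' = sigmaCore N' := by
    rw [hF]
    exact if_neg fun h34 => hU' ((S1382.result hG N' hL K' U' hd').mp h34).2.1
  refine ⟨complIn_swap h.compl, h.le_normalizer_R, complIn_swap h.complIn_R, fun y hy => ?_,
    ⟨?_, ?_⟩, Or.inr hII, fun _ => ?_⟩
  · refine OddChar.Support.coprime_support hG hM h hσ hx1 fun hκ => ⟨?_, fun e => hdade.one_not_mem (e ▸ hy)⟩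
    have hI := typeI_of_kappa_empty hG hpl hM hκ (hT M hM hκ)
    rcases hsub hy with hy' | ⟨hn, -⟩
    · rw [typeA, if_pos hI] at hy'
      obtain ⟨hyM, -, z, hz, hz1, hc⟩ := hy'
      exact ⟨hyM, z, fittingHallOf_le_sigmaCore hG hpl hM hz, hz1, hc⟩
    · exact absurd hI hn
  · rw [typeA, if_neg hnI]
    obtain ⟨⟨-, z, hz, hz1, hc⟩, hxU⟩ := hxA
    refine ⟨?_, hx1, z, hTc.ge hz, hz1, hc⟩
    rw [(derived_eq_and_fixed_le hG hpl hL hd' hK'1).1]
    exact hxU
  · intro h'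
    exact hxσ (hTc.le h'.1)
  · obtain ⟨hκM, hτM, -⟩ := h.kappa_facts hG hpl hM hx1 hκL
    exact frobenius_of_kappa_empty hG hpl hM hκM hτM

end Cfsg.Agent.OddLocal.Sigma
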