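import Cfsg.Agent.OddLocal.Sigma.TypeI
import Cfsg.Agent.OddLocal.Sigma.TypeVMoved
import Cfsg.Agent.OddLocal.Sigma.Cover

/-! A maximal subgroup with `κ(M) = τ₂(M) = ∅` is of Type I. -/

set_option autoImplicit false
set_option linter.style.haveILetI false
set_option linter.unusedSectionVars false

namespace Cfsg.Agent.OddLocal.Sigma

open Cfsg
open scoped commutatorElement

variable {G : Type*} [Group G] [Finite G]

theorem mem_fittingHall_iff {M : Subgroup G} (a : M) : a ∈ fittingHall M ↔ (a : G) ∈ fittingHallOf M :=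
  ⟨fun h => ⟨a, h, rfl⟩, fun ⟨_, hb, e⟩ => Subtype.ext e ▸ hb⟩

variable (hG : IsMinSimpleOddOrder G)
include hG
variable (hpl : ∀ (p : ℕ) [Fact p.Prime] (H : Subgroup G), H ≠ ⊤ → PLengthLE p 1 H)
include hpl

/-- `M = E M_σ` is a standard factorisation with `K = 1` when `κ(M) = ∅`. -/
theorem exists_kappa_empty_decomp {M : Subgroup G} (hM : IsCoatom M) (hκ : kappa M = ∅) :
    ∃ U : Subgroup G, IsSigmaDecomposition M ⊥ U ∧ U ≠ ⊥ := by
  obtain ⟨X, hX, -⟩ := exists_compl_ge hG hM (bot_le : (⊥ : Subgroup G) ≤ M) (fun q hq hd => by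
    rw [Subgroup.card_bot] at hd; exact absurd hd hq.not_dvd_one)
  refine ⟨X, ⟨inferInstance, ⟨bot_le, fun t ht hdt => by
      rw [Subgroup.card_bot] at hdt; exact absurd hdt ht.not_dvd_one,
      fun t _ ht => absurd ht (by rw [hκ]; exact id)⟩, by rw [bot_sup_eq]; exact hX, bot_le⟩, fun e => ?_⟩
  refine ((derived_lt hG hpl hM).not_ge ?_)
  intro m hm
  obtain ⟨a, ha, b, hb, rfl⟩ := hX.2.2.2 m hm
  rw [e, Subgroup.mem_bot] at ha
  rw [ha, one_mul]
  exact sigmaCore_le_derived hG hM hb

/-- With `κ(M) = τ₂(M) = ∅` the centralizers in `M` of elements of `M_σ` lie in `M_σ`. -/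
theorem centralizer_le_sigmaCore {M : Subgroup G} (hM : IsCoatom M) (hκ : kappa M = ∅) (hτ : tau2 M = ∅)
    {h y : G} (hh : h ∈ sigmaCore M) (hh1 : h ≠ 1) (hy : y ∈ M) (hc : y * h = h * y) : y ∈ sigmaCore M := by
  obtain ⟨i, j, hij, hi, hj⟩ := exists_split_elt (sigma M) y
  have hjone : y ^ j = 1 := by
    by_contra hne
    obtain ⟨q, hq, hd⟩ := Nat.exists_prime_and_dvd
      (show orderOf (y ^ j) ≠ 1 by rwa [ne_eq, orderOf_eq_one_iff])
    rcases fixed_elt_classes hG hpl hM (pow_mem hy j) hh hh1 ((show Commute y h from hc).pow_left j).eq hq hd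
      (hj q hq hd) with h' | h'
    · rw [hκ] at h'; exact h'
    · rw [hτ] at h'; exact h'
  rw [hij, hjone, mul_one]
  exact le_sigmaCore hG hM (Subgroup.zpowers_le.mpr (pow_mem hy i))
    (fun q hq hd => hi q hq (by rwa [Nat.card_zpowers] at hd)) (Subgroup.mem_zpowers _)

theorem fittingHallOf_eq_of_kappa_empty {M : Subgroup G} (hM : IsCoatom M) (hκ : kappa M = ∅) :
    fittingHallOf M = sigmaCore M := by
  obtain ⟨U, h, hU1⟩ := exists_kappa_empty_decomp hG hpl hM hκ
  exact le_antisymm (fittingHallOf_le_sigmaCore hG hpl hM)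
    (sigmaCore_le_fittingHallOf hG hpl hM (isNilpotent_sigmaCore_of_ne_bot hG hpl hM h hU1))

theorem typeF_of_kappa_empty {M : Subgroup G} (hM : IsCoatom M) (hκ : kappa M = ∅) (hτ : tau2 M = ∅) :
    IsOfTypeF ↥M := by
  obtain ⟨U, h, hU1⟩ := exists_kappa_empty_decomp hG hpl hM hκ
  have hF := fittingHallOf_eq_of_kappa_empty hG hpl hM hκ
  obtain ⟨hUM, -, hUσ, hmul⟩ := h.compl
  rw [bot_sup_eq] at hUσ hmul
  have hfree : ∀ u : M, u ∈ U.subgroupOf M → ∀ x ∈ fittingHall M, x ≠ 1 → u * x = x * u → u = 1 := by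
    intro u hu x hx hx1 hc
    have h1 : (u : G) ∈ U ⊓ sigmaCore M := ⟨Subgroup.mem_subgroupOf.mp hu,
      centralizer_le_sigmaCore hG hpl hM hκ hτ (hF ▸ (mem_fittingHall_iff x).mp hx)
        (fun e => hx1 (Subtype.ext e)) u.2 (congrArg Subtype.val hc)⟩
    rw [hUσ, Subgroup.mem_bot] at h1
    exact Subtype.ext h1
  refine ⟨Core.BG.isSolvable_proper hG hM.1, odd_of_dvd hG (Subgroup.card_subgroup_dvd_card M), ?_, ?_,
    U.subgroupOf M, ?_, ?_, ⟨⊥, bot_le, ?_, inferInstance, ?_⟩, U.subgroupOf M, le_rfl, rfl, ?_⟩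
  · intro e
    apply sigmaCore_ne_bot hG hM
    rw [← hF, fittingHallOf, e, Subgroup.map_bot]
  · intro e
    refine hU1 (le_bot_iff.mp ?_)
    rw [← hUσ]
    exact le_inf le_rfl fun u hu => hF ▸ (mem_fittingHall_iff ⟨u, hUM hu⟩).mp (e ▸ Subgroup.mem_top _)
  · rw [ne_eq, Subgroup.subgroupOf_eq_bot, disjoint_iff, inf_eq_left.mpr hUM]
    exact hU1
  · refine Subgroup.isComplement'_of_disjoint_and_mul_eq_univ ?_ ?_
    · rw [disjoint_iff, eq_bot_iff]
      intro a ha
      have h1 : (a : G) ∈ U ⊓ sigmaCore M :=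
        ⟨Subgroup.mem_subgroupOf.mp ha.2, hF ▸ (mem_fittingHall_iff a).mp ha.1⟩
      rw [hUσ, Subgroup.mem_bot] at h1
      exact Subgroup.mem_bot.mpr (Subtype.ext h1)
    · refine Set.eq_univ_of_forall fun a => ?_
      obtain ⟨u, hu, s, hs, e⟩ := hmul _ (inv_mem a.2)
      refine ⟨⟨s⁻¹, inv_mem (sigmaCore_le M hs)⟩, (mem_fittingHall_iff _).mpr (hF.symm ▸ inv_mem hs),
        ⟨u⁻¹, inv_mem (hUM hu)⟩, Subgroup.mem_subgroupOf.mpr (inv_mem hu), Subtype.ext ?_⟩
      show s⁻¹ * u⁻¹ = (a : G)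
      rw [← mul_inv_rev, ← e, inv_inv]
  · rw [Subgroup.normalizer_eq_top]; exact le_top
  · intro x hx hx1 u hu
    exact Subgroup.mem_bot.mpr (hfree u hu.1 x hx hx1 (Subgroup.mem_centralizer_singleton_iff.mp hu.2))
  · intro u hu hu1 x hx hc
    by_contra hx1
    exact hu1 (hfree u hu x hx hx1 hc)

/-- A normal subgroup of prime order `q` in `M_σ` bounds the exponent of `M / M_F`. -/
theorem exponent_dvd_of_normal_line {M Z : Subgroup G} (hM : IsCoatom M) (hκ : kappa M = ∅) (hτ : tau2 M = ∅)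
    {q : ℕ} [hq : Fact q.Prime] (hZ : Nat.card Z = q) (hZσ : Z ≤ sigmaCore M)
    (hMZ : M ≤ Subgroup.normalizer (Z : Set G)) : Monoid.exponent (↥M ⧸ fittingHall ↥M) ∣ q - 1 := by
  haveI : IsCyclic Z := isCyclic_of_prime_card hZ
  obtain ⟨z, hz, hz1⟩ := Z.bot_or_exists_ne_one.resolve_left fun e => by
    rw [e, Subgroup.card_bot] at hZ; exact hq.out.one_lt.ne hZ
  refine Monoid.exponent_dvd_of_forall_pow_eq_one fun a => ?_
  obtain ⟨m, rfl⟩ := QuotientGroup.mk_surjective a
  rw [← QuotientGroup.mk_pow, QuotientGroup.eq_one_iff, mem_fittingHall_iff,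
    fittingHallOf_eq_of_kappa_empty hG hpl hM hκ]
  set f := Z.normalizerMonoidHom.comp (Subgroup.inclusion hMZ) with hf
  have h1 : f (m ^ (q - 1)) = 1 := by
    rw [map_pow]
    have h2 : Nat.card (MulAut Z) = q - 1 := by rw [IsCyclic.card_mulAut, hZ, Nat.totient_prime hq.out]
    rw [← h2]
    exact pow_card_eq_one'
  refine centralizer_le_sigmaCore hG hpl hM hκ hτ (hZσ hz) hz1 (m ^ (q - 1)).2 ?_
  exact mul_inv_eq_iff_eq_mul.mp (congrArg Subtype.val
    (DFunLike.congr_fun h1 ⟨z, hz⟩ : (f (m ^ (q - 1))) ⟨z, hz⟩ = (1 : MulAut Z) ⟨z, hz⟩) :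
      ((m ^ (q - 1) : M) : G) * z * ((m ^ (q - 1) : M) : G)⁻¹ = z)

/-- The alternatives when an element `y` of order `p` of `M_σ` has a support `N`. -/
theorem support_cases {M : Subgroup G} (hM : IsCoatom M) (hκ : kappa M = ∅) (hτ : tau2 M = ∅)
    {p : ℕ} [Fact p.Prime] {y : G} (hyo : orderOf y = p) (hyσ : y ∈ sigmaCore M) (hpσ : p ∈ sigma M)
    {N : Subgroup G} (hN : IsSupport M N y) :
    (IsMulCommutative (fittingHallOf M) ∧ RankLE 2 (fittingHallOf M) ∧ ¬ RankLE 1 (fittingHallOf M)) ∨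
      ((∀ q : ℕ, q.Prime → q ∣ Nat.card (fittingHallOf M) →
          Monoid.exponent (↥M ⧸ fittingHall ↥M) ∣ q - 1) ∧
        p ∣ Nat.card (fittingHallOf M) ∧ IsCyclic (pPrimeCore p ↥M) ∧
        (∀ t : ℕ, t.Prime → t ≠ p → ∀ P : Subgroup G, IsPGroup t P → P ≤ sigmaCore M → IsCyclic P) ∧
        ∀ S : Sylow p G, ¬ IsMulCommutative (S : Subgroup G)) := by
  have hF := fittingHallOf_eq_of_kappa_empty hG hpl hM hκ
  have hp : p.Prime := Fact.out
  have hn : Group.IsNilpotent (sigmaCore M) := hF ▸ isNilpotent_fittingHallOf M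
  haveI := hn
  obtain ⟨hpτ, -⟩ := hN.tau2_primes p hp (hyo.symm ▸ dvd_rfl)
  obtain ⟨A, hAE, hAe, hA2⟩ := exists_ea_le_compl hG hN.compl hpτ
  obtain ⟨A0, hexc⟩ := exists_exc hG hpl hN.coatom hpτ.2.1 (hAE.trans hN.compl.1) hAe hA2
  obtain ⟨T, hTσ, hMT⟩ := le_normalizer_sylow_of_nilpotent' hG hM hpσ
  have hAT := le_sylow_of_le_normalizer hexc.maxEA.isPGroup T ((hAE.trans inf_le_left).trans hMT)
  have hother : ∀ t : ℕ, t.Prime → t ≠ p → ∀ P : Subgroup G, IsPGroup t P → P ≤ sigmaCore M → P ≤ M ⊓ N := by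
    intro t ht htp P hP hPσ
    haveI := Fact.mk ht
    refine le_inf (hPσ.trans (sigmaCore_le M)) (le_trans (fun a ha => ?_) hN.le)
    refine Subgroup.mem_centralizer_singleton_iff.mpr (commute_of_mem_nilpotent hn (hPσ ha) hyσ ?_).eq
    obtain ⟨k, hk⟩ := IsPGroup.iff_card.mp hP
    refine Nat.Coprime.coprime_dvd_left (hk ▸ Subgroup.orderOf_dvd_natCard P ha) ?_
    rw [hyo]
    exact ((Nat.coprime_primes ht hp).mpr htp).pow_left k
  have hNσ : ∀ X : Subgroup G, X ≤ M ⊓ N → ∀ t : ℕ, t.Prime → t ∣ Nat.card X → t ∉ sigma N := fun X hX t ht hd =>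
    complIn_notMem_sigma hG hN.coatom hN.compl ht (hd.trans (Subgroup.card_dvd_of_le hX))
  by_cases hTc : IsMulCommutative (T : Subgroup G)
  · -- `H` is abelian of rank two
    left
    have hcomm : ∀ {t : ℕ} [Fact t.Prime] (P : Subgroup G), IsPGroup t P → P ≤ sigmaCore M →
        IsMulCommutative P := by
      intro t ht P hP hPσ
      by_cases htp : t = p
      · subst htp
        exact isMulCommutative_of_le
          (le_sylow_of_le_normalizer hP T ((hPσ.trans (sigmaCore_le M)).trans hMT))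
      · haveI : Group.IsNilpotent P := hP.isNilpotent
        exact isMulCommutative_of_nilpotent_le hG hpl hN.coatom ((hother t ht.out htp P hP hPσ).trans inf_le_right)
          (hNσ P (hother t ht.out htp P hP hPσ))
    rw [hF]
    refine ⟨?_, fun t ht B hBc hBe => ?_, fun h1 => ?_⟩
    · refine isMulCommutative_of_nilpotent fun t ht P => ?_
      haveI := Fact.mk ht
      have h1 := hcomm ((P : Subgroup (sigmaCore M)).map (sigmaCore M).subtype) (P.isPGroup'.map _)
        (Subgroup.map_subtype_le _)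
      exact ⟨⟨fun a b => Subtype.ext ((sigmaCore M).subtype_injective (congrArg Subtype.val
        (h1.is_comm.comm ⟨_, Subgroup.mem_map_of_mem (sigmaCore M).subtype a.2⟩
          ⟨_, Subgroup.mem_map_of_mem (sigmaCore M).subtype b.2⟩)))⟩⟩
    · haveI := Fact.mk ht
      set B' := B.map (sigmaCore M).subtype with hB'
      have hBp : IsPGroup t B := fun b => ⟨1, Subtype.ext (by rw [pow_one]; exact hBe b b.2)⟩
      have hB'p : IsPGroup t B' := hBp.map _
      have hB'σ : B' ≤ sigmaCore M := Subgroup.map_subtype_le _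
      rw [← Core.card_map_subtype]
      by_cases htp : t = p
      · subst htp
        have hBT := le_sylow_of_le_normalizer hB'p T ((hB'σ.trans (sigmaCore_le M)).trans hMT)
        refine (Nat.le_of_dvd Nat.card_pos (Subgroup.card_dvd_of_le (?_ : B' ≤ A))).trans hexc.maxEA.card.le
        rintro _ ⟨b, hb, rfl⟩
        refine hexc.maxEA.full _ ?_ ?_
        · exact Subgroup.mem_centralizer_iff.mpr fun a ha => congrArg Subtype.val
            (hTc.is_comm.comm ⟨a, hAT ha⟩ ⟨_, hBT (Subgroup.mem_map_of_mem _ hb)⟩)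
        · rw [← map_pow, hBe b hb, map_one]
      · by_cases hd : t ∣ Nat.card B'
        · have hle := hother t ht htp B' hB'p hB'σ
          have h2 := Components.pRankLE_of_injective (Subgroup.inclusion_injective (hle.trans inf_le_right))
            (pRankLE_two_of_notMem_sigma hG hN.coatom ht (hNσ B' hle t ht hd))
          haveI := hcomm B' hB'p hB'σ
          have h3 := h2 ⊤ ⟨⟨fun a b => Subtype.ext (mul_comm' (a : B') (b : B'))⟩⟩ (fun a _ => by
            obtain ⟨b, hb, e⟩ := a.2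
            refine Subtype.ext ?_
            rw [SubmonoidClass.coe_pow, ← e, ← map_pow, hBe b hb, map_one]; rfl)
          rwa [Subgroup.card_top] at h3
        · obtain ⟨k, hk⟩ := IsPGroup.iff_card.mp hB'p
          rcases k with _ | k
          · rw [hk, pow_zero]; exact Nat.one_le_pow _ _ ht.pos
          · exact absurd (hk ▸ dvd_pow_self t k.succ_ne_zero) hd
    · have hAσ : A ≤ sigmaCore M := hAT.trans hTσ
      have h2 := h1 p hp (A.subgroupOf (sigmaCore M)) (by
        haveI := hAe.1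
        exact ⟨⟨fun a b => Subtype.ext (Subtype.ext (congrArg Subtype.val (mul_comm'
          (⟨_, Subgroup.mem_subgroupOf.mp a.2⟩ : A) ⟨_, Subgroup.mem_subgroupOf.mp b.2⟩) :))⟩⟩)
        (fun a ha => Subtype.ext (hAe.2 a (Subgroup.mem_subgroupOf.mp ha)))
      rw [Core.card_subgroupOf hAσ, hA2, pow_one] at h2
      exact absurd h2 (by nlinarith [hp.one_lt])
  · right
    have hτN : tau2 N = {p} := hexc.tau2_eq hG hpl
      (sylow_all_nonabelian fun hall => hTc (hall T)) hN.compl hpτ hAE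
    have hcycP : ∀ {t : ℕ} [Fact t.Prime] (P : Subgroup G), IsPGroup t P → P ≤ sigmaCore M → t ≠ p →
        IsCyclic P := by
      intro t htF P hP hPσ htp
      have ht := htF.out
      by_cases hd : t ∣ Nat.card P
      swap
      · have : P = ⊥ := by
          obtain ⟨k, hk⟩ := IsPGroup.iff_card.mp hP
          rcases k with _ | k
          · exact Subgroup.eq_bot_of_card_eq _ (by rw [hk, pow_zero])
          · exact absurd (hk ▸ dvd_pow_self t k.succ_ne_zero) hd
        rw [this]; infer_instance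
      have hPN := hother t ht htp P hP hPσ
      have htN : t ∣ Nat.card N := hd.trans (Subgroup.card_dvd_of_le (hPN.trans inf_le_right))
      have hr1 : PRankLE t 1 N := by
        rcases mem_classes hG hN.coatom ht htN with h' | h' | h' | h'
        exacts [absurd h' (hNσ P hPN t ht hd), h'.2.2.2.2, absurd h' (by rw [hτN]; exact htp), h'.2.2.2]
      obtain ⟨S, hS⟩ := exists_sylow_map_ge hP (hPN.trans inf_le_right)
      haveI := sylow_isCyclic_of_rankOne hG hr1 le_rfl S
      haveI : IsCyclic ((S : Subgroup N).map N.subtype) := isCyclic_of_surjective _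
        ((S : Subgroup N).equivMapOfInjective _ N.subtype_injective).surjective
      exact isCyclic_of_injective (Subgroup.inclusion hS) (Subgroup.inclusion_injective _)
    have hTH : (T : Subgroup G) ≤ fittingHallOf M := hF.symm ▸ hTσ
    have hT1 : (T : Subgroup G) ≠ ⊥ := fun e => hTc (by rw [e]; exact ⟨⟨fun a b => Subsingleton.elim _ _⟩⟩)
    refine ⟨fun q hq hd => ?_, (dvd_card_of_ne_bot T.isPGroup' hT1).trans (Subgroup.card_dvd_of_le hTH), ?_,
      fun t ht htp P hP hPσ => @hcycP t ⟨ht⟩ P hP hPσ htp, sylow_all_nonabelian fun hall => hTc (hall T)⟩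
    · haveI := Fact.mk hq
      rw [hF] at hd
      by_cases hqp : q = p
      · subst hqp
        set Z := A ⊓ Subgroup.centralizer ((T : Subgroup G) : Set G) with hZdef
        have hfull : ∀ z : G, z ∈ Subgroup.centralizer ((T : Subgroup G) : Set G) → z ^ q = 1 → z ∈ Z :=
          fun z hz hzq => ⟨hexc.maxEA.full z (Subgroup.centralizer_le hAT hz) hzq, hz⟩
        have hne : Z ≠ A := fun e => hTc (by
          haveI := T.isPGroup'.isNilpotent
          have hTN : (T : Subgroup G) ≤ M ⊓ N := le_inf (hTσ.trans (sigmaCore_le M))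
            ((Subgroup.le_centralizer_iff.mp (e.ge.trans inf_le_right)).trans
              (centralizer_ea_sq_le hG hpl hN.coatom (hAE.trans hN.compl.1) hAe hA2))
          exact isMulCommutative_of_nilpotent_le hG hpl hN.coatom (hTN.trans inf_le_right) (hNσ _ hTN))
        have hZ1 : Z ≠ ⊥ := fun e => by
          haveI : Nontrivial (T : Subgroup G) := (Subgroup.nontrivial_iff_ne_bot _).mpr hT1
          haveI := T.isPGroup'.center_nontrivial
          obtain ⟨c, hc⟩ := exists_prime_orderOf_dvd_card' (G := Subgroup.center (T : Subgroup G)) q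
            (dvd_card_of_ne_bot (T.isPGroup'.to_subgroup _)
              ((Subgroup.nontrivial_iff_ne_bot _).mp inferInstance))
          have hco : orderOf ((c : (T : Subgroup G)) : G) = q := by
            rw [Subgroup.orderOf_coe, Subgroup.orderOf_coe, hc]
          have h1 := hfull _ (Subgroup.mem_centralizer_iff.mpr fun t ht => congrArg Subtype.val
            (Subgroup.mem_center_iff.mp c.2 ⟨t, ht⟩)) (orderOf_dvd_iff_pow_eq_one.mp (dvd_of_eq hco))
          rw [e, Subgroup.mem_bot] at h1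
          exact hp.one_lt.ne (by rw [← hco, h1, orderOf_one])
        have hZq : Nat.card Z = q := by
          have h1 := Subgroup.card_dvd_of_le (inf_le_left : Z ≤ A)
          rw [hA2] at h1
          obtain ⟨k, hk2, hk⟩ := (Nat.dvd_prime_pow hp).mp h1
          interval_cases k
          · exact absurd (Subgroup.eq_bot_of_card_eq _ (by rw [hk, pow_zero])) hZ1
          · rw [hk, pow_one]
          · exact absurd (Subgroup.eq_of_le_of_card_ge inf_le_left (by rw [hk, hA2])) hne
        refine exponent_dvd_of_normal_line hG hpl hM hκ hτ hZq ((inf_le_left.trans hAT).trans hTσ) ?_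
        intro m hm
        refine Coprime.mem_normalizer_of_conj_mem fun z hz => hfull _ (conj_mem_centralizer (hMT hm) hz.2) ?_
        rw [conj_pow, hAe.2 z hz.1, mul_one, mul_inv_cancel]
      · obtain ⟨P, hPσ, hMP⟩ := le_normalizer_sylow_of_nilpotent' hG hM (mem_sigma_of_dvd hq hd)
        haveI := hcycP P P.isPGroup' hPσ hqp
        have hqP : q ∣ Nat.card (P : Subgroup G) := P.dvd_card_of_dvd_card
          (hd.trans (Subgroup.card_subgroup_dvd_card _))
        obtain ⟨z, hz⟩ := exists_prime_orderOf_dvd_card' (G := (P : Subgroup G)) q hqP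
        have hZP : Subgroup.zpowers (z : G) ≤ P := Subgroup.zpowers_le.mpr z.2
        have hZq : Nat.card (Subgroup.zpowers (z : G)) = q := by
          rw [Nat.card_zpowers, Subgroup.orderOf_coe, hz]
        refine exponent_dvd_of_normal_line hG hpl hM hκ hτ hZq (hZP.trans hPσ) fun m hm => cj_eq_iff.mp ?_
        have h1 : cj m (Subgroup.zpowers (z : G)) ≤ P := (cj_mono hZP).trans (cj_eq_iff.mpr (hMP hm)).le
        exact le_antisymm (Core.BG.le_of_card_dvd_of_isCyclic inferInstance h1 hZP (by rw [card_cj]))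
          (Core.BG.le_of_card_dvd_of_isCyclic inferInstance hZP h1 (by rw [card_cj]))
    · -- `O_{p'}(M)` lies in `M_σ`, hence is cyclic
      set X := (pPrimeCore p ↥M).map M.subtype with hX
      have hXσ : X ≤ sigmaCore M := by
        rintro _ ⟨a, ha, rfl⟩
        haveI : (pPrimeCore p ↥M).Normal := Subgroup.sSup_normal _ (fun _ h => h.1)
        obtain ⟨t, ht, ht1⟩ := (T : Subgroup G).bot_or_exists_ne_one.resolve_left hT1
        refine centralizer_le_sigmaCore hG hpl hM hκ hτ (hTσ ht) ht1 a.2 ?_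
        have htM : t ∈ M := sigmaCore_le M (hTσ ht)
        set c := ⁅(a : G), t⁆ with hc
        have h1 : c ∈ (T : Subgroup G) :=
          mul_mem ((Subgroup.mem_normalizer_iff.mp (hMT a.2) t).mp ht) (inv_mem ht)
        have h2 : c ∈ X := by
          refine ⟨⁅a, ⟨t, htM⟩⁆, ?_, rfl⟩
          rw [commutatorElement_def, mul_assoc, mul_assoc, ← mul_assoc (⟨t, htM⟩ : M)]
          exact mul_mem ha (‹(pPrimeCore p ↥M).Normal›.conj_mem _ (inv_mem ha) _)
        have h3 : c = 1 := by
          refine orderOf_eq_one_iff.mp (Nat.eq_one_of_dvd_coprimes ?_ (Subgroup.orderOf_dvd_natCard _ h1)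
            (Subgroup.orderOf_dvd_natCard _ h2))
          obtain ⟨k, hk⟩ := IsPGroup.iff_card.mp T.isPGroup'
          rw [hk, hX, Core.card_map_subtype]
          exact (Core.card_pPrimeCore_coprime p ↥M).symm.pow_left k
        exact commutatorElement_eq_one_iff_mul_comm.mp h3
      haveI : Group.IsNilpotent X := Core.isNilpotent_of_le hXσ hn
      haveI : IsZGroup X := by
        refine (isZGroup_iff _).mpr fun t ht P => ?_
        haveI := Fact.mk ht
        by_cases htp : t = p
        · subst htp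
          have : (P : Subgroup X) = ⊥ := by
            refine Subgroup.eq_bot_of_card_eq _ ?_
            rw [Sylow.card_eq_multiplicity, Nat.factorization_eq_zero_of_not_dvd, pow_zero]
            rw [hX, Core.card_map_subtype]
            exact fun hd => ht.not_dvd_one ((Core.card_pPrimeCore_coprime t ↥M).gcd_eq_one ▸
              Nat.dvd_gcd hd dvd_rfl)
          rw [this]; infer_instance
        · haveI := hcycP _ (P.isPGroup'.map X.subtype) ((Subgroup.map_subtype_le _).trans hXσ) htp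
          exact isCyclic_of_surjective _
            ((P : Subgroup X).equivMapOfInjective _ X.subtype_injective).symm.surjective
      haveI : IsCyclic X := inferInstance
      exact isCyclic_of_surjective _
        ((pPrimeCore p ↥M).equivMapOfInjective _ M.subtype_injective).symm.surjective

/-- A maximal subgroup with `κ(M) = τ₂(M) = ∅` is of Type I. -/
theorem typeI_of_kappa_empty {M : Subgroup G} (hM : IsCoatom M) (hκ : kappa M = ∅) (hτ : tau2 M = ∅) :
    IsOfTypeI M := by
  refine ⟨typeF_of_kappa_empty hG hpl hM hκ hτ, ?_⟩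
  have hF := fittingHallOf_eq_of_kappa_empty hG hpl hM hκ
  by_cases hTI : IsTISubset (fittingHallOf M : Set G)
  · exact Or.inl hTI
  right
  unfold IsTISubset at hTI
  push Not at hTI
  obtain ⟨g, hg, x, hx, hgx, hx1⟩ := hTI
  have hgM : g⁻¹ ∉ M := fun h' => hg (inv_mem_iff.mp (le_normalizer_fittingHallOf hG hpl M h'))
  obtain ⟨p, y, hp, hyo, hy, hy'⟩ := exists_moved hG hpl hM hgM hx1 (fittingHallOf_le_fittingOf M hx)
    (mem_cj.mpr (by rw [inv_inv]; exact fittingHallOf_le_fittingOf M hgx))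
  haveI := Fact.mk hp
  obtain ⟨hpσ, hyσ, -, hC⟩ := moved_facts hG hpl hM hgM hyo hy hy'
  have hy1 : y ≠ 1 := fun e => hp.one_lt.ne (by rw [← hyo, e, orderOf_one])
  obtain ⟨N, hN⟩ := exists_support hG hpl hM hyσ hy1 hC
  rcases support_cases hG hpl hM hκ hτ hyo hyσ hpσ hN with h | ⟨hexp, hpd, hcyc, -, -⟩
  exacts [Or.inl h, Or.inr ⟨hexp, p, hp, hpd, hcyc⟩]

/-- Type I is the case `K = 1`, provided `τ₂` vanishes with `κ`. -/
theorem typeI_iff_of {M K U : Subgroup G} (hM : IsCoatom M) (hT : kappa M = ∅ → tau2 M = ∅)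
    (h : IsSigmaDecomposition M K U) : IsOfTypeI M ↔ K = ⊥ ∧ U ≠ ⊥ :=
  ⟨typeI_cases hG hpl hM h, fun ⟨hK, _⟩ => typeI_of_kappa_empty hG hpl hM (decomp_kappa_empty hG hpl h hK)
    (hT (decomp_kappa_empty hG hpl h hK))⟩

end Cfsg.Agent.OddLocal.Sigma
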